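import Cfsg.Agent.Mrg.Omega.NoFF.ThmJ
import Cfsg.Agent.Mrg.Omega.NO3S.Fld.ZJ
import Cfsg.Agent.Mrg.Omega.NO3S.FF
import Cfsg.Agent.Mrg.Omega.FF.GlobEnd

section


/-!
# Fld: LEMMA U for `P`, and (NS) `N_G(B) ≤ N_G(V)` (TEXT 973-2, (3))

* `NSIn S P M A` : the hypotheses (any level);
* `NSIn.le_zl_of` : `E ≤ O₂(P)` elementary abelian, `[E, E^g] = 1` for `g ∈ P`, `[E, O₂(P)] ≤ R`, no over-offender of `O₂(P)`
  on `E`, `A` an offender on `V ⟨E^P⟩` ⟹ `E ≤ V_P`;
* `norm_B_le_R'` : `N_G(B) ≤ N_G(R)`; **`NSIn.norm_B_le_V`** : `N_G(B) ≤ N_G(V_P)`;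
* `nsIn_J` : the instance for `HypJ S P`, `norm_B_le_V` : (NS) for `HypJ S P`.
-/

set_option autoImplicit false
set_option linter.unusedSectionVars false
set_option linter.unusedVariables false

namespace Cfsg.Agent.Omega.NO3S.Fld

open Subgroup Cfsg Cfsg.Agent.ZN Cfsg.Agent.ZN.ChoiceBase Cfsg.Agent.Omega.MinPar
open Cfsg.Agent.Omega.NO3b.Ineq
open Cfsg.Agent.Omega.SQ1.Bau (elem_comm elem_sq mem_sup_norm)
open Cfsg.Agent.PLocal.ElemAbSup Cfsg.Agent.PLocal.ThompsonJ
open Cfsg.Agent.Omega.NatPair (ext2 ap ap_zero' ap_one')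
open Cfsg.Agent.Lib.SL2Mat

universe u

variable {G : Type u} [Group G] [Finite G] {S : Sylow 2 G} {P : Subgroup G}
variable {F : Type*} [Field F] [Finite F] [CharP F 2]

theorem elem_iff {D : Subgroup G} : IsElementaryAbelian 2 D ↔ LemU.El D := by
  rw [isElementaryAbelian_iff]
  constructor
  · rintro ⟨h1, h2⟩
    exact ⟨h1, fun a ha => by rw [← pow_two]; exact h2 a ha⟩
  · rintro ⟨h1, h2⟩
    exact ⟨h1, fun a ha => by rw [pow_two]; exact h2 a ha⟩

/-- **The hypotheses of (NS)**, `A` a best offender in `B` which is not in `O₂(P)`. -/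
structure NSIn (S : Sylow 2 G) (P : Subgroup G) (M : Crd F (S : Subgroup G) P (zl (S : Subgroup G) P))
    (A : Subgroup G) : Prop where
  char2 : IsCharacteristicTwoType G
  star : IsParS (S : Subgroup G) P
  zo : zc (o2 P) = zl (S : Subgroup G) P
  AB : A ≤ M.B
  sup : A ⊔ o2 P = M.B
  no : FFThm.NoOverM (zl (S : Subgroup G) P) P
  noff : ∀ g : G, zl (S : Subgroup G) P ≤ cj g P → cj g (zl (S : Subgroup G) P) ≤ P →
      zl (S : Subgroup G) P ≤ centralizer ((cj g (zl (S : Subgroup G) P) : Subgroup G) : Set G)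
  off : ∀ n ∈ normalizer (M.B : Set G), cj n (zl (S : Subgroup G) P) ≤ o2 P →
      LemU.El (LemU.UU P (zl (S : Subgroup G) P) (cj n (zl (S : Subgroup G) P))) →
      LemU.ElM (LemU.UU P (zl (S : Subgroup G) P) (cj n (zl (S : Subgroup G) P))) A ∧
      cidx (LemU.UU P (zl (S : Subgroup G) P) (cj n (zl (S : Subgroup G) P))) A ≤
        cidx A (LemU.UU P (zl (S : Subgroup G) P) (cj n (zl (S : Subgroup G) P)))

/-- `V ⟨E^P⟩` is elementary abelian -/
theorem uu_el {P Q V E : Subgroup G} (Qn : P ≤ normalizer (Q : Set G)) (Vel : LemU.El V)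
    (QV : Q ≤ centralizer (V : Set G)) (EQ : E ≤ Q) (Eel : LemU.El E)
    (EE : ∀ g ∈ P, ∀ x ∈ E, ∀ y ∈ E, x * (g * y * g⁻¹) = g * y * g⁻¹ * x) : LemU.El (LemU.UU P V E) := by
  have hfam : ∀ L ∈ LemU.Fam P V E, ∀ L' ∈ LemU.Fam P V E, ∀ x ∈ L, ∀ y ∈ L', x * y = y * x := by
    have hEg : ∀ g ∈ P, ∀ x ∈ PT.cj g E, x ∈ Q := by
      intro g hg x hx
      have h1 := (mem_normalizer_iff.1 (Qn hg) _).1 (EQ (PT.mem_cj.1 hx))
      have e : g * (g⁻¹ * x * g) * g⁻¹ = x := by group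
      rwa [e] at h1
    rintro L (rfl | ⟨g, hg, rfl⟩) L' (rfl | ⟨g', hg', rfl⟩) x hx y hy
    · exact Vel.1 x hx y hy
    · exact mem_centralizer_iff.1 (QV (hEg g' hg' y hy)) x hx
    · exact (mem_centralizer_iff.1 (QV (hEg g hg x hx)) y hy).symm
    · have h1 := EE (g'⁻¹ * g) (mul_mem (inv_mem hg') hg) _ (PT.mem_cj.1 hy) _ (PT.mem_cj.1 hx)
      have h2 := congrArg (fun t => g' * t * g'⁻¹) h1
      have e1 : g' * (g'⁻¹ * y * g' * (g'⁻¹ * g * (g⁻¹ * x * g) * (g'⁻¹ * g)⁻¹)) * g'⁻¹ = y * x := by group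
      have e2 : g' * (g'⁻¹ * g * (g⁻¹ * x * g) * (g'⁻¹ * g)⁻¹ * (g'⁻¹ * y * g')) * g'⁻¹ = x * y := by group
      simp only [e1, e2] at h2
      exact h2.symm
  have hc : ∀ x ∈ LemU.UU P V E, ∀ y ∈ LemU.UU P V E, x * y = y * x := by
    have h1 : LemU.UU P V E ≤ centralizer ((LemU.UU P V E : Subgroup G) : Set G) := by
      refine sSup_le fun L hL => ?_
      rw [Subgroup.le_centralizer_iff]
      exact sSup_le fun L' hL' x hx => mem_centralizer_iff.2 fun y hy => hfam L hL L' hL' y hy x hx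
    exact fun x hx y hy => (mem_centralizer_iff.1 (h1 hx) y hy).symm
  refine ⟨hc, ?_⟩
  let T : Subgroup G :=
    { carrier := {x | x ∈ LemU.UU P V E ∧ x * x = 1}
      one_mem' := ⟨one_mem _, one_mul 1⟩
      mul_mem' := by
        rintro x y ⟨hx, hx2⟩ ⟨hy, hy2⟩
        refine ⟨mul_mem hx hy, ?_⟩
        have h1 := hc y hy x hx
        calc x * y * (x * y) = x * (y * x) * y := by group
          _ = x * (x * y) * y := by rw [h1]
          _ = x * x * (y * y) := by group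
          _ = 1 := by rw [hx2, hy2, one_mul]
      inv_mem' := by
        rintro x ⟨hx, hx2⟩
        refine ⟨inv_mem hx, ?_⟩
        rw [← mul_inv_rev, hx2, inv_one] }
  have h1 : LemU.UU P V E ≤ T := by
    refine sSup_le ?_
    rintro L (rfl | ⟨g, hg, rfl⟩) x hx
    · exact ⟨(le_sSup (Or.inl rfl) : _ ≤ LemU.UU P _ E) hx, Vel.2 x hx⟩
    · refine ⟨(le_sSup (Or.inr ⟨g, hg, rfl⟩) : _ ≤ LemU.UU P V E) hx, ?_⟩
      have h2 := congrArg (fun t => g * t * g⁻¹) (Eel.2 _ (PT.mem_cj.1 hx))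
      simpa [mul_assoc] using h2
  exact fun u hu => (h1 hu).2

namespace NSIn

variable {M : Crd F (S : Subgroup G) P (zl (S : Subgroup G) P)} {A : Subgroup G}

/-- **LEMMA U for `P`.** -/
theorem le_zl_of (h : NSIn S P M A) {E : Subgroup G}
    (hEQ : E ≤ o2 P) (hE : LemU.El E)
    (hEE : ∀ g ∈ P, ∀ x ∈ E, ∀ y ∈ E, x * (g * y * g⁻¹) = g * y * g⁻¹ * x)
    (hER : ∀ x ∈ E, ∀ t ∈ o2 P, t * x * t⁻¹ * x⁻¹ ∈ M.R)
    (hel : LemU.ElM (LemU.UU P (zl (S : Subgroup G) P) E) A)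
    (hoff : cidx (LemU.UU P (zl (S : Subgroup G) P) E) A ≤ cidx A (LemU.UU P (zl (S : Subgroup G) P) E))
    (hno : ∀ K : Subgroup G, K ≤ o2 P → LemU.ElM E K → cidx K E ≤ cidx E K) :
    E ≤ zl (S : Subgroup G) P := by
  have hG := h.char2
  have hb := br_of hG h.star M
  have hAB := h.AB
  have hAB' : A ≤ M.B := hAB
  have hQS : o2 P ≤ (S : Subgroup G) := hb.QB.trans hb.BS
  have hVQ : zl (S : Subgroup G) P ≤ o2 P := BR.zl_le_o2 hG hb
  have hsup := h.sup
  have hAn : A ≤ normalizer (o2 P : Set G) := hAB.trans (BR.B_norm hb)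
  have hact : ∀ a ∈ A, ∃ t : F, ∀ x, a * M.e x * a⁻¹ = M.e ![x 0 + t * x 1, x 1] := by
    intro a ha
    obtain ⟨c, hc⟩ := M.exists_root (hAB' ha).1 (hAB' ha).2
    exact ⟨c, fun x => hc x⟩
  have hfull : ∀ t : F, ∃ a ∈ A, ∀ x, a * M.e x * a⁻¹ = M.e ![x 0 + t * x 1, x 1] := by
    intro t
    obtain ⟨s, hs, hsR, hst⟩ := M.exists_full t
    have hsB : s ∈ A ⊔ o2 P := by rw [hsup]; exact ⟨hs, hsR⟩
    obtain ⟨a, ha, y, hy, rfl⟩ := mem_sup_norm hAn hsB
    refine ⟨a, ha, fun x => ?_⟩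
    have h1 := hst x
    have h2 : y * M.e x = M.e x * y := BR.comm_o2 hG hb y hy _ (M.e_mem x)
    have e : a * y * M.e x * (a * y)⁻¹ = a * (y * M.e x) * y⁻¹ * a⁻¹ := by group
    rw [e, h2] at h1
    have e2 : a * (M.e x * y) * y⁻¹ * a⁻¹ = a * M.e x * a⁻¹ := by group
    rw [e2] at h1
    exact h1
  have key : LemU.Hyp P (o2 P) (zl (S : Subgroup G) P) A E M.e :=
    { QP := o2_le P
      Qn := MinSimple.VModule.le_normalizer_o2 P
      Vn := MinSimple.VModule.le_normalizer_zl _ _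
      VQ := hVQ
      QV := fun t ht => mem_centralizer_iff.2 fun v hv => (BR.comm_o2 hG hb t ht v hv).symm
      e_add := M.e_add
      e_inj := M.e_inj
      mem_iff := M.mem_iff
      Vsq := fun v hv => M.sq hv
      AP := hAB.trans (hb.BS.trans hb.star.le)
      Ael := hel
      off := hoff
      act := hact
      full := hfull
      AQ := by
        rw [← IsParS.inf_centralizer S hG h.star]
        exact inf_le_inf_right _ (hAB.trans hb.BS)
      swap := by
        obtain ⟨w, hw, h1⟩ := M.lift (wm 1 one_ne_zero)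
        refine ⟨w, hw, fun x => ?_⟩
        rw [h1]
        congr 1
        apply ext2
        · rw [ap_zero', wm_00, wm_01, zero_mul, zero_add, one_mul]; rfl
        · rw [ap_one', wm_10, wm_11, zero_mul, add_zero, inv_one, CharTwo.neg_eq, one_mul]; rfl
      EQ := hEQ
      Eel := hE
      EE := hEE
      ER := by
        intro x hx t ht
        obtain ⟨a, ha⟩ := hER x hx t ht
        exact ⟨a, ha.symm⟩
      no := hno }
  intro x hx
  rw [← h.zo]
  exact mem_zc.2 ⟨hEQ hx, by rw [pow_two]; exact hE.2 x hx, fun t ht => key.lemU x hx t ht⟩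

end NSIn

/-- `N_G(B) ≤ N_G(R)` -/
theorem norm_B_le_R' (hG : IsCharacteristicTwoType G) (hP : IsParS (S : Subgroup G) P)
    (M : Crd F (S : Subgroup G) P (zl (S : Subgroup G) P)) {n : G}
    (hn : n ∈ normalizer (M.B : Set G)) : n ∈ normalizer (M.R : Set G) := by
  have hb := br_of hG hP M
  have hVS : zl (S : Subgroup G) P ≤ (S : Subgroup G) := (BR.zl_le_o2 hG hb).trans (hb.QB.trans hb.BS)
  have hB := M.mem_R_of_cent S.isPGroup' hVS (MinSimple.VModule.zc_le_zl _ _)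
  have hRB : M.R ≤ M.B := fun r hr => hb.QB (BR.zl_le_o2 hG hb (hb.RV hr))
  apply mem_normalizer_of_cj_le
  intro x hx
  have hx' := mem_cj.1 hx
  have e : n * (n⁻¹ * x * n) * n⁻¹ = x := by group
  refine hB x ?_ ?_ fun b hbb => ?_
  · have h1 := (mem_normalizer_iff.1 hn _).1 (hRB hx')
    rwa [e] at h1
  · have h1 := congrArg (fun t => n * t * n⁻¹) (M.sq (M.R_le hx'))
    have e1 : n * (n⁻¹ * x * n * (n⁻¹ * x * n)) * n⁻¹ = x ^ 2 := by rw [pow_two]; group
    simp only [e1, mul_one, mul_inv_cancel] at h1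
    exact h1
  · have h1 : n⁻¹ * b * n ∈ M.B := by
      have := (mem_normalizer_iff.1 (inv_mem hn) b).1 hbb
      rwa [inv_inv] at this
    have h2 := congrArg (fun t => n * t * n⁻¹) (hb.cB _ h1 _ hx')
    have e1 : n * (n⁻¹ * b * n * (n⁻¹ * x * n)) * n⁻¹ = b * x := by group
    have e2 : n * (n⁻¹ * x * n * (n⁻¹ * b * n)) * n⁻¹ = x * b := by group
    simp only [e1, e2] at h2
    exact h2

/-- **(NS)** `N_G(B) ≤ N_G(V)` -/
theorem NSIn.norm_B_le_V {M : Crd F (S : Subgroup G) P (zl (S : Subgroup G) P)} {A : Subgroup G}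
    (h : NSIn S P M A) : normalizer (M.B : Set G) ≤ normalizer (zl (S : Subgroup G) P : Set G) := by
  intro n hn
  have hG := h.char2
  have hb := br_of hG h.star M
  have hPV : P ≤ normalizer (zl (S : Subgroup G) P : Set G) := MinSimple.VModule.le_normalizer_zl _ _
  have hPQ : P ≤ normalizer (o2 P : Set G) := MinSimple.VModule.le_normalizer_o2 P
  have hBP : M.B ≤ P := hb.BS.trans h.star.isLoc.le
  have hVB : zl (S : Subgroup G) P ≤ M.B := (BR.zl_le_o2 hG hb).trans hb.QB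
  have hnB : cj n M.B = M.B := cj_eq_of_mem_normalizer hn
  have hnR := norm_B_le_R' hG h.star M hn
  set E : Subgroup G := cj n (zl (S : Subgroup G) P) with hE
  have hEB : E ≤ M.B := by rw [← hnB]; exact cj_mono n hVB
  -- NOFF
  have noff := h.noff
  have hEQ : E ≤ o2 P := by
    rw [← IsParS.inf_centralizer S hG h.star]
    refine le_inf (hEB.trans hb.BS) ?_
    rw [Subgroup.le_centralizer_iff]
    refine noff n ?_ (hEB.trans hBP)
    refine hVB.trans ?_
    rw [← hnB]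
    exact cj_mono n hBP
  have hVel := BR.zl_elem hG hb
  have hEel : IsElementaryAbelian 2 E := isElementaryAbelian_cj n hVel
  -- `[E, E^g] = 1`
  have hEE : ∀ g ∈ P, ∀ x ∈ E, ∀ y ∈ E, x * (g * y * g⁻¹) = g * y * g⁻¹ * x := by
    intro g hg x hx y hy
    have hQg : cj g (o2 P) = o2 P := cj_eq_of_mem_normalizer (hPQ hg)
    have h1 : zl (S : Subgroup G) P ≤ cj (n⁻¹ * g * n) P := by
      have h2 : E ≤ cj g M.B := by
        refine hEQ.trans ?_
        rw [← hQg]
        exact cj_mono g hb.QB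
      have h3 : cj n⁻¹ E ≤ cj n⁻¹ (cj g M.B) := cj_mono n⁻¹ h2
      rw [hE, cj_inv_cj] at h3
      refine h3.trans ?_
      rw [← hnB, cj_cj, cj_cj]
      exact cj_mono _ hBP
    have h2 : cj (n⁻¹ * g * n) (zl (S : Subgroup G) P) ≤ P := by
      have h3 : cj g E ≤ M.B := by
        have := cj_mono g hEQ
        rw [hQg] at this
        exact this.trans hb.QB
      have h4 : cj n⁻¹ (cj g E) ≤ cj n⁻¹ M.B := cj_mono n⁻¹ h3
      have h5 : cj n⁻¹ M.B = M.B := cj_eq_of_mem_normalizer (inv_mem hn)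
      rw [h5, hE, cj_cj, cj_cj] at h4
      exact h4.trans hBP
    have h3 := noff _ h1 h2
    have hx' := mem_cj.1 hx
    have hy' := mem_cj.1 hy
    have h4 := mem_centralizer_iff.1 (h3 hx') (n⁻¹ * (g * y * g⁻¹) * n) (mem_cj.2 (by
      have e : (n⁻¹ * g * n)⁻¹ * (n⁻¹ * (g * y * g⁻¹) * n) * (n⁻¹ * g * n) = n⁻¹ * y * n := by group
      rw [e]; exact hy'))
    have h5 := congrArg (fun t => n * t * n⁻¹) h4
    have e1 : n * (n⁻¹ * (g * y * g⁻¹) * n * (n⁻¹ * x * n)) * n⁻¹ = g * y * g⁻¹ * x := by group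
    have e2 : n * (n⁻¹ * x * n * (n⁻¹ * (g * y * g⁻¹) * n)) * n⁻¹ = x * (g * y * g⁻¹) := by group
    simp only [e1, e2] at h5
    exact h5.symm
  have hUel := uu_el hPQ (elem_iff.1 hVel)
    (fun t ht => mem_centralizer_iff.2 fun v hv => (BR.comm_o2 hG hb t ht v hv).symm) hEQ (elem_iff.1 hEel) hEE
  obtain ⟨hel, hoff⟩ := h.off n hn hEQ hUel
  have hle : E ≤ zl (S : Subgroup G) P := by
    refine h.le_zl_of hEQ (elem_iff.1 hEel) hEE ?_ hel hoff ?_
    · -- `[E, B] ≤ R`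
      intro x hx t ht
      have hx' := mem_cj.1 hx
      have ht' : n⁻¹ * t * n ∈ M.B := by
        have := (mem_normalizer_iff.1 (inv_mem hn) t).1 (hb.QB ht)
        rwa [inv_inv] at this
      have h1 := hb.comm _ ht' _ hx'
      have h2 := (mem_normalizer_iff.1 hnR _).1 h1
      have e : n * (n⁻¹ * t * n * (n⁻¹ * x * n) * (n⁻¹ * t * n)⁻¹ * (n⁻¹ * x * n)⁻¹) * n⁻¹ = t * x * t⁻¹ * x⁻¹ := by
        group
      rwa [e] at h2
    · -- NOOVER
      intro K hK hKe
      have hKB : cj n⁻¹ K ≤ P := by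
        have h5 : cj n⁻¹ M.B = M.B := cj_eq_of_mem_normalizer (inv_mem hn)
        exact (cj_mono n⁻¹ (hK.trans hb.QB)).trans (h5.le.trans hBP)
      have hEV : cj n⁻¹ E = zl (S : Subgroup G) P := by rw [hE, cj_inv_cj]
      have hcen : ∀ x : G, x ∈ centralizer (E : Set G) → n⁻¹ * x * n ∈ centralizer (zl (S : Subgroup G) P : Set G) := by
        intro x hx
        have h1 : n⁻¹ * x * n ∈ cj n⁻¹ (centralizer (E : Set G)) := by
          rw [mem_cj]
          have e : n⁻¹⁻¹ * (n⁻¹ * x * n) * n⁻¹ = x := by group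
          rw [e]; exact hx
        rwa [cj_centralizer, hEV] at h1
      have hKel : FFThm.ElemM (zl (S : Subgroup G) P) (cj n⁻¹ K) := by
        refine ⟨fun a ha => ?_, fun a ha b hb' => ?_⟩
        · have h1 := hcen _ (hKe.2 _ (mem_cj.1 ha))
          have e : n⁻¹ * (n⁻¹⁻¹ * a * n⁻¹ * (n⁻¹⁻¹ * a * n⁻¹)) * n = a ^ 2 := by rw [pow_two]; group
          rwa [e] at h1
        · have h1 := hcen _ (hKe.1 _ (mem_cj.1 ha) _ (mem_cj.1 hb'))
          have e : n⁻¹ * (n⁻¹⁻¹ * a * n⁻¹ * (n⁻¹⁻¹ * b * n⁻¹) * (n⁻¹⁻¹ * a * n⁻¹)⁻¹ * (n⁻¹⁻¹ * b * n⁻¹)⁻¹) * n =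
            a * b * a⁻¹ * b⁻¹ := by group
          rwa [e] at h1
      have h1 := h.no (cj n⁻¹ K) hKB hKel
      have h2 := FFThm.relIndex_le_iff.1 h1
      have key : ∀ X Y : Subgroup G, cidx (cj n X) (cj n Y) = cidx X Y := by
        intro X Y
        rw [cidx, cidx, ← cj_centralizer]
        exact relIndex_map_map_of_injective (f := (MulAut.conj n).toMonoidHom) (centralizer (Y : Set G)) X
          (MulAut.conj n).injective
      have h3 : cidx (cj n⁻¹ K) (zl (S : Subgroup G) P) ≤ cidx (zl (S : Subgroup G) P) (cj n⁻¹ K) := h2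
      rw [← key, ← key (zl (S : Subgroup G) P), cj_cj_inv] at h3
      exact h3
  have heq : E = zl (S : Subgroup G) P := by
    refine Subgroup.eq_of_le_of_card_ge hle ?_
    rw [hE, card_cj]
  rw [mem_normalizer_iff_cj]
  exact heq

/-- The instance for `HypJ` -/
theorem nsIn_J (h : HypJ S P) (M : Crd F (S : Subgroup G) P (zl (S : Subgroup G) P)) : ∃ A, NSIn S P M A := by
  obtain ⟨hb, hzo, hzj⟩ := HypJ.facts M h
  have hG := h.ctx.char2
  obtain ⟨A, hA, hAQ⟩ := exists_AA' h.jnot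
  have hQS : o2 P ≤ (S : Subgroup G) := hb.QB.trans hb.BS
  refine ⟨A,
    { char2 := hG
      star := h.star
      zo := hzo
      AB := hb.AB A hA
      sup := BR.sup_eq hG hb hA hAQ
      no := (h.toHyp.ff FF.Glob.ffthmM h.ffMod).1
      noff := fun g h1 h2 => h.toHyp.geo.noff P (Set.mem_singleton P) P (Set.mem_singleton P) g h1 h2
      off := fun n hn hEQ hU => ?_ }⟩
  have Ael := elem_iff.1 hA.1
  refine ⟨Ael.elM _, LemU.off_of_max (Q := o2 P) hU ?_ Ael ?_ fun D hD hDe => hA.2.2 D (elem_iff.2 hDe) (hD.trans hQS)⟩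
  · refine sSup_le ?_
    rintro L (rfl | ⟨g, hg, rfl⟩)
    · exact BR.zl_le_o2 hG hb
    · have h1 := cj_mono g hEQ
      rwa [cj_eq_of_mem_normalizer (MinSimple.VModule.le_normalizer_o2 P hg)] at h1
  · rw [← IsParS.inf_centralizer S hG h.star]
    refine inf_le_inf hA.2.1 (centralizer_le ?_)
    exact (le_sSup (Or.inl rfl) : _ ≤ LemU.UU P _ _)

/-- **(NS)** for `HypJ` -/
theorem norm_B_le_V (h : HypJ S P) (M : Crd F (S : Subgroup G) P (zl (S : Subgroup G) P)) :
    normalizer (M.B : Set G) ≤ normalizer (zl (S : Subgroup G) P : Set G) := by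
  obtain ⟨A, hA⟩ := nsIn_J h M
  exact hA.norm_B_le_V

end Cfsg.Agent.Omega.NO3S.Fld

end

section


/-!
# Fld: the geometry with the points `R^g` and `C = N_G(R)`

* `PB.geo`, `PB.exists_crit` : for `Hyp S P` and `PB S B P V_P R`: the geometry `Geo B R (N_G(R)) {P}` and a critical pair;
* `geoR` : the same from `Hyp S P` and adapted coordinates;
* `wcomm_of` : the field `Wcomm` of `PB` from the other ones and `Geo`.
-/

set_option autoImplicit false
set_option linter.unusedSectionVars false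
set_option linter.unusedVariables false

namespace Cfsg.Agent.Omega.NO3S

open Subgroup Cfsg Cfsg.Agent.ZN Cfsg.Agent.Omega.MinPar Cfsg.Agent.Omega.Frame Cfsg.Agent.Omega.FrameNOFF
open Cfsg.Agent.Omega.NoFF.Lines Cfsg.Agent.Omega.NoFF.Basic
open scoped Pointwise

universe u

variable {G : Type u} [Group G] [Finite G] {S : Sylow 2 G} {P B R : Subgroup G}

namespace PT

section raw

variable {V Z : Subgroup G} (SN : (S : Subgroup G) ≤ normalizer (Z : Set G))
  (ti : ∀ z ∈ Z, z ≠ 1 → ∀ g : G, g * z = z * g → g ∈ normalizer (Z : Set G))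
  (NS : normalizer ((S : Subgroup G) : Set G) ≤ normalizer (Z : Set G))
  (tor : ∀ z ∈ Z, z ≠ 1 → ∃ k ∈ P, k ∈ normalizer (Z : Set G) ∧ ∀ s ∈ (S : Subgroup G), s * (k * z * k⁻¹) = k * z * k⁻¹ * s)
include SN ti NS tor

/-- (T2) from the raw hypotheses -/
theorem pt_eq_raw {g z : G} (hz : z ∈ Z) (hz' : z ∈ cj g Z) (hz1 : z ≠ 1) : cj g Z = Z := by
  obtain ⟨k, hk, hkZ, hks⟩ := tor z hz hz1
  have hT : ((k⁻¹ • S : Sylow 2 G) : Subgroup G) ≤ normalizer ((cj g Z : Subgroup G) : Set G) := by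
    intro s hs
    have h1 := hks _ (mem_cj.1 hs)
    have h2 := congrArg (fun t => k⁻¹ * t * k) h1
    have h3 : s * z = z * s := by simpa [mul_assoc] using h2
    rw [← cj_normalizer, mem_cj]
    refine ti _ (mem_cj.1 hz') (fun e => hz1 ?_) _ ?_
    · have h2 := congrArg (fun t => g * t * g⁻¹) e
      simpa [mul_assoc] using h2
    · have h2 := congrArg (fun t => g⁻¹ * t * g) h3
      simpa [mul_assoc] using h2
  have h2 : ((g • S : Sylow 2 G) : Subgroup G) ≤ normalizer ((cj g Z : Subgroup G) : Set G) := by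
    rw [coe_smul, ← cj_normalizer]
    exact cj_le_cj.2 SN
  obtain ⟨m, hm, hmS⟩ := exists_conj h2 hT
  have hn : k * m * g ∈ normalizer ((S : Subgroup G) : Set G) := by
    rw [← cj_eq_iff]
    have e1 : cj m (cj g (S : Subgroup G)) = cj k⁻¹ (S : Subgroup G) := hmS
    rw [mul_assoc, ← cj_cj, ← cj_cj, e1, cj_cj, mul_inv_cancel, cj_one]
  have h3 := cj_eq_iff.2 (NS hn)
  rw [mul_assoc, ← cj_cj, ← cj_cj, cj_eq_iff.2 hm] at h3
  have h4 : cj g Z = cj k⁻¹ Z := by
    rw [← cj_inj (g := k), h3, cj_cj, mul_inv_cancel, cj_one]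
  rw [h4, cj_eq_iff]
  exact inv_mem hkZ

/-- the lines on the point `Z` are the `N_G(Z)`-conjugates of `V` -/
theorem exists_norm_raw (Zne : Z ≠ ⊥) (PN : P ≤ normalizer (V : Set G))
    (part : ∀ v ∈ V, v ≠ 1 → ∃ p ∈ P, v ∈ cj p Z) {L : Subgroup G} (hL : IsCj V L) (hZL : Z ≤ L) :
    ∃ c ∈ normalizer (Z : Set G), L = cj c V := by
  obtain ⟨g, rfl⟩ := hL
  obtain ⟨z, hz, hz1⟩ : ∃ z ∈ Z, z ≠ 1 := by
    by_contra hcon
    push Not at hcon
    exact Zne ((eq_bot_iff_forall _).2 hcon)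
  obtain ⟨p, hp, hzp⟩ := part _ (mem_cj.1 (hZL hz)) (fun e => hz1 (by
    have h2 := congrArg (fun t => g * t * g⁻¹) e
    simpa [mul_assoc] using h2))
  have h1 : z ∈ cj (g * p) Z := by
    rw [← cj_cj, mem_cj]
    exact hzp
  have h2 := pt_eq_raw SN ti NS tor hz h1 hz1
  refine ⟨g * p, cj_eq_iff.1 h2, ?_⟩
  rw [← cj_cj, cj_eq_iff.2 (PN hp)]

/-- the field `Wcomm` -/
theorem wcomm_of (Zne : Z ≠ ⊥) (PN : P ≤ normalizer (V : Set G))
    (part : ∀ v ∈ V, v ≠ 1 → ∃ p ∈ P, v ∈ cj p Z) (geo : Geo B Z (normalizer (Z : Set G)) {P})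
    (hV : NoFF.Basic.V Z P = V) : ws V Z ≤ centralizer ((ws V Z : Subgroup G) : Set G) := by
  have h1 : ws V Z ≤ W Z (normalizer (Z : Set G)) {P} := by
    refine ws_le fun L hL hZL => ?_
    obtain ⟨c, hc, rfl⟩ := exists_norm_raw SN ti NS tor Zne PN part hL hZL
    have h2 := line_le (Z := Z) (C := normalizer (Z : Set G)) (F := {P}) (Set.mem_singleton P) hc
    rwa [hV] at h2
  exact comm_mono geo.W_comm h1 h1

end raw

namespace PB

theorem V_eq {V Z : Subgroup G} (h : PB S B P V Z) : NoFF.Basic.V Z P = V := by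
  apply le_antisymm
  · refine iSup_le fun p => ?_
    have h1 := cj_le_cj (g := (p : G)).2 h.ZV
    rwa [cj_eq_iff.2 (h.PN p.2)] at h1
  · intro v hv
    by_cases hv1 : v = 1
    · rw [hv1]; exact one_mem _
    · obtain ⟨p, hp, hvp⟩ := h.part v hv hv1
      exact (le_iSup (fun p : P => MulAut.conj (p : G) • Z) ⟨p, hp⟩) hvp

variable (hp : Hyp S P) (h : PB S B P (zl (S : Subgroup G) P) R)
include hp h

/-- **The geometry of the points `R^g`.** -/
theorem geo : Geo B R (normalizer (R : Set G)) {P} where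
  ZS := h.ZV.trans h.VB
  cent := h.B_le
  SP := by rintro Q rfl; exact h.BP
  abel := by
    rintro Q rfl
    rw [h.V_eq]
    exact fun v hv => mem_centralizer_iff.2 fun w hw => h.Vcomm hw hv
  core := by
    rintro Q rfl p hpp x hx hxc
    rw [h.V_eq] at hxc
    have h1 : x ∈ o2 Q := by
      rw [← hp.inf_centralizer]
      exact ⟨h.BS hx, hxc⟩
    have h2 : o2 Q ≤ B := by
      rw [← hp.inf_centralizer]
      rintro y ⟨hy, hyc⟩
      exact h.mem_B y hy fun z hz => (mem_centralizer_iff.1 hyc z (h.ZV hz)).symm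
    have h3 : cj p (o2 Q) = o2 Q := cj_eq_iff.2 (MinSimple.VModule.le_normalizer_o2 Q hpp)
    rw [← h3] at h1
    exact cj_le_cj.2 h2 h1
  noff := by
    rintro Q rfl Q' rfl g h1 h2
    rw [h.V_eq] at h1 h2 ⊢
    exact hp.geo.noff _ (Set.mem_singleton _) _ (Set.mem_singleton _) g h1 h2
  CZ := le_rfl
  cen := centralizer_le_normalizer _
  low := by
    rintro Q rfl c hc
    rw [h.V_eq]
    have h1 : cj c⁻¹ (zl (S : Subgroup G) Q) ≤ ws (zl (S : Subgroup G) Q) R := by
      refine le_ws ⟨c⁻¹, rfl⟩ ?_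
      rw [← cj_eq_iff.2 (inv_mem hc)]
      exact cj_le_cj.2 h.ZV
    have h2 := h1.trans h.ws_le_B
    rwa [cj_le_iff, inv_inv] at h2
  Zsq := fun z hz => by rw [pow_two]; exact h.Vsq z (h.ZV hz)

/-- `Ω₁(Z(S)) ≤ R` -/
theorem zc_le_R : zc (S : Subgroup G) ≤ R := by
  intro z hz
  have h1 := ChoiceBase.mem_zc.1 hz
  have h2 : z ∈ B := h.mem_B z h1.1 fun r hr => by
    exact (h1.2.2 r (h.VS (h.ZV hr))).symm
  exact h.omega z h2 (by rw [← pow_two]; exact h1.2.1) fun s hs => h1.2.2 s (h.BS hs)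

theorem CZ_le : CZ (S : Subgroup G) ≤ normalizer (R : Set G) := by
  obtain ⟨z, hz, hz1⟩ : ∃ z ∈ zc (S : Subgroup G), z ≠ 1 := by
    obtain ⟨z, hz1⟩ := Subgroup.ne_bot_iff_exists_ne_one.1 hp.zc_ne
    exact ⟨z, z.2, fun h => hz1 (Subtype.ext h)⟩
  intro g hg
  exact h.ti z (h.zc_le_R hp hz) hz1 g (mem_centralizer_iff.1 hg z hz).symm

/-- There is a critical pair of points `R^g`. -/
theorem exists_crit : ∃ n, 1 ≤ n ∧ ∃ y, Crit R (normalizer (R : Set G)) {P} n 1 y :=
  (h.geo hp).exists_crit (Set.singleton_nonempty P) h.Zne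
    fun _ hU h1 h3 => hp.nonLoc _ hU (h1 P rfl) ((h.CZ_le hp).trans h3)

end PB

end PT

namespace Fld

open Cfsg.Agent.Omega.NO3S.PT

variable {F : Type*} [Field F] [Finite F] [CharP F 2]

/-- `⟨R^P⟩ = V` -/
theorem V_R_eq (h : Hyp S P) (M : Crd F (S : Subgroup G) P (zl (S : Subgroup G) P)) :
    NoFF.Basic.V M.R P = zl (S : Subgroup G) P := by
  have hb := br_of h.ctx.char2 h.star M
  have hG := h.ctx.char2
  have hVS : zl (S : Subgroup G) P ≤ (S : Subgroup G) := (BR.zl_le_o2 hG hb).trans (hb.QB.trans hb.BS)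
  have hPV : P ≤ normalizer (zl (S : Subgroup G) P : Set G) := MinSimple.VModule.le_normalizer_zl _ _
  have hZR : zc (S : Subgroup G) ≤ M.R := by
    rw [M.zc_eq hVS (MinSimple.VModule.zc_le_zl _ _)]
    exact inf_le_left
  apply le_antisymm
  · refine iSup_le fun p => ?_
    have h1 := cj_le_cj (g := (p : G)).2 hb.RV
    rwa [cj_eq_iff.2 (hPV p.2)] at h1
  · have h1 : NoFF.Basic.V (zc (S : Subgroup G)) P ≤ NoFF.Basic.V M.R P :=
      iSup_mono fun p => cj_le_cj.2 hZR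
    exact h1

/-- `V ≤ O₂(C_G(R)) ≤ B` -/
theorem zl_le_o2_centR (h : Hyp S P) (M : Crd F (S : Subgroup G) P (zl (S : Subgroup G) P)) :
    zl (S : Subgroup G) P ≤ o2 (centralizer (M.R : Set G)) ∧ o2 (centralizer (M.R : Set G)) ≤ M.B := by
  have hb := br_of h.ctx.char2 h.star M
  have hG := h.ctx.char2
  have hVS : zl (S : Subgroup G) P ≤ (S : Subgroup G) := (BR.zl_le_o2 hG hb).trans (hb.QB.trans hb.BS)
  have hZR : zc (S : Subgroup G) ≤ M.R := by
    rw [M.zc_eq hVS (MinSimple.VModule.zc_le_zl _ _)]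
    exact inf_le_left
  set K := centralizer (M.R : Set G) with hK
  have hKC : K ≤ CZ (S : Subgroup G) := centralizer_le hZR
  have hVK : zl (S : Subgroup G) P ≤ K := by
    intro v hv
    rw [hK, mem_centralizer_iff]
    exact fun r hr => M.comm (hb.RV hr) hv
  constructor
  · let O : Subgroup G := ⨆ k : K, cj (k : G) (zl (S : Subgroup G) P)
    have hO1 : zl (S : Subgroup G) P ≤ O := by
      have := le_iSup (fun k : K => cj (k : G) (zl (S : Subgroup G) P)) 1
      rwa [OneMemClass.coe_one, cj_one] at this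
    have hOW : O ≤ WW (S : Subgroup G) P := iSup_le fun k => conj_zl_le_WW (hKC k.2)
    have hO2 : IsPGroup 2 O := fun w => ⟨1, Subtype.ext (by simpa using h.W_sq w (hOW w.2))⟩
    have hOK : O ≤ K := iSup_le fun k => by
      have h1 := cj_le_cj (g := (k : G)).2 hVK
      have h2 : cj (k : G) K = K := conj_self k.2
      rwa [h2] at h1
    have hn : K ≤ normalizer (O : Set G) := by
      have key : ∀ g ∈ K, cj g O ≤ O := by
        intro g hg
        rw [cj_le_iff]
        refine iSup_le fun k => ?_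
        rw [le_cj_iff, inv_inv, cj_cj]
        exact le_iSup (fun k : K => cj (k : G) (zl (S : Subgroup G) P)) ⟨g * k, mul_mem hg k.2⟩
      intro g hg
      rw [← cj_eq_iff]
      refine le_antisymm (key g hg) ?_
      rw [le_cj_iff]
      exact key g⁻¹ (inv_mem hg)
    exact hO1.trans (MinSimple.VModule.le_o2 hOK hO2 hn)
  · have hSN : (S : Subgroup G) ≤ normalizer (M.R : Set G) := hb.RS
    have hsyl : Cfsg.Agent.ZN.ChoiceSit.Syl (S : Subgroup G) (normalizer (M.R : Set G)) :=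
      ⟨hSN, S.isPGroup', fun _ _ hT hST => S.is_maximal' hT hST⟩
    have hKN : K ≤ normalizer (M.R : Set G) := centralizer_le_normalizer _
    have hcj : ∀ c ∈ normalizer (M.R : Set G), c ∈ normalizer (o2 K : Set G) := by
      intro c hc
      have h1 : ChoiceBase.cj c K = K := by
        have h2 : cj c K = K := by rw [hK, cj_centralizer, cj_eq_iff.2 hc]
        exact h2
      rw [ChoiceBase.mem_normalizer_iff_cj, ← Cfsg.Agent.ZN.ChoiceSit.o2_cj, h1]
    have h1 : o2 K ≤ o2 (normalizer (M.R : Set G)) :=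
      MinSimple.VModule.le_o2 ((MinSimple.VModule.o2_le K).trans hKN) (Cfsg.Agent.ZN.ChoiceSit.isPGroup_o2 K) hcj
    exact le_inf (h1.trans (Cfsg.Agent.ZN.ChoiceSit.o2_le_syl hsyl)) (MinSimple.VModule.o2_le K)

/-- **The geometry of the points `R^g`** -/
theorem geoR (h : Hyp S P) (M : Crd F (S : Subgroup G) P (zl (S : Subgroup G) P)) :
    Geo M.B M.R (normalizer (M.R : Set G)) {P} := by
  have hb := br_of h.ctx.char2 h.star M
  have hG := h.ctx.char2
  obtain ⟨hV1, hV2⟩ := zl_le_o2_centR h M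
  have hVe := V_R_eq h M
  have hVS : zl (S : Subgroup G) P ≤ (S : Subgroup G) := (BR.zl_le_o2 hG hb).trans (hb.QB.trans hb.BS)
  exact
    { ZS := hb.RV.trans (hV1.trans hV2)
      cent := inf_le_right
      SP := by rintro Q rfl; exact hb.BS.trans hb.star.le
      abel := by
        rintro Q rfl
        rw [hVe]
        exact fun v hv => mem_centralizer_iff.2 fun w hw => M.comm hw hv
      core := by
        rintro Q rfl p hpp x hx hxc
        rw [hVe] at hxc
        have h1 : x ∈ o2 Q := by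
          rw [← h.inf_centralizer]
          exact ⟨hb.BS hx, hxc⟩
        have h3 : cj p (o2 Q) = o2 Q := cj_eq_iff.2 (MinSimple.VModule.le_normalizer_o2 Q hpp)
        rw [← h3] at h1
        exact cj_le_cj.2 hb.QB h1
      noff := by
        rintro Q rfl Q' rfl g h1 h2
        rw [hVe] at h1 h2 ⊢
        exact h.geo.noff _ (Set.mem_singleton _) _ (Set.mem_singleton _) g h1 h2
      CZ := le_rfl
      cen := centralizer_le_normalizer _
      low := by
        rintro Q rfl c hc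
        rw [hVe]
        have h1 : cj c (o2 (centralizer (M.R : Set G))) = o2 (centralizer (M.R : Set G)) := by
          have h2 : ChoiceBase.cj c (centralizer (M.R : Set G)) = centralizer (M.R : Set G) := by
            have h3 : cj c (centralizer (M.R : Set G)) = centralizer (M.R : Set G) := by
              rw [cj_centralizer, cj_eq_iff.2 hc]
            exact h3
          have h4 : ChoiceBase.cj c (o2 (centralizer (M.R : Set G))) = o2 (centralizer (M.R : Set G)) := by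
            rw [← Cfsg.Agent.ZN.ChoiceSit.o2_cj, h2]
          exact h4
        rw [← h1] at hV1
        exact hV1.trans (cj_le_cj.2 hV2)
      Zsq := fun z hz => by rw [pow_two]; exact M.sq (hb.RV hz) }

end Fld

end Cfsg.Agent.Omega.NO3S

end
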