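import Cfsg.Agent.Mrg.Omega.NO3S.OneLine.OfP
import Cfsg.Agent.LieRecognition.FieldSemilinear

section


/-!
# Fld, the module facts for `V = F²`

`M : Crd F S P V`.

* `Crd.R` : the line `{x₁ = 0}`; `Crd.card_R`, `Crd.R_le`, `Crd.S_R` (`S ≤ N(R)`), `Crd.S_V`;
* `Crd.Act s σ c` : `s` acts as `(x₀, x₁) ↦ (σ x₀ + c σ x₁, σ x₁)`; `Act.unique`, `Act.mul`, `Act.inv`;
* `Act.mem_centR : s ∈ C(R) ↔ σ = 1`, `Act.mem_centV : s ∈ C(V) ↔ σ = 1 ∧ c = 0`;
* `Crd.comm_R` : `[b, v] ∈ R` for `b ∈ S ∩ C(R)`, `Crd.fix` : `C_V(b) = R` for `b ∈ S ∩ C(R) - C(V)`;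
* `Crd.relIndex_B` : `|B : C_B(V)| = q`, `B = S ∩ C(R)`; `Crd.relIndex_le` : `|D : C_D(V)| ≤ q` for `D ≤ B`;
* `Crd.cyc` : `S = B ⟨s₀⟩`;
* `card_fixed` : `|F^σ|² = |F|` for an involution `σ`.
-/

set_option autoImplicit false
set_option linter.unusedSectionVars false
set_option linter.unusedVariables false

namespace Cfsg.Agent.Omega.NO3S.Fld

open Subgroup Cfsg Cfsg.Agent.ZN Cfsg.Agent.ZN.ChoiceBase Cfsg.Agent.Omega.MinPar
open Cfsg.Agent.Omega.NatPair (ext2)
open Cfsg.Agent.Omega.NO3S.OneLine (conj_mem)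

universe u

variable {G : Type u} [Group G]

/-! ### Fields -/

/-- `|F^σ|² = |F|` for an involution `σ`. -/
theorem card_fixed {F : Type*} [Field F] [Finite F] [CharP F 2] {σ : F ≃+* F} (h1 : σ ≠ RingEquiv.refl F)
    (h2 : ∀ x, σ (σ x) = x) : Nat.card {x : F // σ x = x} * Nat.card {x : F // σ x = x} = Nat.card F := by
  obtain ⟨w, hw⟩ : ∃ w, σ w ≠ w := by
    by_contra hc
    push Not at hc
    exact h1 (RingEquiv.ext hc)
  rw [← Nat.card_prod]
  apply le_antisymm
  · -- `(a, b) ↦ a + b w` is injective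
    refine Nat.card_le_card_of_injective (fun p : {x : F // σ x = x} × {x : F // σ x = x} =>
      (p.1 : F) + p.2 * w) ?_
    rintro ⟨⟨a, ha⟩, ⟨b, hb⟩⟩ ⟨⟨c, hc⟩, ⟨d, hd⟩⟩ h
    have h3 : a + b * w = c + d * w := h
    have h4 := congrArg σ h3
    rw [map_add, map_add, map_mul, map_mul, ha, hb, hc, hd] at h4
    have h5 : (b - d) * (σ w - w) = 0 := by linear_combination h4 - h3
    have h6 : b = d := by
      rcases mul_eq_zero.1 h5 with h | h
      · exact sub_eq_zero.1 h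
      · exact absurd (sub_eq_zero.1 h) hw
    subst h6
    have h7 : a = c := by linear_combination h3
    subst h7
    rfl
  · -- `x ↦ x + σ x`
    let φ : F →+ F := AddMonoidHom.mk' (fun x => x + σ x) (fun x y => by rw [map_add]; abel)
    have hk : Nat.card φ.ker = Nat.card {x : F // σ x = x} := by
      refine Nat.card_congr (Equiv.subtypeEquivRight fun x => ?_)
      rw [AddMonoidHom.mem_ker]
      show x + σ x = 0 ↔ _
      rw [CharTwo.add_eq_zero]
      exact eq_comm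
    have hr : Nat.card φ.range ≤ Nat.card {x : F // σ x = x} := by
      refine Nat.card_le_card_of_injective (fun y : φ.range => (⟨y.1, ?_⟩ : {x : F // σ x = x})) ?_
      · obtain ⟨y, x, rfl⟩ := y
        show σ (x + σ x) = x + σ x
        rw [map_add, h2, add_comm]
      · intro y y' h
        exact Subtype.ext (congrArg (fun t : {x : F // σ x = x} => (t : F)) h)
    have h3 : Nat.card φ.ker * Nat.card φ.range = Nat.card F := by
      rw [← AddSubgroup.index_ker, AddSubgroup.card_mul_index]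
    rw [Nat.card_prod, ← h3, hk]
    exact Nat.mul_le_mul_left _ hr

namespace Crd

variable {F : Type*} [Field F] {S P V : Subgroup G} (M : Crd F S P V)

theorem e_zero : M.e 0 = 1 := by
  have := M.e_add 0 0
  rw [add_zero] at this
  exact left_eq_mul.1 this

theorem e_neg (x : Fin 2 → F) : M.e (-x) = (M.e x)⁻¹ := by
  rw [eq_inv_iff_mul_eq_one, ← M.e_add, neg_add_cancel, M.e_zero]

theorem e_sub (x y : Fin 2 → F) : M.e (x - y) = M.e x * (M.e y)⁻¹ := by
  rw [sub_eq_add_neg, M.e_add, M.e_neg]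

theorem e_mem (x : Fin 2 → F) : M.e x ∈ V := (M.mem_iff _).2 ⟨x, rfl⟩

include M in
theorem comm {v w : G} (hv : v ∈ V) (hw : w ∈ V) : v * w = w * v := by
  obtain ⟨x, rfl⟩ := (M.mem_iff v).1 hv
  obtain ⟨y, rfl⟩ := (M.mem_iff w).1 hw
  rw [← M.e_add, ← M.e_add, add_comm]

include M in
theorem sq [CharP F 2] {v : G} (hv : v ∈ V) : v * v = 1 := by
  obtain ⟨x, rfl⟩ := (M.mem_iff v).1 hv
  rw [← M.e_add, show x + x = 0 from funext fun i => CharTwo.add_self_eq_zero (x i), M.e_zero]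

/-- The line `{x₁ = 0}`. -/
def R : Subgroup G where
  carrier := {g | ∃ a : F, M.e ![a, 0] = g}
  mul_mem' := by
    rintro _ _ ⟨a, rfl⟩ ⟨b, rfl⟩
    refine ⟨a + b, ?_⟩
    rw [← M.e_add]
    congr 1
    apply ext2 <;> simp
  one_mem' := ⟨0, by
    rw [← M.e_zero]
    congr 1
    apply ext2 <;> simp⟩
  inv_mem' := by
    rintro _ ⟨a, rfl⟩
    refine ⟨-a, ?_⟩
    rw [← M.e_neg]
    congr 1
    apply ext2 <;> simp

theorem mem_R {g : G} : g ∈ M.R ↔ ∃ a : F, M.e ![a, 0] = g := Iff.rfl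

theorem e_mem_R {x : Fin 2 → F} : M.e x ∈ M.R ↔ x 1 = 0 := by
  rw [mem_R]
  constructor
  · rintro ⟨a, ha⟩
    rw [← M.e_inj ha]
    rfl
  · intro h
    exact ⟨x 0, congrArg M.e (ext2 rfl h.symm)⟩

theorem R_le : M.R ≤ V := by
  rintro _ ⟨a, rfl⟩
  exact M.e_mem _

theorem card_R : Nat.card M.R = Nat.card F := by
  refine (Nat.card_congr (Equiv.ofBijective (fun a : F => (⟨M.e ![a, 0], a, rfl⟩ : M.R)) ⟨?_, ?_⟩)).symm
  · intro a b h
    have h1 := M.e_inj (congrArg Subtype.val h)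
    simpa using congrFun h1 0
  · rintro ⟨_, a, rfl⟩
    exact ⟨a, rfl⟩

include M in
theorem card_V : Nat.card V = Nat.card F * Nat.card F := by
  have h1 : Nat.card (Fin 2 → F) = Nat.card V := by
    refine Nat.card_congr (Equiv.ofBijective (fun x => ⟨M.e x, M.e_mem x⟩) ⟨?_, ?_⟩)
    · intro x y h
      exact M.e_inj (congrArg Subtype.val h)
    · rintro ⟨v, hv⟩
      obtain ⟨x, rfl⟩ := (M.mem_iff v).1 hv
      exact ⟨x, rfl⟩
  rw [← h1]
  simp [Nat.card_fun, pow_two]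

theorem card_V_R : Nat.card V = Nat.card M.R * Nat.card M.R := by rw [M.card_R, M.card_V]

/-- `s` acts as `(x₀, x₁) ↦ (σ x₀ + c σ x₁, σ x₁)`. -/
def Act (s : G) (σ : F ≃+* F) (c : F) : Prop :=
  ∀ x : Fin 2 → F, s * M.e x * s⁻¹ = M.e ![σ (x 0) + c * σ (x 1), σ (x 1)]

theorem exists_act {s : G} (hs : s ∈ S) : ∃ σ c, M.Act s σ c := M.act s hs

variable {M}

theorem Act.unique {s : G} {σ σ' : F ≃+* F} {c c' : F} (h : M.Act s σ c) (h' : M.Act s σ' c') :
    σ = σ' ∧ c = c' := by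
  have key : ∀ x : Fin 2 → F, σ (x 0) + c * σ (x 1) = σ' (x 0) + c' * σ' (x 1) := fun x => by
    have h1 := M.e_inj ((h x).symm.trans (h' x))
    simpa using congrFun h1 0
  have h1 : σ = σ' := by
    ext a
    have := key ![a, 0]
    simpa using this
  subst h1
  refine ⟨rfl, ?_⟩
  have := key ![0, 1]
  simpa using this

theorem Act.mul {s t : G} {σ τ : F ≃+* F} {c d : F} (h : M.Act s σ c) (h' : M.Act t τ d) :
    M.Act (s * t) (τ.trans σ) (c + σ d) := by
  intro x
  have e1 : s * t * M.e x * (s * t)⁻¹ = s * (t * M.e x * t⁻¹) * s⁻¹ := by group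
  rw [e1, h', h]
  congr 1
  apply ext2
  · simp only [Matrix.cons_val_zero, Matrix.cons_val_one, RingEquiv.trans_apply, map_add, map_mul]
    ring
  · show σ (τ (x 1)) = (τ.trans σ) (x 1)
    rfl

theorem act_one' : M.Act 1 (RingEquiv.refl F) 0 := by
  intro x
  rw [one_mul, inv_one, mul_one]
  congr 1
  apply ext2 <;> simp

theorem Act.inv {s : G} {σ : F ≃+* F} {c : F} (h : M.Act s σ c) : M.Act s⁻¹ σ.symm (σ.symm (-c)) := by
  intro x
  have h1 := h ![σ.symm (x 0) + σ.symm (-c) * σ.symm (x 1), σ.symm (x 1)]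
  have h2 : M.e ![σ.symm (x 0) + σ.symm (-c) * σ.symm (x 1), σ.symm (x 1)] =
      s⁻¹ * (s * M.e ![σ.symm (x 0) + σ.symm (-c) * σ.symm (x 1), σ.symm (x 1)] * s⁻¹) * s := by group
  rw [h2, h1, inv_inv]
  congr 3
  apply ext2
  · simp only [Matrix.cons_val_zero, Matrix.cons_val_one, map_add, map_mul, RingEquiv.apply_symm_apply]
    ring
  · show x 1 = σ (σ.symm (x 1))
    rw [RingEquiv.apply_symm_apply]

theorem Act.mem_centR {s : G} {σ : F ≃+* F} {c : F} (h : M.Act s σ c) :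
    s ∈ centralizer (M.R : Set G) ↔ σ = RingEquiv.refl F := by
  rw [mem_centralizer_iff]
  constructor
  · intro h1
    ext a
    have h2 := h1 _ ⟨a, rfl⟩
    have h3 := h ![a, 0]
    rw [← h2, mul_assoc, mul_inv_cancel, mul_one] at h3
    have h4 := congrFun (M.e_inj h3) 0
    simpa using h4.symm
  · rintro rfl _ ⟨a, rfl⟩
    have h3 := h ![a, 0]
    have h4 : (![(RingEquiv.refl F) ((![a, 0] : Fin 2 → F) 0) + c * (RingEquiv.refl F) ((![a, 0] : Fin 2 → F) 1),
        (RingEquiv.refl F) ((![a, 0] : Fin 2 → F) 1)] : Fin 2 → F) = ![a, 0] := by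
      apply ext2 <;> simp
    rw [h4, mul_inv_eq_iff_eq_mul] at h3
    exact h3.symm

theorem Act.mem_centV {s : G} {σ : F ≃+* F} {c : F} (h : M.Act s σ c) :
    s ∈ centralizer (V : Set G) ↔ σ = RingEquiv.refl F ∧ c = 0 := by
  constructor
  · intro h1
    have h2 : σ = RingEquiv.refl F := h.mem_centR.1 (centralizer_le M.R_le h1)
    subst h2
    refine ⟨rfl, ?_⟩
    have h3 := mem_centralizer_iff.1 h1 _ (M.e_mem ![0, 1])
    have h4 := h ![0, 1]
    rw [← h3, mul_assoc, mul_inv_cancel, mul_one] at h4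
    have h5 := congrFun (M.e_inj h4) 0
    simpa using h5.symm
  · rintro ⟨rfl, rfl⟩
    rw [mem_centralizer_iff]
    intro v hv
    obtain ⟨x, rfl⟩ := (M.mem_iff v).1 hv
    have h4 := h x
    have h5 : (![(RingEquiv.refl F) (x 0) + 0 * (RingEquiv.refl F) (x 1), (RingEquiv.refl F) (x 1)] : Fin 2 → F) = x := by
      apply ext2 <;> simp
    rw [h5, mul_inv_eq_iff_eq_mul] at h4
    exact h4.symm

variable (M)

include M in
theorem S_V : S ≤ normalizer (V : Set G) := by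
  have key : ∀ s ∈ S, ∀ v ∈ V, s * v * s⁻¹ ∈ V := by
    intro s hs v hv
    obtain ⟨x, rfl⟩ := (M.mem_iff v).1 hv
    obtain ⟨σ, c, h⟩ := M.exists_act hs
    rw [h]
    exact M.e_mem _
  intro s hs
  rw [mem_normalizer_iff]
  refine fun v => ⟨key s hs v, fun h => ?_⟩
  have := key s⁻¹ (inv_mem hs) _ h
  have e : s⁻¹ * (s * v * s⁻¹) * s⁻¹⁻¹ = v := by group
  rwa [e] at this

theorem S_R : S ≤ normalizer (M.R : Set G) := by
  have key : ∀ s ∈ S, ∀ v ∈ M.R, s * v * s⁻¹ ∈ M.R := by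
    rintro s hs _ ⟨a, rfl⟩
    obtain ⟨σ, c, h⟩ := M.exists_act hs
    rw [h, M.e_mem_R]
    simp
  intro s hs
  rw [mem_normalizer_iff]
  refine fun v => ⟨key s hs v, fun h => ?_⟩
  have := key s⁻¹ (inv_mem hs) _ h
  have e : s⁻¹ * (s * v * s⁻¹) * s⁻¹⁻¹ = v := by group
  rwa [e] at this

/-- the elements of `B = S ∩ C(R)` act as root elements -/
theorem exists_root {b : G} (hb : b ∈ S) (hb' : b ∈ centralizer (M.R : Set G)) :
    ∃ c, M.Act b (RingEquiv.refl F) c := by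
  obtain ⟨σ, c, h⟩ := M.exists_act hb
  obtain rfl := h.mem_centR.1 hb'
  exact ⟨c, h⟩

theorem comm_R {b v : G} (hb : b ∈ S) (hb' : b ∈ centralizer (M.R : Set G)) (hv : v ∈ V) :
    b * v * b⁻¹ * v⁻¹ ∈ M.R := by
  obtain ⟨c, h⟩ := M.exists_root hb hb'
  obtain ⟨x, rfl⟩ := (M.mem_iff v).1 hv
  rw [h, ← M.e_sub, M.e_mem_R]
  simp

theorem fix {b v : G} (hb : b ∈ S) (hb' : b ∈ centralizer (M.R : Set G)) (hbV : b ∉ centralizer (V : Set G))
    (hv : v ∈ V) (hbv : b * v = v * b) : v ∈ M.R := by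
  obtain ⟨c, h⟩ := M.exists_root hb hb'
  obtain ⟨x, rfl⟩ := (M.mem_iff v).1 hv
  rw [M.e_mem_R]
  have h1 := h x
  rw [hbv, mul_assoc, mul_inv_cancel, mul_one] at h1
  have h2 := congrFun (M.e_inj h1) 0
  have h3 : c * x 1 = 0 := by
    have h4 : x 0 = x 0 + c * x 1 := by simpa using h2
    exact left_eq_add.1 h4
  rcases mul_eq_zero.1 h3 with h4 | h4
  · exact absurd (h.mem_centV.2 ⟨rfl, h4⟩) hbV
  · exact h4

/-- every root element is induced -/
theorem exists_full (c : F) : ∃ s ∈ S, s ∈ centralizer (M.R : Set G) ∧ M.Act s (RingEquiv.refl F) c := by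
  obtain ⟨s, hs, h⟩ := M.full c
  have h' : M.Act s (RingEquiv.refl F) c := h
  exact ⟨s, hs, h'.mem_centR.2 rfl, h'⟩

theorem exists_ne_R : ∃ v ∈ V, v ∉ M.R := ⟨M.e ![0, 1], M.e_mem _, by rw [M.e_mem_R]; simp⟩

/-- the fixed points of `B` in `V` -/
theorem mem_R_of_comm {v : G} (hv : v ∈ V)
    (h : ∀ b ∈ S, b ∈ centralizer (M.R : Set G) → b * v = v * b) : v ∈ M.R := by
  obtain ⟨s, hs, hs1, h1⟩ := M.exists_full 1
  refine M.fix hs hs1 (fun hc => ?_) hv (h s hs hs1)
  exact one_ne_zero (h1.mem_centV.1 hc).2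

/-! ### The homomorphism `B → F` -/

/-- The root part. -/
noncomputable def rt (b : G) : F := open Classical in
  if h : ∃ c, M.Act b (RingEquiv.refl F) c then h.choose else 0

theorem rt_eq {b : G} {c : F} (h : M.Act b (RingEquiv.refl F) c) : M.rt b = c := by
  have h1 : ∃ c, M.Act b (RingEquiv.refl F) c := ⟨c, h⟩
  rw [rt, dif_pos h1]
  exact (Act.unique h1.choose_spec h).2

theorem act_rt {b : G} (hb : b ∈ S) (hb' : b ∈ centralizer (M.R : Set G)) :
    M.Act b (RingEquiv.refl F) (M.rt b) := by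
  obtain ⟨c, h⟩ := M.exists_root hb hb'
  rwa [M.rt_eq h]

theorem rt_mul {b c : G} (hb : b ∈ S) (hb' : b ∈ centralizer (M.R : Set G)) (hc : c ∈ S)
    (hc' : c ∈ centralizer (M.R : Set G)) : M.rt (b * c) = M.rt b + M.rt c := by
  have h := (M.act_rt hb hb').mul (M.act_rt hc hc')
  exact M.rt_eq h

/-- `B = S ∩ C(R)` -/
abbrev B : Subgroup G := S ⊓ centralizer (M.R : Set G)

/-- the homomorphism `D → F` for `D ≤ B` -/
noncomputable def rtHom {D : Subgroup G} (hD : D ≤ M.B) : D →* Multiplicative F :=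
  MonoidHom.mk' (fun d => Multiplicative.ofAdd (M.rt d)) (by
    rintro ⟨v, hv⟩ ⟨w, hw⟩
    exact congrArg Multiplicative.ofAdd (M.rt_mul (hD hv).1 (hD hv).2 (hD hw).1 (hD hw).2))

theorem ker_rtHom {D : Subgroup G} (hD : D ≤ M.B) :
    (M.rtHom hD).ker = (centralizer (V : Set G)).subgroupOf D := by
  ext d
  rw [MonoidHom.mem_ker, mem_subgroupOf, (M.act_rt (hD d.2).1 (hD d.2).2).mem_centV]
  constructor
  · intro h
    exact ⟨rfl, congrArg Multiplicative.toAdd h⟩
  · intro h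
    exact congrArg Multiplicative.ofAdd h.2

theorem relIndex_eq {D : Subgroup G} (hD : D ≤ M.B) :
    (centralizer (V : Set G)).relIndex D = Nat.card (M.rtHom hD).range := by
  rw [relIndex, ← M.ker_rtHom hD, Subgroup.index_ker]

theorem relIndex_le [Finite F] {D : Subgroup G} (hD : D ≤ M.B) : (centralizer (V : Set G)).relIndex D ≤ Nat.card F := by
  rw [M.relIndex_eq hD]
  exact Nat.card_le_card_of_injective (fun x : (M.rtHom hD).range => Multiplicative.toAdd (x : Multiplicative F))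
    (fun x y h => Subtype.ext (congrArg Multiplicative.ofAdd h))

theorem relIndex_B : (centralizer (V : Set G)).relIndex M.B = Nat.card F := by
  rw [M.relIndex_eq le_rfl]
  have h1 : (M.rtHom le_rfl).range = ⊤ := by
    rw [MonoidHom.range_eq_top]
    intro c
    obtain ⟨s, hs, hs', h⟩ := M.exists_full (Multiplicative.toAdd c)
    exact ⟨⟨s, hs, hs'⟩, congrArg Multiplicative.ofAdd (M.rt_eq h)⟩
  rw [h1, Subgroup.card_top]
  rfl

/-- `D ≤ B` commuting modulo `C(V)` with some `s ∈ S` which induces an involution on `F`: `|D : C_D(V)|² ≤ q`. -/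
theorem relIndex_sq_le [Finite F] [CharP F 2] {D : Subgroup G} (hD : D ≤ M.B) {s : G} {σ : F ≃+* F} {c : F}
    (hs : M.Act s σ c) (h1 : σ ≠ RingEquiv.refl F) (h2 : ∀ x, σ (σ x) = x)
    (hc : ∀ d ∈ D, s * d * s⁻¹ * d⁻¹ ∈ centralizer (V : Set G)) :
    (centralizer (V : Set G)).relIndex D * (centralizer (V : Set G)).relIndex D ≤ Nat.card F := by
  rw [M.relIndex_eq hD, ← card_fixed h1 h2]
  have key : ∀ d ∈ D, σ (M.rt d) = M.rt d := by
    intro d hd
    have hd1 := M.act_rt (hD hd).1 (hD hd).2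
    have h3 := (((hs.mul hd1).mul hs.inv).mul hd1.inv).mem_centV.1 (hc d hd)
    have h4 := h3.2
    have h5 : c + σ (M.rt d) + σ (σ.symm (-c)) + σ (σ.symm (-M.rt d)) = 0 := h4
    rw [RingEquiv.apply_symm_apply, RingEquiv.apply_symm_apply] at h5
    linear_combination h5
  have hle : Nat.card (M.rtHom hD).range ≤ Nat.card {x : F // σ x = x} := by
    refine Nat.card_le_card_of_injective (fun x : (M.rtHom hD).range =>
      (⟨Multiplicative.toAdd (x : Multiplicative F), ?_⟩ : {x : F // σ x = x})) ?_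
    · obtain ⟨x, ⟨d, hd⟩, rfl⟩ := x
      exact key d hd
    · intro x y h
      exact Subtype.ext (congrArg (fun t : {x : F // σ x = x} => Multiplicative.ofAdd (t : F)) h)
  exact Nat.mul_le_mul hle hle

/-! ### The field automorphisms -/

/-- the field automorphism of `s ∈ S` -/
noncomputable def sgHom (M : Crd F S P V) : S →* (F ≃+* F) where
  toFun s := (M.exists_act s.2).choose
  map_one' := by
    obtain ⟨c, hc⟩ := (M.exists_act (one_mem S)).choose_spec
    exact (hc.unique act_one').1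
  map_mul' s t := by
    obtain ⟨c, hc⟩ := (M.exists_act s.2).choose_spec
    obtain ⟨d, hd⟩ := (M.exists_act t.2).choose_spec
    obtain ⟨e, he⟩ := (M.exists_act (s * t).2).choose_spec
    have h1 := (he.unique (hc.mul hd)).1
    exact h1

theorem sgHom_eq {s : S} {σ : F ≃+* F} {c : F} (h : M.Act s σ c) : M.sgHom s = σ := by
  obtain ⟨d, hd⟩ := (M.exists_act s.2).choose_spec
  exact (hd.unique h).1

theorem sgHom_eq_one {s : S} : M.sgHom s = 1 ↔ (s : G) ∈ centralizer (M.R : Set G) := by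
  obtain ⟨σ, c, h⟩ := M.exists_act s.2
  rw [M.sgHom_eq h, h.mem_centR]
  rfl

/-- `S / B` is cyclic -/
theorem cyc [Finite F] : ∃ s₀ ∈ S, ∀ s ∈ S, ∃ k : ℕ, s * (s₀ ^ k)⁻¹ ∈ M.B := by
  have hc : IsCyclic (F ≃+* F) := LieRecognition.FieldSemilinear.isCyclic_ringAut F
  have hc2 : IsCyclic M.sgHom.range := inferInstance
  obtain ⟨⟨_, s₀, rfl⟩, hg⟩ := hc2.exists_generator
  have hfin : Finite (F ≃+* F) := Finite.of_injective (fun σ : F ≃+* F => (σ : F → F)) DFunLike.coe_injective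
  refine ⟨s₀, s₀.2, fun s hs => ?_⟩
  have h1 := hg ⟨M.sgHom ⟨s, hs⟩, ⟨⟨s, hs⟩, rfl⟩⟩
  rw [← mem_powers_iff_mem_zpowers] at h1
  obtain ⟨k, hk⟩ := h1
  have hk' : M.sgHom s₀ ^ k = M.sgHom ⟨s, hs⟩ := congrArg Subtype.val hk
  have h2 : M.sgHom (⟨s, hs⟩ * (s₀ ^ k)⁻¹) = 1 := by
    rw [map_mul, map_inv, map_pow, hk', mul_inv_cancel]
  exact ⟨k, mem_inf.2 ⟨S.mul_mem hs (S.inv_mem (S.pow_mem s₀.2 k)), M.sgHom_eq_one.1 h2⟩⟩

/-! ### Elements and subgroups which induce an involution on `F` -/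

theorem inv_unique [Finite F] {σ τ : F ≃+* F} (h1 : σ ≠ RingEquiv.refl F) (h2 : ∀ x, σ (σ x) = x)
    (h3 : τ ≠ RingEquiv.refl F) (h4 : ∀ x, τ (τ x) = x) : σ = τ := by
  classical
  by_contra hne
  have hc : IsCyclic (F ≃+* F) := LieRecognition.FieldSemilinear.isCyclic_ringAut F
  have hfin : Finite (F ≃+* F) := Finite.of_injective (fun σ : F ≃+* F => (σ : F → F)) DFunLike.coe_injective
  have : Fintype (F ≃+* F) := Fintype.ofFinite _
  have h5 := IsCyclic.card_pow_eq_one_le (α := F ≃+* F) (n := 2) (by norm_num)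
  have h6 : ({1, σ, τ} : Finset (F ≃+* F)) ⊆ Finset.univ.filter fun a : F ≃+* F => a ^ 2 = 1 := by
    intro a ha
    simp only [Finset.mem_insert, Finset.mem_singleton] at ha
    rw [Finset.mem_filter]
    refine ⟨Finset.mem_univ _, ?_⟩
    rcases ha with rfl | rfl | rfl
    · exact one_pow 2
    · rw [pow_two]; exact RingEquiv.ext h2
    · rw [pow_two]; exact RingEquiv.ext h4
  have h7 := Finset.card_le_card h6
  have h8 : ({1, σ, τ} : Finset (F ≃+* F)).card = 3 := by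
    rw [Finset.card_insert_of_notMem, Finset.card_insert_of_notMem, Finset.card_singleton]
    · rw [Finset.mem_singleton]; exact hne
    · rw [Finset.mem_insert, Finset.mem_singleton, not_or]
      exact ⟨fun h => h1 h.symm, fun h => h3 h.symm⟩
  omega

/-- `C_R(s)` -/
theorem card_fixR {s : G} {σ : F ≃+* F} {c : F} (h : M.Act s σ c) :
    Nat.card ↥(M.R ⊓ centralizer ({s} : Set G)) = Nat.card {x : F // σ x = x} := by
  have key : ∀ a : F, σ a = a ↔ M.e ![a, 0] ∈ centralizer ({s} : Set G) := by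
    intro a
    rw [mem_centralizer_singleton_iff]
    have h1 := h ![a, 0]
    have h2 : (![σ ((![a, 0] : Fin 2 → F) 0) + c * σ ((![a, 0] : Fin 2 → F) 1), σ ((![a, 0] : Fin 2 → F) 1)] :
        Fin 2 → F) = ![σ a, 0] := by
      apply ext2 <;> simp
    rw [h2] at h1
    constructor
    · intro h3
      rw [h3, mul_inv_eq_iff_eq_mul] at h1
      exact h1.symm
    · intro h3
      rw [← h3, mul_assoc, mul_inv_cancel, mul_one] at h1
      have := congrFun (M.e_inj h1) 0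
      simpa using this.symm
  refine (Nat.card_congr (Equiv.ofBijective (fun a : {x : F // σ x = x} =>
    (⟨M.e ![(a : F), 0], mem_inf.2 ⟨⟨a, rfl⟩, (key a).1 a.2⟩⟩ : ↥(M.R ⊓ centralizer ({s} : Set G)))) ⟨?_, ?_⟩)).symm
  · intro a b h
    have h1 := M.e_inj (congrArg Subtype.val h)
    exact Subtype.ext (by simpa using congrFun h1 0)
  · rintro ⟨_, ⟨a, rfl⟩, ha⟩
    exact ⟨⟨a, (key a).2 ha⟩, rfl⟩

/-- `|C_R(s)|² = |R|` if `s` induces an involution on `F` -/
theorem card_fixR_sq [Finite F] [CharP F 2] {s : G} {σ : F ≃+* F} {c : F} (h : M.Act s σ c)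
    (h1 : σ ≠ RingEquiv.refl F) (h2 : ∀ x, σ (σ x) = x) :
    Nat.card ↥(M.R ⊓ centralizer ({s} : Set G)) * Nat.card ↥(M.R ⊓ centralizer ({s} : Set G)) = Nat.card F := by
  rw [M.card_fixR h, card_fixed h1 h2]

/-- the vectors fixed by `s` modulo `R` -/
def fixV {s : G} {σ : F ≃+* F} {c : F} (h : M.Act s σ c) : Subgroup G where
  carrier := {g | ∃ x : Fin 2 → F, σ (x 1) = x 1 ∧ M.e x = g}
  mul_mem' := by
    rintro _ _ ⟨x, hx, rfl⟩ ⟨y, hy, rfl⟩
    exact ⟨x + y, by rw [Pi.add_apply, map_add, hx, hy], M.e_add _ _⟩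
  one_mem' := ⟨0, by simp, M.e_zero⟩
  inv_mem' := by
    rintro _ ⟨x, hx, rfl⟩
    exact ⟨-x, by rw [Pi.neg_apply, map_neg, hx], M.e_neg _⟩

theorem mem_fixV {s : G} {σ : F ≃+* F} {c : F} (h : M.Act s σ c) {v : G} :
    v ∈ M.fixV h ↔ v ∈ V ∧ s * v * s⁻¹ * v⁻¹ ∈ M.R := by
  constructor
  · rintro ⟨x, hx, rfl⟩
    refine ⟨M.e_mem _, ?_⟩
    rw [h, ← M.e_sub, M.e_mem_R]
    simp [hx]
  · rintro ⟨hv, hvR⟩
    obtain ⟨x, rfl⟩ := (M.mem_iff v).1 hv
    rw [h, ← M.e_sub, M.e_mem_R] at hvR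
    exact ⟨x, sub_eq_zero.1 (by simpa using hvR), rfl⟩

theorem card_fixV {s : G} {σ : F ≃+* F} {c : F} (h : M.Act s σ c) :
    Nat.card (M.fixV h) = Nat.card F * Nat.card {x : F // σ x = x} := by
  rw [← Nat.card_prod]
  refine (Nat.card_congr (Equiv.ofBijective (fun a : F × {x : F // σ x = x} =>
    (⟨M.e ![a.1, (a.2 : F)], ![a.1, (a.2 : F)], a.2.2, rfl⟩ : M.fixV h)) ⟨?_, ?_⟩)).symm
  · rintro ⟨a, b⟩ ⟨a', b'⟩ h
    have h1 := M.e_inj (congrArg Subtype.val h)
    have h2 : a = a' := by simpa using congrFun h1 0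
    have h3 : b = b' := Subtype.ext (by simpa using congrFun h1 1)
    rw [h2, h3]
  · rintro ⟨_, x, hx, rfl⟩
    refine ⟨⟨x 0, ⟨x 1, hx⟩⟩, Subtype.ext ?_⟩
    show M.e ![x 0, x 1] = M.e x
    congr 1
    apply ext2 <;> rfl

/-- a subgroup of `S` with squares in `C(R)`, not in `C(R)`: all elements outside `C(R)` induce the same involution -/
theorem exists_phi [Finite F] {D : Subgroup G} (hD : D ≤ S) (hsq : ∀ a ∈ D, a ^ 2 ∈ centralizer (M.R : Set G))
    (hne : ¬ D ≤ centralizer (M.R : Set G)) : ∃ φ : F ≃+* F, φ ≠ RingEquiv.refl F ∧ (∀ x, φ (φ x) = x) ∧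
      ∀ a ∈ D, a ∉ centralizer (M.R : Set G) → ∃ c, M.Act a φ c := by
  obtain ⟨d, hd, hdR⟩ := SetLike.not_le_iff_exists.1 hne
  have key : ∀ a ∈ D, a ∉ centralizer (M.R : Set G) → ∃ σ c, M.Act a σ c ∧ σ ≠ RingEquiv.refl F ∧
      ∀ x, σ (σ x) = x := by
    intro a ha haR
    obtain ⟨σ, c, h⟩ := M.exists_act (hD ha)
    refine ⟨σ, c, h, fun h1 => haR (h.mem_centR.2 h1), fun x => ?_⟩
    have h2 := hsq a ha
    rw [pow_two] at h2
    have h3 := (h.mul h).mem_centR.1 h2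
    exact congrArg (fun τ : F ≃+* F => τ x) h3
  obtain ⟨φ, c, h, h1, h2⟩ := key d hd hdR
  refine ⟨φ, h1, h2, fun a ha haR => ?_⟩
  obtain ⟨σ, c', h', h1', h2'⟩ := key a ha haR
  obtain rfl := inv_unique h1' h2' h1 h2
  exact ⟨c', h'⟩

theorem relIndex_two [Finite F] {D : Subgroup G} (hD : D ≤ S) (hsq : ∀ a ∈ D, a ^ 2 ∈ centralizer (M.R : Set G))
    (hne : ¬ D ≤ centralizer (M.R : Set G)) : (centralizer (M.R : Set G)).relIndex D = 2 := by
  obtain ⟨φ, h1, h2, h3⟩ := M.exists_phi hD hsq hne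
  obtain ⟨d, hd, hdR⟩ := SetLike.not_le_iff_exists.1 hne
  rw [relIndex, Subgroup.index_eq_two_iff]
  refine ⟨⟨d, hd⟩, fun b => ?_⟩
  rw [mem_subgroupOf, mem_subgroupOf]
  obtain ⟨c, hc⟩ := h3 d hd hdR
  have hbd : ∀ σ c', M.Act (b : G) σ c' → ((b : G) * d ∈ centralizer (M.R : Set G) ↔ φ.trans σ = RingEquiv.refl F) :=
    fun σ c' h => (h.mul hc).mem_centR
  by_cases hb : (b : G) ∈ centralizer (M.R : Set G)
  · right
    refine ⟨hb, fun h4 => ?_⟩
    exact hdR ((Subgroup.mul_mem_cancel_left _ hb).1 h4)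
  · left
    refine ⟨?_, hb⟩
    obtain ⟨c', hc'⟩ := h3 b b.2 hb
    exact (hbd φ c' hc').2 (RingEquiv.ext h2)

/-- `|R : C_R(D)|² = |R|` -/
theorem card_fixR_D [Finite F] [CharP F 2] {D : Subgroup G} (hD : D ≤ S)
    (hsq : ∀ a ∈ D, a ^ 2 ∈ centralizer (M.R : Set G)) (hne : ¬ D ≤ centralizer (M.R : Set G)) :
    Nat.card ↥(M.R ⊓ centralizer (D : Set G)) * Nat.card ↥(M.R ⊓ centralizer (D : Set G)) = Nat.card F := by
  obtain ⟨φ, h1, h2, h3⟩ := M.exists_phi hD hsq hne
  obtain ⟨d, hd, hdR⟩ := SetLike.not_le_iff_exists.1 hne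
  obtain ⟨c, hc⟩ := h3 d hd hdR
  have e : M.R ⊓ centralizer (D : Set G) = M.R ⊓ centralizer ({d} : Set G) := by
    apply le_antisymm
    · exact inf_le_inf_left _ (centralizer_le (Set.singleton_subset_iff.2 hd))
    · rintro r ⟨hr, hrd⟩
      refine ⟨hr, mem_centralizer_iff.2 fun a ha => ?_⟩
      have hrd' : d * r = r * d := (mem_centralizer_singleton_iff.1 hrd).symm
      by_cases haR : a ∈ centralizer (M.R : Set G)
      · exact (mem_centralizer_iff.1 haR r hr).symm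
      · -- `a d⁻¹` centralises `R`
        obtain ⟨c', hc'⟩ := h3 a ha haR
        have h4 : a * d ∈ centralizer (M.R : Set G) := (hc'.mul hc).mem_centR.2 (RingEquiv.ext h2)
        have h5 := mem_centralizer_iff.1 h4 r hr
        calc a * r = a * (d * r) * d⁻¹ := by rw [hrd']; group
          _ = (a * d * r) * d⁻¹ := by group
          _ = (r * (a * d)) * d⁻¹ := by rw [← h5]
          _ = r * a := by group
  rw [e, M.card_fixR_sq hc h1 h2]

/-! ### `Ω₁(Z(S))` -/

/-- some element of `S` induces a nontrivial field automorphism if `Ω₁(Z(S)) ≠ R` -/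
theorem zc_eq (hV : V ≤ S) (hZ : zc S ≤ V) [CharP F 2] : zc S = M.R ⊓ centralizer (S : Set G) := by
  apply le_antisymm
  · intro z hz
    have h1 := mem_zc.1 hz
    exact ⟨M.mem_R_of_comm (hZ hz) fun b hb _ => h1.2.2 b hb, mem_centralizer_iff.2 fun s hs => h1.2.2 s hs⟩
  · rintro z ⟨hz, hzS⟩
    have hzV := M.R_le hz
    exact mem_zc.2 ⟨hV hzV, by rw [pow_two]; exact M.sq hzV, fun s hs => mem_centralizer_iff.1 hzS s hs⟩

theorem not_le_centR (hV : V ≤ S) (hZ : zc S ≤ V) [CharP F 2] (hc : Nat.card (zc S) ≠ Nat.card F) :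
    ¬ S ≤ centralizer (M.R : Set G) := by
  intro hle
  apply hc
  rw [M.zc_eq hV hZ, ← M.card_R, inf_eq_left.2]
  rw [le_centralizer_iff]
  exact hle

theorem le_centR (hV : V ≤ S) (hZ : zc S ≤ V) [CharP F 2] [Finite G] (hc : Nat.card (zc S) = Nat.card F) :
    S ≤ centralizer (M.R : Set G) := by
  rw [← le_centralizer_iff]
  have h1 : M.R ⊓ centralizer (S : Set G) = M.R := by
    refine Subgroup.eq_of_le_of_card_ge inf_le_left ?_
    rw [← M.zc_eq hV hZ, hc, M.card_R]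
  exact inf_eq_left.1 h1

end Crd

end Cfsg.Agent.Omega.NO3S.Fld

end

section


/-!
# Fld: what LEMMA UNIQ over `B` needs from the FF theorem

`Pt S P` (`P ∈ P(S)` a member with `J(S) ≰ O₂(P)`; `V = V_P`, `V₁ = C_V(J(S))`, `D = C_V(O²(P))`):
no over-offenders on `V`, `|C_S(V₁) : O₂(P)| ≤ |V₁|` and `|V| |D| ≤ |V₁|²`.
`pt_of` : it holds, by the FF theorem (`k` natural `SL₂(q)`-modules or `k` even-subset modules).
-/

set_option autoImplicit false
set_option linter.unusedSectionVars false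
set_option linter.unusedVariables false

namespace Cfsg.Agent.Omega.NO3S.Fld

open Subgroup Cfsg Cfsg.Agent.ZN Cfsg.Agent.ZN.ChoiceBase Cfsg.Agent.Omega.MinPar
open Cfsg.Agent.ZN.ChoiceSit (Syl o2_le_syl)
open Cfsg.Agent.Omega.SQ1.Bau (mem_AA_of_comm zj_le_AA elem_comm elem_sq)
open Cfsg.Agent.Omega.SQ1.BauK (V1 mem_V1)
open Cfsg.Agent.Omega.SQ1
open Cfsg.Agent.PLocal.ElemAbSup Cfsg.Agent.PLocal.ThompsonJ
open Cfsg.Agent.MinSimple.VModule (zc_le zc_le_zl zl_le le_o2 le_normalizer_zl le_normalizer_o2)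
open Cfsg.Agent.Omega.SQ1.FFOne Cfsg.Agent.Omega.SQ1.FFSym Cfsg.Agent.Lib.SL2Mat
open Cfsg.Agent.Omega.FFThm (NatK SymK Off NoOver ActsSym)
open Cfsg.Agent.Omega.FrameFF (cv)
open Cfsg.Agent.Omega.NatPair (ap ap_zero' ap_one' ap_one ap_mul ap_add ap_smul ext2)
open Cfsg.Agent.Omega.NO3S.OneLine (syT syl_of minH card_mul_relIndex)

universe u

variable {G : Type u} [Group G]

/-- What is used of the FF theorem for a member of `P(S)`. -/
structure Pt (S P : Subgroup G) : Prop where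
  no : NoOver (zl S P) P
  cen : (o2 P).relIndex (S ⊓ centralizer (V1 S (zl S P) : Set G)) ≤ Nat.card (V1 S (zl S P))
  sq : Nat.card (zl S P) * Nat.card (cv S P) ≤ Nat.card (V1 S (zl S P)) ^ 2

/-- An injection modulo `K` bounds the index. -/
theorem relIndex_le_card {K C : Subgroup G} {X : Type*} [Finite X] (f : C → X)
    (hf : ∀ x y : C, f x = f y → (x : G)⁻¹ * y ∈ K) : K.relIndex C ≤ Nat.card X := by
  rw [relIndex, index]
  refine Nat.card_le_card_of_injective (fun q : C ⧸ K.subgroupOf C => f q.out) ?_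
  intro q q' h
  have h1 := hf _ _ h
  rw [← QuotientGroup.out_eq' q, ← QuotientGroup.out_eq' q', QuotientGroup.eq, mem_subgroupOf]
  exact h1

/-! ### Natural modules -/

section nat

variable [Finite G] {ι : Type} {F : Type*} [Field F] [Finite F] [CharP F 2] [Finite ι] [Nonempty ι]
  {H T V V0 : Subgroup G}

theorem natCen (hm : MinH H T) (M : FFK ι F H T V V0) :
    (o2 H).relIndex (T ⊓ centralizer (V1 T V : Set G)) ≤ Nat.card (ι → F) := by
  let S : Subgroup G :=
    { carrier := {g | g ∈ H ∧ ∃ c, M.Up g c}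
      mul_mem' := by
        rintro a b ⟨ha, c, hc⟩ ⟨hb, d, hd⟩
        exact ⟨mul_mem ha hb, c + d, FFK.Up.mul M hb hc hd⟩
      one_mem' := ⟨one_mem H, 0, FFK.Up.one M⟩
      inv_mem' := by
        rintro a ⟨ha, c, hc⟩
        exact ⟨inv_mem ha, -c, FFK.Up.inv M ha hc⟩ }
  have hle : jj T ⊔ o2 H ≤ S := by
    refine sup_le (fun j hj => ⟨hm.syl.1 (jj_le T hj), M.jj_up hm hj⟩) fun x hx => ?_
    exact ⟨hm.syl.1 (o2_le_syl hm.syl hx), 0, M.up_zero_of_mem_Q hx⟩
  have key : ∀ x : (T ⊓ centralizer (V1 T V : Set G) : Subgroup G), ∃ c, M.Up x c := fun x => by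
    have h1 := FFK.field hm M x.2.1 fun v hv => (mem_centralizer_iff.1 x.2.2 v hv).symm
    exact (hle h1).2
  choose f hf using key
  refine relIndex_le_card f fun x y hxy => ?_
  have h1 := FFK.Up.mul M (hm.syl.1 y.2.1) (FFK.Up.inv M (hm.syl.1 x.2.1) (hf x)) (hf y)
  rw [hxy, neg_add_cancel] at h1
  exact M.mem_Q_of_up_zero hm (mul_mem (inv_mem x.2.1) y.2.1) h1

theorem natCard (hm : MinH H T) (M : FFK ι F H T V V0) :
    Nat.card V = Nat.card (V1 T V) * Nat.card (ι → F) := by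
  have h1 := M.card_VS (Set.univ)
  have h2 : M.VS Set.univ = V1 T V := by
    ext v
    rw [M.mem_VS, M.mem_V1_iff hm]
    exact ⟨fun h => ⟨h.1, fun i => h.2 i trivial⟩, fun h => ⟨h.1, fun i _ => h.2 i⟩⟩
  rw [h2] at h1
  rw [h1]
  congr 1
  exact Nat.card_congr (Equiv.arrowCongr (Equiv.Set.univ ι) (Equiv.refl F))

theorem natCard1 (hm : MinH H T) (M : FFK ι F H T V V0) :
    Nat.card (V1 T V) = Nat.card V0 * Nat.card (ι → F) := by
  have hmul : ∀ v ∈ V1 T V, ∀ w ∈ V1 T V, (fun (v : G) (i : ι) => M.π i v 0) (v * w) =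
      (fun (v : G) (i : ι) => M.π i v 0) v + (fun (v : G) (i : ι) => M.π i v 0) w := by
    intro v hv w hw
    funext i
    show M.π i (v * w) 0 = M.π i v 0 + M.π i w 0
    rw [M.map_mul i v hv.1 w hw.1]; rfl
  have hmul' : ∀ v ∈ V1 T V, ∀ w ∈ V1 T V, (fun (v : G) (i : (Set.univ : Set ι)) => M.π i v 0) (v * w) =
      (fun (v : G) (i : (Set.univ : Set ι)) => M.π i v 0) v + (fun (v : G) (i : (Set.univ : Set ι)) => M.π i v 0) w := by
    intro v hv w hw
    funext i
    exact congrFun (hmul v hv w hw) i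
  have h0V : V0 ≤ V1 T V := fun v hv => (M.mem_V1_iff hm).2
    ⟨M.V0V hv, fun i => by rw [(M.ker v (M.V0V hv)).2 hv i]; rfl⟩
  refine card_of_map (fun (v : G) (i : ι) => M.π i v 0) hmul h0V ?_ ?_
  · intro v hv
    have hv' := (M.mem_V1_iff hm).1 hv
    rw [← M.ker v hv'.1]
    constructor
    · intro h i
      exact ext2 (congrFun h i) (hv'.2 i)
    · intro h
      funext i
      show M.π i v 0 = 0
      rw [h i]; rfl
  · intro c
    obtain ⟨v, hv, h⟩ := FFK.pi_surj (S := (Set.univ : Set ι)) (K := V1 T V)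
      (fun (v : G) (i : (Set.univ : Set ι)) => M.π i v 0) hmul' (by
        intro i a
        obtain ⟨v, hv, e, hj⟩ := M.surj i ![a, 0]
        refine ⟨v, (M.mem_V1_iff hm).2 ⟨hv, fun j => ?_⟩, ?_, fun j hji => ?_⟩
        · by_cases hj' : j = i
          · subst hj'; rw [e]; rfl
          · rw [hj j hj']; rfl
        · show M.π i v 0 = a
          rw [e]; rfl
        · show M.π j v 0 = 0
          rw [hj j fun h => hji (Subtype.ext h)]; rfl) (fun j => c j)
    refine ⟨v, hv, ?_⟩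
    funext i
    exact congrFun h ⟨i, trivial⟩

end nat

/-! ### Even-subset modules -/

section sym

variable [Finite G] {T H Q V D : Subgroup G} {k n : ℕ} {o : Fin n} {e : G → Fin k → Fin n → ZMod 2}
  {ι : Type} {J : ι → Fin k} {X Y : ι → Fin n} {t r : ι → G}

theorem two_eq {a : ZMod 2} (h : a ≠ 0) : a = 1 := by
  revert a; decide

/-- the coordinates of `u i` -/
theorem e_u_val (h : SyT T H Q V D o e) (c : SyT.Ch T H V D o e J X Y t r) (i l : ι) [Decidable (l = i)] :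
    e (u H V D e (J i) (X i) (Y i)) (J l) (X l) = (if l = i then 1 else 0) ∧
      e (u H V D e (J i) (X i) (Y i)) (J l) (Y l) = (if l = i then 1 else 0) := by
  have h1 := h.e_u (J i) (X i) (Y i)
  rw [h1]
  have hxy := (c.tr i).1
  by_cases hli : l = i
  · subst hli
    rw [if_pos rfl]
    constructor
    · rw [Pi.add_apply, Pi.add_apply, E_self, E_ne fun h => hxy h.2, add_zero]
    · rw [Pi.add_apply, Pi.add_apply, E_self, E_ne fun h => hxy h.2.symm, zero_add]
  · rw [if_neg hli]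
    by_cases hJ : J l = J i
    · obtain ⟨a1, a2, a3, a4⟩ := c.cases h hli hJ
      constructor
      · rw [Pi.add_apply, Pi.add_apply, E_ne fun h => a1 h.2, E_ne fun h => a2 h.2, add_zero]
      · rw [Pi.add_apply, Pi.add_apply, E_ne fun h => a3 h.2, E_ne fun h => a4 h.2, add_zero]
    · constructor
      · rw [Pi.add_apply, Pi.add_apply, E_ne fun h => hJ h.1, E_ne fun h => hJ h.1, add_zero]
      · rw [Pi.add_apply, Pi.add_apply, E_ne fun h => hJ h.1, E_ne fun h => hJ h.1, add_zero]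

theorem D_le_V1 (h : SyT T H Q V D o e) (c : SyT.Ch T H V D o e J X Y t r) : D ≤ V1 T V := fun v hv =>
  mem_V1.2 ⟨h.DV hv, fun j hj => (mem_centralizer_iff.1 (c.EE_cent h (c.Jt h hj)) v (Or.inr hv)).symm⟩

theorem u_mem_V1 (h : SyT T H Q V D o e) (c : SyT.Ch T H V D o e J X Y t r) (i : ι) :
    u H V D e (J i) (X i) (Y i) ∈ V1 T V :=
  mem_V1.2 ⟨h.u_mem _ _ _, fun j hj =>
    (mem_centralizer_iff.1 (c.EE_cent h (c.Jt h hj)) _ (Or.inl ⟨i, rfl⟩)).symm⟩

/-- vectors of `V₁` with given coordinates -/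
theorem exists_V1 (h : SyT T H Q V D o e) (c : SyT.Ch T H V D o e J X Y t r) [Finite ι] (f : ι → ZMod 2) :
    ∃ w ∈ V1 T V, ∀ l, e w (J l) (X l) = f l ∧ e w (J l) (Y l) = f l := by
  classical
  have := Fintype.ofFinite ι
  have key : ∀ s : Finset ι, ∃ w ∈ V1 T V, ∀ l, e w (J l) (X l) = (if l ∈ s then f l else 0) ∧
      e w (J l) (Y l) = (if l ∈ s then f l else 0) := by
    intro s
    induction s using Finset.induction_on with
    | empty =>
      refine ⟨1, one_mem _, fun l => ?_⟩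
      rw [h.e_one]
      simp
    | insert i s hi ih =>
      obtain ⟨w, hw, hwl⟩ := ih
      by_cases hf : f i = 0
      · refine ⟨w, hw, fun l => ?_⟩
        rw [(hwl l).1, (hwl l).2]
        by_cases hl : l = i
        · subst hl
          simp [hi, hf]
        · simp [hl]
      · refine ⟨w * u H V D e (J i) (X i) (Y i), mul_mem hw (u_mem_V1 h c i), fun l => ?_⟩
        obtain ⟨h1, h2⟩ := e_u_val h c i l
        rw [h.mul w hw.1 _ (h.u_mem _ _ _), Pi.add_apply, Pi.add_apply, Pi.add_apply, h1, h2, (hwl l).1, (hwl l).2]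
        by_cases hl : l = i
        · subst hl
          simp [hi, two_eq hf]
        · simp [hl]
  obtain ⟨w, hw, h1⟩ := key Finset.univ
  exact ⟨w, hw, fun l => by simpa using h1 l⟩

/-- a vector of `V` is determined modulo `D` by its coordinates at the transposed points -/
theorem mem_D_of (h : SyT T H Q V D o e) (c : SyT.Ch T H V D o e J X Y t r) {v : G} (hv : v ∈ V)
    (h1 : ∀ l, e v (J l) (X l) = 0 ∧ e v (J l) (Y l) = 0) : v ∈ D := by
  rw [← h.ker v hv]
  have key : ∀ j x, x ≠ o → e v j x = 0 := by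
    intro j x hx
    obtain ⟨y, hy⟩ := h.cover SymCyc.exists_pow j hx
    obtain ⟨i, hiJ, -, -, hi⟩ := c.exists_idx h hy
    rcases hi with ⟨hi, -⟩ | ⟨-, hi⟩
    · rw [← hiJ, ← hi]; exact (h1 i).1
    · rw [← hiJ, ← hi]; exact (h1 i).2
  funext j x
  by_cases hx : x = o
  · subst hx
    have h2 := h.even v hv j
    rw [Finset.sum_eq_single x (fun y _ hy => key j y hy) (fun hx => absurd (Finset.mem_univ x) hx)] at h2
    exact h2
  · exact key j x hx

/-- the coordinates of the vectors fixed by `J(T)` -/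
theorem e_V1 (h : SyT T H Q V D o e) (c : SyT.Ch T H V D o e J X Y t r) {v : G} (hv : v ∈ V1 T V) (l : ι) :
    e v (J l) (X l) = e v (J l) (Y l) := by
  have h1 := (mem_V1.1 hv).2 (t l) (c.tJ l)
  have h2 := (c.tg l).act v hv.1 (J l) (Y l)
  rw [Equiv.Perm.one_apply, Pi.mulSingle_eq_same, Equiv.swap_apply_right, h1, mul_inv_cancel_right] at h2
  exact h2

theorem mem_V1_of (h : SyT T H Q V D o e) (c : SyT.Ch T H V D o e J X Y t r) [Finite ι] {v : G} (hv : v ∈ V)
    (h1 : ∀ l, e v (J l) (X l) = e v (J l) (Y l)) : v ∈ V1 T V := by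
  obtain ⟨w, hw, h2⟩ := exists_V1 h c fun l => e v (J l) (X l)
  have h3 : v * w ∈ D := by
    refine mem_D_of h c (mul_mem hv hw.1) fun l => ?_
    rw [h.mul v hv w hw.1, Pi.add_apply, Pi.add_apply, Pi.add_apply, (h2 l).1, (h2 l).2, ← h1 l]
    exact ⟨CharTwo.add_self_eq_zero _, CharTwo.add_self_eq_zero _⟩
  have h4 := mul_mem (D_le_V1 h c h3) (inv_mem hw)
  rwa [mul_inv_cancel_right] at h4

theorem symCard1 (h : SyT T H Q V D o e) (c : SyT.Ch T H V D o e J X Y t r) [Finite ι] :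
    Nat.card (V1 T V) = Nat.card D * Nat.card (ι → ZMod 2) := by
  refine card_of_map (fun (v : G) (i : ι) => e v (J i) (X i)) ?_ (D_le_V1 h c) ?_ ?_
  · intro v hv w hw
    funext i
    show e (v * w) (J i) (X i) = e v (J i) (X i) + e w (J i) (X i)
    rw [h.mul v hv.1 w hw.1]; rfl
  · intro v hv
    constructor
    · intro h1
      refine mem_D_of h c hv.1 fun l => ?_
      rw [← e_V1 h c hv l]
      exact ⟨congrFun h1 l, congrFun h1 l⟩
    · intro h1
      funext i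
      show e v (J i) (X i) = 0
      rw [(h.ker v hv.1).2 h1]; rfl
  · intro f
    obtain ⟨w, hw, h1⟩ := exists_V1 h c f
    exact ⟨w, hw, funext fun l => (h1 l).1⟩

theorem symCard (h : SyT T H Q V D o e) (c : SyT.Ch T H V D o e J X Y t r) [Finite ι] :
    Nat.card V ≤ Nat.card (V1 T V) * Nat.card (ι → ZMod 2) := by
  rw [← card_mul_relIndex (inf_le_left : V1 T V ≤ V)]
  refine Nat.mul_le_mul_left _ (relIndex_le_card (fun (v : V) (i : ι) =>
    e (v : G) (J i) (X i) + e (v : G) (J i) (Y i)) fun x y hxy => ?_)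
  refine mem_V1_of h c (mul_mem (inv_mem x.2) y.2) fun l => ?_
  rw [h.mul _ (inv_mem x.2) _ y.2, h.e_inv x.2]
  have h1 : e (x : G) (J l) (X l) + e (x : G) (J l) (Y l) = e (y : G) (J l) (X l) + e (y : G) (J l) (Y l) :=
    congrFun hxy l
  have h2 := CharTwo.add_self_eq_zero (e (y : G) (J l) (X l))
  have h3 := CharTwo.add_self_eq_zero (e (x : G) (J l) (Y l))
  simp only [Pi.add_apply]
  linear_combination h1 + h2 - h3

/-- the elements of `T` centralising `V₁` -/
theorem symCen (h : SyT T H Q V D o e) (c : SyT.Ch T H V D o e J X Y t r) [Finite ι] :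
    Q.relIndex (T ⊓ centralizer (V1 T V : Set G)) ≤ Nat.card (ι → ZMod 2) := by
  classical
  have key : ∀ x : (T ⊓ centralizer (V1 T V : Set G) : Subgroup G), ∃ τ, Gd H V D e τ x ∧ (∀ j, τ j o = o) ∧ ∀ i,
      (τ (J i) (X i) = X i ∧ τ (J i) (Y i) = Y i) ∨ (τ (J i) (X i) = Y i ∧ τ (J i) (Y i) = X i) := by
    rintro ⟨x, hx, hxc⟩
    have hxc' : ∀ v ∈ V1 T V, x * v = v * x := fun v hv => (mem_centralizer_iff.1 hxc v hv).symm
    obtain ⟨σ, τ, hxa, h0⟩ := h.exists_act hx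
    have key : ∀ j a b, SyT.Tr T H V D e j a b → σ j = j ∧
        ((τ j a = a ∧ τ j b = b) ∨ (τ j a = b ∧ τ j b = a)) := by
      intro j a b hT
      obtain ⟨i, -, -, hi, -⟩ := c.exists_idx h hT
      have h1 := h.u_conj (h.TH hx) hxa j a b
      have h2 := hxc' _ (u_mem_V1 h c i)
      rw [hi] at h2
      have h3 : u H V D e (σ j) (τ j a) (τ j b) = u H V D e j a b := by
        rw [← h1, h2]; group
      exact h.u_inj (fun e => hT.1 ((τ j).injective e)) h3
    have hσ : σ = 1 := by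
      ext j
      obtain ⟨z, hz, -⟩ := h.exists_third o o
      obtain ⟨y, hy⟩ := h.cover SymCyc.exists_pow j hz
      rw [(key j z y hy).1]; rfl
    subst hσ
    exact ⟨τ, ⟨h.TH hx, fun d hd => hxc' d (D_le_V1 h c hd), hxa⟩, h0, fun i => (key _ _ _ (c.tr i)).2⟩
  choose f hf h0 hf' using key
  refine relIndex_le_card (fun x i => if f x (J i) (X i) = X i then (0 : ZMod 2) else 1) fun x y hxy => ?_
  have h1 : f x = f y := by
    funext j
    ext1 z
    by_cases hz : z = o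
    · rw [hz, h0, h0]
    · obtain ⟨z', hz'⟩ := h.cover SymCyc.exists_pow j hz
      obtain ⟨i, hiJ, -, -, hi⟩ := c.exists_idx h hz'
      have hne := (c.tr i).1
      have h2 := congrFun hxy i
      have h3 : (f x (J i) (X i) = X i) ↔ (f y (J i) (X i) = X i) := by
        by_cases h4 : f x (J i) (X i) = X i <;> by_cases h5 : f y (J i) (X i) = X i
        · exact ⟨fun _ => h5, fun _ => h4⟩
        · simp [h4, h5] at h2
        · simp [h4, h5] at h2
        · exact ⟨fun h => absurd h h4, fun h => absurd h h5⟩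
      have h6 : f x (J i) (X i) = f y (J i) (X i) ∧ f x (J i) (Y i) = f y (J i) (Y i) := by
        rcases hf' x i with ⟨a1, a2⟩ | ⟨a1, a2⟩ <;> rcases hf' y i with ⟨b1, b2⟩ | ⟨b1, b2⟩
        · exact ⟨a1.trans b1.symm, a2.trans b2.symm⟩
        · exact absurd ((h3.1 a1).symm.trans b1) hne
        · exact absurd ((h3.2 b1).symm.trans a1) hne
        · exact ⟨a1.trans b1.symm, a2.trans b2.symm⟩
      rw [← hiJ]
      rcases hi with ⟨hi, -⟩ | ⟨-, hi⟩
      · rw [← hi]; exact h6.1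
      · rw [← hi]; exact h6.2
  have h2 := h.gd_mul (h.gd_inv (hf x)) (hf y)
  rw [h1, inv_mul_cancel] at h2
  refine h.cT _ (mul_mem (inv_mem x.2.1) y.2.1) fun v hv => ?_
  have h3 := h.gd_sim h2 h.gd_one v hv
  rw [one_mul, inv_one, mul_one] at h3
  calc (x : G)⁻¹ * y * v = ((x : G)⁻¹ * y * v * ((x : G)⁻¹ * y)⁻¹) * ((x : G)⁻¹ * y) := by group
    _ = v * ((x : G)⁻¹ * y) := by rw [h3]

end sym

/-! ### The result -/

variable [Finite G] {S : Sylow 2 G} {R : Subgroup G}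

/-- **A member of `P*(S)` with `J(S) ≰ O₂(R)`.** -/
theorem pt_of (hFF : FFThm.Stmt.{u}) (hG : IsCharacteristicTwoType G) (hR : IsParS (S : Subgroup G) R)
    (hJ : ¬ jj (S : Subgroup G) ≤ o2 R) : Pt (S : Subgroup G) R := by
  have hsyl := syl_of hR
  have hch := hR.isLoc.char2 S hG
  have hm := minH hG hR
  have hJC : ¬ jj (S : Subgroup G) ≤ centralizer (zl (S : Subgroup G) R : Set G) := by
    intro hle
    apply hJ
    rw [← IsParS.inf_centralizer S hG hR]
    exact le_inf (jj_le _) hle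
  obtain ⟨A, hA, hAV⟩ : ∃ A ∈ AA (S : Subgroup G), ¬ A ≤ centralizer (zl (S : Subgroup G) R : Set G) := by
    by_contra hcon
    push Not at hcon
    apply hJC
    rw [jj_eq]
    exact sSup_le hcon
  have hoff : Off (zl (S : Subgroup G) R) A := SQ1.FFOf.off_of_AA hm hA hAV
  obtain ⟨hno, hcon⟩ := hFF G (S : Subgroup G) R hsyl hR.toIsMinPar hch ⟨A, hA.2.1.trans hsyl.1, hoff⟩
  rcases hcon with ⟨F, _, _, _, k, hk, ⟨M⟩⟩ | ⟨k, m, hk, hm2, ⟨M⟩⟩
  · have : Nonempty (Fin k) := ⟨⟨0, hk⟩⟩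
    let N := (natKB_of hsyl hch hJ hk M).toFFK hm
    have h1 := natCen hm N
    have h2 := natCard hm N
    have h3 := natCard1 hm N
    refine ⟨hno, h1.trans ?_, ?_⟩
    · rw [h3]
      exact Nat.le_mul_of_pos_left _ Nat.card_pos
    · rw [h2, pow_two, mul_assoc]
      refine Nat.mul_le_mul_left _ ?_
      rw [h3, mul_comm]
  · have hcs : (R ⊓ centralizer (zl (S : Subgroup G) R : Set G)) ⊔ (S : Subgroup G) ≠ R := by
      intro e
      apply hR.not_zc
      rw [← e]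
      refine sup_le ?_ ?_
      · exact (inf_le_right.trans (centralizer_le (zc_le_zl _ _))).trans (centralizer_le_normalizer _)
      · refine le_trans (fun s hs => ?_) (centralizer_le_normalizer _)
        exact mem_centralizer_iff.2 fun z hz => ((mem_zc.1 hz).2.2 s hs).symm
    have h := syT hm hcs ⟨A, hA, hoff⟩ hno M hk (by omega) SQ1.FFOf.cv_le SQ1.FFOf.cv_norm
    obtain ⟨ι, J, X, Y, t, r, c⟩ := h.exists_ch
    have : Finite ι := Finite.of_injective _ fun i j hij => c.inj i j hij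
    have h1 := symCen h c
    have h2 := symCard h c
    have h3 := symCard1 h c
    refine ⟨hno, h1.trans ?_, ?_⟩
    · rw [h3]
      exact Nat.le_mul_of_pos_left _ Nat.card_pos
    · calc _ ≤ Nat.card (V1 (S : Subgroup G) (zl (S : Subgroup G) R)) * Nat.card (ι → ZMod 2) *
            Nat.card (cv (S : Subgroup G) R) := Nat.mul_le_mul_right _ h2
        _ = Nat.card (V1 (S : Subgroup G) (zl (S : Subgroup G) R)) *
            (Nat.card (cv (S : Subgroup G) R) * Nat.card (ι → ZMod 2)) := by ring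
        _ = _ := by rw [← h3, pow_two]

end Cfsg.Agent.Omega.NO3S.Fld

end
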