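import Cfsg.Agent.Mrg.Omega.NO3S.Fld.Mods
import Cfsg.Agent.Mrg.Omega.NO3b.K0.FullOff

section


/-!
# Fld: the facts `Red.Line` from the coordinates

`Crd.line` : if some element of `S` moves `R`, then `Red.Line S V R Rs q r` with `q = |F| = r²` and
`Rs = {(a, 0) : φ a = a}`, `φ` the involution of `Aut F`; `Crd.S_Rs` : `Rs` is normalised by `S`.
-/

set_option autoImplicit false
set_option linter.unusedSectionVars false
set_option linter.unusedVariables false

namespace Cfsg.Agent.Omega.NO3S.Fld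

open Subgroup Cfsg Cfsg.Agent.ZN Cfsg.Agent.ZN.ChoiceBase Cfsg.Agent.Omega.MinPar
open Cfsg.Agent.Omega.NatPair (ext2)
open Cfsg.Agent.Omega.NO3S.OneLine (conj_mem card_mul_relIndex)

universe u

variable {G : Type u} [Group G]

namespace Crd

variable {F : Type*} [Field F] {S P V : Subgroup G} (M : Crd F S P V)

/-- an involution of `Aut F` -/
theorem exists_involution [Finite F] (hS : IsPGroup 2 S) (hne : ¬ S ≤ centralizer (M.R : Set G)) :
    ∃ φ : F ≃+* F, φ ≠ RingEquiv.refl F ∧ ∀ x, φ (φ x) = x := by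
  obtain ⟨s, hs, hsR⟩ := SetLike.not_le_iff_exists.1 hne
  obtain ⟨n, hn⟩ := hS ⟨s, hs⟩
  have h1 : M.sgHom ⟨s, hs⟩ ^ 2 ^ n = 1 := by rw [← map_pow, hn, map_one]
  have h0 : M.sgHom ⟨s, hs⟩ ≠ 1 := fun h => hsR (M.sgHom_eq_one.1 h)
  classical
  have hex : ∃ n, M.sgHom ⟨s, hs⟩ ^ 2 ^ n = 1 := ⟨n, h1⟩
  obtain ⟨m, hm⟩ : ∃ m, Nat.find hex = m + 1 := by
    refine Nat.exists_eq_succ_of_ne_zero fun h2 => h0 ?_
    have h3 := Nat.find_spec hex
    rw [h2, pow_zero, pow_one] at h3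
    exact h3
  have h2 := Nat.find_spec hex
  have h3 : M.sgHom ⟨s, hs⟩ ^ 2 ^ m ≠ 1 := Nat.find_min hex (by omega)
  rw [hm, pow_succ, pow_mul] at h2
  refine ⟨M.sgHom ⟨s, hs⟩ ^ 2 ^ m, h3, fun x => ?_⟩
  rw [pow_two] at h2
  exact congrArg (fun τ : F ≃+* F => τ x) h2

/-- `{(a, 0) : φ a = a}` -/
def Rs (φ : F ≃+* F) : Subgroup G where
  carrier := {g | ∃ a : F, φ a = a ∧ M.e ![a, 0] = g}
  mul_mem' := by
    rintro _ _ ⟨a, ha, rfl⟩ ⟨b, hb, rfl⟩
    refine ⟨a + b, by rw [map_add, ha, hb], ?_⟩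
    rw [← M.e_add]
    congr 1
    apply ext2 <;> simp
  one_mem' := ⟨0, map_zero _, by
    rw [← M.e_zero]
    congr 1
    apply ext2 <;> simp⟩
  inv_mem' := by
    rintro _ ⟨a, ha, rfl⟩
    refine ⟨-a, by rw [map_neg, ha], ?_⟩
    rw [← M.e_neg]
    congr 1
    apply ext2 <;> simp

theorem mem_Rs {φ : F ≃+* F} {g : G} : g ∈ M.Rs φ ↔ ∃ a : F, φ a = a ∧ M.e ![a, 0] = g := Iff.rfl

theorem e_mem_Rs {φ : F ≃+* F} {x : Fin 2 → F} : M.e x ∈ M.Rs φ ↔ φ (x 0) = x 0 ∧ x 1 = 0 := by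
  rw [mem_Rs]
  constructor
  · rintro ⟨a, ha, h⟩
    rw [← M.e_inj h]
    exact ⟨ha, rfl⟩
  · rintro ⟨h, h1⟩
    exact ⟨x 0, h, congrArg M.e (ext2 rfl h1.symm)⟩

theorem Rs_le (φ : F ≃+* F) : M.Rs φ ≤ M.R := by
  rintro _ ⟨a, -, rfl⟩
  exact ⟨a, rfl⟩

/-- automorphisms of a finite field commute -/
theorem comm_aut [Finite F] (σ τ : F ≃+* F) (x : F) : σ (τ x) = τ (σ x) := by
  have hc : IsCyclic (F ≃+* F) := LieRecognition.FieldSemilinear.isCyclic_ringAut F
  let _ : CommGroup (F ≃+* F) := IsCyclic.commGroup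
  have h1 : σ * τ = τ * σ := mul_comm σ τ
  exact congrArg (fun ρ : F ≃+* F => ρ x) h1

theorem S_Rs [Finite F] (φ : F ≃+* F) : S ≤ normalizer (M.Rs φ : Set G) := by
  have key : ∀ s ∈ S, ∀ v ∈ M.Rs φ, s * v * s⁻¹ ∈ M.Rs φ := by
    rintro s hs _ ⟨a, ha, rfl⟩
    obtain ⟨σ, c, h⟩ := M.exists_act hs
    rw [h, M.e_mem_Rs]
    refine ⟨?_, by simp⟩
    have e : (![σ ((![a, 0] : Fin 2 → F) 0) + c * σ ((![a, 0] : Fin 2 → F) 1), σ ((![a, 0] : Fin 2 → F) 1)] :
        Fin 2 → F) 0 = σ a := by simp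
    rw [e, comm_aut, ha]
  intro s hs
  rw [mem_normalizer_iff]
  refine fun v => ⟨key s hs v, fun h => ?_⟩
  have := key s⁻¹ (inv_mem hs) _ h
  have e : s⁻¹ * (s * v * s⁻¹) * s⁻¹⁻¹ = v := by group
  rwa [e] at this

theorem El.sqR {D : Subgroup G} (h : Red.El D) (X : Subgroup G) : ∀ a ∈ D, a ^ 2 ∈ centralizer (X : Set G) :=
  fun a ha => by rw [h.sq a ha]; exact one_mem _

/-- **`Red.Line`.** -/
theorem line [Finite G] [Finite F] [CharP F 2] {φ : F ≃+* F} (hφ1 : φ ≠ RingEquiv.refl F)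
    (hφ2 : ∀ x, φ (φ x) = x) :
    Red.Line S V M.R (M.Rs φ) (Nat.card F) (Nat.card {x : F // φ x = x}) := by
  have hq : Nat.card {x : F // φ x = x} * Nat.card {x : F // φ x = x} = Nat.card F := card_fixed hφ1 hφ2
  set r := Nat.card {x : F // φ x = x} with hr
  have hr0 : 0 < r := by
    rw [hr]
    have : Nonempty {x : F // φ x = x} := ⟨⟨0, map_zero _⟩⟩
    exact Nat.card_pos
  have hphi : ∀ s ∈ S, s ^ 2 ∈ centralizer (V : Set G) → s ∉ centralizer (M.R : Set G) → ∃ c, M.Act s φ c := by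
    intro s hs h2 hsR
    obtain ⟨σ, c, h⟩ := M.exists_act hs
    have h1 : σ ≠ RingEquiv.refl F := fun h0 => hsR (h.mem_centR.2 h0)
    have h3 : ∀ x, σ (σ x) = x := by
      intro x
      have h4 : s * s ∈ centralizer (M.R : Set G) := by rw [← pow_two]; exact centralizer_le M.R_le h2
      exact congrArg (fun τ : F ≃+* F => τ x) ((h.mul h).mem_centR.1 h4)
    obtain rfl := inv_unique h1 h3 hφ1 hφ2
    exact ⟨c, h⟩
  refine ⟨M.R_le, M.Rs_le φ, ?_, ?_, ?_, ?_, ?_, ?_, ?_⟩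
  · intro D hD hE hn
    exact M.relIndex_two hD (fun a ha => centralizer_le M.R_le (hE.sq a ha)) hn
  · intro D hD hE hn
    have h1 := M.card_fixR_D hD (fun a ha => centralizer_le M.R_le (hE.sq a ha)) hn
    have h2 := card_mul_relIndex (inf_le_left : M.R ⊓ centralizer (D : Set G) ≤ M.R)
    rw [inf_relIndex_left, M.card_R] at h2
    set n := Nat.card ↥(M.R ⊓ centralizer (D : Set G)) with hn'
    have hn0 : 0 < n := Nat.card_pos
    have h3 : n = r := by
      have h4 : n * n = r * r := h1.trans hq.symm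
      exact Nat.mul_self_inj.1 h4
    rw [h3] at h2
    have h5 : r * (centralizer (D : Set G)).relIndex M.R = r * r := h2.trans hq.symm
    exact (Nat.eq_of_mul_eq_mul_left hr0 h5).ge
  · rintro D hD hE _ ⟨a, rfl⟩ d hd
    have e : M.e ![a, 0] * d * (M.e ![a, 0])⁻¹ * d⁻¹ = (d * M.e ![a, 0] * d⁻¹ * (M.e ![a, 0])⁻¹)⁻¹ := by group
    rw [e]
    refine inv_mem ?_
    by_cases hdR : d ∈ centralizer (M.R : Set G)
    · have h1 : d * M.e ![a, 0] = M.e ![a, 0] * d := (mem_centralizer_iff.1 hdR _ ⟨a, rfl⟩).symm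
      have e2 : d * M.e ![a, 0] * d⁻¹ * (M.e ![a, 0])⁻¹ = 1 := by rw [h1]; group
      rw [e2]
      exact one_mem _
    · obtain ⟨c, h⟩ := hphi d (hD hd) (hE.sq d hd) hdR
      rw [h, ← M.e_sub, M.e_mem_Rs]
      have e1 : (![φ ((![a, 0] : Fin 2 → F) 0) + c * φ ((![a, 0] : Fin 2 → F) 1), φ ((![a, 0] : Fin 2 → F) 1)] -
        ![a, 0] : Fin 2 → F) 0 = φ a - a := by simp
      have e2 : (![φ ((![a, 0] : Fin 2 → F) 0) + c * φ ((![a, 0] : Fin 2 → F) 1), φ ((![a, 0] : Fin 2 → F) 1)] -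
        ![a, 0] : Fin 2 → F) 1 = 0 := by simp
      refine ⟨?_, e2⟩
      rw [e1, map_sub, hφ2, CharTwo.sub_eq_add, CharTwo.sub_eq_add, add_comm]
  · intro D hD hR hn
    obtain ⟨d, hd, hdV⟩ := SetLike.not_le_iff_exists.1 hn
    have h1 : V ⊓ centralizer (D : Set G) ≤ M.R := by
      rintro v ⟨hv, hvD⟩
      exact M.fix (hD hd) (hR hd) hdV hv (mem_centralizer_iff.1 hvD d hd)
    have h2 := card_mul_relIndex (inf_le_left : V ⊓ centralizer (D : Set G) ≤ V)
    rw [inf_relIndex_left, M.card_V] at h2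
    have h3 := Subgroup.card_le_of_le h1
    rw [M.card_R] at h3
    have hF0 : 0 < Nat.card F := Nat.card_pos
    by_contra hlt
    rw [not_le] at hlt
    have h4 : Nat.card ↥(V ⊓ centralizer (D : Set G)) * (centralizer (D : Set G)).relIndex V <
        Nat.card F * Nat.card F :=
      lt_of_le_of_lt (Nat.mul_le_mul_right _ h3) (Nat.mul_lt_mul_of_pos_left hlt hF0)
    omega
  · intro D hD hR
    exact M.relIndex_le (le_inf hD hR)
  · intro D hD hR s hs h2 hsR hc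
    obtain ⟨c, h⟩ := hphi s hs h2 hsR
    have h3 := M.relIndex_sq_le (le_inf hD hR) h hφ1 hφ2 fun d hd => by
      have h4 := inv_mem (hc d hd)
      have e : (d * s * d⁻¹ * s⁻¹)⁻¹ = s * d * s⁻¹ * d⁻¹ := by group
      rwa [e] at h4
    rw [← hq] at h3
    exact Nat.mul_self_le_mul_self_iff.1 h3
  · intro K hK s hs h2 hsR hc
    obtain ⟨c, h⟩ := hphi s hs h2 hsR
    have h1 : K ≤ M.fixV h := by
      intro v hv
      rw [M.mem_fixV]
      refine ⟨hK hv, ?_⟩
      have e : s * v * s⁻¹ * v⁻¹ = (v * s * v⁻¹ * s⁻¹)⁻¹ := by group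
      rw [e]
      exact inv_mem (hc v hv)
    have h3 := Subgroup.card_le_of_le h1
    rw [M.card_fixV h, ← hr] at h3
    have h4 := card_mul_relIndex hK
    rw [M.card_V] at h4
    have hF0 : 0 < Nat.card F := Nat.card_pos
    by_contra hlt
    rw [not_le] at hlt
    have h5 : Nat.card K * K.relIndex V < Nat.card F * Nat.card F := by
      calc Nat.card K * K.relIndex V ≤ Nat.card F * r * K.relIndex V := Nat.mul_le_mul_right _ h3
        _ < Nat.card F * r * r := Nat.mul_lt_mul_of_pos_left hlt (Nat.mul_pos hF0 hr0)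
        _ = Nat.card F * Nat.card F := by rw [mul_assoc, hq]
    omega

end Crd

end Cfsg.Agent.Omega.NO3S.Fld

end

section


/-!
# Fld: the facts from `J(S) ≰ O₂(P)`

`M : Crd F S P V`, `V = V_P`, `R = M.R`, `B = S ∩ C(R)`, `J(S) ≰ O₂(P)`, `|F| ≥ 4`; `|Z|` arbitrary.

* `AA_le_centR` : every `A ∈ A(S)` centralises `R`;
* `BR S P B R` : the output (the analogue of `OneLine.Blk` over `B`): `C_V(b) = R` for `b ∈ B - O₂(P)`, `[V, B] ≤ R`,
  `|V : R| = |B : O₂(P)|`; `br_of`;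
* `BR.replace`, `BR.zc_o2` : `Ω₁(Z(O₂(P))) = V`; `BR.zj_eq` : `Ω₁(Z(J(S))) = R`.
-/

set_option autoImplicit false
set_option linter.unusedSectionVars false
set_option linter.unusedVariables false

namespace Cfsg.Agent.Omega.NO3S.Fld

open Subgroup Cfsg Cfsg.Agent.ZN Cfsg.Agent.ZN.ChoiceBase Cfsg.Agent.Omega.MinPar
open Cfsg.Agent.ZN.ChoiceSit (Syl o2_le_syl)
open Cfsg.Agent.Omega.SQ1.Bau (mem_AA_of_comm zj_le_AA elem_comm elem_sq mem_sup_comm card_sup_comm mem_sup_norm)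
open Cfsg.Agent.PLocal.ElemAbSup Cfsg.Agent.PLocal.ThompsonJ
open Cfsg.Agent.MinSimple.VModule (zc_le zc_le_zl zl_le le_o2 le_normalizer_zl le_normalizer_o2)
open Cfsg.Agent.Omega.NatPair (ext2)
open Cfsg.Agent.Omega.NO3S.OneLine (conj_mem card_mul_relIndex minH exists_fixed zc_elem o2_le card_sup_norm)

universe u

variable {G : Type u} [Group G]

theorem elem_of {A : Subgroup G} (hA : IsElementaryAbelian 2 A) : Red.El A :=
  ⟨elem_sq hA, fun a ha b hb => elem_comm hA a ha b hb⟩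

namespace Crd

variable {F : Type*} [Field F] {S P V : Subgroup G} (M : Crd F S P V)

/-- `|C_V(s)| ≤ q` for `s ∈ S` inducing an involution on `F` -/
theorem card_fix_le [Finite G] [Finite F] [CharP F 2] {s : G} {σ : F ≃+* F} {c : F} (h : M.Act s σ c)
    (h1 : σ ≠ RingEquiv.refl F) (h2 : ∀ x, σ (σ x) = x) :
    Nat.card ↥(V ⊓ centralizer ({s} : Set G)) ≤ Nat.card F := by
  have hq := card_fixed h1 h2
  set r := Nat.card {x : F // σ x = x} with hr
  have h3 := card_sup_comm (A := V ⊓ centralizer ({s} : Set G)) (B := M.R)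
    fun a ha b hb => M.comm ha.1 (M.R_le hb)
  have h4 : (V ⊓ centralizer ({s} : Set G)) ⊓ M.R = M.R ⊓ centralizer ({s} : Set G) := by
    apply le_antisymm
    · rintro x ⟨⟨-, hx⟩, hx'⟩
      exact ⟨hx', hx⟩
    · rintro x ⟨hx, hx'⟩
      exact ⟨⟨M.R_le hx, hx'⟩, hx⟩
  have h5 : (V ⊓ centralizer ({s} : Set G)) ⊔ M.R ≤ M.fixV h := by
    refine sup_le ?_ ?_
    · rintro v ⟨hv, hvs⟩
      rw [M.mem_fixV]
      refine ⟨hv, ?_⟩
      have h6 : s * v = v * s := (mem_centralizer_singleton_iff.1 hvs).symm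
      have e : s * v * s⁻¹ * v⁻¹ = 1 := by rw [h6]; group
      rw [e]
      exact one_mem _
    · rintro _ ⟨a, rfl⟩
      exact ⟨![a, 0], by simp, rfl⟩
  have h6 := Subgroup.card_le_of_le h5
  rw [M.card_fixV h, ← hr] at h6
  rw [h4, M.card_fixR h, ← hr, M.card_R] at h3
  have hF0 : 0 < Nat.card F := Nat.card_pos
  have h7 : Nat.card F * Nat.card ↥(V ⊓ centralizer ({s} : Set G)) ≤ Nat.card F * Nat.card F := by
    calc Nat.card F * Nat.card ↥(V ⊓ centralizer ({s} : Set G))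
        = Nat.card ↥(V ⊓ centralizer ({s} : Set G)) * Nat.card F := mul_comm _ _
      _ = Nat.card ↥((V ⊓ centralizer ({s} : Set G)) ⊔ M.R) * r := h3.symm
      _ ≤ Nat.card F * r * r := Nat.mul_le_mul_right _ h6
      _ = Nat.card F * Nat.card F := by rw [mul_assoc, hq]
  exact Nat.le_of_mul_le_mul_left h7 hF0

end Crd

section

variable [Finite G] {S : Sylow 2 G} {P : Subgroup G} {F : Type*} [Field F] [Finite F] [CharP F 2]

/-- **Every `A ∈ A(S)` centralises `R`.** -/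
theorem AA_le_centR (hG : IsCharacteristicTwoType G) (hP : IsParS (S : Subgroup G) P)
    (M : Crd F (S : Subgroup G) P (zl (S : Subgroup G) P)) {A : Subgroup G} (hA : A ∈ AA (S : Subgroup G)) :
    A ≤ centralizer (M.R : Set G) := by
  by_contra hn
  have hE := elem_of hA.1
  have hsq := fun a ha => (Crd.El.sqR hE (M.R : Subgroup G)) a ha
  obtain ⟨φ, h1, h2, h3⟩ := M.exists_phi hA.2.1 hsq hn
  obtain ⟨a, ha, haR⟩ := SetLike.not_le_iff_exists.1 hn
  obtain ⟨c, hc⟩ := h3 a ha haR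
  have hq := card_fixed h1 h2
  set r := Nat.card {x : F // φ x = x} with hr
  have hr2 : 2 ≤ r := by
    have h4 : Nat.card (Fin 2) ≤ r := by
      refine Nat.card_le_card_of_injective (fun i : Fin 2 => (if i = 0 then ⟨0, map_zero φ⟩ else ⟨1, map_one φ⟩ :
        {x : F // φ x = x})) ?_
      intro i j hij
      fin_cases i <;> fin_cases j
      · rfl
      · exact absurd (congrArg Subtype.val hij) (by simp)
      · exact absurd (congrArg Subtype.val hij) (by simp)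
      · rfl
    simpa using h4
  have hoff := SQ1.VOf.off (minH hG hP) hA
  have hD2 := M.relIndex_two hA.2.1 hsq hn
  set D := A ⊓ centralizer (M.R : Set G) with hD
  have hcD : Nat.card D * 2 = Nat.card A := by
    have h4 := card_mul_relIndex (inf_le_left : D ≤ A)
    have h5 : D.relIndex A = 2 := by rw [hD, inf_relIndex_left, hD2]
    rwa [h5] at h4
  have hVR : centralizer (zl (S : Subgroup G) P : Set G) ≤ centralizer (M.R : Set G) := centralizer_le M.R_le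
  have hp : 0 < Nat.card ↥(A ⊓ centralizer (zl (S : Subgroup G) P : Set G)) := Nat.card_pos
  have hVc := M.card_V
  by_cases hDV : D ≤ centralizer (zl (S : Subgroup G) P : Set G)
  · have h4 : A ⊓ centralizer (zl (S : Subgroup G) P : Set G) = D :=
      le_antisymm (le_inf inf_le_left (inf_le_right.trans hVR)) (le_inf inf_le_left hDV)
    have h5 : Nat.card ↥(zl (S : Subgroup G) P ⊓ centralizer (A : Set G)) ≤ Nat.card F :=
      (Subgroup.card_le_of_le (inf_le_inf_left _ (centralizer_le (Set.singleton_subset_iff.2 ha)))).trans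
        (M.card_fix_le hc h1 h2)
    rw [h4, hVc, ← hcD] at hoff
    rw [h4] at hp
    have h6 : Nat.card D * (Nat.card F * Nat.card F) ≤ Nat.card D * (2 * Nat.card F) := by
      calc Nat.card D * (Nat.card F * Nat.card F) = Nat.card F * Nat.card F * Nat.card D := mul_comm _ _
        _ ≤ _ := hoff
        _ ≤ Nat.card F * (Nat.card D * 2) := Nat.mul_le_mul_right _ h5
        _ = _ := by ring
    have h7 := Nat.le_of_mul_le_mul_left h6 hp
    have h8 : Nat.card F ≤ 2 := Nat.le_of_mul_le_mul_right h7 Nat.card_pos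
    rw [← hq] at h8
    have : 2 * 2 ≤ r * r := Nat.mul_le_mul hr2 hr2
    omega
  · have hDB : D ≤ M.B := le_inf (inf_le_left.trans hA.2.1) inf_le_right
    have h4 := M.relIndex_sq_le hDB hc h1 h2 fun d hd => by
      have h5 : a * d = d * a := elem_comm hA.1 a ha d hd.1
      have e : a * d * a⁻¹ * d⁻¹ = 1 := by rw [h5]; group
      rw [e]
      exact one_mem _
    rw [← hq] at h4
    have h5 := Nat.mul_self_le_mul_self_iff.1 h4
    have h6 : Nat.card ↥(zl (S : Subgroup G) P ⊓ centralizer (A : Set G)) ≤ r := by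
      obtain ⟨d, hd, hdV⟩ := SetLike.not_le_iff_exists.1 hDV
      have h7 : zl (S : Subgroup G) P ⊓ centralizer (A : Set G) ≤ M.R ⊓ centralizer ({a} : Set G) := by
        rintro v ⟨hv, hvA⟩
        refine ⟨M.fix (hDB hd).1 (hDB hd).2 hdV hv (mem_centralizer_iff.1 hvA d hd.1),
          mem_centralizer_singleton_iff.2 (mem_centralizer_iff.1 hvA a ha).symm⟩
      have h8 := Subgroup.card_le_of_le h7
      rwa [M.card_fixR hc, ← hr] at h8
    have h7 : Nat.card D ≤ Nat.card ↥(A ⊓ centralizer (zl (S : Subgroup G) P : Set G)) * r := by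
      have h8 := card_mul_relIndex (inf_le_left : D ⊓ centralizer (zl (S : Subgroup G) P : Set G) ≤ D)
      rw [inf_relIndex_left] at h8
      rw [← h8]
      refine Nat.mul_le_mul (Subgroup.card_le_of_le ?_) h5
      exact le_inf (inf_le_left.trans inf_le_left) inf_le_right
    rw [hVc] at hoff
    set C := Nat.card ↥(A ⊓ centralizer (zl (S : Subgroup G) P : Set G)) with hC
    have h8 : C * (Nat.card F * Nat.card F) ≤ C * (2 * Nat.card F) := by
      calc C * (Nat.card F * Nat.card F) = Nat.card F * Nat.card F * C := mul_comm _ _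
        _ ≤ _ := hoff
        _ ≤ r * Nat.card A := Nat.mul_le_mul_right _ h6
        _ ≤ r * (C * r * 2) := Nat.mul_le_mul_left _ (by rw [← hcD]; exact Nat.mul_le_mul_right _ h7)
        _ = C * (2 * (r * r)) := by ring
        _ = _ := by rw [hq]
    have h9 := Nat.le_of_mul_le_mul_left h8 hp
    have h10 : Nat.card F ≤ 2 := Nat.le_of_mul_le_mul_right h9 Nat.card_pos
    rw [← hq] at h10
    have : 2 * 2 ≤ r * r := Nat.mul_le_mul hr2 hr2
    omega

theorem jj_le_centR (hG : IsCharacteristicTwoType G) (hP : IsParS (S : Subgroup G) P)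
    (M : Crd F (S : Subgroup G) P (zl (S : Subgroup G) P)) : jj (S : Subgroup G) ≤ centralizer (M.R : Set G) := by
  rw [jj_eq]
  exact sSup_le fun A hA => AA_le_centR hG hP M hA

end

/-! ### The abstract part over `B` -/

/-- `V_P` has the shape of a natural module over `B`. -/
structure BR (S P B R : Subgroup G) : Prop where
  star : IsParS S P
  BS : B ≤ S
  QB : o2 P ≤ B
  RV : R ≤ zl S P
  RS : S ≤ normalizer (R : Set G)
  AB : ∀ A ∈ AA S, A ≤ B
  cB : ∀ b ∈ B, ∀ r ∈ R, b * r = r * b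
  fix : ∀ a ∈ B, a ∉ o2 P → ∀ v ∈ zl S P, a * v = v * a → v ∈ R
  comm : ∀ a ∈ B, ∀ v ∈ zl S P, a * v * a⁻¹ * v⁻¹ ∈ R
  card : Nat.card (zl S P) = Nat.card R * (o2 P).relIndex B

section blk

variable [Finite G] {S : Sylow 2 G} {P B R : Subgroup G}

theorem br_of {F : Type*} [Field F] [Finite F] [CharP F 2] (hG : IsCharacteristicTwoType G)
    (hP : IsParS (S : Subgroup G) P) (M : Crd F (S : Subgroup G) P (zl (S : Subgroup G) P)) :
    BR (S : Subgroup G) P M.B M.R where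
  star := hP
  BS := inf_le_left
  QB := by
    rw [← IsParS.inf_centralizer S hG hP]
    exact inf_le_inf_left _ (centralizer_le M.R_le)
  RV := M.R_le
  RS := M.S_R
  AB A hA := le_inf hA.2.1 (AA_le_centR hG hP M hA)
  cB b hb r hr := (mem_centralizer_iff.1 hb.2 r hr).symm
  fix a ha haQ v hv hav := by
    refine M.fix ha.1 ha.2 (fun h => haQ ?_) hv hav
    rw [← IsParS.inf_centralizer S hG hP]
    exact ⟨ha.1, h⟩
  comm a ha v hv := M.comm_R ha.1 ha.2 hv
  card := by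
    have h1 : (o2 P).relIndex M.B = Nat.card F := by
      rw [← M.relIndex_B, ← inf_relIndex_right (centralizer (zl (S : Subgroup G) P : Set G)),
        ← inf_relIndex_right (o2 P)]
      congr 1
      rw [← IsParS.inf_centralizer S hG hP]
      apply le_antisymm
      · exact le_inf (inf_le_left.trans inf_le_right) inf_le_right
      · exact le_inf (le_inf (inf_le_right.trans inf_le_left) inf_le_left) inf_le_right
    rw [h1, M.card_V, M.card_R]

namespace BR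

variable (hG : IsCharacteristicTwoType G) (h : BR (S : Subgroup G) P B R)
include hG h

theorem zl_le_zc : zl (S : Subgroup G) P ≤ zc (o2 P) := h.star.isLoc.zl_le S hG

theorem zl_le_o2 : zl (S : Subgroup G) P ≤ o2 P := (zl_le_zc hG h).trans (zc_le _)

theorem zl_elem : IsElementaryAbelian 2 (zl (S : Subgroup G) P) :=
  isElementaryAbelian_mono (zc_elem (o2 P)) (zl_le_zc hG h)

theorem comm_o2 : ∀ a ∈ o2 P, ∀ v ∈ zl (S : Subgroup G) P, a * v = v * a := fun a ha v hv =>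
  (mem_zc.1 (zl_le_zc hG h hv)).2.2 a ha

/-- `R ≤ A` -/
theorem R_le_AA {A : Subgroup G} (hA : A ∈ AA (S : Subgroup G)) : R ≤ A := fun r hr =>
  mem_AA_of_comm hA (h.BS (h.QB (zl_le_o2 hG h (h.RV hr)))) (elem_sq (zl_elem hG h) r (h.RV hr))
    fun a ha => h.cB a (h.AB A hA ha) r hr

omit [Finite G] hG in
theorem exists_not_R (hne : ¬ P ≤ normalizer (R : Set G)) : ∃ v ∈ zl (S : Subgroup G) P, v ∉ R := by
  by_contra hc
  push Not at hc
  have h1 : zl (S : Subgroup G) P = R := le_antisymm hc h.RV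
  exact hne (h1 ▸ le_normalizer_zl _ _)

/-- `A ∩ V = R` for `A ∈ A(S)`, `A ≰ O₂(P)`. -/
theorem inf_eq {A : Subgroup G} (hA : A ∈ AA (S : Subgroup G)) (hAQ : ¬ A ≤ o2 P) :
    A ⊓ zl (S : Subgroup G) P = R := by
  apply le_antisymm
  · rintro v ⟨hvA, hvV⟩
    obtain ⟨a, ha, haQ⟩ := SetLike.not_le_iff_exists.1 hAQ
    exact h.fix a (h.AB A hA ha) haQ v hvV (elem_comm hA.1 a ha v hvA)
  · exact le_inf (R_le_AA hG h hA) h.RV

omit hG in
/-- `|A| ≤ |A ∩ Q| |B : Q|` -/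
theorem card_le {A : Subgroup G} (hA : A ∈ AA (S : Subgroup G)) :
    Nat.card A ≤ Nat.card ↥(A ⊓ o2 P) * (o2 P).relIndex B := by
  have h1 := card_mul_relIndex (inf_le_left : A ⊓ o2 P ≤ A)
  rw [inf_relIndex_left] at h1
  rw [← h1]
  refine Nat.mul_le_mul_left _ (relIndex_le_of_le_right (h.AB A hA) ?_)
  rw [relIndex]
  exact Subgroup.index_ne_zero_of_finite

/-- `(A ∩ Q) V` for an elementary abelian `A ≤ S` with `A ∩ V = R`. -/
theorem card_sup {A : Subgroup G} (hinf : A ⊓ zl (S : Subgroup G) P = R) :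
    Nat.card ↥((A ⊓ o2 P) ⊔ zl (S : Subgroup G) P) = Nat.card ↥(A ⊓ o2 P) * (o2 P).relIndex B := by
  have h2 := card_sup_comm (A := A ⊓ o2 P) (B := zl (S : Subgroup G) P)
    fun a ha v hv => comm_o2 hG h a ha.2 v hv
  have h3 : (A ⊓ o2 P) ⊓ zl (S : Subgroup G) P = R := by
    rw [inf_assoc, inf_eq_right.2 (zl_le_o2 hG h), hinf]
  rw [h3, h.card] at h2
  have hp : 0 < Nat.card R := Nat.card_pos
  have e : Nat.card ↥((A ⊓ o2 P) ⊔ zl (S : Subgroup G) P) * Nat.card R =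
      Nat.card ↥(A ⊓ o2 P) * (o2 P).relIndex B * Nat.card R := by
    rw [h2]; ring
  exact Nat.eq_of_mul_eq_mul_right hp e

theorem sup_elem {A : Subgroup G} (hA : IsElementaryAbelian 2 A) :
    IsElementaryAbelian 2 ((A ⊓ o2 P) ⊔ zl (S : Subgroup G) P : Subgroup G) :=
  isElementaryAbelian_sup (isElementaryAbelian_mono hA inf_le_left) (zl_elem hG h)
    fun v hv => mem_centralizer_iff.2 fun a ha => comm_o2 hG h a ha.2 v hv

theorem sup_le_o2 (A : Subgroup G) : (A ⊓ o2 P) ⊔ zl (S : Subgroup G) P ≤ o2 P :=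
  sup_le inf_le_right (zl_le_o2 hG h)

/-- **Replacement**: `(A ∩ Q) V ∈ A(S)`. -/
theorem replace {A : Subgroup G} (hA : A ∈ AA (S : Subgroup G)) (hAQ : ¬ A ≤ o2 P) :
    (A ⊓ o2 P) ⊔ zl (S : Subgroup G) P ∈ AA (S : Subgroup G) := by
  rw [mem_AA_iff]
  refine ⟨sup_elem hG h hA.1, (sup_le_o2 hG h A).trans (h.QB.trans h.BS), ?_⟩
  rw [card_sup hG h (inf_eq hG h hA hAQ), mm_eq hA]
  exact card_le h hA

/-- `|A| = |A ∩ Q| |B : Q|` -/
theorem card_eq {A : Subgroup G} (hA : A ∈ AA (S : Subgroup G)) (hAQ : ¬ A ≤ o2 P) :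
    Nat.card A = Nat.card ↥(A ⊓ o2 P) * (o2 P).relIndex B := by
  rw [← card_sup hG h (inf_eq hG h hA hAQ), ← mm_eq hA, mm_eq (replace hG h hA hAQ)]

omit hG in
theorem B_norm : B ≤ normalizer (o2 P : Set G) :=
  (h.BS.trans h.star.le).trans (MinSimple.VModule.le_normalizer_o2 P)

/-- `B = A Q` -/
theorem sup_eq {A : Subgroup G} (hA : A ∈ AA (S : Subgroup G)) (hAQ : ¬ A ≤ o2 P) : A ⊔ o2 P = B := by
  have hle := sup_le (h.AB A hA) h.QB
  refine Subgroup.eq_of_le_of_card_ge hle ?_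
  have h1 := card_sup_norm (H := A) (N := o2 P) ((h.AB A hA).trans h.B_norm)
  have h2 := card_eq hG h hA hAQ
  have h3 := card_mul_relIndex h.QB
  rw [h2] at h1
  have hp : 0 < Nat.card ↥(A ⊓ o2 P) := Nat.card_pos
  have e : Nat.card ↥(A ⊔ o2 P) * Nat.card ↥(A ⊓ o2 P) = Nat.card B * Nat.card ↥(A ⊓ o2 P) := by
    rw [h1, ← h3]; ring
  exact (Nat.eq_of_mul_eq_mul_right hp e).ge

/-- (T6) `Ω₁(Z(Q)) = V`, if `Ω₁(Z(B)) ≤ V`. -/
theorem zc_o2 (hB : ∀ y ∈ B, y ^ 2 = 1 → (∀ b ∈ B, b * y = y * b) → y ∈ R) {A : Subgroup G}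
    (hA : A ∈ AA (S : Subgroup G)) (hAQ : ¬ A ≤ o2 P) : zc (o2 P) = zl (S : Subgroup G) P := by
  symm
  refine Subgroup.eq_of_le_of_card_ge (zl_le_zc hG h) ?_
  have hQB := h.QB
  have hc : ∀ a ∈ A ⊓ o2 P, ∀ y ∈ zc (o2 P), a * y = y * a := fun a ha y hy => (mem_zc.1 hy).2.2 a ha.2
  -- `A ∩ Y ≤ R`
  have h1 : (A ⊓ o2 P) ⊓ zc (o2 P) ≤ R := by
    rintro y ⟨⟨hyA, hyQ⟩, hyY⟩
    refine hB y (hQB hyQ) (mem_zc.1 hyY).2.1 fun s hs => ?_
    rw [← sup_eq hG h hA hAQ] at hs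
    obtain ⟨a, ha, x, hx, rfl⟩ := mem_sup_norm ((h.AB A hA).trans h.B_norm) hs
    have e1 := elem_comm hA.1 a ha y hyA
    have e2 := (mem_zc.1 hyY).2.2 x hx
    calc a * x * y = a * (x * y) := mul_assoc _ _ _
      _ = (a * y) * x := by rw [e2, mul_assoc]
      _ = y * (a * x) := by rw [e1, mul_assoc]
  have h2 : IsElementaryAbelian 2 ((A ⊓ o2 P) ⊔ zc (o2 P) : Subgroup G) :=
    isElementaryAbelian_sup (isElementaryAbelian_mono hA.1 inf_le_left) (zc_elem _)
      fun y hy => mem_centralizer_iff.2 fun a ha => hc a ha y hy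
  have hQS := h.QB.trans h.BS
  have h3 := hA.2.2 _ h2 (sup_le (inf_le_right.trans hQS) ((zc_le _).trans hQS))
  have h4 := card_sup_comm hc
  have h5 : Nat.card ↥((A ⊓ o2 P) ⊓ zc (o2 P)) ≤ Nat.card R := Subgroup.card_le_of_le h1
  rw [card_eq hG h hA hAQ] at h3
  rw [h.card]
  have hp : 0 < Nat.card ↥(A ⊓ o2 P) := Nat.card_pos
  have e : Nat.card ↥(A ⊓ o2 P) * Nat.card (zc (o2 P)) ≤
      Nat.card ↥(A ⊓ o2 P) * (Nat.card R * (o2 P).relIndex B) := by
    rw [← h4]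
    calc _ ≤ Nat.card ↥(A ⊓ o2 P) * (o2 P).relIndex B * Nat.card R := Nat.mul_le_mul h3 h5
      _ = _ := by ring
  exact Nat.le_of_mul_le_mul_left e hp

end BR

/-- Some `A ∈ A(S)` is not contained in `O₂(P)`. -/
theorem exists_AA' (hJ : ¬ jj (S : Subgroup G) ≤ o2 P) : ∃ A ∈ AA (S : Subgroup G), ¬ A ≤ o2 P := by
  by_contra hc
  push Not at hc
  apply hJ
  rw [jj_eq]
  exact sSup_le hc

end blk

end Cfsg.Agent.Omega.NO3S.Fld

end

section


/-!
# Fld: `Ω₁(Z(B)) = R`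

`S / B` is cyclic and acts freely on `R` (normal bases), so `|R| = |Z|^m`, `m = |S : B|`, while
`|Y| ≤ |C_Y(S)|^m` for every elementary abelian `Y` normalised by `S` and centralised by `B`.
-/

set_option autoImplicit false
set_option linter.unusedSectionVars false
set_option linter.unusedVariables false

namespace Cfsg.Agent.Omega.NO3S.Fld

open Subgroup Cfsg Cfsg.Agent.ZN Cfsg.Agent.ZN.ChoiceBase Cfsg.Agent.Omega.MinPar
open Cfsg.Agent.Omega.NatPair (ext2)
open Cfsg.Agent.MinSimple.VModule (zc_le)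

universe u

variable {G : Type u} [Group G]

/-- `|Y| ≤ |C_Y(t)|²` if `t²` centralises the elementary abelian group `Y`. -/
theorem card_le_sq [Finite G] {Y : Subgroup G} (hY : Red.El Y) {t : G} (ht : t ∈ normalizer (Y : Set G))
    (ht2 : t ^ 2 ∈ centralizer (Y : Set G)) :
    Nat.card Y ≤ Nat.card ↥(Y ⊓ centralizer ({t} : Set G)) ^ 2 := by
  have hcj : ∀ y ∈ Y, t * y * t⁻¹ ∈ Y := fun y hy => (mem_normalizer_iff.1 ht y).1 hy
  have hinv : ∀ y ∈ Y, y⁻¹ = y := fun y hy => inv_eq_of_mul_eq_one_left (by rw [← pow_two]; exact hY.sq y hy)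
  let φ : Y →* Y := MonoidHom.mk' (fun y => ⟨t * y * t⁻¹ * (y : G)⁻¹, Y.mul_mem (hcj y y.2) (Y.inv_mem y.2)⟩) (by
    rintro ⟨y, hy⟩ ⟨z, hz⟩
    apply Subtype.ext
    show t * (y * z) * t⁻¹ * (y * z)⁻¹ = t * y * t⁻¹ * y⁻¹ * (t * z * t⁻¹ * z⁻¹)
    have h1 : y⁻¹ * (t * z * t⁻¹ * z⁻¹) = (t * z * t⁻¹ * z⁻¹) * y⁻¹ :=
      hY.comm _ (Y.inv_mem hy) _ (Y.mul_mem (hcj z hz) (Y.inv_mem hz))
    have h2 : t * (y * z) * t⁻¹ * (y * z)⁻¹ = t * y * t⁻¹ * ((t * z * t⁻¹ * z⁻¹) * y⁻¹) := by group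
    rw [h2, ← h1]; group)
  have hk : Nat.card φ.ker = Nat.card ↥(Y ⊓ centralizer ({t} : Set G)) := by
    refine Nat.card_congr ⟨fun y => ⟨y.1.1, y.1.2, ?_⟩, fun y => ⟨⟨y.1, y.2.1⟩, ?_⟩, fun _ => rfl, fun _ => rfl⟩
    · have h1 : t * (y.1 : G) * t⁻¹ * (y.1 : G)⁻¹ = 1 := congrArg Subtype.val (MonoidHom.mem_ker.1 y.2)
      rw [mul_inv_eq_one, mul_inv_eq_iff_eq_mul] at h1
      exact mem_centralizer_singleton_iff.2 h1.symm
    · refine MonoidHom.mem_ker.2 (Subtype.ext ?_)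
      show t * (y : G) * t⁻¹ * (y : G)⁻¹ = 1
      rw [← mem_centralizer_singleton_iff.1 y.2.2]; group
  have hr : Nat.card φ.range ≤ Nat.card ↥(Y ⊓ centralizer ({t} : Set G)) := by
    refine Nat.card_le_card_of_injective (fun x : φ.range => (⟨(x : Y), (x : Y).2, ?_⟩ :
      ↥(Y ⊓ centralizer ({t} : Set G)))) ?_
    · obtain ⟨x, y, rfl⟩ := x
      refine mem_centralizer_singleton_iff.2 ?_
      show t * (y : G) * t⁻¹ * (y : G)⁻¹ * t = t * (t * (y : G) * t⁻¹ * (y : G)⁻¹)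
      -- `t x t⁻¹ = x`
      set w : G := t * (y : G) * t⁻¹ * (y : G)⁻¹ with hw
      have hwY : w ∈ Y := Y.mul_mem (hcj y y.2) (Y.inv_mem y.2)
      have h1 : t * w * t⁻¹ = t ^ 2 * (y : G) * (t ^ 2)⁻¹ * (t * y * t⁻¹)⁻¹ := by rw [hw, pow_two]; group
      have h2 : t ^ 2 * (y : G) * (t ^ 2)⁻¹ = y := by
        rw [← mem_centralizer_iff.1 ht2 y y.2]; group
      have h3 : t * w * t⁻¹ = w := by
        rw [h1, h2, ← hinv w hwY, hw]; group
      rw [mul_inv_eq_iff_eq_mul] at h3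
      exact h3.symm
    · intro a b h
      exact Subtype.ext (Subtype.ext (congrArg (fun z : ↥(Y ⊓ centralizer ({t} : Set G)) => (z : G)) h))
  have h3 : Nat.card φ.ker * Nat.card φ.range = Nat.card Y := by
    rw [← Subgroup.index_ker, Subgroup.card_mul_index]
  rw [← h3, hk, pow_two]
  exact Nat.mul_le_mul_left _ hr

/-- `|Y| ≤ |C_Y(s)|^(2^e)` if `s^(2^e)` centralises the elementary abelian group `Y`. -/
theorem card_le_pow [Finite G] (e : ℕ) : ∀ {Y : Subgroup G}, Red.El Y → ∀ {s : G}, s ∈ normalizer (Y : Set G) →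
    s ^ 2 ^ e ∈ centralizer (Y : Set G) → Nat.card Y ≤ Nat.card ↥(Y ⊓ centralizer ({s} : Set G)) ^ 2 ^ e := by
  induction e with
  | zero =>
    intro Y hY s hs h
    rw [pow_zero, pow_one] at h
    rw [pow_zero, pow_one]
    refine Subgroup.card_le_of_le (le_inf le_rfl fun y hy => ?_)
    exact mem_centralizer_singleton_iff.2 (mem_centralizer_iff.1 h y hy)
  | succ e ih =>
    intro Y hY s hs h
    set t := s ^ 2 ^ e with ht
    have htN : t ∈ normalizer (Y : Set G) := pow_mem hs _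
    have ht2 : t ^ 2 ∈ centralizer (Y : Set G) := by rw [ht, ← pow_mul, ← pow_succ]; exact h
    have h1 := card_le_sq hY htN ht2
    have hst : s * t = t * s := by rw [ht, ← pow_succ, ← pow_succ']
    have key : ∀ {r : G}, r ∈ normalizer (Y : Set G) → r * t = t * r → ∀ y ∈ Y ⊓ centralizer ({t} : Set G),
        r * y * r⁻¹ ∈ Y ⊓ centralizer ({t} : Set G) := by
      intro r hr hrt y hy
      refine ⟨(mem_normalizer_iff.1 hr y).1 hy.1, ?_⟩
      have h2 := mem_centralizer_singleton_iff.1 hy.2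
      refine mem_centralizer_singleton_iff.2 ?_
      have hrt' : r⁻¹ * t = t * r⁻¹ := by
        rw [inv_mul_eq_iff_eq_mul, ← mul_assoc, hrt, mul_inv_cancel_right]
      calc r * y * r⁻¹ * t = r * y * (r⁻¹ * t) := by group
        _ = r * (y * t) * r⁻¹ := by rw [hrt']; group
        _ = (r * t) * y * r⁻¹ := by rw [h2]; group
        _ = t * (r * y * r⁻¹) := by rw [hrt]; group
    have hsN : s ∈ normalizer ((Y ⊓ centralizer ({t} : Set G) : Subgroup G) : Set G) := by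
      rw [mem_normalizer_iff]
      refine fun y => ⟨key hs hst y, fun hy => ?_⟩
      have hst' : s⁻¹ * t = t * s⁻¹ := by
        rw [inv_mul_eq_iff_eq_mul, ← mul_assoc, hst, mul_inv_cancel_right]
      have h3 := key (inv_mem hs) hst' _ hy
      have e1 : s⁻¹ * (s * y * s⁻¹) * s⁻¹⁻¹ = y := by group
      rwa [e1] at h3
    have h2 := ih (Y := Y ⊓ centralizer ({t} : Set G))
      ⟨fun a ha => hY.sq a ha.1, fun a ha b hb => hY.comm a ha.1 b hb.1⟩ hsN (by
        rw [mem_centralizer_iff]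
        intro y hy
        exact mem_centralizer_singleton_iff.1 hy.2)
    have h3 : Nat.card ↥((Y ⊓ centralizer ({t} : Set G)) ⊓ centralizer ({s} : Set G)) ≤
        Nat.card ↥(Y ⊓ centralizer ({s} : Set G)) :=
      Subgroup.card_le_of_le (inf_le_inf_right _ inf_le_left)
    calc Nat.card Y ≤ Nat.card ↥(Y ⊓ centralizer ({t} : Set G)) ^ 2 := h1
      _ ≤ (Nat.card ↥(Y ⊓ centralizer ({s} : Set G)) ^ 2 ^ e) ^ 2 :=
          Nat.pow_le_pow_left (h2.trans (Nat.pow_le_pow_left h3 _)) 2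
      _ = _ := by rw [← pow_mul, ← pow_succ]

/-- `|F| = |F^σ|^m`, `m` the order of `σ`. -/
theorem card_eq_pow {F : Type*} [Field F] [Finite F] (σ : F ≃+* F) :
    Nat.card F = Nat.card {x : F // σ x = x} ^ orderOf σ := by
  have hfin : Finite (F ≃+* F) := Finite.of_injective (fun σ : F ≃+* F => (σ : F → F)) DFunLike.coe_injective
  let H : Subgroup (F ≃+* F) := zpowers σ
  have hH : Fintype H := Fintype.ofFinite H
  have h1 : Module.finrank (FixedPoints.subfield H F) F = Fintype.card H := FixedPoints.finrank_eq_card H F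
  have h2 : Nat.card F = Nat.card (FixedPoints.subfield H F) ^ Module.finrank (FixedPoints.subfield H F) F := by
    have : Fintype F := Fintype.ofFinite F
    have : Fintype (FixedPoints.subfield H F) := Fintype.ofFinite _
    rw [Nat.card_eq_fintype_card, Nat.card_eq_fintype_card]
    exact Module.card_eq_pow_finrank
  have h3 : Nat.card (FixedPoints.subfield H F) = Nat.card {x : F // σ x = x} := by
    refine Nat.card_congr (Equiv.subtypeEquivRight fun x => ?_)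
    constructor
    · intro hx
      exact hx ⟨σ, mem_zpowers σ⟩
    · rintro hx ⟨τ, hτ⟩
      obtain ⟨k, rfl⟩ := mem_zpowers_iff.1 hτ
      have h4 : ∀ n : ℕ, (σ ^ n) x = x := by
        intro n
        induction n with
        | zero => rfl
        | succ n ih =>
          rw [pow_succ]
          show (σ ^ n) (σ x) = x
          rw [hx, ih]
      obtain ⟨n, hn⟩ : ∃ n : ℕ, σ ^ n = σ ^ k := by
        have := (mem_powers_iff_mem_zpowers (x := σ) (y := σ ^ k)).2 ⟨k, rfl⟩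
        exact this
      show (σ ^ k) x = x
      rw [← hn]
      exact h4 n
  rw [h2, h3, h1]
  congr 1
  rw [← Nat.card_eq_fintype_card]
  exact Nat.card_zpowers σ

section

variable [Finite G] {S : Subgroup G} {P V : Subgroup G} {F : Type*} [Field F] [Finite F] [CharP F 2]

namespace Crd

variable (M : Crd F S P V)

/-- **`Ω₁(Z(B)) = R`.** -/
theorem mem_R_of_cent (hS : IsPGroup 2 S) (hV : V ≤ S) (hZ : zc S ≤ V) :
    ∀ y ∈ M.B, y ^ 2 = 1 → (∀ b ∈ M.B, b * y = y * b) → y ∈ M.R := by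
  obtain ⟨s₀, hs₀, hcyc⟩ := M.cyc
  obtain ⟨σ, c, hact⟩ := M.exists_act hs₀
  have hσ : M.sgHom ⟨s₀, hs₀⟩ = σ := M.sgHom_eq (s := ⟨s₀, hs₀⟩) hact
  -- the order of `σ` is a power of 2
  obtain ⟨e, he⟩ : ∃ e, orderOf σ = 2 ^ e := by
    obtain ⟨n, hn⟩ := hS ⟨s₀, hs₀⟩
    have h1 : σ ^ 2 ^ n = 1 := by rw [← hσ, ← map_pow, hn, map_one]
    obtain ⟨e, -, he⟩ := (Nat.dvd_prime_pow Nat.prime_two).1 (orderOf_dvd_of_pow_eq_one h1)
    exact ⟨e, he⟩
  have hcardR : Nat.card M.R = Nat.card (zc S) ^ 2 ^ e := by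
    rw [M.card_R, card_eq_pow σ, he, ← M.card_fixR hact]
    congr 1
    rw [M.zc_eq hV hZ]
    refine Nat.card_congr (Equiv.setCongr ?_)
    ext r
    constructor
    · rintro ⟨hr, hrs⟩
      refine ⟨hr, ?_⟩
      show r ∈ centralizer (S : Set G)
      rw [mem_centralizer_iff]
      intro s hs
      obtain ⟨k, hk⟩ := hcyc s hs
      have h1 : s₀ ∈ centralizer ({r} : Set G) :=
        mem_centralizer_singleton_iff.2 (mem_centralizer_singleton_iff.1 hrs).symm
      have h2 := pow_mem h1 k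
      have h3 := mem_centralizer_singleton_iff.1 h2
      have h4 := (mem_centralizer_iff.1 hk.2 r hr)
      have e1 : s = s * (s₀ ^ k)⁻¹ * s₀ ^ k := by group
      rw [e1, mul_assoc, h3, ← mul_assoc, ← h4, mul_assoc]
    · rintro ⟨hr, hrs⟩
      exact ⟨hr, mem_centralizer_singleton_iff.2 (mem_centralizer_iff.1 hrs s₀ hs₀).symm⟩
  -- the group `Y`
  let Y : Subgroup G := zc M.B
  have hYE : Red.El Y := ⟨fun a ha => (mem_zc.1 ha).2.1, fun a ha b hb => (mem_zc.1 hb).2.2 a (mem_zc.1 ha).1⟩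
  have hBn : ∀ s ∈ S, ∀ b ∈ M.B, s * b * s⁻¹ ∈ M.B := by
    intro s hs b hb
    refine ⟨S.mul_mem (S.mul_mem hs hb.1) (S.inv_mem hs), ?_⟩
    show s * b * s⁻¹ ∈ centralizer (M.R : Set G)
    rw [mem_centralizer_iff]
    intro r hr
    have h1 : s⁻¹ * r * s ∈ M.R := by
      have := (mem_normalizer_iff.1 (M.S_R (S.inv_mem hs)) r).1 hr
      rwa [inv_inv] at this
    have h2 := mem_centralizer_iff.1 hb.2 _ h1
    have h3 : s * (s⁻¹ * r * s * b) * s⁻¹ = s * (b * (s⁻¹ * r * s)) * s⁻¹ := by rw [h2]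
    calc r * (s * b * s⁻¹) = s * (s⁻¹ * r * s * b) * s⁻¹ := by group
      _ = s * (b * (s⁻¹ * r * s)) * s⁻¹ := h3
      _ = s * b * s⁻¹ * r := by group
  have hYn : ∀ s ∈ S, ∀ y ∈ Y, s * y * s⁻¹ ∈ Y := by
    intro s hs y hy
    have h1 := mem_zc.1 hy
    refine mem_zc.2 ⟨hBn s hs y h1.1, ?_, fun b hb => ?_⟩
    · have e1 : (s * y * s⁻¹) ^ 2 = s * y ^ 2 * s⁻¹ := by rw [pow_two, pow_two]; group
      rw [e1, h1.2.1]; group
    · have h2 := h1.2.2 (s⁻¹ * b * s) (by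
        have := hBn s⁻¹ (S.inv_mem hs) b hb
        rwa [inv_inv] at this)
      have h3 : s * (s⁻¹ * b * s * y) * s⁻¹ = s * (y * (s⁻¹ * b * s)) * s⁻¹ := by rw [h2]
      calc b * (s * y * s⁻¹) = s * (s⁻¹ * b * s * y) * s⁻¹ := by group
        _ = s * (y * (s⁻¹ * b * s)) * s⁻¹ := h3
        _ = s * y * s⁻¹ * b := by group
  have hs₀N : s₀ ∈ normalizer (Y : Set G) := by
    rw [mem_normalizer_iff]
    refine fun y => ⟨hYn s₀ hs₀ y, fun hy => ?_⟩
    have h3 := hYn s₀⁻¹ (S.inv_mem hs₀) _ hy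
    have e1 : s₀⁻¹ * (s₀ * y * s₀⁻¹) * s₀⁻¹⁻¹ = y := by group
    rwa [e1] at h3
  have hs₀B : s₀ ^ 2 ^ e ∈ M.B := by
    refine ⟨S.pow_mem hs₀ _, ?_⟩
    have h1 : M.sgHom (⟨s₀, hs₀⟩ ^ 2 ^ e) = 1 := by rw [map_pow, hσ, ← he, pow_orderOf_eq_one]
    exact M.sgHom_eq_one.1 h1
  have h1 := card_le_pow e hYE hs₀N (by
    rw [mem_centralizer_iff]
    intro y hy
    exact ((mem_zc.1 hy).2.2 _ hs₀B).symm)
  have h2 : Y ⊓ centralizer ({s₀} : Set G) ≤ zc S := by
    rintro y ⟨hy, hys⟩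
    have h3 := mem_zc.1 hy
    refine mem_zc.2 ⟨h3.1.1, h3.2.1, fun s hs => ?_⟩
    obtain ⟨k, hk⟩ := hcyc s hs
    have h4 : s₀ ∈ centralizer ({y} : Set G) :=
      mem_centralizer_singleton_iff.2 (mem_centralizer_singleton_iff.1 hys).symm
    have h5 := mem_centralizer_singleton_iff.1 (pow_mem h4 k)
    have h6 := h3.2.2 _ hk
    have e1 : s = s * (s₀ ^ k)⁻¹ * s₀ ^ k := by group
    rw [e1, mul_assoc, h5, ← mul_assoc, h6, mul_assoc]
  have h3 : Nat.card Y ≤ Nat.card M.R := by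
    rw [hcardR]
    exact h1.trans (Nat.pow_le_pow_left (Subgroup.card_le_of_le h2) _)
  have h4 : M.R ≤ Y := by
    intro r hr
    have hrV := M.R_le hr
    refine mem_zc.2 ⟨⟨hV hrV, ?_⟩, by rw [pow_two]; exact M.sq hrV,
      fun b hb => (mem_centralizer_iff.1 hb.2 r hr).symm⟩
    show r ∈ centralizer (M.R : Set G)
    exact mem_centralizer_iff.2 fun r' hr' => M.comm (M.R_le hr') hrV
  have h5 : M.R = Y := Subgroup.eq_of_le_of_card_ge h4 h3
  intro y hy hy2 hyc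
  rw [h5]
  exact mem_zc.2 ⟨hy, hy2, hyc⟩

end Crd

end

end Cfsg.Agent.Omega.NO3S.Fld

end
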