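import Cfsg.Agent.Mrg.Omega.NO3S.Fld.ZJ
import Cfsg.Agent.Mrg.Omega.NO3S.Fld.RedMod
import Cfsg.Agent.Mrg.Omega.NO3b.K0.FFLem


/-!
# Fld, THEOREM RED (#15355)

* `red_par` : a minimal parabolic `X ≤ C_G(Z)` over `S` normalises `R`, if `|F| ≥ 16`;
* `red` : `C_G(Z) ≤ N_G(R)`, if `|F| ≥ 16`, `R = Ω₁(Z(J(S)))`;
* `red_of_par` : the same, for any `|F|`, from the minimal parabolics `X ≤ C_G(Z)` over `S` with `J(S) ≰ O₂(X)`.
-/

set_option autoImplicit false
set_option linter.unusedSectionVars false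

namespace Cfsg.Agent.Omega.NO3S.Fld

open Subgroup Cfsg Cfsg.Agent.ZN Cfsg.Agent.ZN.ChoiceBase Cfsg.Agent.Omega.MinPar
open Cfsg.Agent.Omega.Frame Cfsg.Agent.Omega.FrameNOFF
open Cfsg.Agent.ZN.ChoiceSit (Syl)


universe u

variable {G : Type u} [Group G] [Finite G] {S : Sylow 2 G} {P : Subgroup G}

variable {F : Type*} [Field F] [Finite F] [CharP F 2]

/-- the minimal parabolics with `J(S) ≤ O₂(X)` -/
theorem par_of_jj (M : Crd F (S : Subgroup G) P (zl (S : Subgroup G) P)) (h : HypJ S P) {X : Subgroup G}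
    (hSX : (S : Subgroup G) ≤ X) (hJ : jj (S : Subgroup G) ≤ o2 X) : X ≤ normalizer (M.R : Set G) := by
  have hsyl : Syl (S : Subgroup G) X := ⟨hSX, S.isPGroup', fun _ _ hT hST => S.is_maximal' hT hST⟩
  have e : jj (o2 X) = jj (S : Subgroup G) := jj_eq_of_jj_le hJ (ChoiceSit.o2_le_syl hsyl)
  have h1 : X ≤ normalizer (jj (o2 X) : Set G) :=
    (le_normalizer_o2 X).trans (normalizer_le_of_cj (F := jj) jj_cj (o2 X))
  rw [e] at h1
  exact h1.trans (normalizer_jj_le_R M h)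

/-- **THEOREM RED** for one minimal parabolic. -/
theorem red_par (M : Crd F (S : Subgroup G) P (zl (S : Subgroup G) P)) (h : HypJ S P) (h16 : 16 ≤ Nat.card F)
    {X : Subgroup G} (hX : MinSimple.MinParabolic.IsMinPar (S : Subgroup G) X) (hXZ : X ≤ CZ (S : Subgroup G)) :
    X ≤ normalizer (M.R : Set G) := by
  by_cases hJ : jj (S : Subgroup G) ≤ o2 X
  · exact par_of_jj M h hX.le hJ
  · have hsyl : Syl (S : Subgroup G) X := ⟨hX.le, S.isPGroup', fun _ _ hT hST => S.is_maximal' hT hST⟩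
    exact Crd.norm_R h.toHypN.toHyp M h16 (NO3b.K0.noOv FF.Glob.aStmt hsyl hX) hX hXZ
      (NO3b.K0.ff_lemma_syl hX hJ hXZ) hJ

/-- `C_G(Z) ≤ N_G(R)` from the minimal parabolics with `J(S) ≰ O₂(X)`. -/
theorem red_of_par (M : Crd F (S : Subgroup G) P (zl (S : Subgroup G) P)) (h : HypJ S P)
    (hX : ∀ X : Subgroup G, IsPar (S : Subgroup G) X → X ≤ CZ (S : Subgroup G) → ¬ jj (S : Subgroup G) ≤ o2 X →
      X ≤ normalizer (M.R : Set G)) :
    CZ (S : Subgroup G) ≤ normalizer (M.R : Set G) := by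
  refine (isLoc_centralizer_zc S h.toHypN.toHyp.ne).le_of_forall S
    (inf_le_right.trans (normalizer_S_le_R M h)) fun X hX1 hXC => ?_
  by_cases hJ : jj (S : Subgroup G) ≤ o2 X
  · exact par_of_jj M h hX1.le hJ
  · exact hX X hX1 hXC hJ

/-- **THEOREM RED**: `C_G(Z) ≤ N_G(R)` if `|F| ≥ 16`. -/
theorem red (M : Crd F (S : Subgroup G) P (zl (S : Subgroup G) P)) (h : HypJ S P) (h16 : 16 ≤ Nat.card F) :
    CZ (S : Subgroup G) ≤ normalizer (M.R : Set G) :=
  red_of_par M h fun _ hX hXC _ => red_par M h h16 hX.toIsMinPar hXC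

end Cfsg.Agent.Omega.NO3S.Fld
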