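import Cfsg.Agent.Mrg.Omega.NO3S.Fld.FourBase
import Cfsg.Agent.Mrg.Omega.NO3S.Fld.LevRed


/-!
# Fld, `q = 4`: the situation `Lv4` at a level

* `exists_mod` : the module facts (`DEight.Mod`) from the coordinates, `|F| = 4`, `|Ω₁(Z(S))| ≠ 4`;
* `exists_lv4` : `P₂ ∈ P(S)` in `C_G(Z)` moves `R = Ω₁(Z(lev (n + 1)))`, `lev n ≤ O₂(P)`, `J(S) ≤ O₂(P₂)`; then `Lv4`
  holds for `K = lev j`, some `j ≤ n`.
-/

set_option autoImplicit false
set_option linter.unusedSectionVars false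

namespace Cfsg.Agent.Omega.NO3S.Fld

open Subgroup Cfsg Cfsg.Agent.ZN Cfsg.Agent.ZN.ChoiceBase Cfsg.Agent.Omega.MinPar Cfsg.Agent.Omega.FrameNOFF
open Cfsg.Agent.ZN.ChoiceSit (Syl)
open Cfsg.Agent.MinSimple.VModule (oddGen zc_le zc_le_zl)
open Cfsg.Agent.Omega.NatPair (ext2)
open Cfsg.Agent.Omega.NO3b.EZero (cl cl_le oddGen_sup_syl)
open Cfsg.Agent.Omega.NO3S.OneLine (elemM_mono)
open Cfsg.Agent.Omega.NO3S.Level

universe u

variable {G : Type u} [Group G] [Finite G] {S : Sylow 2 G} {P P2 : Subgroup G}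
variable {F : Type*} [Field F] [Finite F] [CharP F 2]

/-- The module facts from the coordinates. -/
theorem exists_mod (h : Hyp S P) (M : Crd F (S : Subgroup G) P (zl (S : Subgroup G) P)) (hF : Nat.card F = 4)
    (hZ : Nat.card (zc (S : Subgroup G)) ≠ 4) :
    ∃ (V3 : Subgroup G) (z : G), DEight.Mod (S : Subgroup G) (zl (S : Subgroup G) P) M.R V3 z ∧
      (∀ b ∈ (S : Subgroup G), b ∉ centralizer (zl (S : Subgroup G) P : Set G) →
        Nat.card ↥(zl (S : Subgroup G) P ⊓ centralizer ({b} : Set G)) ≤ 4) ∧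
      zc (S : Subgroup G) = zpowers z := by
  have hVS : zl (S : Subgroup G) P ≤ (S : Subgroup G) := h.V_le_S
  have hZV : zc (S : Subgroup G) ≤ zl (S : Subgroup G) P := zc_le_zl _ _
  have hf : ¬ (S : Subgroup G) ≤ centralizer (M.R : Set G) := M.not_le_centR hVS hZV (by rw [hF]; exact hZ)
  have hzc := M.zc_eq hVS hZV
  obtain ⟨⟨w, hw⟩, hw1⟩ := ne_bot_iff_exists_ne_one.1 h.zc_ne
  have hwR : w ∈ M.R := by rw [hzc] at hw; exact hw.1
  obtain ⟨z₀, rfl⟩ := hwR
  have h0 : z₀ ≠ 0 := by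
    rintro rfl
    apply hw1
    apply Subtype.ext
    show M.e ![0, 0] = 1
    rw [← M.e_zero]
    congr 1
    exact ext2 rfl rfl
  have hz : ∀ s ∈ (S : Subgroup G), s * M.e ![z₀, 0] * s⁻¹ = M.e ![z₀, 0] := by
    intro s hs
    rw [(ChoiceBase.mem_zc.1 hw).2.2 s hs]; group
  have hmod := (M.d8 h0 hz hf).mod hF
  rw [M.d8_R h0 hz hf] at hmod
  refine ⟨_, _, hmod, fun b hb hbV => (M.d8 h0 hz hf).card_fix_le hF hb hbV, ?_⟩
  -- `Ω₁(Z(S)) = ⟨z⟩`
  have h1 : zpowers (M.e ![z₀, 0]) ≤ zc (S : Subgroup G) := zpowers_le.2 hw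
  symm
  apply Subgroup.eq_of_le_of_card_ge h1
  have h2 : Nat.card (zc (S : Subgroup G)) ∣ 4 := by
    rw [← hmod.cardR, hzc]
    exact card_dvd_of_le inf_le_left
  have h3 : Nat.card (zpowers (M.e ![z₀, 0])) = 2 := by
    rw [Nat.card_zpowers]
    exact orderOf_eq_prime (hmod.sq _ (hmod.V3_le (hmod.R_le hmod.z_mem))) hmod.z_ne
  have h4 := Nat.le_of_dvd (by decide) h2
  rw [h3]
  interval_cases Nat.card (zc (S : Subgroup G)) <;> simp_all

/-- `P₂` moves `R = Ω₁(Z(lev (n + 1)))`, so `lev (n + 1) ≰ O₂(P₂)`. -/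
theorem not_lev_le (par : IsPar (S : Subgroup G) P2) {n : ℕ} {R : Subgroup G}
    (hR : zc (lev (S : Subgroup G) (n + 1)) = R) (mv : ¬ P2 ≤ normalizer (R : Set G)) :
    ¬ lev (S : Subgroup G) (n + 1) ≤ o2 P2 := by
  intro h1
  have hsyl : Syl (S : Subgroup G) P2 := ⟨par.le, S.isPGroup', fun _ _ hT hST => S.is_maximal' hT hST⟩
  apply mv
  have h2 := (lev_isLev (S : Subgroup G) (n + 1)).le_norm_of_o2 h1 (ChoiceSit.o2_le_syl hsyl)
  have h3 := h2.trans (normalizer_le_zc _)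
  rwa [hR] at h3

/-- **`Lv4` at some level `lev j`, `j ≤ n`.** -/
theorem exists_lv4 (h : Hyp S P) (M : Crd F (S : Subgroup G) P (zl (S : Subgroup G) P)) (hF : Nat.card F = 4)
    (hZ : Nat.card (zc (S : Subgroup G)) ≠ 4) {n : ℕ} (hL : LevF M (lev (S : Subgroup G) n))
    (par : IsPar (S : Subgroup G) P2) (le : P2 ≤ CZ (S : Subgroup G)) (mv : ¬ P2 ≤ normalizer (M.R : Set G))
    (hJ : jj (S : Subgroup G) ≤ o2 P2) :
    ∃ (j : ℕ) (V3 : Subgroup G) (z : G), j ≤ n ∧ Lv4 S P P2 M.R V3 (lev (S : Subgroup G) j) z := by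
  obtain ⟨V3, z, hmod, hfix, hzS⟩ := exists_mod h M hF hZ
  have hsyl : Syl (S : Subgroup G) P2 := ⟨par.le, S.isPGroup', fun _ _ hT hST => S.is_maximal' hT hST⟩
  have hQXS : o2 P2 ≤ (S : Subgroup G) := ChoiceSit.o2_le_syl hsyl
  have hR : zc (lev (S : Subgroup G) (n + 1)) = M.R := hL.nxt
  obtain ⟨j, hjn, hj1, hj2⟩ := exists_last hJ (not_lev_le par hR mv)
  have hK := lev_isLev (S : Subgroup G) j
  have hjP : lev (S : Subgroup G) j ≤ o2 P := (lev_mono (S : Subgroup G) hjn).trans hL.le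
  have hVX : zl (S : Subgroup G) P ≤ zc (lev (S : Subgroup G) j) := by
    rw [← hL.zo]; exact hK.zc_o2_le hjP hL.QS
  have hXn : P2 ≤ normalizer (zc (lev (S : Subgroup G) j) : Set G) :=
    (hK.le_norm_of_o2 hj1 hQXS).trans (normalizer_le_zc _)
  have hXX : P2 ≤ normalizer ((P2 ⊓ centralizer (zc (lev (S : Subgroup G) j) : Set G) : Subgroup G) : Set G) :=
    NO3b.EZero.le_normalizer_inf_cent hXn
  have hC : (S : Subgroup G) ⊓ centralizer (zc (lev (S : Subgroup G) j) : Set G) ≤ o2 P2 := by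
    rcases NO3b.K0.min_or hsyl par.toIsMinPar (K := P2 ⊓ centralizer (zc (lev (S : Subgroup G) j) : Set G))
      inf_le_left hXX with h2 | h2
    · exfalso
      apply mv
      have h3 : oddGen P2 ≤ centralizer (M.R : Set G) :=
        (h2.trans inf_le_right).trans (centralizer_le (M.R_le.trans hVX))
      rw [← oddGen_sup_syl hsyl]
      exact sup_le (h3.trans (centralizer_le_normalizer _)) M.S_R
    · exact (le_inf inf_le_left (le_inf (inf_le_left.trans par.le) inf_le_right)).trans h2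
  have hcR : nxt (S : Subgroup G) (lev (S : Subgroup G) j) ≤ centralizer (M.R : Set G) := by
    intro g hg
    have h1 : g ∈ lev (S : Subgroup G) (n + 1) := lev_mono (S : Subgroup G) (Nat.succ_le_succ hjn) hg
    rw [mem_centralizer_iff]
    intro r hr
    rw [← hR] at hr
    exact ((ChoiceBase.mem_zc.1 hr).2.2 g h1).symm
  have hff : zc (o2 P2) ≤ centralizer (oddGen P2 : Set G) := by
    have hfam := fam_BO (S : Subgroup G) (lev (S : Subgroup G) j)
    have hcm := zc_comm' (lev (S : Subgroup G) j)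
    obtain ⟨A, hA, hAQ⟩ : ∃ A ∈ BO (S : Subgroup G) (lev (S : Subgroup G) j), ¬ A ≤ o2 P2 := by
      by_contra hcon
      push Not at hcon
      apply hj2
      show Level.nxt (S : Subgroup G) (lev (S : Subgroup G) j) ≤ o2 P2
      exact sup_le hC (sSup_le hcon)
    have hzX : zc (o2 P2) ≤ zc (lev (S : Subgroup G) j) := hK.zc_o2_le hj1 hQXS
    exact ff_lemma_zc par.toIsMinPar le hA.1 hAQ (elemM_mono (hfam.elem A hA) hzX le_rfl) (hfam.off hcm hzX hA)
  exact ⟨j, V3, z, hjn,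
    { hyp := h
      mod := hmod
      fix4 := hfix
      zS := hzS
      par := par
      le := le
      mv := mv
      soc := hL.zo
      ff := hff
      lev := hK
      KL := hjP
      KQ := hj1
      nQ := hj2
      cR := hcR }⟩

end Cfsg.Agent.Omega.NO3S.Fld
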