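import Cfsg.Agent.Mrg.Omega.NO3S.Fld.ZJ
import Cfsg.Agent.Mrg.Omega.NO3S.OneLine.Abs
import Cfsg.Agent.Mrg.Omega.NO3S.OneLine.LevOf

section


/-!
# Fld at every level: the facts over `B` for a family of best offenders

`M : Crd F S P V`, `V = V_P`, `R = M.R`, `B = S ∩ C(R)`; `X` elementary abelian, `AA` a family of best offenders of `S` on
`X` (`OneLine.BFam S X L AA`), `P ≤ L ⊓ N(X)`, `Ω₁(Z(O₂(P))) ≤ X`, some `A ∈ AA` is not contained in `O₂(P)`.

* `off_le_centR` : an offender `A ≤ S` on `V` centralises `R`;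
* `BL S P B R` : `BR` without `A(S)`; `bl_of`;
* `BL.fam_card`, `fam_sup`, `fam_cut` : `|A| = |A ∩ Q| |B : Q|`, `A Q = B`, `C_X(A ∩ Q) = V C_X(A)`;
* `BL.zc_o2_fam` : (T6) `Ω₁(Z(Q)) = V`;
* `BL.cent_fam` : `C_X(AA) = R`.
-/

set_option autoImplicit false
set_option linter.unusedSectionVars false
set_option linter.unusedVariables false

namespace Cfsg.Agent.Omega.NO3S.Fld

open Subgroup Cfsg Cfsg.Agent.ZN Cfsg.Agent.ZN.ChoiceBase Cfsg.Agent.Omega.MinPar
open Cfsg.Agent.ZN.ChoiceSit (Syl o2_le_syl)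
open Cfsg.Agent.Omega.SQ1.Bau (elem_comm elem_sq mem_sup_comm card_sup_comm mem_sup_norm)
open Cfsg.Agent.PLocal.ElemAbSup Cfsg.Agent.PLocal.ThompsonJ
open Cfsg.Agent.MinSimple.VModule (zc_le zc_le_zl zl_le le_o2 le_normalizer_zl)
open Cfsg.Agent.Omega.FFThm (ElemM)
open Cfsg.Agent.Omega.NO3S.OneLine (conj_mem card_mul_relIndex exists_fixed zc_elem o2_le card_sup_norm BFam
  mem_cent_sSup)

universe u

variable {G : Type u} [Group G]

namespace Crd

variable {F : Type*} [Field F] {S P V : Subgroup G} (M : Crd F S P V)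

theorem two_le_fix [Finite F] (φ : F ≃+* F) : 2 ≤ Nat.card {x : F // φ x = x} := by
  have h4 : Nat.card (Fin 2) ≤ Nat.card {x : F // φ x = x} := by
    refine Nat.card_le_card_of_injective (fun i : Fin 2 => (if i = 0 then ⟨0, map_zero φ⟩ else ⟨1, map_one φ⟩ :
      {x : F // φ x = x})) ?_
    intro i j hij
    fin_cases i <;> fin_cases j
    · rfl
    · exact absurd (congrArg Subtype.val hij) (by simp)
    · exact absurd (congrArg Subtype.val hij) (by simp)
    · rfl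
  simpa using h4

/-- **An offender on `V` centralises `R`.** -/
theorem off_le_centR [Finite G] [Finite F] [CharP F 2] {A : Subgroup G} (hAS : A ≤ S) (hE : ElemM V A)
    (hoff : Nat.card V * Nat.card ↥(A ⊓ centralizer (V : Set G)) ≤
      Nat.card A * Nat.card ↥(V ⊓ centralizer (A : Set G))) :
    A ≤ centralizer (M.R : Set G) := by
  by_contra hn
  have hVR : centralizer (V : Set G) ≤ centralizer (M.R : Set G) := centralizer_le M.R_le
  have hsq : ∀ a ∈ A, a ^ 2 ∈ centralizer (M.R : Set G) := fun a ha => hVR (hE.sq a ha)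
  obtain ⟨φ, h1, h2, h3⟩ := M.exists_phi hAS hsq hn
  obtain ⟨a, ha, haR⟩ := SetLike.not_le_iff_exists.1 hn
  obtain ⟨c, hc⟩ := h3 a ha haR
  have hq := card_fixed h1 h2
  have hr2 := two_le_fix φ
  set r := Nat.card {x : F // φ x = x} with hr
  have hD2 := M.relIndex_two hAS hsq hn
  set D := A ⊓ centralizer (M.R : Set G) with hD
  have hcD : Nat.card D * 2 = Nat.card A := by
    have h4 := card_mul_relIndex (inf_le_left : D ≤ A)
    have h5 : D.relIndex A = 2 := by rw [hD, inf_relIndex_left, hD2]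
    rwa [h5] at h4
  have hp : 0 < Nat.card ↥(A ⊓ centralizer (V : Set G)) := Nat.card_pos
  have hVc := M.card_V
  by_cases hDV : D ≤ centralizer (V : Set G)
  · have h4 : A ⊓ centralizer (V : Set G) = D :=
      le_antisymm (le_inf inf_le_left (inf_le_right.trans hVR)) (le_inf inf_le_left hDV)
    have h5 : Nat.card ↥(V ⊓ centralizer (A : Set G)) ≤ Nat.card F :=
      (Subgroup.card_le_of_le (inf_le_inf_left _ (centralizer_le (Set.singleton_subset_iff.2 ha)))).trans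
        (M.card_fix_le hc h1 h2)
    rw [h4, hVc, ← hcD] at hoff
    rw [h4] at hp
    have h6 : Nat.card D * (Nat.card F * Nat.card F) ≤ Nat.card D * (2 * Nat.card F) := by
      calc Nat.card D * (Nat.card F * Nat.card F) = Nat.card F * Nat.card F * Nat.card D := mul_comm _ _
        _ ≤ _ := hoff
        _ ≤ Nat.card D * 2 * Nat.card F := Nat.mul_le_mul_left _ h5
        _ = _ := by ring
    have h7 := Nat.le_of_mul_le_mul_left h6 hp
    have h8 : Nat.card F ≤ 2 := Nat.le_of_mul_le_mul_right h7 Nat.card_pos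
    rw [← hq] at h8
    have : 2 * 2 ≤ r * r := Nat.mul_le_mul hr2 hr2
    omega
  · have hDB : D ≤ M.B := le_inf (inf_le_left.trans hAS) inf_le_right
    have h4 := M.relIndex_sq_le hDB hc h1 h2 fun d hd => hE.comm a ha d hd.1
    rw [← hq] at h4
    have h5 := Nat.mul_self_le_mul_self_iff.1 h4
    have h6 : Nat.card ↥(V ⊓ centralizer (A : Set G)) ≤ r := by
      obtain ⟨d, hd, hdV⟩ := SetLike.not_le_iff_exists.1 hDV
      have h7 : V ⊓ centralizer (A : Set G) ≤ M.R ⊓ centralizer ({a} : Set G) := by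
        rintro v ⟨hv, hvA⟩
        refine ⟨M.fix (hDB hd).1 (hDB hd).2 hdV hv (mem_centralizer_iff.1 hvA d hd.1),
          mem_centralizer_singleton_iff.2 (mem_centralizer_iff.1 hvA a ha).symm⟩
      have h8 := Subgroup.card_le_of_le h7
      rwa [M.card_fixR hc, ← hr] at h8
    have h7 : Nat.card D ≤ Nat.card ↥(A ⊓ centralizer (V : Set G)) * r := by
      have h8 := card_mul_relIndex (inf_le_left : D ⊓ centralizer (V : Set G) ≤ D)
      rw [inf_relIndex_left] at h8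
      rw [← h8]
      refine Nat.mul_le_mul (Subgroup.card_le_of_le ?_) h5
      exact le_inf (inf_le_left.trans inf_le_left) inf_le_right
    rw [hVc] at hoff
    set C := Nat.card ↥(A ⊓ centralizer (V : Set G)) with hC
    have h8 : C * (Nat.card F * Nat.card F) ≤ C * (2 * Nat.card F) := by
      calc C * (Nat.card F * Nat.card F) = Nat.card F * Nat.card F * C := mul_comm _ _
        _ ≤ _ := hoff
        _ ≤ Nat.card A * r := Nat.mul_le_mul_left _ h6
        _ ≤ C * r * 2 * r := Nat.mul_le_mul_right _ (by rw [← hcD]; exact Nat.mul_le_mul_right _ h7)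
        _ = C * (2 * (r * r)) := by ring
        _ = _ := by rw [hq]
    have h9 := Nat.le_of_mul_le_mul_left h8 hp
    have h10 : Nat.card F ≤ 2 := Nat.le_of_mul_le_mul_right h9 Nat.card_pos
    rw [← hq] at h10
    have : 2 * 2 ≤ r * r := Nat.mul_le_mul hr2 hr2
    omega

end Crd

/-- `BR` without `A(S)`. -/
structure BL (S P B R : Subgroup G) : Prop where
  star : IsParS S P
  BS : B ≤ S
  QB : o2 P ≤ B
  RV : R ≤ zl S P
  RS : S ≤ normalizer (R : Set G)
  cB : ∀ b ∈ B, ∀ r ∈ R, b * r = r * b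
  fix : ∀ a ∈ B, a ∉ o2 P → ∀ v ∈ zl S P, a * v = v * a → v ∈ R
  comm : ∀ a ∈ B, ∀ v ∈ zl S P, a * v * a⁻¹ * v⁻¹ ∈ R
  card : Nat.card (zl S P) = Nat.card R * (o2 P).relIndex B

variable [Finite G] {S : Sylow 2 G} {P B R : Subgroup G}

theorem bl_of {F : Type*} [Field F] [Finite F] [CharP F 2] (hG : IsCharacteristicTwoType G)
    (hP : IsParS (S : Subgroup G) P) (M : Crd F (S : Subgroup G) P (zl (S : Subgroup G) P)) :
    BL (S : Subgroup G) P M.B M.R :=
  let h := br_of hG hP M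
  ⟨h.star, h.BS, h.QB, h.RV, h.RS, h.cB, h.fix, h.comm, h.card⟩

namespace BL

variable (hG : IsCharacteristicTwoType G) (h : BL (S : Subgroup G) P B R)
include hG h

theorem zl_le_zc : zl (S : Subgroup G) P ≤ zc (o2 P) := h.star.isLoc.zl_le S hG

theorem zl_le_o2 : zl (S : Subgroup G) P ≤ o2 P := (zl_le_zc hG h).trans (zc_le _)

theorem comm_o2 : ∀ a ∈ o2 P, ∀ v ∈ zl (S : Subgroup G) P, a * v = v * a := fun a ha v hv =>
  (mem_zc.1 (zl_le_zc hG h hv)).2.2 a ha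

omit hG in
/-- `C_V(A) = R` for `A ≤ B`, `A ≰ O₂(P)` -/
theorem cent_eq {A : Subgroup G} (hA : A ≤ B) (hAQ : ¬ A ≤ o2 P) :
    zl (S : Subgroup G) P ⊓ centralizer (A : Set G) = R := by
  apply le_antisymm
  · rintro v ⟨hvV, hvA⟩
    obtain ⟨a, ha, haQ⟩ := SetLike.not_le_iff_exists.1 hAQ
    exact h.fix a (hA ha) haQ v hvV (mem_centralizer_iff.1 hvA a ha)
  · exact le_inf h.RV fun z hz => mem_centralizer_iff.2 fun a ha => h.cB a (hA ha) z hz

theorem inf_cent {A : Subgroup G} (hA : A ≤ (S : Subgroup G)) :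
    A ⊓ centralizer (zl (S : Subgroup G) P : Set G) = A ⊓ o2 P := by
  rw [← IsParS.inf_centralizer S hG h.star, ← inf_assoc, inf_eq_left.2 hA]

omit hG in
/-- `|A| ≤ |A ∩ Q| |B : Q|` -/
theorem card_le {A : Subgroup G} (hA : A ≤ B) : Nat.card A ≤ Nat.card ↥(A ⊓ o2 P) * (o2 P).relIndex B := by
  have h1 := card_mul_relIndex (inf_le_left : A ⊓ o2 P ≤ A)
  rw [inf_relIndex_left] at h1
  rw [← h1]
  refine Nat.mul_le_mul_left _ (relIndex_le_of_le_right hA ?_)
  rw [relIndex]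
  exact Subgroup.index_ne_zero_of_finite

/-- An offender `A ≤ B` on `V`, `A ≰ O₂(P)`: `|A| = |A ∩ Q| |B : Q|` -/
theorem off_card {A : Subgroup G} (hA : A ≤ B) (hAQ : ¬ A ≤ o2 P)
    (ho : Nat.card (zl (S : Subgroup G) P) * Nat.card ↥(A ⊓ centralizer (zl (S : Subgroup G) P : Set G)) ≤
      Nat.card A * Nat.card ↥(zl (S : Subgroup G) P ⊓ centralizer (A : Set G))) :
    Nat.card A = Nat.card ↥(A ⊓ o2 P) * (o2 P).relIndex B := by
  refine le_antisymm (card_le h hA) ?_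
  rw [inf_cent hG h (hA.trans h.BS), cent_eq h hA hAQ, h.card] at ho
  have hp : 0 < Nat.card R := Nat.card_pos
  refine Nat.le_of_mul_le_mul_right ?_ hp
  calc _ = Nat.card R * (o2 P).relIndex B * Nat.card ↥(A ⊓ o2 P) := by ring
    _ ≤ _ := ho

omit hG in
theorem B_norm : B ≤ normalizer (o2 P : Set G) :=
  (h.BS.trans h.star.le).trans (MinSimple.VModule.le_normalizer_o2 P)

omit hG in
/-- `B = A Q` -/
theorem off_sup {A : Subgroup G} (hA : A ≤ B)
    (hc : Nat.card A = Nat.card ↥(A ⊓ o2 P) * (o2 P).relIndex B) : A ⊔ o2 P = B := by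
  refine Subgroup.eq_of_le_of_card_ge (sup_le hA h.QB) ?_
  have h1 := card_sup_norm (H := A) (N := o2 P) (hA.trans h.B_norm)
  have h3 := card_mul_relIndex h.QB
  rw [hc] at h1
  have hp : 0 < Nat.card ↥(A ⊓ o2 P) := Nat.card_pos
  have e : Nat.card ↥(A ⊔ o2 P) * Nat.card ↥(A ⊓ o2 P) = Nat.card B * Nat.card ↥(A ⊓ o2 P) := by
    rw [h1, ← h3]; ring
  exact (Nat.eq_of_mul_eq_mul_right hp e).ge

variable {X L : Subgroup G} {AA : Set (Subgroup G)} (hB : BFam (S : Subgroup G) X L AA)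
  (hX : ∀ x ∈ X, ∀ y ∈ X, x * y = y * x) (hAB : ∀ A ∈ AA, A ≤ B)
include hB hX hAB

theorem fam_card (hVX : zl (S : Subgroup G) P ≤ X) {A : Subgroup G} (hA : A ∈ AA) (hAQ : ¬ A ≤ o2 P) :
    Nat.card A = Nat.card ↥(A ⊓ o2 P) * (o2 P).relIndex B :=
  off_card hG h (hAB A hA) hAQ (hB.off hX hVX hA)

theorem fam_sup (hVX : zl (S : Subgroup G) P ≤ X) {A : Subgroup G} (hA : A ∈ AA) (hAQ : ¬ A ≤ o2 P) :
    A ⊔ o2 P = B := off_sup h (hAB A hA) (fam_card hG h hB hX hAB hVX hA hAQ)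

/-- (T6) `Ω₁(Z(Q)) = V`. -/
theorem zc_o2_fam (hR : ∀ y ∈ B, y ^ 2 = 1 → (∀ b ∈ B, b * y = y * b) → y ∈ R) (hQX : zc (o2 P) ≤ X)
    {A : Subgroup G} (hA : A ∈ AA) (hAQ : ¬ A ≤ o2 P) : zc (o2 P) = zl (S : Subgroup G) P := by
  symm
  have hVX := (zl_le_zc hG h).trans hQX
  have hAB' := hAB A hA
  refine Subgroup.eq_of_le_of_card_ge (zl_le_zc hG h) ?_
  -- `C_Y(A) ≤ R`
  have h1 : zc (o2 P) ⊓ centralizer (A : Set G) ≤ R := by
    rintro y ⟨hyY, hyA⟩
    refine hR y (h.QB (mem_zc.1 hyY).1) (mem_zc.1 hyY).2.1 fun s hs => ?_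
    rw [← fam_sup hG h hB hX hAB hVX hA hAQ] at hs
    obtain ⟨a, ha, x, hx, rfl⟩ := mem_sup_norm (hAB'.trans h.B_norm) hs
    have e1 := mem_centralizer_iff.1 hyA a ha
    have e2 := (mem_zc.1 hyY).2.2 x hx
    calc a * x * y = a * (x * y) := mul_assoc _ _ _
      _ = (a * y) * x := by rw [e2, mul_assoc]
      _ = y * (a * x) := by rw [e1, mul_assoc]
  have h2 : A ⊓ o2 P ≤ A ⊓ centralizer (zc (o2 P) : Set G) :=
    inf_le_inf_left _ fun x hx => mem_centralizer_iff.2 fun y hy => ((mem_zc.1 hy).2.2 x hx).symm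
  have h3 := hB.off hX hQX hA
  have h4 := fam_card hG h hB hX hAB hVX hA hAQ
  rw [h.card]
  have hp : 0 < Nat.card ↥(A ⊓ o2 P) := Nat.card_pos
  refine Nat.le_of_mul_le_mul_right ?_ hp
  calc Nat.card (zc (o2 P)) * Nat.card ↥(A ⊓ o2 P)
      ≤ Nat.card (zc (o2 P)) * Nat.card ↥(A ⊓ centralizer (zc (o2 P) : Set G)) :=
        Nat.mul_le_mul_left _ (Subgroup.card_le_of_le h2)
    _ ≤ Nat.card A * Nat.card ↥(zc (o2 P) ⊓ centralizer (A : Set G)) := h3
    _ ≤ Nat.card A * Nat.card R := Nat.mul_le_mul_left _ (Subgroup.card_le_of_le h1)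
    _ = _ := by rw [h4]; ring

/-- `|A ∩ Q| |C_X(A ∩ Q)| = |A| |C_X(A)|` and `C_X(A ∩ Q) = V C_X(A)`. -/
theorem fam_cut (hVX : zl (S : Subgroup G) P ≤ X) {A : Subgroup G} (hA : A ∈ AA) (hAQ : ¬ A ≤ o2 P) :
    Nat.card ↥(A ⊓ o2 P) * Nat.card ↥(X ⊓ centralizer ((A ⊓ o2 P : Subgroup G) : Set G)) =
        Nat.card A * Nat.card ↥(X ⊓ centralizer (A : Set G)) ∧
      zl (S : Subgroup G) P ⊔ (X ⊓ centralizer (A : Set G)) =
        X ⊓ centralizer ((A ⊓ o2 P : Subgroup G) : Set G) := by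
  have hAS := hAB A hA
  have hc := fam_card hG h hB hX hAB hVX hA hAQ
  have hle : zl (S : Subgroup G) P ⊔ (X ⊓ centralizer (A : Set G)) ≤
      X ⊓ centralizer ((A ⊓ o2 P : Subgroup G) : Set G) := by
    refine sup_le (le_inf hVX fun v hv => mem_centralizer_iff.2 fun a ha => comm_o2 hG h a ha.2 v hv) ?_
    exact inf_le_inf_left _ (centralizer_le inf_le_left)
  have h1 := card_sup_comm (A := zl (S : Subgroup G) P) (B := X ⊓ centralizer (A : Set G))
    fun v hv x hx => hX v (hVX hv) x hx.1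
  have h2 : zl (S : Subgroup G) P ⊓ (X ⊓ centralizer (A : Set G)) = R := by
    rw [← cent_eq h hAS hAQ, ← inf_assoc, inf_eq_left.2 hVX]
  rw [h2, h.card] at h1
  have hp : 0 < Nat.card R := Nat.card_pos
  have h3 : Nat.card ↥(zl (S : Subgroup G) P ⊔ (X ⊓ centralizer (A : Set G))) =
      (o2 P).relIndex B * Nat.card ↥(X ⊓ centralizer (A : Set G)) := by
    refine Nat.eq_of_mul_eq_mul_right hp ?_
    rw [h1]; ring
  have h4 : Nat.card ↥(A ⊓ o2 P) * Nat.card ↥(X ⊓ centralizer ((A ⊓ o2 P : Subgroup G) : Set G)) ≤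
      Nat.card A * Nat.card ↥(X ⊓ centralizer (A : Set G)) := by
    refine hB.best A hA _ ?_ inf_le_left
    rw [← inf_cent hG h (hAS.trans h.BS)]
    exact inf_le_inf_left _ (centralizer_le hVX)
  have h5 := Nat.mul_le_mul_left (Nat.card ↥(A ⊓ o2 P)) (Subgroup.card_le_of_le hle)
  have h6 : Nat.card ↥(A ⊓ o2 P) * Nat.card ↥(zl (S : Subgroup G) P ⊔ (X ⊓ centralizer (A : Set G))) =
      Nat.card A * Nat.card ↥(X ⊓ centralizer (A : Set G)) := by
    rw [h3, hc]; ring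
  have h7 := le_antisymm h4 (h6 ▸ h5)
  refine ⟨h7, Subgroup.eq_of_le_of_card_ge hle ?_⟩
  have hp' : 0 < Nat.card ↥(A ⊓ o2 P) := Nat.card_pos
  exact Nat.le_of_mul_le_mul_left (h7.trans h6.symm).le hp'

/-- `Y = C_X(members of AA in Q)` is normalised by `P`, contains `V` and is contained in `V C_X(A)`. -/
theorem exists_Y (hPX : P ≤ normalizer (X : Set G)) (hPL : P ≤ L) (hVX : zl (S : Subgroup G) P ≤ X) :
    ∃ Y : Subgroup G, Y ≤ X ∧ P ≤ normalizer (Y : Set G) ∧ zl (S : Subgroup G) P ≤ Y ∧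
      X ⊓ centralizer ((sSup AA : Subgroup G) : Set G) ≤ Y ∧
      ∀ A ∈ AA, ¬ A ≤ o2 P → Y ≤ zl (S : Subgroup G) P ⊔ (X ⊓ centralizer (A : Set G)) := by
  have hQS := o2_le S h.star.toIsPar
  have hSP : (S : Subgroup G) ≤ P := h.star.le
  refine ⟨X ⊓ centralizer ((sSup {B | B ∈ AA ∧ B ≤ o2 P} : Subgroup G) : Set G), inf_le_left, ?_, ?_, ?_, ?_⟩
  · intro p hp
    apply mem_normalizer_of_cj_le
    rw [cj_inf, cj_eq_of_mem_normalizer (hPX hp)]
    refine inf_le_inf_left _ ?_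
    intro x hx
    rw [mem_cj, mem_cent_sSup] at hx
    rw [mem_cent_sSup]
    rintro B ⟨hB', hBQ⟩ b hb
    have h0 : cj p⁻¹ B ≤ o2 P := by
      have h2 := cj_mono p⁻¹ hBQ
      rwa [cj_eq_of_mem_normalizer (MinSimple.VModule.le_normalizer_o2 P (inv_mem hp))] at h2
    have h2 := hB.conj B hB' p⁻¹ (hPL (inv_mem hp)) (h0.trans hQS)
    have h3 := hx _ ⟨h2, h0⟩ (p⁻¹ * b * p) (by rw [mem_cj]; have e : p⁻¹⁻¹ * (p⁻¹ * b * p) * p⁻¹ = b := by group
                                               rwa [e])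
    calc b * x = p * ((p⁻¹ * b * p) * (p⁻¹ * x * p)) * p⁻¹ := by group
      _ = p * ((p⁻¹ * x * p) * (p⁻¹ * b * p)) * p⁻¹ := by rw [h3]
      _ = x * b := by group
  · exact fun v hv => ⟨hVX hv, mem_cent_sSup.2 fun B hB' b hb => comm_o2 hG h b (hB'.2 hb) v hv⟩
  · exact fun y hy => ⟨hy.1, mem_cent_sSup.2 fun B hB' => mem_cent_sSup.1 hy.2 B hB'.1⟩
  · intro A hA hAQ
    obtain ⟨h1, h2⟩ := fam_cut hG h hB hX hAB hVX hA hAQ
    obtain ⟨B', hB', h3⟩ := hB.cut A hA (A ⊓ o2 P) (by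
      rw [← inf_cent hG h (hB.le A hA)]
      exact inf_le_inf_left _ (centralizer_le hVX)) inf_le_left h1
    rw [h2]
    have hB'Q : B' ≤ o2 P := by
      intro b hb
      have h4 : b ∈ (A ⊓ o2 P) ⊔ centralizer (X : Set G) := h3 ▸ mem_sup_left hb
      have h5 : A ⊓ o2 P ≤ normalizer (centralizer (X : Set G) : Set G) := by
        intro a ha
        apply mem_normalizer_of_cj_le
        rw [cj_centralizer, cj_eq_of_mem_normalizer (hPX (hSP (hB.le A hA ha.1)))]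
      obtain ⟨a, ha, c, hc, rfl⟩ := mem_sup_norm h5 h4
      refine mul_mem ha.2 ?_
      have h6 : c ∈ (S : Subgroup G) := by
        have := mul_mem (inv_mem (hB.le A hA ha.1)) (hB.le B' hB' hb)
        rwa [inv_mul_cancel_left] at this
      rw [← IsParS.inf_centralizer S hG h.star]
      exact ⟨h6, centralizer_le hVX hc⟩
    refine fun x hx => ⟨hx.1, mem_centralizer_iff.2 fun a ha => ?_⟩
    have h4 : a ∈ B' ⊔ centralizer (X : Set G) := by rw [h3]; exact mem_sup_left ha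
    have h5 : B' ⊔ centralizer (X : Set G) ≤ centralizer {x} := by
      refine sup_le (fun b hb => ?_) (fun c hc => ?_)
      · rw [mem_centralizer_singleton_iff]
        exact mem_cent_sSup.1 hx.2 B' ⟨hB', hB'Q⟩ b hb
      · rw [mem_centralizer_singleton_iff]
        exact (mem_centralizer_iff.1 hc x hx.1).symm
    exact mem_centralizer_singleton_iff.1 (h5 h4)

/-- **`C_X(AA) = R`.** -/
theorem cent_fam (hR : ∀ y ∈ B, y ^ 2 = 1 → (∀ b ∈ B, b * y = y * b) → y ∈ R) (hXsq : ∀ x ∈ X, x ^ 2 = 1)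
    (hXS : X ≤ (S : Subgroup G)) (hPX : P ≤ normalizer (X : Set G)) (hPL : P ≤ L) (hQX : zc (o2 P) ≤ X)
    (hsq : Nat.card (zl (S : Subgroup G) P) = Nat.card R ^ 2) {x : G} (hx : x ∈ P) (hxZ : R ⊓ cj x R = ⊥)
    {A : Subgroup G} (hA : A ∈ AA) (hAQ : ¬ A ≤ o2 P) :
    X ⊓ centralizer ((sSup AA : Subgroup G) : Set G) = R := by
  have hVX := (zl_le_zc hG h).trans hQX
  have hSP : (S : Subgroup G) ≤ P := h.star.le
  have hzo2 := zc_o2_fam hG h hB hX hAB hR hQX hA hAQ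
  have hPV : P ≤ normalizer (zl (S : Subgroup G) P : Set G) := le_normalizer_zl _ _
  obtain ⟨Y, hYX, hPY, hVY, hYc', hYA'⟩ := exists_Y hG h hB hX hAB hPX hPL hVX
  have hYle := hYA' A hA hAQ
  set V := zl (S : Subgroup G) P with hV
  have hYc : ∀ y ∈ Y, ∀ w ∈ Y, y * w = w * y := fun y hy w hw => hX y (hYX hy) w (hYX hw)
  have hAB' := hAB A hA
  refine le_antisymm ?_ (le_inf (h.RV.trans hVX) fun z hz => mem_cent_sSup.2 fun B' hB' b hb =>
    h.cB b (hAB B' hB' hb) z hz)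
  -- `C_Y(A)`
  let YA : Subgroup G := Y ⊓ centralizer (A : Set G)
  have hYsplit : ∀ y ∈ Y, ∃ v ∈ V, ∃ c ∈ YA, y = v * c := by
    intro y hy
    obtain ⟨v, hv, a, ha, rfl⟩ := mem_sup_comm (A := V) (B := X ⊓ centralizer (A : Set G))
      (fun v hv a ha => hX v (hVX hv) a ha.1) (hYle hy)
    refine ⟨v, hv, a, ⟨?_, ha.2⟩, rfl⟩
    have h1 := mul_mem (inv_mem (hVY hv)) hy
    rwa [inv_mul_cancel_left] at h1
  have hVYA : V ⊓ YA = R := by
    apply le_antisymm
    · rintro v ⟨hv, -, hvA⟩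
      rw [← cent_eq h hAB' hAQ]
      exact ⟨hv, hvA⟩
    · refine le_inf h.RV (le_inf (h.RV.trans hVY) fun z hz => ?_)
      exact mem_centralizer_iff.2 fun a ha => h.cB a (hAB' ha) z hz
  have hVsupYA : V ⊔ YA = Y := by
    apply le_antisymm (sup_le hVY inf_le_left)
    intro y hy
    obtain ⟨v, hv, c, hc, rfl⟩ := hYsplit y hy
    exact mul_mem_sup hv hc
  have hcYA : Nat.card Y * Nat.card R = Nat.card V * Nat.card YA := by
    have h1 := card_sup_comm (A := V) (B := YA) fun v hv c hc => hYc v (hVY hv) c hc.1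
    rwa [hVsupYA, hVYA] at h1
  have hYY : Nat.card Y = Nat.card R * Nat.card YA := by
    have hp : 0 < Nat.card R := Nat.card_pos
    rw [hsq] at hcYA
    have e : Nat.card Y * Nat.card R = Nat.card R * Nat.card YA * Nat.card R := by rw [hcYA]; ring
    exact Nat.eq_of_mul_eq_mul_right hp e
  have hxY : cj x Y = Y := cj_eq_of_mem_normalizer (hPY hx)
  have hxV : cj x V = V := cj_eq_of_mem_normalizer (hPV hx)
  let YB : Subgroup G := cj x YA
  have hYB : YB ≤ Y := by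
    have h1 : cj x YA ≤ cj x Y := cj_mono x inf_le_left
    rwa [hxY] at h1
  have hcYB : Nat.card YB = Nat.card YA := card_cj _ _
  let C : Subgroup G := YA ⊓ YB
  have hVC : V ⊓ C = ⊥ := by
    rw [eq_bot_iff, ← hxZ]
    rintro v ⟨hv, hvA, hvB⟩
    refine ⟨hVYA ▸ ⟨hv, hvA⟩, ?_⟩
    rw [← hVYA, cj_inf, hxV]
    exact ⟨hv, hvB⟩
  have hCcard : Nat.card Y ≤ Nat.card V * Nat.card C := by
    have h1 := card_sup_comm (A := YA) (B := YB) fun a ha b hb => hYc a ha.1 b (hYB hb)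
    have h2 : Nat.card ↥(YA ⊔ YB) ≤ Nat.card Y := Subgroup.card_le_of_le (sup_le inf_le_left hYB)
    have h3 : Nat.card YA * Nat.card YB ≤ Nat.card Y * Nat.card C := by
      rw [← h1]
      exact Nat.mul_le_mul_right _ h2
    rw [hcYB] at h3
    have hp : 0 < Nat.card YA := Nat.card_pos
    rw [hYY, hsq]
    rw [hYY] at h3
    have e : Nat.card YA * Nat.card YA ≤ Nat.card YA * (Nat.card R * Nat.card C) := by
      calc _ ≤ Nat.card R * Nat.card YA * Nat.card C := h3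
        _ = _ := by ring
    have h4 := Nat.le_of_mul_le_mul_left e hp
    calc Nat.card R * Nat.card YA ≤ Nat.card R * (Nat.card R * Nat.card C) := Nat.mul_le_mul_left _ h4
      _ = Nat.card R ^ 2 * Nat.card C := by ring
  have hVsupC : V ⊔ C = Y := by
    refine Subgroup.eq_of_le_of_card_ge (sup_le hVY (inf_le_left.trans inf_le_left)) ?_
    have h1 := card_sup_comm (A := V) (B := C) fun v hv c hc => hYc v (hVY hv) c hc.1.1
    rw [hVC, Subgroup.card_bot, mul_one] at h1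
    rw [h1]
    exact hCcard
  -- the final argument
  by_contra hne
  have hBp : IsPGroup 2 B := S.isPGroup'.to_le h.BS
  -- `C_X(AA) ≤ B`
  have hsub : X ⊓ centralizer ((sSup AA : Subgroup G) : Set G) ≤ B := by
    intro y hy
    obtain ⟨v, hv, c, hc, hyc⟩ := hYsplit y (hYc' hy)
    have hyS : y ∈ (S : Subgroup G) := hXS hy.1
    have hV' : y ∈ centralizer (V : Set G) := mem_centralizer_iff.2 fun w hw => hX w (hVX hw) y hy.1
    have h1 : y ∈ o2 P := by
      rw [← IsParS.inf_centralizer S hG h.star]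
      exact ⟨hyS, hV'⟩
    exact h.QB h1
  -- `S` normalises `C_X(AA)`
  have hSn : (S : Subgroup G) ≤
      normalizer ((X ⊓ centralizer ((sSup AA : Subgroup G) : Set G) : Subgroup G) : Set G) := by
    intro s hs
    apply mem_normalizer_of_cj_le
    rw [cj_inf, cj_eq_of_mem_normalizer (hPX (hSP hs))]
    refine inf_le_inf_left _ ?_
    intro y hy
    rw [mem_cj, mem_cent_sSup] at hy
    rw [mem_cent_sSup]
    intro B hB' b hb
    have h1 : cj s⁻¹ B ≤ (S : Subgroup G) := by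
      have h2 := cj_mono s⁻¹ (hB.le B hB')
      rwa [cj_eq_of_mem_normalizer (le_normalizer (inv_mem hs) : s⁻¹ ∈ normalizer ((S : Subgroup G) : Set G))] at h2
    have h2 := hB.conj B hB' s⁻¹ (hPL (hSP (inv_mem hs))) h1
    have h3 := hy _ h2 (s⁻¹ * b * s) (by rw [mem_cj]; have e : s⁻¹⁻¹ * (s⁻¹ * b * s) * s⁻¹ = b := by group
                                         rwa [e])
    calc b * y = s * ((s⁻¹ * b * s) * (s⁻¹ * y * s)) * s⁻¹ := by group
      _ = s * ((s⁻¹ * y * s) * (s⁻¹ * b * s)) * s⁻¹ := by rw [h3]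
      _ = y * b := by group
  obtain ⟨y, hy, hyZ, hyS⟩ := exists_fixed (M := R) hBp hsub (h.BS.trans hSn) hne
  have hyY : y ∈ Y := hYc' hy
  have hyA1 : y ∈ YA := ⟨hyY, mem_centralizer_iff.2 fun a ha => mem_cent_sSup.1 hy.2 A hA a ha⟩
  obtain ⟨z, hz, c, hc, hyzc⟩ : ∃ z ∈ R, ∃ c ∈ C, y = z * c := by
    rw [← hVsupC] at hyY
    obtain ⟨v, hv, c, hc, rfl⟩ := mem_sup_comm (A := V) (B := C)
      (fun v hv c hc => hYc v (hVY hv) c hc.1.1) hyY
    refine ⟨v, ?_, c, hc, rfl⟩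
    rw [← hVYA]
    refine ⟨hv, ?_⟩
    have h1 := mul_mem hyA1 (inv_mem hc.1)
    rwa [mul_inv_cancel_right] at h1
  have hcZ : c ∉ R := fun h1 => hyZ (hyzc ▸ mul_mem hz h1)
  have hcY : c ∈ Y := hc.1.1
  have hcQ0 : c ∈ o2 P := by
    rw [← IsParS.inf_centralizer S hG h.star]
    exact ⟨hXS (hYX hcY), mem_centralizer_iff.2 fun w hw => hX w (hVX hw) c (hYX hcY)⟩
  have hcS : ∀ s ∈ B, s * c * s⁻¹ * c⁻¹ ∈ R := by
    intro s hs
    have h1 := hyS s hs
    have h2 : s * z = z * s := h.cB s hs z hz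
    have e : s * y * s⁻¹ * y⁻¹ = s * c * s⁻¹ * c⁻¹ := by
      rw [hyzc]
      have h4 : s * (z * c) * s⁻¹ * (z * c)⁻¹ = (s * z) * c * s⁻¹ * c⁻¹ * z⁻¹ := by group
      have h5 : z * (s * c * s⁻¹ * c⁻¹) = s * c * s⁻¹ * c⁻¹ * z := by
        have h6 : s * c * s⁻¹ * c⁻¹ ∈ B :=
          mul_mem (mul_mem (mul_mem hs (h.QB hcQ0)) (inv_mem hs)) (inv_mem (h.QB hcQ0))
        exact (h.cB _ h6 z hz).symm
      rw [h4, h2]
      calc z * s * c * s⁻¹ * c⁻¹ * z⁻¹ = z * (s * c * s⁻¹ * c⁻¹) * z⁻¹ := by group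
        _ = s * c * s⁻¹ * c⁻¹ := by rw [h5]; group
    rwa [e] at h1
  -- `c` centralises `Q`
  obtain ⟨a₀, ha₀, ha₀Q⟩ := SetLike.not_le_iff_exists.1 hAQ
  have hcQ : ∀ t ∈ o2 P, t * c = c * t := by
    intro t ht
    have hbP : x * a₀ * x⁻¹ ∈ P := mul_mem (mul_mem hx (hSP (hB.le A hA ha₀))) (inv_mem hx)
    set b := x * a₀ * x⁻¹ with hb
    have hbc : b * c = c * b := by
      have h1 : c ∈ YB := hc.2
      have h2 : c ∈ cj x (centralizer (A : Set G)) := cj_mono x inf_le_right h1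
      rw [mem_cj, mem_centralizer_iff] at h2
      have h3 := h2 a₀ ha₀
      have h4 : x * (a₀ * (x⁻¹ * c * x)) * x⁻¹ = x * (x⁻¹ * c * x * a₀) * x⁻¹ := by rw [h3]
      rw [hb]
      calc x * a₀ * x⁻¹ * c = x * (a₀ * (x⁻¹ * c * x)) * x⁻¹ := by group
        _ = x * (x⁻¹ * c * x * a₀) * x⁻¹ := h4
        _ = c * (x * a₀ * x⁻¹) := by group
    set e := t * c * t⁻¹ * c⁻¹ with he
    have heZ : e ∈ R := hcS t (h.QB ht)
    have heV : e ∈ V := h.RV heZ
    have heZ' : b * e * b⁻¹ ∈ R := by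
      have h1 : b * t * b⁻¹ ∈ o2 P := conj_mem (MinSimple.VModule.le_normalizer_o2 P) hbP ht
      have h2 := hcS _ (h.QB h1)
      have h3 : b * c * b⁻¹ = c := by rw [hbc]; group
      have h4 : b * e * b⁻¹ = (b * t * b⁻¹) * (b * c * b⁻¹) * (b * t * b⁻¹)⁻¹ * (b * c * b⁻¹)⁻¹ := by
        rw [he]; group
      rw [h4, h3]
      exact h2
    -- `[b, e] ∈ R ∩ R^x = 1`
    have h1 : b * e * b⁻¹ * e⁻¹ ∈ R ⊓ cj x R := by
      refine mem_inf.2 ⟨mul_mem heZ' (inv_mem heZ), ?_⟩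
      rw [mem_cj]
      have h2 : x⁻¹ * e * x ∈ V := by
        have := conj_mem hPV (inv_mem hx) heV
        rwa [inv_inv] at this
      have h3 := h.comm a₀ (hAB' ha₀) _ h2
      have h4 : x⁻¹ * (b * e * b⁻¹ * e⁻¹) * x = a₀ * (x⁻¹ * e * x) * a₀⁻¹ * (x⁻¹ * e * x)⁻¹ := by
        rw [hb]; group
      rw [h4]
      exact h3
    rw [hxZ, mem_bot] at h1
    have h2 : e ∈ cj x R := by
      rw [mem_cj]
      have h3 : x⁻¹ * e * x ∈ V := by
        have := conj_mem hPV (inv_mem hx) heV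
        rwa [inv_inv] at this
      refine h.fix a₀ (hAB' ha₀) ha₀Q _ h3 ?_
      have h4 : b * e = e * b := by
        have := mul_inv_eq_one.1 h1
        calc b * e = b * e * b⁻¹ * b := by group
          _ = e * b := by rw [this]
      have h5 : x⁻¹ * (b * e) * x = x⁻¹ * (e * b) * x := by rw [h4]
      calc a₀ * (x⁻¹ * e * x) = x⁻¹ * (b * e) * x := by rw [hb]; group
        _ = x⁻¹ * (e * b) * x := h5
        _ = x⁻¹ * e * x * a₀ := by rw [hb]; group
    have h3 : e ∈ R ⊓ cj x R := ⟨heZ, h2⟩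
    rw [hxZ, mem_bot, he] at h3
    have := mul_inv_eq_one.1 h3
    calc t * c = t * c * t⁻¹ * t := by group
      _ = c * t := by rw [this]
  have hcV : c ∈ V := by
    rw [← hzo2]
    exact mem_zc.2 ⟨hcQ0, hXsq c (hYX hcY), hcQ⟩
  have h1 : c ∈ V ⊓ C := ⟨hcV, hc⟩
  rw [hVC, mem_bot] at h1
  exact hcZ (h1 ▸ one_mem _)

end BL

end Cfsg.Agent.Omega.NO3S.Fld

end

section


/-!
# Fld at the level `K`: the facts

`K` a level (`Level.Lev S K`), `K ≤ O₂(P)`, `A` a best offender of `S` on `X = Ω₁(Z(K))` with `A ≰ O₂(P)`,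
`M : Crd F S P V`, `V = V_P`, `R = M.R`, `B = C_S(R)`.

* `LevF M K` : all members of `BO S K` are in `B`, (T6) `Ω₁(Z(O₂(P))) = V`, `C_X(BO S K) = R`;
* `levF` : this holds;
* `LevF.nxt` : `Ω₁(Z(nxt S K)) = R`; `LevF.NS` : `N_G(S) ≤ N_G(R)`; `LevF.NB` : `N_G(B) ≤ N_G(K)`.
-/

set_option autoImplicit false
set_option linter.unusedSectionVars false

namespace Cfsg.Agent.Omega.NO3S.Fld

open Subgroup Cfsg Cfsg.Agent.ZN Cfsg.Agent.ZN.ChoiceBase Cfsg.Agent.Omega.MinPar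
open Cfsg.Agent.Omega.SQ1.Bau (elem_comm elem_sq mem_sup_norm)
open Cfsg.Agent.MinSimple.VModule (zc_le zc_le_zl zl_le le_o2 le_normalizer_zl)
open Cfsg.Agent.Omega.NO3S.OneLine (zc_elem o2_le BFam bo bo_eq bo_fam mem_cent_sSup elemM_mono)
open Cfsg.Agent.Omega.NO3S.Level

universe u

variable {G : Type u} [Group G] [Finite G] {S : Sylow 2 G} {P K : Subgroup G}
variable {F : Type*} [Field F] [Finite F] [CharP F 2]

/-- The best offenders on `Ω₁(Z(K))` form a family. -/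
theorem fam_BO (T K : Subgroup G) : BFam T (zc K) (normalizer (zc K : Set G)) (BO T K) := by
  rw [bo_eq]; exact bo_fam T (zc K)

theorem zc_comm' (K : Subgroup G) : ∀ x ∈ zc K, ∀ y ∈ zc K, x * y = y * x := elem_comm (zc_elem K)

theorem bo_le_B (M : Crd F (S : Subgroup G) P (zl (S : Subgroup G) P)) (hV : zl (S : Subgroup G) P ≤ zc K)
    {A : Subgroup G} (hA : A ∈ BO (S : Subgroup G) K) : A ≤ M.B := by
  have h1 := fam_BO (S : Subgroup G) K
  exact le_inf hA.1 (M.off_le_centR hA.1 (elemM_mono (h1.elem A hA) hV le_rfl) (h1.off (zc_comm' K) hV hA))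

/-- The facts at the level `K`. -/
structure LevF (M : Crd F (S : Subgroup G) P (zl (S : Subgroup G) P)) (K : Subgroup G) : Prop where
  lev : Lev (S : Subgroup G) K
  le : K ≤ o2 P
  ex : ∃ A ∈ BO (S : Subgroup G) K, ¬ A ≤ o2 P
  bl : BL (S : Subgroup G) P M.B M.R
  VX : zl (S : Subgroup G) P ≤ zc K
  AB : ∀ A ∈ BO (S : Subgroup G) K, A ≤ M.B
  zo : zc (o2 P) = zl (S : Subgroup G) P
  cent : zc K ⊓ centralizer ((sSup (BO (S : Subgroup G) K) : Subgroup G) : Set G) = M.R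

theorem levF (hG : IsCharacteristicTwoType G) (hP : IsParS (S : Subgroup G) P)
    (M : Crd F (S : Subgroup G) P (zl (S : Subgroup G) P)) (hL : Lev (S : Subgroup G) K) (hK : K ≤ o2 P)
    {A : Subgroup G} (hA : A ∈ BO (S : Subgroup G) K) (hAQ : ¬ A ≤ o2 P) : LevF M K := by
  have hQS : o2 P ≤ (S : Subgroup G) := o2_le S hP.toIsPar
  have hQX : zc (o2 P) ≤ zc K := hL.zc_o2_le hK hQS
  have hVX : zl (S : Subgroup G) P ≤ zc K := (hP.isLoc.zl_le S hG).trans hQX
  have hb := bl_of hG hP M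
  have hAB : ∀ A ∈ BO (S : Subgroup G) K, A ≤ M.B := fun A hA => bo_le_B M hVX hA
  have hfam := fam_BO (S : Subgroup G) K
  have hPX : P ≤ normalizer (zc K : Set G) := (hL.le_norm_of_o2 hK hQS).trans (normalizer_le_zc K)
  have hVS : zl (S : Subgroup G) P ≤ (S : Subgroup G) := (hP.isLoc.zl_le S hG).trans ((zc_le _).trans hQS)
  have hR := M.mem_R_of_cent S.isPGroup' hVS (zc_le_zl _ _)
  obtain ⟨x, hx, hx0⟩ := M.opp
  exact
    { lev := hL
      le := hK
      ex := ⟨A, hA, hAQ⟩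
      bl := hb
      VX := hVX
      AB := hAB
      zo := BL.zc_o2_fam hG hb hfam (zc_comm' K) hAB hR hQX hA hAQ
      cent := BL.cent_fam hG hb hfam (zc_comm' K) hAB hR (elem_sq (zc_elem K)) ((zc_le K).trans hL.le) hPX hPX hQX
        (by rw [M.card_V_R, pow_two]) hx hx0 hA hAQ }

namespace LevF

variable {M : Crd F (S : Subgroup G) P (zl (S : Subgroup G) P)} (h : LevF M K)
include h

theorem QS : o2 P ≤ (S : Subgroup G) := h.bl.QB.trans h.bl.BS

theorem KB : K ≤ M.B := h.le.trans h.bl.QB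

theorem P_norm : P ≤ normalizer (K : Set G) := h.lev.le_norm_of_o2 h.le h.QS

/-- `Ω₁(Z(nxt S K)) = R` -/
theorem nxt : zc (nxt (S : Subgroup G) K) = M.R := by
  apply le_antisymm
  · intro x hx
    rw [← h.cent]
    refine ⟨h.lev.zc_le_zc (le_nxt h.lev.le) (nxt_le _ _) hx, mem_cent_sSup.2 fun B hB b hb => ?_⟩
    exact (ChoiceBase.mem_zc.1 hx).2.2 b (BO.le_nxt hB hb)
  · intro x hx
    rw [← h.cent] at hx
    have h1 := ChoiceBase.mem_zc.1 hx.1
    refine ChoiceBase.mem_zc.2 ⟨le_nxt h.lev.le h1.1, h1.2.1, fun y hy => ?_⟩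
    have h2 : Level.nxt (S : Subgroup G) K ≤ centralizer ({x} : Set G) := by
      refine sup_le ?_ (sSup_le fun B hB b hb => ?_)
      · rintro s ⟨-, hs⟩
        rw [mem_centralizer_singleton_iff]
        exact (mem_centralizer_iff.1 hs x hx.1).symm
      · rw [mem_centralizer_singleton_iff]
        exact mem_cent_sSup.1 hx.2 B hB b hb
    exact mem_centralizer_singleton_iff.1 (h2 hy)

/-- `N_G(nxt S K) ≤ N_G(R)` -/
theorem norm_nxt : normalizer (Level.nxt (S : Subgroup G) K : Set G) ≤ normalizer (M.R : Set G) := by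
  have h1 := normalizer_le_zc (Level.nxt (S : Subgroup G) K)
  rwa [h.nxt] at h1

/-- `N_G(S) ≤ N_G(R)` -/
theorem NS : normalizer ((S : Subgroup G) : Set G) ≤ normalizer (M.R : Set G) :=
  (h.lev.next.norm _ (nxt_le _ _) le_rfl).trans h.norm_nxt

/-- `N_G(B) ≤ N_G(K)` -/
theorem NB : normalizer (M.B : Set G) ≤ normalizer (K : Set G) := h.lev.norm _ h.KB h.bl.BS

end LevF

/-- The facts at stage `n`. -/
theorem levF_of (hG : IsCharacteristicTwoType G) (hP : IsParS (S : Subgroup G) P)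
    (M : Crd F (S : Subgroup G) P (zl (S : Subgroup G) P)) {n : ℕ} (h1 : lev (S : Subgroup G) n ≤ o2 P)
    (h2 : ¬ lev (S : Subgroup G) (n + 1) ≤ o2 P) : LevF M (lev (S : Subgroup G) n) := by
  obtain ⟨A, hA, hAQ⟩ : ∃ A ∈ BO (S : Subgroup G) (lev (S : Subgroup G) n), ¬ A ≤ o2 P := by
    by_contra hcon
    push Not at hcon
    apply h2
    show Level.nxt (S : Subgroup G) (lev (S : Subgroup G) n) ≤ o2 P
    refine sup_le ?_ (sSup_le hcon)
    have h3 : zl (S : Subgroup G) P ≤ zc (lev (S : Subgroup G) n) :=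
      (hP.isLoc.zl_le S hG).trans ((lev_isLev (S : Subgroup G) n).zc_o2_le h1 (hP.isLoc.o2_le S))
    rw [← IsParS.inf_centralizer S hG hP]
    exact inf_le_inf_left _ (centralizer_le h3)
  exact levF hG hP M (lev_isLev _ n) h1 hA hAQ

end Cfsg.Agent.Omega.NO3S.Fld

end
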