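import Cfsg.Agent.Mrg.Omega.NO3b.K0.Abs
import Cfsg.Agent.Mrg.Omega.NO3S.NotFF.Basic
import Cfsg.Agent.Mrg.Omega.NO3b.EndFix
import Cfsg.Agent.ZN.ChoiceBase

section


/-!
# Exact offenders on the sections of a minimal parabolic

`X` is a minimal parabolic over its Sylow 2-subgroup `T`.

* `chief_le` : `Y / N` a noncentral chief factor, `A₁ ≤ L ≤ T` with `L` normal in `T`, `A₁`, `A₂ ≤ T` offenders on
  `Y / N`: then `A₂ ≤ L O₂(X)`;
* `sec_le` : the same for exact offenders on a section `Y / N` with `[Y, O²(X)] ≰ N`.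
-/

set_option autoImplicit false
set_option linter.unusedSectionVars false

namespace Cfsg.Agent.Omega.NO3S.Fld

open Subgroup Cfsg Cfsg.Agent.ZN Cfsg.Agent.ZN.ChoiceBase Cfsg.Agent.ZN.ChoiceSit
open Cfsg.Agent.MinSimple.MinParabolic (IsMinPar IsMin sup_eq_top_or_inf_le)
open Cfsg.Agent.MinSimple.VModule (oddGen oddGen_le mem_oddGen le_normalizer_oddGen oddGen_le_of_sup)
open Cfsg.Agent.Omega.NO3b.K0
open Cfsg.Agent.Omega.NO3S.NotFF (commutator_le_of_odd)
open scoped commutatorElement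

universe u

variable {G : Type u} [Group G] [Finite G] {X : Subgroup G}

/-- `A` is an offender on the section `Y / N` of `X` -/
structure SOff (X N Y A : Subgroup G) : Prop where
  sq : ∀ a ∈ A, a ^ 2 ∈ o2 X
  comm : ∀ a ∈ A, ∀ b ∈ A, a * b * a⁻¹ * b⁻¹ ∈ o2 X
  ne : ¬ A ≤ o2 X
  ex : ∃ D : Subgroup G, D ≤ Y ∧ ⁅D, A⁆ ≤ N ∧ D.relIndex Y ≤ (o2 X).relIndex A

theorem chief_le (h : FFBr.AStmt.{u}) {T : Subgroup G} (hT : Syl T X) (hmin : IsMinPar T X) {N Y : Subgroup G}
    (hNY : N ≤ Y) (hYX : Y ≤ X) (hsq : ∀ y ∈ Y, y ^ 2 = 1) (hc : Y ≤ centralizer (Y : Set G))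
    (hN : X ≤ normalizer (N : Set G)) (hY : X ≤ normalizer (Y : Set G))
    (chief : ∀ K : Subgroup G, N ≤ K → K ≤ Y → X ≤ normalizer (K : Set G) → K = N ∨ K = Y)
    (hmv : ¬ ⁅Y, oddGen X⁆ ≤ N) {A₁ A₂ L : Subgroup G} (hAL : A₁ ≤ L) (hLT : L ≤ T)
    (hTL : T ≤ normalizer (L : Set G)) (hAT : A₂ ≤ T) (h₁ : SOff X N Y A₁) (h₂ : SOff X N Y A₂) :
    A₂ ≤ L ⊔ o2 X := by
  have hfact : Fact (Nat.Prime 2) := ⟨Nat.prime_two⟩
  have hn : (N.subgroupOf Y).Normal := normal_subgroupOf_of_le_normalizer (hYX.trans hN)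
  obtain ⟨M, hM⟩ := hmin.exists_isMin
  obtain ⟨P, hP⟩ := syl_iff.1 hT
  have hTP : T.subgroupOf X = (P : Subgroup X) := by
    rw [← hP, Subgroup.subgroupOf, comap_map_eq_self_of_injective X.subtype_injective]
  rw [hTP] at hM
  have hvc : ∀ v w : Y ⧸ N.subgroupOf Y, v * w = w * v := by
    intro v w
    obtain ⟨y, rfl⟩ := QuotientGroup.mk_surjective v
    obtain ⟨z, rfl⟩ := QuotientGroup.mk_surjective w
    have h1 : y * z = z * y := Subtype.ext (mem_centralizer_iff.1 (hc z.2) _ y.2)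
    rw [← QuotientGroup.mk_mul, h1, QuotientGroup.mk_mul]
  have hvs : ∀ v : Y ⧸ N.subgroupOf Y, v * v = 1 := by
    intro v
    obtain ⟨y, rfl⟩ := QuotientGroup.mk_surjective v
    have h1 : y * y = 1 := Subtype.ext (by
      have := hsq y y.2
      rw [sq] at this
      exact this)
    rw [← QuotientGroup.mk_mul, h1, QuotientGroup.mk_one]
  have habs := abs_of_irr (cpr hN hY) (cpr_surjective hN hY) (cfaith hN hY) P M hM hvc hvs
    (cirr hN hY hNY chief) (codd hc hN hY hmv)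
  set K : Subgroup G := (cpr hN hY).ker.map X.subtype with hK
  have hKX : K ≤ X := map_subtype_le _
  have hmemK : ∀ x : X, (x : G) ∈ K ↔ cpr hN hY x = 1 := by
    intro x
    constructor
    · rintro ⟨x', hx', hxx⟩
      have : x' = x := Subtype.ext hxx
      rw [← this]
      exact hx'
    · intro hx
      exact ⟨x, hx, rfl⟩
  have ho2 : o2 X ≤ K := by
    have h1 : (pCore 2 X).map (cpr hN hY) = ⊥ :=
      habs.core _ (Normal.map inferInstance _ (cpr_surjective hN hY)) ((isPGroup_pCore 2).map _)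
    exact map_mono ((map_eq_bot_iff (f := cpr hN hY) _).1 h1)
  have hKn : X ≤ normalizer (K : Set G) := by
    have key : ∀ x ∈ X, ∀ k ∈ K, x * k * x⁻¹ ∈ K := by
      intro x hx k hk
      have h1 := (hmemK ⟨k, hKX hk⟩).1 hk
      refine (hmemK (⟨x, hx⟩ * ⟨k, hKX hk⟩ * ⟨x, hx⟩⁻¹)).2 ?_
      rw [map_mul, map_mul, map_inv, h1, mul_one, mul_inv_cancel]
    intro x hx
    rw [mem_normalizer_iff]
    intro k
    refine ⟨key x hx k, fun hk => ?_⟩
    have h3 := key x⁻¹ (inv_mem hx) _ hk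
    rw [inv_inv] at h3
    have h4 : x⁻¹ * (x * k * x⁻¹) * x = k := by group
    rwa [h4] at h3
  have hKT : T ⊓ K ≤ o2 X := by
    rcases hmin.sup_eq_or_inf_le hT.2.1 (syl_not_dvd hT) hKX hKn with h1 | h1
    · exfalso
      apply hmv
      have h2 : oddGen X ≤ K := oddGen_le_of_sup hKn h1.ge hT.1 hKX hT.2.1
      rw [commutator_le]
      intro y hy g hg
      exact (cpr_eq_one hc hN hY (x := ⟨g, hKX (h2 hg)⟩)).1 ((hmemK _).1 (h2 hg)) y hy
    · exact h1
  -- the offenders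
  have key : ∀ A : Subgroup G, A ≤ T → SOff X N Y A →
      FFBr.AOff (Y ⧸ N.subgroupOf Y) ((A.subgroupOf X).map (cpr hN hY)) := by
    intro A hA ho
    have hAX : A ≤ X := hA.trans hT.1
    refine ⟨?_, ?_, ?_, ?_⟩
    · rintro _ ⟨a, ha, rfl⟩ _ ⟨b, hb, rfl⟩
      have h2 : cpr hN hY (a * b * a⁻¹ * b⁻¹) = 1 :=
        (hmemK _).1 (ho2 (ho.comm a (mem_subgroupOf.1 ha) b (mem_subgroupOf.1 hb)))
      rw [map_mul, map_mul, map_mul, map_inv, map_inv, mul_inv_eq_one, mul_inv_eq_iff_eq_mul] at h2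
      exact h2
    · rintro _ ⟨a, ha, rfl⟩
      have h2 : cpr hN hY (a ^ 2) = 1 := (hmemK _).1 (ho2 (ho.sq a (mem_subgroupOf.1 ha)))
      rwa [pow_two, map_mul] at h2
    · intro h0
      apply ho.ne
      intro a ha
      have h1 : cpr hN hY ⟨a, hAX ha⟩ ∈ (A.subgroupOf X).map (cpr hN hY) := ⟨⟨a, hAX ha⟩, ha, rfl⟩
      rw [h0, mem_bot] at h1
      exact hKT ⟨hA ha, (hmemK ⟨a, hAX ha⟩).2 h1⟩
    · obtain ⟨D, hDY, hDA, hle⟩ := ho.ex
      have h4 : (o2 X).relIndex A ≤ Nat.card ((A.subgroupOf X).map (cpr hN hY)) := by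
        have h5 : K.relIndex A = Nat.card ((A.subgroupOf X).map (cpr hN hY)) := by
          have h6 : K.relIndex A = (cpr hN hY).ker.relIndex (A.subgroupOf X) := by
            have h7 := relIndex_map_map_of_injective (cpr hN hY).ker (A.subgroupOf X) X.subtype_injective
            rw [subgroupOf_map_subtype, inf_eq_left.2 hAX] at h7
            exact h7
          rw [h6, relIndex_ker]
        have hAK : A ⊓ K ≤ o2 X := (inf_le_inf_right _ hA).trans hKT
        rw [← h5, ← inf_relIndex_left A K]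
        refine Nat.le_of_dvd (Nat.pos_of_ne_zero ?_) (relIndex_dvd_of_le_left A hAK)
        exact FiniteIndex.index_ne_zero (H := (A ⊓ K).subgroupOf A)
      have h5 : (ClassTwoFusion.Quad.cv (Y ⧸ N.subgroupOf Y)
          ((A.subgroupOf X).map (cpr hN hY) : Set (CX hN hY))).index ≤ D.relIndex Y := by
        have h6 : (D.subgroupOf Y).map (QuotientGroup.mk' (N.subgroupOf Y)) ≤
            ClassTwoFusion.Quad.cv (Y ⧸ N.subgroupOf Y) ((A.subgroupOf X).map (cpr hN hY) : Set (CX hN hY)) := by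
          rintro _ ⟨y, hy, rfl⟩ _ ⟨a, ha, rfl⟩
          exact (cpr_smul_eq_iff hc hN hY).2
            (hDA (commutator_mem_commutator (mem_subgroupOf.1 hy) (mem_subgroupOf.1 ha)))
        refine (index_antitone h6).trans (Nat.le_of_dvd (Nat.pos_of_ne_zero
          (FiniteIndex.index_ne_zero (H := D.subgroupOf Y))) ?_)
        exact index_map_dvd _ (QuotientGroup.mk'_surjective _)
      exact h5.trans (hle.trans h4)
  -- no fixed points of `O²`
  have hodd : ∀ v ∈ FFBr.odd (CX hN hY) (Y ⧸ N.subgroupOf Y), v = 1 := by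
    rcases cirr hN hY hNY chief (FFBr.odd (CX hN hY) (Y ⧸ N.subgroupOf Y)) (fun x w hw y hy => by
      have h1 : Odd (orderOf (x⁻¹ * y * x)) := by
        have h2 : orderOf (x⁻¹ * y * x) = orderOf y := by
          have h3 := orderOf_injective (MulAut.conj x⁻¹).toMonoidHom (MulAut.conj x⁻¹).injective y
          have h4 : (MulAut.conj x⁻¹).toMonoidHom y = x⁻¹ * y * x := by
            change x⁻¹ * y * x⁻¹⁻¹ = _
            rw [inv_inv]
          rw [h4] at h3
          exact h3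
        rw [h2]
        exact hy
      have h2 := hw _ h1
      have h3 : y • x • w = x • ((x⁻¹ * y * x) • w) := by
        rw [← mul_smul, ← mul_smul]
        congr 1
        group
      rw [h3, h2]) with h1 | h1
    · intro v hv
      rw [h1] at hv
      exact mem_bot.1 hv
    · exact absurd h1 (codd hc hN hY hmv)
  have hconc := (h _ _ _ _ habs ⟨_, key A₂ hAT h₂⟩).2
  have hle : ∀ A : Subgroup G, A ≤ T → (A.subgroupOf X).map (cpr hN hY) ≤
      ((P.mapSurjective (cpr_surjective hN hY) : Sylow 2 (CX hN hY)) : Subgroup (CX hN hY)) := by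
    intro A hA
    rw [Sylow.coe_mapSurjective, ← hTP]
    exact map_mono fun a ha => mem_subgroupOf.2 (hA (mem_subgroupOf.1 ha))
  have hfin := offender_le hvc hvs (cfaith hN hY) hodd hconc (hle A₁ (hAL.trans hLT)) (key A₁ (hAL.trans hLT) h₁)
    (hle A₂ hAT) (key A₂ hAT h₂) (N := (L.subgroupOf X).map (cpr hN hY)) (by
      rintro t ht _ ⟨l, hl, rfl⟩
      rw [Sylow.coe_mapSurjective] at ht
      obtain ⟨s, hs, rfl⟩ := ht
      have hs' : s ∈ T.subgroupOf X := by rw [hTP]; exact hs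
      refine ⟨s * l * s⁻¹, ?_, by rw [map_mul, map_mul, map_inv]⟩
      exact mem_subgroupOf.2 ((mem_normalizer_iff.1 (hTL (mem_subgroupOf.1 hs')) _).1 (mem_subgroupOf.1 hl)))
    (map_mono fun a ha => mem_subgroupOf.2 (hAL (mem_subgroupOf.1 ha)))
  intro a ha
  have haX : a ∈ X := hT.1 (hAT ha)
  obtain ⟨l, hl, hla⟩ := hfin (show cpr hN hY ⟨a, haX⟩ ∈ (A₂.subgroupOf X).map (cpr hN hY) from ⟨⟨a, haX⟩, ha, rfl⟩)
  have hl' : (l : G) ∈ L := mem_subgroupOf.1 hl
  have h1 : cpr hN hY (l⁻¹ * ⟨a, haX⟩) = 1 := by rw [map_mul, map_inv, hla, inv_mul_cancel]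
  have h2 : (l : G)⁻¹ * a ∈ o2 X := hKT ⟨T.mul_mem (T.inv_mem (hLT hl')) (hAT ha), (hmemK _).2 h1⟩
  have h3 : a = (l : G) * ((l : G)⁻¹ * a) := by group
  rw [h3]
  exact mul_mem (mem_sup_left hl') (mem_sup_right h2)

theorem sec_le (h : FFBr.AStmt.{u}) {T : Subgroup G} (hT : Syl T X) (hmin : IsMinPar T X) {N Y : Subgroup G}
    (hNY : N ≤ Y) (hYX : Y ≤ X) (hsq : ∀ y ∈ Y, y ^ 2 = 1) (hY : Y ≤ centralizer (Y : Set G))
    (hN : X ≤ normalizer (N : Set G)) (hYn : X ≤ normalizer (Y : Set G))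
    (hE : ¬ ⁅Y, oddGen X⁆ ≤ N) {A₁ A₂ L : Subgroup G} (hAL : A₁ ≤ L) (hLT : L ≤ T)
    (hTL : T ≤ normalizer (L : Set G)) (hAT : A₂ ≤ T) (h₁ : SOff X N Y A₁) (h₂ : SOff X N Y A₂) :
    A₂ ≤ L ⊔ o2 X := by
  obtain ⟨Y', hY', hYmin⟩ := Set.exists_min_image {Y' : Subgroup G | N ≤ Y' ∧ Y' ≤ Y ∧
    X ≤ normalizer (Y' : Set G) ∧ ¬ ⁅Y', oddGen X⁆ ≤ N} (fun Y' => Nat.card Y') (Set.toFinite _)
    ⟨Y, hNY, le_rfl, hYn, hE⟩
  obtain ⟨h1, h2, h3, h4⟩ := hY'
  have hne : N ≠ Y' := by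
    rintro rfl
    apply h4
    rw [← le_normalizer_iff_commutator_le_left]
    exact (oddGen_le X).trans hN
  obtain ⟨N', hN', hNmax⟩ := Set.exists_max_image {N' : Subgroup G | N ≤ N' ∧ N' ≤ Y' ∧ N' ≠ Y' ∧
    X ≤ normalizer (N' : Set G)} (fun N' => Nat.card N') (Set.toFinite _) ⟨N, le_rfl, h1, hne, hN⟩
  obtain ⟨k1, k2, k3, k4⟩ := hN'
  have hYP : IsPGroup 2 Y := fun x => ⟨1, Subtype.ext (by simpa using hsq x x.2)⟩
  have hcomm : ∀ A B : Subgroup G, A ≤ Y → B ≤ Y → A ≤ normalizer (B : Set G) := fun A B hA hB =>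
    (hA.trans (hY.trans (centralizer_le hB))).trans (centralizer_le_normalizer _)
  have hN'E : ⁅N', oddGen X⁆ ≤ N := by
    by_contra h0
    have h5 := hYmin N' ⟨k1, k2.trans h2, k4, h0⟩
    exact k3 (eq_of_le_of_card_ge k2 h5)
  have hY'E : ¬ ⁅Y', oddGen X⁆ ≤ N' := by
    intro h0
    apply h4
    exact commutator_le_of_odd (oddGen_oddGen X) (hYP.to_le h2) ((oddGen_le X).trans h3)
      ((oddGen_le X).trans hN) (hcomm _ _ h2 hNY) ((commutator_mono h0 le_rfl).trans hN'E)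
  have hoff : ∀ A : Subgroup G, SOff X N Y A → SOff X N' Y' A := by
    rintro A ⟨a1, a2, a3, D, hDY, hDA, hle⟩
    refine ⟨a1, a2, a3, D ⊓ Y', inf_le_right, (commutator_mono inf_le_left le_rfl).trans (hDA.trans k1), ?_⟩
    rw [inf_relIndex_right]
    exact (relIndex_le_of_le_right h2 index_ne_zero_of_finite).trans hle
  exact chief_le h hT hmin k2 (h2.trans hYX) (fun y hy => hsq y (h2 hy))
    (h2.trans (hY.trans (centralizer_le h2))) k4 h3 (fun K hK1 hK2 hK3 => by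
      by_cases hKY : K = Y'
      · exact Or.inr hKY
      · left
        have h6 := hNmax K ⟨k1.trans hK1, hK2, hKY, hK3⟩
        exact (eq_of_le_of_card_ge hK1 h6).symm) hY'E hAL hLT hTL hAT (hoff _ h₁) (hoff _ h₂)

end Cfsg.Agent.Omega.NO3S.Fld

end

section


/-!
# The chain inequality modulo `K`

`cmod K A = {x ∈ N(K) | [A, x] ⊆ K}` : the centraliser of `A` modulo `K`.

* `chain` : if `|B : C_B(V / K)| ≤ |V : C_V(B / K)|` for all `B ≤ E` and all members `V` of a family `𝓛`, then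
  the same holds for `E` and the join of `𝓛`;
* `pair_le` : if `[A, N] ≤ ⟨z⟩`, `z` of order 2 and central, then `|A : C_A(N)| ≤ |N : C_N(A)|`.
-/

set_option autoImplicit false
set_option linter.unusedSectionVars false

namespace Cfsg.Agent.Omega.NO3S.Fld.Chain

open Subgroup

universe u

variable {G : Type u} [Group G]

/-- The centraliser of `A` modulo `K`. -/
def cmod (K A : Subgroup G) : Subgroup G where
  carrier := {x | x ∈ normalizer (K : Set G) ∧ ∀ a ∈ A, a * x * a⁻¹ * x⁻¹ ∈ K}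
  one_mem' := ⟨one_mem _, fun a _ => by
    have : a * 1 * a⁻¹ * (1 : G)⁻¹ = 1 := by group
    rw [this]; exact one_mem _⟩
  mul_mem' := by
    rintro x y ⟨hx, hx1⟩ ⟨hy, hy1⟩
    refine ⟨mul_mem hx hy, fun a ha => ?_⟩
    have e : a * (x * y) * a⁻¹ * (x * y)⁻¹ = a * x * a⁻¹ * x⁻¹ * (x * (a * y * a⁻¹ * y⁻¹) * x⁻¹) := by group
    rw [e]
    exact mul_mem (hx1 a ha) ((mem_normalizer_iff.1 hx _).1 (hy1 a ha))
  inv_mem' := by
    rintro x ⟨hx, hx1⟩
    refine ⟨inv_mem hx, fun a ha => ?_⟩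
    have e : a * x⁻¹ * a⁻¹ * x⁻¹⁻¹ = x⁻¹ * (a * x * a⁻¹ * x⁻¹)⁻¹ * x⁻¹⁻¹ := by group
    rw [e]
    exact (mem_normalizer_iff.1 (inv_mem hx) _).1 (inv_mem (hx1 a ha))

theorem mem_cmod {K A : Subgroup G} {x : G} :
    x ∈ cmod K A ↔ x ∈ normalizer (K : Set G) ∧ ∀ a ∈ A, a * x * a⁻¹ * x⁻¹ ∈ K := Iff.rfl

theorem cmod_anti {K A B : Subgroup G} (h : A ≤ B) : cmod K B ≤ cmod K A :=
  fun _ hx => ⟨hx.1, fun a ha => hx.2 a (h ha)⟩

/-- The Galois connection. -/
theorem le_cmod_comm {K A B : Subgroup G} (hA : A ≤ normalizer (K : Set G)) (h : B ≤ cmod K A) : A ≤ cmod K B := by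
  intro a ha
  refine ⟨hA ha, fun b hb => ?_⟩
  have e : b * a * b⁻¹ * a⁻¹ = (a * b * a⁻¹ * b⁻¹)⁻¹ := by group
  rw [e]
  exact inv_mem ((h hb).2 a ha)

theorem centralizer_le_cmod {K A B : Subgroup G} (hB : B ≤ normalizer (K : Set G)) :
    centralizer (A : Set G) ⊓ B ≤ cmod K A := by
  rintro x ⟨hx, hxB⟩
  refine ⟨hB hxB, fun a ha => ?_⟩
  rw [mem_centralizer_iff.1 hx a ha]
  have : x * a * a⁻¹ * x⁻¹ = 1 := by group
  rw [this]; exact one_mem _

variable [Finite G]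

theorem rel_ne (A B : Subgroup G) : A.relIndex B ≠ 0 :=
  Subgroup.index_ne_zero_of_finite (H := A.subgroupOf B)

theorem rel_pos (A B : Subgroup G) : 0 < A.relIndex B := Nat.pos_of_ne_zero (rel_ne _ _)

/-- **The chain inequality modulo `K`.** -/
theorem chain {K : Subgroup G} {𝓛 : Set (Subgroup G)} {E : Subgroup G} (hE : E ≤ normalizer (K : Set G))
    (h : ∀ V ∈ 𝓛, ∀ B ≤ E, (cmod K V).relIndex B ≤ (cmod K B).relIndex V)
    (hL : ∀ V ∈ 𝓛, V ≤ normalizer (K : Set G)) :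
    (cmod K (sSup 𝓛)).relIndex E ≤ (cmod K E).relIndex (sSup 𝓛) := by
  induction hn : Nat.card E using Nat.strong_induction_on generalizing E with
  | _ n ih =>
    by_cases hc : ∀ V ∈ 𝓛, E ≤ cmod K V
    · have h1 : sSup 𝓛 ≤ cmod K E := sSup_le fun V hV => le_cmod_comm (hL V hV) (hc V hV)
      rw [relIndex_eq_one.2 (le_cmod_comm hE h1)]
      exact rel_pos _ _
    · push Not at hc
      obtain ⟨V, hV, hEV⟩ := hc
      have hVW : V ≤ sSup 𝓛 := le_sSup hV
      set W := sSup 𝓛 with hW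
      set E₁ := cmod K V ⊓ E with hE₁
      have hE₁E : E₁ ≤ E := inf_le_right
      have hlt : Nat.card E₁ < n := by
        rw [← hn]
        refine lt_of_le_of_ne (Subgroup.card_le_of_le hE₁E) ?_
        intro heq
        have : E₁ = E := Subgroup.eq_of_le_of_card_ge hE₁E heq.ge
        exact hEV (by rw [← this]; exact inf_le_left)
      have h1 := ih _ hlt (E := E₁) (hE₁E.trans hE) (fun V' hV' B hB => h V' hV' B (hB.trans hE₁E)) rfl
      have e1 : (cmod K W).relIndex E₁ * (cmod K V).relIndex E = (cmod K W).relIndex E := by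
        rw [hE₁, relIndex_inf_mul_relIndex, inf_eq_left.2 (cmod_anti hVW)]
      have e2 : (cmod K E).relIndex (cmod K E₁ ⊓ W) * (cmod K E₁).relIndex W = (cmod K E).relIndex W := by
        rw [relIndex_inf_mul_relIndex, inf_eq_left.2 (cmod_anti hE₁E)]
      have h2 : V ≤ cmod K E₁ ⊓ W := le_inf (le_cmod_comm (hL V hV) inf_le_left) hVW
      have h3 : (cmod K E).relIndex V ≤ (cmod K E).relIndex (cmod K E₁ ⊓ W) :=
        relIndex_le_of_le_right h2 (rel_ne _ _)
      rw [← e1, ← e2, mul_comm]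
      exact Nat.mul_le_mul ((h V hV E le_rfl).trans h3) h1

theorem normalizer_bot : normalizer ((⊥ : Subgroup G) : Set G) = ⊤ := by
  rw [eq_top_iff]
  intro x _
  rw [mem_normalizer_iff]
  intro y
  constructor
  · intro hy
    rw [mem_bot.1 hy]
    simp
  · intro hy
    have h1 : x * y * x⁻¹ = 1 := mem_bot.1 hy
    have h2 : y = 1 := by
      have : y = x⁻¹ * (x * y * x⁻¹) * x := by group
      rw [this, h1]; group
    rw [h2]; exact one_mem _

theorem cmod_bot (A : Subgroup G) : cmod ⊥ A = centralizer (A : Set G) := by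
  ext x
  rw [mem_cmod, normalizer_bot, mem_centralizer_iff]
  constructor
  · rintro ⟨-, h⟩ a ha
    have := mem_bot.1 (h a ha)
    rw [mul_inv_eq_one, mul_inv_eq_iff_eq_mul] at this
    exact this
  · intro h
    refine ⟨mem_top _, fun a ha => ?_⟩
    rw [h a ha, mem_bot]; group

/-- The chain inequality for centralisers. -/
theorem chain_bot {𝓛 : Set (Subgroup G)} {E : Subgroup G}
    (h : ∀ V ∈ 𝓛, ∀ B ≤ E, (centralizer (V : Set G)).relIndex B ≤ (centralizer (B : Set G)).relIndex V) :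
    (centralizer ((sSup 𝓛 : Subgroup G) : Set G)).relIndex E ≤ (centralizer (E : Set G)).relIndex (sSup 𝓛) := by
  have := chain (K := (⊥ : Subgroup G)) (𝓛 := 𝓛) (E := E) (by rw [normalizer_bot]; exact le_top)
    (fun V hV B hB => by rw [cmod_bot, cmod_bot]; exact h V hV B hB) (fun V _ => by rw [normalizer_bot]; exact le_top)
  rwa [cmod_bot, cmod_bot] at this

/-- The kernel of `[·, n] : B → ⟨z⟩` has index at most 2. -/
theorem relIndex_le_two {B : Subgroup G} {n z : G} (hz : z * z = 1)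
    (h : ∀ b ∈ B, b * n * b⁻¹ * n⁻¹ = 1 ∨ b * n * b⁻¹ * n⁻¹ = z) :
    (centralizer ({n} : Set G)).relIndex B ≤ 2 := by
  have hzi : z⁻¹ = z := inv_eq_of_mul_eq_one_left hz
  by_cases hall : ∀ b ∈ B, b * n * b⁻¹ * n⁻¹ = 1
  · have : B ≤ centralizer ({n} : Set G) := by
      intro b hb
      rw [mem_centralizer_singleton_iff]
      have := hall b hb
      rw [mul_inv_eq_one, mul_inv_eq_iff_eq_mul] at this
      exact this
    rw [relIndex_eq_one.2 this]; decide
  · push Not at hall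
    obtain ⟨c, hc, hcn⟩ := hall
    have hcz := (h c hc).resolve_left hcn
    have hcn' : c * n * c⁻¹ = z * n := mul_inv_eq_iff_eq_mul.1 hcz
    have hz1 : z ≠ 1 := fun h0 => hcn (hcz.trans h0)
    refine le_of_eq (relIndex_eq_two_iff.2 ⟨c, hc, fun b hb => ?_⟩)
    have key : ∀ b ∈ B, b ∈ centralizer ({n} : Set G) ↔ b * n * b⁻¹ * n⁻¹ = 1 := by
      intro b _
      rw [mem_centralizer_singleton_iff, mul_inv_eq_one, mul_inv_eq_iff_eq_mul]
    rw [key _ (mul_mem hb hc), key _ hb]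
    have e : b * c * n * (b * c)⁻¹ * n⁻¹ = b * (c * n * c⁻¹) * b⁻¹ * n⁻¹ := by group
    rw [e, hcn']
    have hbz : b * z * b⁻¹ = z := by
      -- `z = [c, n]`, use `[b c, n]` and `[b, n]`
      have h1 := h b hb
      have h2 := h (b * c) (mul_mem hb hc)
      rw [e, hcn'] at h2
      have e3 : b * (z * n) * b⁻¹ * n⁻¹ = b * z * b⁻¹ * (b * n * b⁻¹ * n⁻¹) := by group
      rw [e3] at h2
      rcases h1 with h1 | h1 <;> rcases h2 with h2 | h2
      · rw [h1, mul_one] at h2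
        exfalso; apply hz1
        have : z = b⁻¹ * (b * z * b⁻¹) * b := by group
        rw [this, h2]; group
      · rwa [h1, mul_one] at h2
      · rw [h1] at h2
        rw [mul_eq_one_iff_eq_inv.1 h2, hzi]
      · rw [h1] at h2
        exfalso; apply hz1
        have h3 : b * z * b⁻¹ = 1 := mul_right_cancel (h2.trans (one_mul z).symm)
        have : z = b⁻¹ * (b * z * b⁻¹) * b := by group
        rw [this, h3]; group
    have e4 : b * (z * n) * b⁻¹ * n⁻¹ = z * (b * n * b⁻¹ * n⁻¹) := by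
      calc b * (z * n) * b⁻¹ * n⁻¹ = b * z * b⁻¹ * (b * n * b⁻¹ * n⁻¹) := by group
        _ = _ := by rw [hbz]
    rw [e4]
    rcases h b hb with h1 | h1
    · right
      refine ⟨h1, ?_⟩
      rw [h1, mul_one]; exact hz1
    · left
      rw [h1]
      exact ⟨hz, hz1⟩

/-- **Pairing into a group of order 2.** -/
theorem pair_le {A N : Subgroup G} {z : G} (hz : z * z = 1)
    (h : ∀ a ∈ A, ∀ n ∈ N, a * n * a⁻¹ * n⁻¹ = 1 ∨ a * n * a⁻¹ * n⁻¹ = z) :
    (centralizer (N : Set G)).relIndex A ≤ (centralizer (A : Set G)).relIndex N := by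
  have h1 := chain_bot (𝓛 := {V | ∃ n ∈ N, V = zpowers n}) (E := A) (by
    rintro _ ⟨n, hn, rfl⟩ B hB
    have hcz : centralizer ((zpowers n : Subgroup G) : Set G) = centralizer ({n} : Set G) := by
      rw [zpowers_eq_closure, centralizer_closure]
    by_cases hBn : B ≤ centralizer ({n} : Set G)
    · rw [hcz, relIndex_eq_one.2 hBn]
      exact rel_pos _ _
    · have h2 : (centralizer ({n} : Set G)).relIndex B ≤ 2 :=
        relIndex_le_two hz fun b hb => h b (hB hb) n hn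
      have h3 : (centralizer (B : Set G)).relIndex (zpowers n) ≠ 1 := by
        intro h4
        apply hBn
        intro b hb
        rw [mem_centralizer_singleton_iff]
        exact mem_centralizer_iff.1 (relIndex_eq_one.1 h4 (mem_zpowers n)) b hb
      have h4 := rel_pos (centralizer (B : Set G)) (zpowers n)
      rw [hcz]
      omega)
  have e : sSup {V | ∃ n ∈ N, V = zpowers n} = N := by
    apply le_antisymm
    · refine sSup_le ?_
      rintro _ ⟨n, hn, rfl⟩
      rwa [zpowers_le]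
    · intro n hn
      have h2 : zpowers n ≤ sSup {V | ∃ n ∈ N, V = zpowers n} := le_sSup ⟨n, hn, rfl⟩
      exact h2 (mem_zpowers n)
  rwa [e] at h1

end Cfsg.Agent.Omega.NO3S.Fld.Chain

end
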