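import Cfsg.Agent.Omega.NO3S.Fld.DEight
import Cfsg.Agent.Mrg.Omega.NO3S.Fld.Chief
import Cfsg.Agent.Mrg.Omega.FrameI
import Cfsg.Agent.Mrg.Omega.VP

section


/-!
# Fld, `q = 4`: the case `V ∩ X = R` (#15515 (1))

`V` is the module of `DEight` for `S`; `P ≤ C(z)` acts, `Q ≤ S` is normal in `P`; `U = ⟨V^P⟩ ≤ Q` is abelian,
`X = ⟨R^P⟩`, `V ∩ X = R`.

* `One.gain_of` : `|A₀ : C(X)| |A₀ : C(U)| ≤ |U : C_U(A₀)|` for `A₀ ≤ Q` elementary abelian modulo `C(U)`;
* `One.count_of` : if moreover `C_S(U) ≤ Q` and `A ≤ S` is elementary abelian modulo `C(U)` with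
  `|U : C_U(A)| ≤ |A : C_A(U)|` then `|X : C_X(A)| ≤ |A : A ∩ Q|`;
* `One.exact` : exactness for `A ∈ A(S)`.
-/

set_option autoImplicit false
set_option linter.unusedSectionVars false

namespace Cfsg.Agent.Omega.NO3S.Fld.GainOne

open Subgroup Cfsg Cfsg.Agent.ZN.ChoiceBase Cfsg.Agent.PLocal.ThompsonJ
open Cfsg.Agent.Omega.NO3S.Fld.DEight Cfsg.Agent.Omega.NO3S.Fld.Chain

universe u

variable {G : Type u} [Group G] [Finite G]

/-- The conjugates of `V` under `P`. -/
def conjs (P V : Subgroup G) : Set (Subgroup G) := {W | ∃ g ∈ P, W = cj g V}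

/-- The hypotheses of #15515 (1), without the FF theorem. -/
structure One (S P Q V R V3 : Subgroup G) (z : G) : Prop where
  mod : Mod S V R V3 z
  Q_le : Q ≤ S
  S_le : S ≤ P
  norm : P ≤ normalizer (Q : Set G)
  cz : ∀ g ∈ P, g * z = z * g
  comm : sSup (conjs P V) ≤ centralizer ((sSup (conjs P V) : Subgroup G) : Set G)
  U_le : sSup (conjs P V) ≤ Q
  inf : V ⊓ sSup (conjs P R) = R

theorem conj_mul {g a x : G} : g⁻¹ * (a * x * a⁻¹ * x⁻¹) * g =
    (g⁻¹ * a * g) * (g⁻¹ * x * g) * (g⁻¹ * a * g)⁻¹ * (g⁻¹ * x * g)⁻¹ := by group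

/-- Conjugation of a relative index of a centraliser. -/
theorem relIndex_conj (g : G) (V B : Subgroup G) :
    (centralizer ((cj g V : Subgroup G) : Set G)).relIndex B = (centralizer (V : Set G)).relIndex (cj g⁻¹ B) := by
  have h2 := relIndex_map_map_of_injective (f := (MulAut.conj g).toMonoidHom) (centralizer (V : Set G)) (cj g⁻¹ B)
    (MulAut.conj g).injective
  have h3 : (centralizer (V : Set G)).map (MulAut.conj g).toMonoidHom = centralizer ((cj g V : Subgroup G) : Set G) :=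
    cj_centralizer g V
  have h4 : (cj g⁻¹ B).map (MulAut.conj g).toMonoidHom = B := cj_cj_inv g B
  rw [h3, h4] at h2
  exact h2

theorem relIndex_conj' (g : G) (V B : Subgroup G) :
    (centralizer (B : Set G)).relIndex (cj g V) = (centralizer ((cj g⁻¹ B : Subgroup G) : Set G)).relIndex V := by
  have := relIndex_conj g⁻¹ B V
  rw [inv_inv] at this
  exact this.symm

theorem cj_cmod {K : Subgroup G} {g : G} (hg : g ∈ normalizer (K : Set G)) (A : Subgroup G) :
    cj g (cmod K A) = cmod K (cj g A) := by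
  ext x
  rw [mem_cj, mem_cmod, mem_cmod]
  have hg' := inv_mem hg
  constructor
  · rintro ⟨h1, h2⟩
    refine ⟨?_, ?_⟩
    · have e : x = g * (g⁻¹ * x * g) * g⁻¹ := by group
      rw [e]
      exact mul_mem (mul_mem hg h1) hg'
    · intro a ha
      rw [mem_cj] at ha
      have h3 := h2 _ ha
      rw [← conj_mul] at h3
      have h4 := (mem_normalizer_iff.1 hg _).1 h3
      have e : g * (g⁻¹ * (a * x * a⁻¹ * x⁻¹) * g) * g⁻¹ = a * x * a⁻¹ * x⁻¹ := by group
      rwa [e] at h4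
  · rintro ⟨h1, h2⟩
    refine ⟨mul_mem (mul_mem hg' h1) hg, ?_⟩
    intro a ha
    have h3 := h2 (g * a * g⁻¹) (Subgroup.mem_map_of_mem _ ha)
    have h4 := (mem_normalizer_iff.1 hg' _).1 h3
    rw [inv_inv, conj_mul] at h4
    have e : g⁻¹ * (g * a * g⁻¹) * g = a := by group
    rwa [e] at h4

theorem relIndex_cmod_conj {K : Subgroup G} {g : G} (hg : g ∈ normalizer (K : Set G)) (V B : Subgroup G) :
    (cmod K (cj g V)).relIndex B = (cmod K V).relIndex (cj g⁻¹ B) := by
  have h2 := relIndex_map_map_of_injective (f := (MulAut.conj g).toMonoidHom) (cmod K V) (cj g⁻¹ B)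
    (MulAut.conj g).injective
  have h3 : (cmod K V).map (MulAut.conj g).toMonoidHom = cmod K (cj g V) := cj_cmod hg V
  have h4 : (cj g⁻¹ B).map (MulAut.conj g).toMonoidHom = B := cj_cj_inv g B
  rw [h3, h4] at h2
  exact h2

theorem relIndex_cmod_conj' {K : Subgroup G} {g : G} (hg : g ∈ normalizer (K : Set G)) (V B : Subgroup G) :
    (cmod K B).relIndex (cj g V) = (cmod K (cj g⁻¹ B)).relIndex V := by
  have := relIndex_cmod_conj (inv_mem hg) B V
  rw [inv_inv] at this
  exact this.symm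

/-- `P` normalises `⟨V^P⟩`. -/
theorem le_normalizer_sSup {P V : Subgroup G} :
    P ≤ normalizer ((sSup (conjs P V) : Subgroup G) : Set G) := by
  intro g hg
  apply mem_normalizer_of_cj_le
  have : cj g (sSup (conjs P V)) ≤ sSup (conjs P V) := by
    rw [cj_le_iff]
    refine sSup_le ?_
    rintro _ ⟨k, hk, rfl⟩
    rw [← cj_le_iff, cj_cj]
    exact le_sSup ⟨g * k, mul_mem hg hk, rfl⟩
  exact this

theorem le_sSup_conjs {P V : Subgroup G} {g : G} (hg : g ∈ P) : cj g V ≤ sSup (conjs P V) := le_sSup ⟨g, hg, rfl⟩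

theorem self_le_sSup_conjs {P V : Subgroup G} : V ≤ sSup (conjs P V) := by
  have := le_sSup_conjs (V := V) (one_mem P)
  rwa [cj_one] at this

section

variable {S P Q V R V3 : Subgroup G} {z : G} (h : One S P Q V R V3 z)
include h

local notation "U" => sSup (conjs P V)
local notation "X" => sSup (conjs P R)

theorem One.zz : z * z = 1 := by
  rw [← pow_two]
  exact h.mod.sq z (h.mod.V3_le (h.mod.R_le h.mod.z_mem))

theorem One.mem_z {x : G} : x ∈ zpowers z ↔ x = 1 ∨ x = z := by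
  constructor
  · rintro ⟨n, rfl⟩
    obtain ⟨k, hk | hk⟩ := Int.even_or_odd' n
    · left
      show z ^ n = 1
      rw [hk, zpow_mul, show z ^ (2 : ℤ) = 1 by rw [zpow_two]; exact h.zz, one_zpow]
    · right
      show z ^ n = z
      rw [hk, zpow_add, zpow_mul, show z ^ (2 : ℤ) = 1 by rw [zpow_two]; exact h.zz, one_zpow, one_mul, zpow_one]
  · rintro (rfl | rfl)
    · exact one_mem _
    · exact Subgroup.mem_zpowers _

theorem One.XU : X ≤ U := by
  refine sSup_le ?_
  rintro _ ⟨g, hg, rfl⟩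
  exact (cj_mono g (h.mod.R_le.trans h.mod.V3_le)).trans (le_sSup_conjs hg)

theorem One.conj_Q {g x : G} (hg : g ∈ P) (hx : x ∈ Q) : g⁻¹ * x * g ∈ Q := by
  have := (mem_normalizer_iff.1 (inv_mem (h.norm hg)) x).1 hx
  rwa [inv_inv] at this

theorem One.cj_Q {g : G} (hg : g ∈ P) : cj g Q = Q := cj_eq_of_mem_normalizer (h.norm hg)

/-- `S` acts on `R` with commutators in `⟨z⟩`. -/
theorem One.R_comm {b x : G} (hb : b ∈ S) (hx : x ∈ R) : b * x * b⁻¹ * x⁻¹ = 1 ∨ b * x * b⁻¹ * x⁻¹ = z := by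
  -- `R / ⟨z⟩` has order 2
  have hfix : b * z * b⁻¹ = z := by rw [h.mod.S_z b hb]; group
  have hRc : ∀ x ∈ R, ∀ y ∈ R, x * y = y * x := fun x hx y hy =>
    mem_centralizer_iff.1 (h.mod.comm (h.mod.V3_le (h.mod.R_le hy))) x (h.mod.V3_le (h.mod.R_le hx))
  have hRsq : ∀ x ∈ R, x * x = 1 := fun x hx => by
    rw [← pow_two]; exact h.mod.sq x (h.mod.V3_le (h.mod.R_le hx))
  have hz1 := h.mod.z_ne
  by_cases h1 : b * x * b⁻¹ = x
  · left; rw [h1, mul_inv_cancel]
  by_cases hx1 : x = 1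
  · left; rw [hx1]; group
  have hxz : x ≠ z := fun h0 => h1 (by rw [h0]; exact hfix)
  have hy : b * x * b⁻¹ ∈ R := (mem_normalizer_iff.1 (h.mod.S_R hb) x).1 hx
  have hy1 : b * x * b⁻¹ ≠ 1 := fun h0 => hx1 (by
    have : x = b⁻¹ * (b * x * b⁻¹) * b := by group
    rw [this, h0]; group)
  have hyz : b * x * b⁻¹ ≠ z := fun h0 => hxz (by
    have e1 : x = b⁻¹ * (b * x * b⁻¹) * b := by group
    have e2 : z = b⁻¹ * (b * z * b⁻¹) * b := by group
    rw [e1, h0]
    calc b⁻¹ * z * b = b⁻¹ * (b * z * b⁻¹) * b := by rw [hfix]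
      _ = z := by group)
  -- the four elements `1, z, x, x z`
  right
  have hxz' : x * z ≠ 1 := fun h0 => hxz (by rw [mul_eq_one_iff_eq_inv.1 h0]; exact inv_eq_of_mul_eq_one_left h.zz)
  have h4 : b * x * b⁻¹ = x * z := by
    classical
    by_contra h5
    have hcard : ({⟨1, one_mem R⟩, ⟨z, h.mod.z_mem⟩, ⟨x, hx⟩, ⟨x * z, mul_mem hx h.mod.z_mem⟩, ⟨b * x * b⁻¹, hy⟩} :
        Finset R).card = 5 := by
      rw [Finset.card_insert_of_notMem, Finset.card_insert_of_notMem, Finset.card_insert_of_notMem,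
        Finset.card_insert_of_notMem, Finset.card_singleton]
      · simp only [Finset.mem_singleton, Subtype.mk.injEq]
        exact fun h0 => h5 h0.symm
      · simp only [Finset.mem_insert, Finset.mem_singleton, Subtype.mk.injEq, not_or]
        refine ⟨fun h0 => hz1 ?_, fun h0 => h1 h0.symm⟩
        exact left_eq_mul.1 h0
      · simp only [Finset.mem_insert, Finset.mem_singleton, Subtype.mk.injEq, not_or]
        refine ⟨fun h0 => hxz h0.symm, fun h0 => hx1 ?_, fun h0 => hyz h0.symm⟩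
        exact right_eq_mul.1 h0
      · simp only [Finset.mem_insert, Finset.mem_singleton, Subtype.mk.injEq, not_or]
        exact ⟨fun h0 => hz1 h0.symm, fun h0 => hx1 h0.symm, fun h0 => hxz' h0.symm, fun h0 => hy1 h0.symm⟩
    have : Fintype R := Fintype.ofFinite R
    have h6 : Fintype.card R = 4 := by rw [← Nat.card_eq_fintype_card, h.mod.cardR]
    have h7 := Finset.card_le_univ ({⟨1, one_mem R⟩, ⟨z, h.mod.z_mem⟩, ⟨x, hx⟩, ⟨x * z, mul_mem hx h.mod.z_mem⟩,
      ⟨b * x * b⁻¹, hy⟩} : Finset R)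
    omega
  rw [h4, hRc x hx z h.mod.z_mem, mul_assoc, mul_inv_cancel, mul_one]

/-- Commutators in `⟨z⟩` and conjugation. -/
theorem One.le_cmod_z {g : G} (hg : g ∈ P) {W B : Subgroup G} (hW : W ≤ V)
    (hc : ∀ b ∈ B, ∀ x ∈ W, (g⁻¹ * b * g) * x * (g⁻¹ * b * g)⁻¹ * x⁻¹ ∈ zpowers z) :
    cj g W ≤ cmod (zpowers z) B := by
  intro x hx
  rw [mem_cj] at hx
  have hxz : x * z = z * x := by
    have h0 : (g⁻¹ * x * g) * z = z * (g⁻¹ * x * g) :=
      mem_centralizer_iff.1 (h.mod.comm (h.mod.V3_le (h.mod.R_le h.mod.z_mem))) _ (hW hx)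
    have hgz := h.cz g hg
    have e1 : x = g * (g⁻¹ * x * g) * g⁻¹ := by group
    have e2 : g⁻¹ * z = z * g⁻¹ := by
      rw [inv_mul_eq_iff_eq_mul, ← mul_assoc, hgz, mul_assoc, mul_inv_cancel, mul_one]
    rw [e1]
    calc g * (g⁻¹ * x * g) * g⁻¹ * z = g * (g⁻¹ * x * g) * (g⁻¹ * z) := by group
      _ = g * ((g⁻¹ * x * g) * z) * g⁻¹ := by rw [e2]; group
      _ = g * z * (g⁻¹ * x * g) * g⁻¹ := by rw [h0]; group
      _ = z * (g * (g⁻¹ * x * g) * g⁻¹) := by rw [hgz]; group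
  refine ⟨?_, fun b hb => ?_⟩
  · apply mem_normalizer_of_cj_le
    rintro _ ⟨y, hy, rfl⟩
    obtain ⟨i, rfl⟩ := mem_zpowers_iff.1 hy
    have e : (MulAut.conj x).toMonoidHom (z ^ i) = z ^ i := by
      show x * z ^ i * x⁻¹ = z ^ i
      rw [((show Commute x z from hxz).zpow_right i).eq]; group
    rw [e]
    exact zpow_mem (mem_zpowers z) i
  · have h1 := hc b hb _ hx
    rw [← conj_mul, h.mem_z] at h1
    rw [h.mem_z]
    rcases h1 with h1 | h1
    · left
      have : b * x * b⁻¹ * x⁻¹ = g * (g⁻¹ * (b * x * b⁻¹ * x⁻¹) * g) * g⁻¹ := by group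
      rw [this, h1]; group
    · right
      have : b * x * b⁻¹ * x⁻¹ = g * (g⁻¹ * (b * x * b⁻¹ * x⁻¹) * g) * g⁻¹ := by group
      rw [this, h1, h.cz g hg]; group

/-- `[X, Q] ≤ ⟨z⟩`. -/
theorem One.X_comm : X ≤ cmod (zpowers z) Q := by
  refine sSup_le ?_
  rintro _ ⟨g, hg, rfl⟩
  refine h.le_cmod_z hg (h.mod.R_le.trans h.mod.V3_le) fun b hb x hx => ?_
  rw [h.mem_z]
  exact h.R_comm (h.Q_le (h.conj_Q hg hb)) hx

theorem One.cj_le_S {g : G} (hg : g ∈ P) {B : Subgroup G} (hB : B ≤ Q) : cj g⁻¹ B ≤ S := by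
  refine le_trans ?_ h.Q_le
  have := cj_mono g⁻¹ hB
  rwa [cj_eq_of_mem_normalizer (h.norm (inv_mem hg))] at this

omit h in
theorem elemOn {B : Subgroup G} (hB : IsElementaryAbelian 2 B) : ElemOn V B :=
  ⟨fun a ha => by rw [hB.2 a ha]; exact one_mem _, fun a ha b hb => by
    have e : a * b = b * a := (isElementaryAbelian_iff.1 hB).1 a ha b hb
    have : a * b * a⁻¹ * b⁻¹ = 1 := by rw [e]; group
    rw [this]; exact one_mem _⟩

omit h in
theorem elem_of_le {A B : Subgroup G} (hA : IsElementaryAbelian 2 A) (hB : B ≤ A) : IsElementaryAbelian 2 B :=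
  isElementaryAbelian_iff.2 ⟨fun a ha b hb => (isElementaryAbelian_iff.1 hA).1 a (hB ha) b (hB hb),
    fun a ha => hA.2 a (hB ha)⟩

omit h in
theorem elemOn_mono {W A B : Subgroup G} (hA : ElemOn W A) (hB : B ≤ A) : ElemOn W B :=
  ⟨fun a ha => hA.sq a (hB ha), fun a ha b hb => hA.comm a (hB ha) b (hB hb)⟩

omit h in
/-- conjugation of a group elementary abelian modulo `C(U)` -/
theorem elemOn_cj {B : Subgroup G} (hB : ElemOn (U : Subgroup G) B) {g : G} (hg : g ∈ P) : ElemOn V (cj g⁻¹ B) := by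
  have key : ∀ x ∈ centralizer ((U : Subgroup G) : Set G), g⁻¹ * x * g ∈ centralizer (V : Set G) := by
    intro x hx
    have h1 := centralizer_le (show ((cj g V : Subgroup G) : Set G) ⊆ (U : Subgroup G) from le_sSup_conjs hg) hx
    rw [← cj_centralizer, mem_cj] at h1
    exact h1
  constructor
  · intro a ha
    rw [mem_cj, inv_inv] at ha
    have h1 := key _ (hB.sq _ ha)
    have e : g⁻¹ * (g * a * g⁻¹) ^ 2 * g = a ^ 2 := by rw [pow_two, pow_two]; group
    rwa [e] at h1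
  · intro a ha b hb
    rw [mem_cj, inv_inv] at ha hb
    have h1 := key _ (hB.comm _ ha _ hb)
    have e : g⁻¹ * ((g * a * g⁻¹) * (g * b * g⁻¹) * (g * a * g⁻¹)⁻¹ * (g * b * g⁻¹)⁻¹) * g =
      a * b * a⁻¹ * b⁻¹ := by group
    rwa [e] at h1

theorem One.ind {B : Subgroup G} (hB : ElemOn (U : Subgroup G) B) (hBQ : B ≤ Q) {g : G} (hg : g ∈ P) :
    (centralizer ((cj g V : Subgroup G) : Set G)).relIndex B ≤ (centralizer (B : Set G)).relIndex (cj g V) := by
  rw [relIndex_conj g V B, relIndex_conj' g V B]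
  exact h.mod.ind _ (h.cj_le_S hg hBQ) (elemOn_cj hB hg)

/-- `|B : C_B(R)| ≤ 2`. -/
theorem One.relIndex_R {B : Subgroup G} (hB : B ≤ S) : (centralizer (R : Set G)).relIndex B ≤ 2 := by
  have hz2 : Nat.card (zpowers z) = 2 := by
    rw [Nat.card_zpowers]
    exact orderOf_eq_prime (by rw [pow_two]; exact h.zz) h.mod.z_ne
  obtain ⟨r, hr, hrz⟩ : ∃ r ∈ R, r ∉ zpowers z := by
    by_contra hcon
    push Not at hcon
    have := Subgroup.card_le_of_le (show R ≤ zpowers z from hcon)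
    rw [hz2, h.mod.cardR] at this
    omega
  have hle : zpowers z ⊔ zpowers r ≤ R := by
    rw [sup_le_iff, zpowers_le, zpowers_le]; exact ⟨h.mod.z_mem, hr⟩
  have heq : zpowers z ⊔ zpowers r = R := by
    apply Subgroup.eq_of_le_of_card_ge hle
    have h1 : Nat.card ↥(zpowers z ⊔ zpowers r) ∣ 4 := by
      rw [← h.mod.cardR]; exact card_dvd_of_le hle
    have h2 : 2 ∣ Nat.card ↥(zpowers z ⊔ zpowers r) := by
      rw [← hz2]; exact card_dvd_of_le le_sup_left
    have h3 : Nat.card ↥(zpowers z ⊔ zpowers r) ≠ 2 := by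
      intro h4
      have h5 : zpowers z = zpowers z ⊔ zpowers r :=
        Subgroup.eq_of_le_of_card_ge le_sup_left (by rw [h4, hz2])
      apply hrz
      rw [h5]
      exact (le_sup_right : zpowers r ≤ _) (mem_zpowers r)
    rw [h.mod.cardR]
    have h4 := Nat.le_of_dvd (by decide) h1
    interval_cases Nat.card ↥(zpowers z ⊔ zpowers r) <;> simp_all
  have h1 : (centralizer ({r} : Set G)).relIndex B ≤ 2 :=
    relIndex_le_two h.zz fun b hb => h.R_comm (hB hb) hr
  refine le_trans ?_ h1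
  rw [← inf_relIndex_right (centralizer ({r} : Set G))]
  refine relIndex_le_of_le_left ?_ (rel_ne _ _)
  rintro b ⟨hb, hbB⟩
  have h2 : R ≤ centralizer ({b} : Set G) := by
    rw [← heq, sup_le_iff, zpowers_le, zpowers_le, mem_centralizer_singleton_iff, mem_centralizer_singleton_iff]
    refine ⟨(h.mod.S_z b (hB hbB)).symm, (mem_centralizer_singleton_iff.1 hb).symm⟩
  rw [mem_centralizer_iff]
  intro x hx
  exact mem_centralizer_singleton_iff.1 (h2 hx)

theorem One.R_le_X : R ≤ X := self_le_sSup_conjs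

/-- the element `b` moving `R` has `[V, b] ≰ X` -/
theorem One.not_le_cmod {b : G} (hb : b ∈ S) (hbR : b ∉ centralizer (R : Set G)) :
    ¬ ∀ v ∈ V, b * v * b⁻¹ * v⁻¹ ∈ X := by
  intro hcon
  have h1 : V ≤ V3 := by
    intro v hv
    refine h.mod.nCentR b hb hbR v hv ?_
    rw [← h.inf]
    exact mem_inf.2 ⟨mul_mem ((mem_normalizer_iff.1 (h.mod.S_V hb) v).1 hv) (inv_mem hv), hcon v hv⟩
  have := Subgroup.card_le_of_le h1
  rw [h.mod.card, h.mod.cardV3] at this
  omega

/-- the inequality on `V / R` -/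
theorem One.indX {B : Subgroup G} (hBQ : B ≤ Q) {g : G} (hg : g ∈ P) :
    (cmod X (cj g V)).relIndex B ≤ (cmod X B).relIndex (cj g V) := by
  have hgX : g ∈ normalizer ((X : Subgroup G) : Set G) := le_normalizer_sSup hg
  rw [relIndex_cmod_conj hgX, relIndex_cmod_conj' hgX]
  set B' := cj g⁻¹ B with hB'
  have hB'S : B' ≤ S := h.cj_le_S hg hBQ
  have hSX : S ≤ normalizer ((X : Subgroup G) : Set G) := h.S_le.trans le_normalizer_sSup
  by_cases hR : B' ≤ centralizer (R : Set G)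
  · have h1 : B' ≤ cmod X V := by
      refine le_cmod_comm (hB'S.trans hSX) fun v hv => ⟨?_, fun b hb => ?_⟩
      · exact hSX (h.Q_le (h.U_le (self_le_sSup_conjs hv)))
      · exact h.R_le_X (h.mod.centR b (hB'S hb) (hR hb) v hv)
    rw [relIndex_eq_one.2 h1]
    exact rel_pos _ _
  · obtain ⟨b, hb, hbR⟩ := SetLike.not_le_iff_exists.1 hR
    have h1 : (cmod X V).relIndex B' ≤ 2 := by
      refine le_trans ?_ (h.relIndex_R hB'S)
      rw [← inf_relIndex_right (centralizer (R : Set G))]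
      refine relIndex_le_of_le_left ?_ (rel_ne _ _)
      rintro c ⟨hc, hcB⟩
      refine ⟨hSX (hB'S hcB), fun v hv => ?_⟩
      have e : v * c * v⁻¹ * c⁻¹ = (c * v * c⁻¹ * v⁻¹)⁻¹ := by group
      rw [e]
      exact inv_mem (h.R_le_X (h.mod.centR c (hB'S hcB) hc v hv))
    have h2 : (cmod X B').relIndex V ≠ 1 := by
      intro h3
      have h4 := relIndex_eq_one.1 h3
      exact h.not_le_cmod (hB'S hb) hbR fun v hv => (h4 hv).2 b hb
    have h3 := rel_pos (cmod X B') V
    omega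

/-- **The gain**, for `A` elementary abelian modulo `C(U)`. -/
theorem One.gain_of {A : Subgroup G} (hA : ElemOn (U : Subgroup G) A) (hAQ : A ≤ Q) :
    (centralizer ((X : Subgroup G) : Set G)).relIndex A * (centralizer ((U : Subgroup G) : Set G)).relIndex A ≤
      (centralizer (A : Set G)).relIndex U := by
  have hAS : A ≤ S := hAQ.trans h.Q_le
  have hPX : P ≤ normalizer ((X : Subgroup G) : Set G) := le_normalizer_sSup
  have hSX : S ≤ normalizer ((X : Subgroup G) : Set G) := h.S_le.trans hPX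
  have hUX : U ≤ normalizer ((X : Subgroup G) : Set G) := h.U_le.trans (h.Q_le.trans hSX)
  set N := sSup {W | ∃ g ∈ P, W = cj g V ∧ ¬ A ≤ centralizer ((cj g R : Subgroup G) : Set G)} with hN
  set N3 := sSup {W | ∃ g ∈ P, W = cj g V3 ∧ ¬ A ≤ centralizer ((cj g R : Subgroup G) : Set G)} with hN3
  have hNU : N ≤ U := by
    refine sSup_le ?_
    rintro _ ⟨g, hg, rfl, -⟩
    exact le_sSup_conjs hg
  have hN3N : N3 ≤ N := by
    refine sSup_le ?_
    rintro _ ⟨g, hg, rfl, hgA⟩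
    exact (cj_mono g h.mod.V3_le).trans (le_sSup ⟨g, hg, rfl, hgA⟩)
  have hmem : ∀ {g a : G} {W : Subgroup G}, a ∈ centralizer ((cj g W : Subgroup G) : Set G) ↔
      g⁻¹ * a * g ∈ centralizer (W : Set G) := by
    intro g a W
    rw [← cj_centralizer, mem_cj]
  -- (a)
  have ha : (cmod X N).relIndex A ≤ (cmod X A).relIndex N := by
    refine chain (hAS.trans hSX) ?_ ?_
    · rintro _ ⟨g, hg, rfl, -⟩ B hB
      exact h.indX (hB.trans hAQ) hg
    · rintro _ ⟨g, hg, rfl, -⟩
      exact (le_sSup_conjs hg).trans hUX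
  -- (b)
  have hb : (centralizer ((X : Subgroup G) : Set G)).relIndex A ≤ (cmod X N).relIndex A := by
    rw [← inf_relIndex_right (cmod X N)]
    refine relIndex_le_of_le_left ?_ (rel_ne _ _)
    rintro a ⟨haN, haA⟩
    have h1 : X ≤ centralizer ({a} : Set G) := by
      refine sSup_le ?_
      rintro _ ⟨g, hg, rfl⟩
      by_cases hgA : A ≤ centralizer ((cj g R : Subgroup G) : Set G)
      · intro x hx
        rw [mem_centralizer_singleton_iff]
        exact mem_centralizer_iff.1 (hgA haA) x hx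
      · have hVN : cj g V ≤ N := le_sSup ⟨g, hg, rfl, hgA⟩
        have ha' : g⁻¹ * a * g ∈ S := h.Q_le (h.conj_Q hg (hAQ haA))
        have haR : g⁻¹ * a * g ∈ centralizer (R : Set G) := by
          by_contra hcon
          apply h.not_le_cmod ha' hcon
          intro v hv
          have h2 := haN.2 (g * v * g⁻¹) (hVN (Subgroup.mem_map_of_mem _ hv))
          have h3 := (mem_normalizer_iff.1 (inv_mem (hPX hg)) _).1 h2
          rw [inv_inv, conj_mul] at h3
          have e : g⁻¹ * (g * v * g⁻¹) * g = v := by group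
          rw [e] at h3
          have e2 : g⁻¹ * a * g * v * (g⁻¹ * a * g)⁻¹ * v⁻¹ = (v * (g⁻¹ * a * g) * v⁻¹ * (g⁻¹ * a * g)⁻¹)⁻¹ := by
            group
          rw [e2]
          exact inv_mem h3
        intro x hx
        rw [mem_centralizer_singleton_iff]
        exact mem_centralizer_iff.1 (hmem.2 haR) x hx
    rw [mem_centralizer_iff]
    intro x hx
    exact mem_centralizer_singleton_iff.1 (h1 hx)
  -- `[N₃, A] ≤ ⟨z⟩`
  have hN3z : N3 ≤ cmod (zpowers z) A := by
    refine sSup_le ?_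
    rintro _ ⟨g, hg, rfl, hgA⟩
    refine h.le_cmod_z hg h.mod.V3_le fun b hb x hx => ?_
    have e : cj g⁻¹ A ≤ S := h.cj_le_S hg hAQ
    refine h.mod.out _ e (elemOn_cj hA hg) ?_ _ ?_ x hx
    · intro hcon
      apply hgA
      intro a ha
      rw [hmem]
      apply hcon
      rw [mem_cj]
      have e2 : g⁻¹⁻¹ * (g⁻¹ * a * g) * g⁻¹ = a := by group
      rw [e2]; exact ha
    · rw [mem_cj]
      have e2 : g⁻¹⁻¹ * (g⁻¹ * b * g) * g⁻¹ = b := by group
      rw [e2]; exact hb
  -- (c)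
  have hc : (centralizer (N3 : Set G)).relIndex A ≤ (centralizer (A : Set G)).relIndex N3 :=
    pair_le h.zz fun a ha n hn => h.mem_z.1 ((hN3z hn).2 a ha)
  -- (d)
  have hd : (centralizer (N : Set G)).relIndex A ≤ (centralizer (N3 : Set G)).relIndex A := by
    rw [← inf_relIndex_right (centralizer (N3 : Set G))]
    refine relIndex_le_of_le_left ?_ (rel_ne _ _)
    rintro a ⟨haN, haA⟩
    have h1 : N ≤ centralizer ({a} : Set G) := by
      refine sSup_le ?_
      rintro _ ⟨g, hg, rfl, hgA⟩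
      have h3N : cj g V3 ≤ N3 := le_sSup ⟨g, hg, rfl, hgA⟩
      have h2 : a ∈ centralizer ((cj g V3 : Subgroup G) : Set G) :=
        centralizer_le (by exact_mod_cast h3N) haN
      rw [hmem] at h2
      have h4 := hmem.2 (h.mod.faith _ (h.Q_le (h.conj_Q hg (hAQ haA))) h2)
      intro x hx
      rw [mem_centralizer_singleton_iff]
      exact mem_centralizer_iff.1 h4 x hx
    rw [mem_centralizer_iff]
    intro x hx
    exact mem_centralizer_singleton_iff.1 (h1 hx)
  -- (e)
  have hNX : N ≤ normalizer ((X : Subgroup G) : Set G) := hNU.trans hUX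
  have he : (centralizer (N : Set G)).relIndex A * (centralizer ((X : Subgroup G) : Set G)).relIndex A ≤
      (centralizer (A : Set G)).relIndex N := by
    have e1 : (centralizer (A : Set G)).relIndex (cmod X A ⊓ N) * (cmod X A).relIndex N =
        (centralizer (A : Set G)).relIndex N := by
      rw [relIndex_inf_mul_relIndex, ← inf_relIndex_right (centralizer (A : Set G) ⊓ cmod X A),
        ← inf_relIndex_right (centralizer (A : Set G)) N]
      congr 1
      apply le_antisymm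
      · exact le_inf (inf_le_left.trans inf_le_left) inf_le_right
      · exact le_inf (le_inf inf_le_left (centralizer_le_cmod hNX)) inf_le_right
    have h1 : N3 ≤ cmod X A ⊓ N := by
      refine le_inf (fun x hx => ⟨hNX (hN3N hx), fun a ha => ?_⟩) hN3N
      have h2 := (hN3z hx).2 a ha
      exact (zpowers_le.2 (h.R_le_X h.mod.z_mem)) h2
    rw [← e1]
    exact Nat.mul_le_mul (hd.trans (hc.trans (relIndex_le_of_le_right h1 (rel_ne _ _)))) (hb.trans ha)
  -- (f)
  set AN := centralizer (N : Set G) ⊓ A with hAN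
  have hANA : AN ≤ A := inf_le_right
  have hf : (centralizer ((U : Subgroup G) : Set G)).relIndex AN ≤ (centralizer (AN : Set G)).relIndex U := by
    refine chain_bot ?_
    rintro _ ⟨g, hg, rfl⟩ B hB
    exact h.ind (elemOn_mono hA (hB.trans hANA)) ((hB.trans hANA).trans hAQ) hg
  -- (g)
  have hg : (centralizer (A : Set G)).relIndex (centralizer (AN : Set G) ⊓ U) * (centralizer (AN : Set G)).relIndex U =
      (centralizer (A : Set G)).relIndex U := by
    rw [relIndex_inf_mul_relIndex, inf_eq_left.2 (centralizer_le (by exact_mod_cast hANA))]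
  have hNc : N ≤ centralizer (AN : Set G) ⊓ U :=
    le_inf (le_centralizer_iff.1 inf_le_left) hNU
  -- (h)
  have hh : (centralizer ((U : Subgroup G) : Set G)).relIndex AN * (centralizer (N : Set G)).relIndex A =
      (centralizer ((U : Subgroup G) : Set G)).relIndex A := by
    rw [hAN, relIndex_inf_mul_relIndex, inf_eq_left.2 (centralizer_le (by exact_mod_cast hNU))]
  rw [← hh, ← hg]
  calc (centralizer ((X : Subgroup G) : Set G)).relIndex A *
        ((centralizer ((U : Subgroup G) : Set G)).relIndex AN * (centralizer (N : Set G)).relIndex A)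
      = ((centralizer (N : Set G)).relIndex A * (centralizer ((X : Subgroup G) : Set G)).relIndex A) *
        (centralizer ((U : Subgroup G) : Set G)).relIndex AN := by ring
    _ ≤ (centralizer (A : Set G)).relIndex (centralizer (AN : Set G) ⊓ U) * (centralizer (AN : Set G)).relIndex U :=
        Nat.mul_le_mul (he.trans (relIndex_le_of_le_right hNc (rel_ne _ _))) hf

/-- **The gain.** -/
theorem One.gain {A : Subgroup G} (hA : IsElementaryAbelian 2 A) (hAQ : A ≤ Q) :
    (centralizer ((X : Subgroup G) : Set G)).relIndex A * (centralizer ((U : Subgroup G) : Set G)).relIndex A ≤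
      (centralizer (A : Set G)).relIndex U := h.gain_of (elemOn hA) hAQ

/-- `U` is elementary abelian. -/
theorem One.U_elem : IsElementaryAbelian 2 (U : Subgroup G) := by
  have hc : ∀ a ∈ U, ∀ b ∈ U, a * b = b * a := fun a ha b hb => mem_centralizer_iff.1 (h.comm hb) a ha
  refine isElementaryAbelian_iff.2 ⟨hc, ?_⟩
  let D : Subgroup G :=
    { carrier := {c | c ∈ U ∧ c ^ 2 = 1}
      mul_mem' := by
        rintro a b ⟨ha, ha2⟩ ⟨hb, hb2⟩
        refine ⟨mul_mem ha hb, ?_⟩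
        have hab : a * b = b * a := hc a ha b hb
        rw [pow_two] at ha2 hb2 ⊢
        calc a * b * (a * b) = a * (b * a) * b := by group
          _ = a * (a * b) * b := by rw [hab]
          _ = (a * a) * (b * b) := by group
          _ = 1 := by rw [ha2, hb2, one_mul]
      one_mem' := ⟨one_mem _, one_pow _⟩
      inv_mem' := by
        rintro a ⟨ha, ha2⟩
        refine ⟨inv_mem ha, ?_⟩
        rw [inv_pow, ha2, inv_one] }
  have hD : U ≤ D := by
    refine sSup_le ?_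
    rintro _ ⟨g, hg, rfl⟩ x hx
    refine ⟨le_sSup_conjs hg hx, ?_⟩
    rw [mem_cj] at hx
    have h2 := h.mod.sq _ hx
    have e : x ^ 2 = g * (g⁻¹ * x * g) ^ 2 * g⁻¹ := by rw [pow_two, pow_two]; group
    rw [e, h2]; group
  exact fun a ha => (hD ha).2

/-- **The count**, for `A ≤ S` elementary abelian modulo `C(U)`. -/
theorem One.count_of {A : Subgroup G} (hAS : A ≤ S) (hA : ElemOn (U : Subgroup G) A)
    (hmax : (centralizer (A : Set G)).relIndex U ≤ (centralizer ((U : Subgroup G) : Set G)).relIndex A)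
    (hC : centralizer ((U : Subgroup G) : Set G) ⊓ S ≤ Q) :
    (centralizer (A : Set G)).relIndex X ≤ Q.relIndex A := by
  set A0 := Q ⊓ A with hA0
  have hA0A : A0 ≤ A := inf_le_right
  have hA0Q : A0 ≤ Q := inf_le_left
  have hgain := h.gain_of (elemOn_mono hA hA0A) hA0Q
  have e1 : (centralizer ((U : Subgroup G) : Set G)).relIndex A0 * Q.relIndex A =
      (centralizer ((U : Subgroup G) : Set G)).relIndex A := by
    rw [hA0, relIndex_inf_mul_relIndex, ← inf_relIndex_right (centralizer ((U : Subgroup G) : Set G) ⊓ Q),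
      ← inf_relIndex_right (centralizer ((U : Subgroup G) : Set G)) A]
    congr 1
    apply le_antisymm
    · exact le_inf (inf_le_left.trans inf_le_left) inf_le_right
    · exact le_inf (le_inf inf_le_left ((inf_le_inf_left _ hAS).trans hC)) inf_le_right
  have e2 : (centralizer (A : Set G)).relIndex (centralizer (A0 : Set G) ⊓ U) *
      (centralizer (A0 : Set G)).relIndex U = (centralizer (A : Set G)).relIndex U := by
    rw [relIndex_inf_mul_relIndex, inf_eq_left.2 (centralizer_le (by exact_mod_cast hA0A))]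
  have e3 : (centralizer (A : Set G)).relIndex (centralizer (A0 : Set G) ⊓ X) *
      (centralizer (A0 : Set G)).relIndex X = (centralizer (A : Set G)).relIndex X := by
    rw [relIndex_inf_mul_relIndex, inf_eq_left.2 (centralizer_le (by exact_mod_cast hA0A))]
  have hpair : (centralizer (A0 : Set G)).relIndex X ≤ (centralizer ((X : Subgroup G) : Set G)).relIndex A0 := by
    refine pair_le (A := (X : Subgroup G)) (N := A0) h.zz fun x hx a ha => ?_
    have h1 := h.mem_z.1 ((h.X_comm hx).2 a (hA0Q ha))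
    have e : x * a * x⁻¹ * a⁻¹ = (a * x * a⁻¹ * x⁻¹)⁻¹ := by group
    rw [e]
    rcases h1 with h1 | h1
    · left; rw [h1, inv_one]
    · right; rw [h1]; exact inv_eq_of_mul_eq_one_left h.zz
  have hmono : (centralizer (A : Set G)).relIndex (centralizer (A0 : Set G) ⊓ X) ≤
      (centralizer (A : Set G)).relIndex (centralizer (A0 : Set G) ⊓ U) :=
    relIndex_le_of_le_right (inf_le_inf_left _ h.XU) (rel_ne _ _)
  have hcp := rel_pos (centralizer ((U : Subgroup G) : Set G)) A0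
  have key : (centralizer (A : Set G)).relIndex (centralizer (A0 : Set G) ⊓ U) *
      (centralizer ((X : Subgroup G) : Set G)).relIndex A0 ≤ Q.relIndex A := by
    have h1 : ((centralizer (A : Set G)).relIndex (centralizer (A0 : Set G) ⊓ U) *
        (centralizer ((X : Subgroup G) : Set G)).relIndex A0) * (centralizer ((U : Subgroup G) : Set G)).relIndex A0 ≤
        Q.relIndex A * (centralizer ((U : Subgroup G) : Set G)).relIndex A0 := by
      rw [mul_assoc, mul_comm (Q.relIndex A), e1]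
      refine le_trans ?_ hmax
      rw [← e2]
      exact Nat.mul_le_mul_left _ hgain
    exact Nat.le_of_mul_le_mul_right h1 hcp
  rw [← e3]
  exact (Nat.mul_le_mul hmono hpair).trans key

/-- **The count.** -/
theorem One.count {A : Subgroup G} (hA : A ∈ AA S) (hC : centralizer ((U : Subgroup G) : Set G) ⊓ S ≤ Q) :
    (centralizer (A : Set G)).relIndex X ≤ Q.relIndex A := by
  refine h.count_of hA.2.1 (elemOn hA.1) ?_ hC
  by_cases hne : A ≤ centralizer ((U : Subgroup G) : Set G)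
  · rw [relIndex_eq_one.2 (le_centralizer_iff.1 hne)]
    exact rel_pos _ _
  · exact FFThm.relIndex_le_iff.1 (FFThm.off_of_AA h.U_elem (h.U_le.trans h.Q_le) hA hne).le

/-- **Exactness**: no over-offender on `X / M` gives `C_X(A / M) = C_X(A)`. -/
theorem One.exact {A M : Subgroup G} (hA : A ∈ AA S) (hC : centralizer ((U : Subgroup G) : Set G) ⊓ S ≤ Q)
    (hM : M ≤ X) (hPM : P ≤ normalizer (M : Set G)) (hno : Q.relIndex A ≤ (cmod M A).relIndex X) :
    cmod M A ⊓ X ≤ centralizer (A : Set G) ∧ M ≤ centralizer (A : Set G) := by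
  have hXM : X ≤ normalizer (M : Set G) := (h.XU.trans (h.U_le.trans (h.Q_le.trans h.S_le))).trans hPM
  have h1 := h.count hA hC
  have h2 : centralizer (A : Set G) ⊓ X ≤ cmod M A ⊓ X := le_inf (centralizer_le_cmod hXM) inf_le_right
  have h3 : (centralizer (A : Set G) ⊓ X).relIndex (cmod M A ⊓ X) * (cmod M A ⊓ X).relIndex X =
      (centralizer (A : Set G) ⊓ X).relIndex X := relIndex_mul_relIndex _ _ _ h2 inf_le_right
  rw [inf_relIndex_right, inf_relIndex_right] at h3
  have h4 := rel_pos (cmod M A) X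
  have h5 := rel_pos (centralizer (A : Set G) ⊓ X) (cmod M A ⊓ X)
  have h6 : (centralizer (A : Set G) ⊓ X).relIndex (cmod M A ⊓ X) = 1 := by
    by_contra hcon
    have h7 : 2 ≤ (centralizer (A : Set G) ⊓ X).relIndex (cmod M A ⊓ X) := by omega
    have h8 := Nat.mul_le_mul_right ((cmod M A).relIndex X) h7
    omega
  have h7 : cmod M A ⊓ X ≤ centralizer (A : Set G) := (relIndex_eq_one.1 h6).trans inf_le_left
  refine ⟨h7, ?_⟩
  have h8 : M ≤ cmod M A := by
    intro m hm
    refine ⟨le_normalizer hm, fun a ha => ?_⟩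
    exact mul_mem ((mem_normalizer_iff.1 (hPM (h.S_le (hA.2.1 ha))) m).1 hm) (inv_mem hm)
  exact (le_inf h8 hM).trans h7

end

end Cfsg.Agent.Omega.NO3S.Fld.GainOne

end

section


/-!
# Offenders with few common fixed vectors

In the situation of the FF theorem (`FFBr.Abs`, `FFBr.AConcl`) let `J` be a family of offenders in `T` with at most one
common nontrivial fixed vector.  Then `|T| ≤ 2` (`card_le_two`).
-/

set_option autoImplicit false
set_option linter.unusedSectionVars false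

namespace Cfsg.Agent.Omega.NO3S.Fld.FixJ

open Subgroup Cfsg.Agent.Lib.SL2Mat Cfsg.Agent.Omega.FFBr
open Cfsg.Agent.Omega.NatPair (ap)

universe u

section

variable {X V : Type u} [Group X] [Finite X] [Group V] [Finite V] [MulDistribMulAction X V] {T : Sylow 2 X}
  {M : Subgroup X} (h : Abs X V T M) (J : Set (Subgroup X)) (hJ : ∀ A ∈ J, A ≤ (T : Subgroup X) ∧ AOff V A)
  (hu : ∀ v w : V, v ≠ 1 → w ≠ 1 → (∀ A ∈ J, ∀ a ∈ A, a • v = v) → (∀ A ∈ J, ∀ a ∈ A, a • w = w) → v = w)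
include h hJ hu

omit h hJ hu in
theorem smul_odd {x : X} {v : V} (hv : v ∈ odd X V) : x • v ∈ odd X V := by
  intro y hy
  have h1 : Odd (orderOf (x⁻¹ * y * x)) := by
    have : orderOf (x⁻¹ * y * x) = orderOf y := by
      have e := (MulAut.conj x⁻¹).orderOf_eq y
      rw [MulAut.conj_apply, inv_inv] at e
      exact e
    rwa [this]
  have h2 := hv _ h1
  have h3 : y • x • v = x • (x⁻¹ * y * x) • v := by
    rw [smul_smul, smul_smul]; congr 1; group
  rw [h3, h2]

/-- `C_V(O²(X)) = 1` -/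
theorem odd_eq_bot : odd X V = ⊥ := by
  by_contra hne
  -- a `T`-fixed vector in `odd`
  obtain ⟨d, hd, hd1, hdT⟩ : ∃ d ∈ odd X V, d ≠ 1 ∧ ∀ t ∈ T, t • d = d := by
    let act : MulAction T (odd X V) :=
      { smul := fun t v => ⟨(t : X) • (v : V), smul_odd v.2⟩
        one_smul := fun v => Subtype.ext (one_smul X (v : V))
        mul_smul := fun s t v => Subtype.ext (mul_smul (s : X) (t : X) (v : V)) }
    have h2 : 2 ∣ Nat.card (odd X V) := by
      have h3 : IsPGroup 2 (odd X V) := by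
        intro v
        exact ⟨1, Subtype.ext (by
          show ((v : V)) ^ 2 ^ 1 = 1
          rw [pow_one, pow_two]; exact h.sq v)⟩
      obtain ⟨n, hn⟩ := IsPGroup.iff_card.1 h3
      rcases n with _ | n
      · exfalso
        apply hne
        rw [pow_zero] at hn
        exact Subgroup.eq_bot_of_card_eq _ hn
      · rw [hn, pow_succ]; exact dvd_mul_left _ _
    have h4 := T.isPGroup'.exists_fixed_point_of_prime_dvd_card_of_fixed_point (α := odd X V) h2
      (a := ⟨1, one_mem _⟩) (fun t => Subtype.ext (smul_one (t : X)))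
    obtain ⟨b, hb, hb1⟩ := h4
    refine ⟨b, b.2, fun h0 => hb1 (Subtype.ext h0.symm), fun t ht => ?_⟩
    exact congrArg Subtype.val (hb ⟨t, ht⟩)
  have hTd : ∀ v : V, (∀ t ∈ T, t • v = v) → v ∈ odd X V := by
    intro v hv
    by_cases hv1 : v = 1
    · rw [hv1]; exact one_mem _
    · rw [hu v d hv1 hd1 (fun A hA a ha => hv a ((hJ A hA).1 ha)) (fun A hA a ha => hdT a ((hJ A hA).1 ha))]
      exact hd
  have htop : odd X V = ⊤ := h.gen _ fun v hv x => smul_odd (hTd v hv)
  have h2 : IsPGroup 2 X := by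
    intro x
    obtain ⟨a, m, hm, hx⟩ := Nat.exists_eq_two_pow_mul_odd (n := orderOf x) (orderOf_pos x).ne'
    refine ⟨a, h.faith _ fun v => ?_⟩
    have h3 : v ∈ odd X V := htop ▸ mem_top v
    apply h3
    rw [orderOf_pow' _ (pow_ne_zero _ two_ne_zero), hx, Nat.gcd_eq_right (dvd_mul_right _ _),
      Nat.mul_div_cancel_left _ (by positivity)]
    exact hm
  have hT : (T : Subgroup X) = ⊤ := (T.is_maximal' (IsPGroup.to_le (K := ⊤) (fun x => by
    obtain ⟨k, hk⟩ := h2 x
    exact ⟨k, Subtype.ext hk⟩) le_rfl) le_top).symm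
  obtain ⟨v, hv, x, hx⟩ := h.nfix
  exact hx (hv x (show x ∈ (T : Subgroup X) by rw [hT]; exact mem_top x))

omit J hJ hu h in
theorem up_ap {F : Type} [Field F] (b : F) (x : Fin 2 → F) : ap (up b) x = ![x 0 + b * x 1, x 1] := by
  funext i
  fin_cases i <;> simp [ap, up]

/-- The case of blocks `SL₂(F)`. -/
theorem nat_case {F : Type} [Field F] [Finite F] [CharP F 2] {k : ℕ} (hk : 0 < k) (N : AbsNat F (T : Subgroup X) V k) :
    Nat.card T ≤ 2 := by
  have hodd := odd_eq_bot h J hJ hu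
  have he1 : N.e 1 = 0 := (N.ker 1).2 (one_mem _)
  have hker : ∀ v, N.e v = 0 → v = 1 := fun v hv => by
    have := (N.ker v).1 hv
    rwa [hodd, mem_bot] at this
  have hinv : ∀ v, N.e v⁻¹ = -N.e v := fun v => by
    have := N.mul v v⁻¹
    rw [mul_inv_cancel, he1] at this
    exact (neg_eq_of_add_eq_zero_right this.symm).symm
  have hinj : ∀ v w, N.e v = N.e w → v = w := fun v w hvw => by
    have : N.e (v * w⁻¹) = 0 := by rw [N.mul, hinv, hvw, add_neg_cancel]
    exact mul_inv_eq_one.1 (hker _ this)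
  have hfix : ∀ v, (∀ i, N.e v i 1 = 0) → ∀ A ∈ J, ∀ a ∈ A, a • v = v := by
    intro v hv A hA a ha
    obtain ⟨I, hI, -⟩ := N.off A (hJ A hA).1 (hJ A hA).2
    obtain ⟨b, -, hb⟩ := hI a ha
    apply hinj
    funext i
    rw [hb.1, up_ap, hv i, mul_zero, add_zero]
    funext j
    fin_cases j
    · rfl
    · exact (hv i).symm
  have huniq : ∀ y y' : Fin k → Fin 2 → F, (∀ i, y i 1 = 0) → (∀ i, y' i 1 = 0) → y ≠ 0 → y' ≠ 0 → y = y' := by
    intro y y' hy hy' hy0 hy'0
    obtain ⟨v, hv⟩ := N.surj y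
    obtain ⟨w, hw⟩ := N.surj y'
    have h1 : v = w := by
      refine hu v w ?_ ?_ (hfix v fun i => by rw [hv]; exact hy i) (hfix w fun i => by rw [hw]; exact hy' i)
      · rintro rfl; exact hy0 (hv ▸ he1)
      · rintro rfl; exact hy'0 (hw ▸ he1)
    rw [← hv, ← hw, h1]
  let i0 : Fin k := ⟨0, hk⟩
  have hk1 : ∀ i : Fin k, i = i0 := by
    intro i
    by_contra hi
    have h1 := huniq (Function.update 0 i ![1, 0]) (Function.update 0 i0 ![1, 0]) (by
      intro j
      by_cases hj : j = i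
      · subst hj; simp
      · simp [Function.update_of_ne hj]) (by
      intro j
      by_cases hj : j = i0
      · subst hj; simp
      · simp [Function.update_of_ne hj]) (by
      intro h0
      have := congrFun (congrFun h0 i) 0
      simp at this) (by
      intro h0
      have := congrFun (congrFun h0 i0) 0
      simp at this)
    have h2 := congrFun (congrFun h1 i) 0
    rw [Function.update_self, Function.update_of_ne hi] at h2
    simp at h2
  have hF : ∀ a : F, a = 0 ∨ a = 1 := by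
    intro a
    by_contra hcon
    push Not at hcon
    have h1 := huniq (fun _ => ![a, 0]) (fun _ => ![1, 0]) (fun i => rfl) (fun i => rfl) (by
      intro h0
      exact hcon.1 (congrFun (congrFun h0 i0) 0)) (by
      intro h0
      exact one_ne_zero (congrFun (congrFun h0 i0) 0))
    exact hcon.2 (congrFun (congrFun h1 i0) 0)
  -- `T` preserves the line `x₁ = 0`
  have hline : ∀ t ∈ T, ∀ v, N.e (t • v) i0 1 = 0 ↔ N.e v i0 1 = 0 := by
    intro t ht v
    obtain ⟨σ, hσ⟩ := N.line t ht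
    have := hσ v i0
    rwa [hk1 (σ i0)] at this
  obtain ⟨v0, hv0⟩ := N.surj fun _ => ![1, 0]
  obtain ⟨w0, hw0⟩ := N.surj fun _ => ![0, 1]
  have hall : ∀ v : V, v = 1 ∨ v = v0 ∨ v = w0 ∨ v = v0 * w0 := by
    intro v
    rcases hF (N.e v i0 0) with h0 | h0 <;> rcases hF (N.e v i0 1) with h1 | h1
    · left
      apply hker
      funext i j
      rw [hk1 i]
      fin_cases j
      · exact h0
      · exact h1
    · right; right; left
      apply hinj
      rw [hw0]
      funext i j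
      rw [hk1 i]
      fin_cases j
      · exact h0
      · exact h1
    · right; left
      apply hinj
      rw [hv0]
      funext i j
      rw [hk1 i]
      fin_cases j
      · exact h0
      · exact h1
    · right; right; right
      apply hinj
      rw [N.mul, hv0, hw0]
      funext i j
      rw [hk1 i]
      fin_cases j
      · show N.e v i0 0 = 1 + 0
        rw [h0, add_zero]
      · show N.e v i0 1 = 0 + 1
        rw [h1, zero_add]
  have hv01 : v0 ≠ 1 := by
    rintro rfl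
    rw [he1] at hv0
    exact one_ne_zero (congrFun (congrFun hv0 i0) 0).symm
  have hw01 : N.e w0 i0 1 ≠ 0 := by rw [hw0]; exact one_ne_zero
  have hvw1 : N.e (v0 * w0) i0 1 ≠ 0 := by
    rw [N.mul, hv0, hw0]
    show (0 : F) + 1 ≠ 0
    rw [zero_add]; exact one_ne_zero
  have hTv : ∀ t ∈ T, t • v0 = v0 := by
    intro t ht
    have h1 : N.e (t • v0) i0 1 = 0 := (hline t ht v0).2 (by rw [hv0]; rfl)
    rcases hall (t • v0) with h2 | h2 | h2 | h2
    · exfalso
      apply hv01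
      have : v0 = t⁻¹ • t • v0 := (inv_smul_smul t v0).symm
      rw [this, h2, smul_one]
    · exact h2
    · rw [h2] at h1; exact absurd h1 hw01
    · rw [h2] at h1; exact absurd h1 hvw1
  have hTw : ∀ t ∈ T, t • w0 = w0 ∨ t • w0 = v0 * w0 := by
    intro t ht
    have h1 : N.e (t • w0) i0 1 ≠ 0 := fun h0 => hw01 ((hline t ht w0).1 h0)
    rcases hall (t • w0) with h2 | h2 | h2 | h2
    · rw [h2, he1] at h1; exact absurd rfl h1
    · rw [h2, hv0] at h1; exact absurd rfl h1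
    · exact Or.inl h2
    · exact Or.inr h2
  classical
  have hb : Nat.card Bool = 2 := by simp
  refine (Nat.card_le_card_of_injective (fun t : T => decide ((t : X) • w0 = w0)) ?_).trans hb.le
  intro s t hst
  have hst' : (s : X) • w0 = (t : X) • w0 := by
    have h1 : ((s : X) • w0 = w0) ↔ ((t : X) • w0 = w0) := by
      simpa using hst
    by_cases h2 : (s : X) • w0 = w0
    · rw [h2, h1.1 h2]
    · rw [(hTw s s.2).resolve_left h2, (hTw t t.2).resolve_left fun h3 => h2 (h1.2 h3)]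
  apply Subtype.ext
  have h3 : (t : X)⁻¹ * s = 1 := by
    apply h.faith
    intro v
    have hw : ((t : X)⁻¹ * s) • w0 = w0 := by rw [mul_smul, hst', inv_smul_smul]
    have hv : ((t : X)⁻¹ * s) • v0 = v0 := by
      rw [mul_smul, hTv s s.2]
      nth_rewrite 1 [← hTv t t.2]
      rw [inv_smul_smul]
    rcases hall v with h2 | h2 | h2 | h2
    · rw [h2, smul_one]
    · rw [h2, hv]
    · rw [h2, hw]
    · rw [h2, smul_mul', hv, hw]
  exact (inv_mul_eq_one.1 h3).symm

omit h J hJ hu in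
/-- Composition. -/
theorem actsSym_mul {k n : ℕ} {e : V → Fin k → Fin n → ZMod 2} {g g' : X} {τ τ' : Fin k → Equiv.Perm (Fin n)}
    (h1 : AActsSym e g 1 τ) (h2 : AActsSym e g' 1 τ') : AActsSym e (g * g') 1 (fun i => τ i * τ' i) := by
  intro v i x
  have e1 := h1 (g' • v) i (τ' i x)
  have e2 := h2 v i x
  rw [Equiv.Perm.one_apply] at e1 e2 ⊢
  rw [mul_smul, Equiv.Perm.mul_apply, e1, e2]

omit h J hJ hu in
theorem update_mul {k n : ℕ} (i0 : Fin k) (s s' : Equiv.Perm (Fin n)) :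
    (fun i => Function.update (1 : Fin k → Equiv.Perm (Fin n)) i0 s i *
      Function.update (1 : Fin k → Equiv.Perm (Fin n)) i0 s' i) =
      Function.update (1 : Fin k → Equiv.Perm (Fin n)) i0 (s * s') := by
  funext i
  by_cases hi : i = i0
  · subst hi; simp
  · simp [Function.update_of_ne hi]

/-- The case of symmetric groups does not occur. -/
theorem sym_case {k m : ℕ} (hk : 0 < k) (hm : 2 ≤ m) (N : AbsSym (T : Subgroup X) V k m) : False := by
  classical
  have hodd := odd_eq_bot h J hJ hu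
  have he1 : N.e 1 = 0 := (N.ker 1).2 (one_mem _)
  have hker : ∀ v, N.e v = 0 → v = 1 := fun v hv => by
    have := (N.ker v).1 hv
    rwa [hodd, mem_bot] at this
  have hinv : ∀ v, N.e v⁻¹ = -N.e v := fun v => by
    have := N.mul v v⁻¹
    rw [mul_inv_cancel, he1] at this
    exact (neg_eq_of_add_eq_zero_right this.symm).symm
  have hinj : ∀ v w, N.e v = N.e w → v = w := fun v w hvw => by
    have : N.e (v * w⁻¹) = 0 := by rw [N.mul, hinv, hvw, add_neg_cancel]
    exact mul_inv_eq_one.1 (hker _ this)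
  let i0 : Fin k := ⟨0, hk⟩
  have h5 : 5 ≤ 2 ^ m + 1 := by
    have : 2 ^ 2 ≤ 2 ^ m := Nat.pow_le_pow_right (by decide) hm
    omega
  -- even vectors in the block `i0`
  have hvec : ∀ f : Fin (2 ^ m + 1) → ZMod 2, ∑ x, f x = 0 → ∃ v, N.e v = Function.update (0 : Fin k → Fin (2 ^ m + 1) → ZMod 2) i0 f := by
    intro f hf
    apply N.surj
    intro i
    by_cases hi : i = i0
    · subst hi; simpa using hf
    · simp [Function.update_of_ne hi]
  -- no element of `T` acts as a 3-cycle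
  have h3cyc : ∀ s : Equiv.Perm (Fin (2 ^ m + 1)), s.IsThreeCycle → ∀ b ∈ T, ¬ AActsSym N.e b 1 (Function.update 1 i0 s) := by
    intro s hs b hb hact
    have hs3 : s * s * s = 1 := by
      have := hs.orderOf
      have h0 := pow_orderOf_eq_one s
      rw [this, pow_succ, pow_two] at h0
      exact h0
    have h1 := actsSym_mul hact hact
    rw [update_mul] at h1
    have h2 := actsSym_mul h1 hact
    rw [update_mul] at h2
    rw [hs3] at h2
    have h4 : b * b * b = 1 := by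
      apply h.faith
      intro v
      apply hinj
      funext i x
      have := h2 v i x
      have e : Function.update (1 : Fin k → Equiv.Perm (Fin (2 ^ m + 1))) i0 1 = 1 :=
        Function.update_eq_self i0 (1 : Fin k → Equiv.Perm (Fin (2 ^ m + 1)))
      rw [e] at this
      exact this
    have h6 : b = 1 := by
      obtain ⟨j, hj⟩ := T.isPGroup' ⟨b, hb⟩
      have hj' : b ^ 2 ^ j = 1 := congrArg Subtype.val hj
      have h7 : orderOf b ∣ 3 := orderOf_dvd_of_pow_eq_one (by rw [pow_succ, pow_two]; exact h4)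
      have h8 : orderOf b ∣ 2 ^ j := orderOf_dvd_of_pow_eq_one hj'
      have h9 : Nat.Coprime 3 (2 ^ j) := Nat.Coprime.pow_right _ (by decide)
      have h10 := Nat.dvd_gcd h7 h8
      rw [h9] at h10
      exact orderOf_eq_one_iff.1 (Nat.dvd_one.1 h10)
    rw [h6] at hact
    obtain ⟨x, hx⟩ : ∃ x, s x ≠ x := by
      by_contra hcon
      push Not at hcon
      have : s = 1 := Equiv.ext hcon
      have h7 := hs.orderOf
      rw [this, orderOf_one] at h7
      omega
    obtain ⟨w, hw⟩ : ∃ w, w ∉ ({x, s x} : Finset (Fin (2 ^ m + 1))) := by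
      by_contra hcon
      push Not at hcon
      have h7 := Finset.card_le_card (fun y _ => hcon y : (Finset.univ : Finset (Fin (2 ^ m + 1))) ⊆ {x, s x})
      rw [Finset.card_univ, Fintype.card_fin] at h7
      have h8 : ({x, s x} : Finset (Fin (2 ^ m + 1))).card ≤ 2 := Finset.card_le_two
      omega
    simp only [Finset.mem_insert, Finset.mem_singleton, not_or] at hw
    obtain ⟨v, hv⟩ := hvec (Pi.single x 1 + Pi.single w 1) (by
      simp only [Pi.add_apply]
      rw [Finset.sum_add_distrib]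
      simp [CharTwo.add_self_eq_zero])
    have h7 := hact v i0 x
    rw [one_smul, Equiv.Perm.one_apply, Function.update_self, hv, Function.update_self] at h7
    simp only [Pi.add_apply, Pi.single_eq_same] at h7
    rw [Pi.single_eq_of_ne hx, Pi.single_eq_of_ne (Ne.symm hw.2), Pi.single_eq_of_ne (Ne.symm hw.1)] at h7
    simp at h7
  -- the orbits
  let O : Fin (2 ^ m + 1) → Finset (Fin (2 ^ m + 1)) := fun x => Finset.univ.filter fun y =>
    y = x ∨ ∃ b ∈ T, AActsSym N.e b 1 (Function.update 1 i0 (Equiv.swap x y))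
  have hO : ∀ x y, y ∈ O x ↔ (y = x ∨ ∃ b ∈ T, AActsSym N.e b 1 (Function.update 1 i0 (Equiv.swap x y))) := by
    intro x y
    simp only [O, Finset.mem_filter, Finset.mem_univ, true_and]
  have h0O : ∀ x, x ≠ 0 → 0 ∉ O x := by
    intro x hx h0
    rw [hO] at h0
    rcases h0 with h0 | ⟨b, hb, hact⟩
    · exact hx h0.symm
    · have := N.fix0 b hb 1 _ hact i0
      rw [Function.update_self, Equiv.swap_apply_right] at this
      exact hx this
  have htwo : ∀ x y y', y ∈ O x → y' ∈ O x → y ≠ x → y' ≠ x → y = y' := by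
    intro x y y' hy hy' hyx hy'x
    by_contra hne
    rw [hO] at hy hy'
    obtain ⟨b, hb, h1⟩ := hy.resolve_left hyx
    obtain ⟨c, hc, h2⟩ := hy'.resolve_left hy'x
    have h3 := actsSym_mul h1 h2
    rw [update_mul] at h3
    exact h3cyc _ (Equiv.Perm.isThreeCycle_swap_mul_swap_same (Ne.symm hyx) (Ne.symm hy'x) hne) _
      (mul_mem hb hc) h3
  have hOinv : ∀ x, ∀ A ∈ J, ∀ a ∈ A, ∀ τ : Fin k → Equiv.Perm (Fin (2 ^ m + 1)),
      (∀ i x, τ i x ≠ x → τ i (τ i x) = x ∧ ∃ b ∈ A, AActsSym N.e b 1 (Function.update 1 i (Equiv.swap x (τ i x)))) →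
      ∀ y, y ∈ O x → τ i0 y ∈ O x := by
    intro x A hA a _ τ hτ y hy
    by_cases hne : τ i0 y = y
    · rw [hne]; exact hy
    obtain ⟨-, b, hb, hact⟩ := hτ i0 y hne
    have hbT := (hJ A hA).1 hb
    by_cases hyx : y = x
    · subst hyx
      exact (hO _ _).2 (Or.inr ⟨b, hbT, hact⟩)
    by_cases hy' : τ i0 y = x
    · rw [hy']; exact (hO _ _).2 (Or.inl rfl)
    exfalso
    obtain ⟨c, hc, hc1⟩ := ((hO _ _).1 hy).resolve_left hyx
    have h1 : x ∈ O y := (hO _ _).2 (Or.inr ⟨c, hc, by rw [Equiv.swap_comm]; exact hc1⟩)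
    have h2 : τ i0 y ∈ O y := (hO _ _).2 (Or.inr ⟨b, hbT, hact⟩)
    exact hy' (htwo y _ _ h2 h1 hne (Ne.symm hyx))
  -- the fixed vectors
  let f : Fin (2 ^ m + 1) → Fin (2 ^ m + 1) → ZMod 2 := fun x y =>
    (if y ∈ O x then 1 else 0) + if y = 0 then ((O x).card : ZMod 2) else 0
  have hfsum : ∀ x, ∑ y, f x y = 0 := by
    intro x
    simp only [f]
    rw [Finset.sum_add_distrib]
    simp [CharTwo.add_self_eq_zero]
  have hfix : ∀ x v, N.e v = Function.update (0 : Fin k → Fin (2 ^ m + 1) → ZMod 2) i0 (f x) → ∀ A ∈ J, ∀ a ∈ A, a • v = v := by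
    intro x v hv A hA a ha
    obtain ⟨-, hoff⟩ := N.off A (hJ A hA).1 (hJ A hA).2
    obtain ⟨τ, hact, hτ⟩ := hoff a ha
    apply hinj
    funext i y
    obtain ⟨y', rfl⟩ := (τ i).surjective y
    have h1 := hact v i y'
    rw [Equiv.Perm.one_apply] at h1
    rw [h1, hv]
    by_cases hi : i = i0
    · subst hi
      rw [Function.update_self]
      have hinvol : τ i0 (τ i0 y') = y' := by
        by_cases hne : τ i0 y' = y'
        · rw [hne, hne]
        · exact (hτ i0 y' hne).1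
      have h2 : τ i0 y' ∈ O x ↔ y' ∈ O x := by
        constructor
        · intro h3
          have := hOinv x A hA a ha τ hτ _ h3
          rwa [hinvol] at this
        · exact hOinv x A hA a ha τ hτ _
      have h0 : τ i0 0 = 0 := N.fix0 a ((hJ A hA).1 ha) 1 τ hact i0
      have h3 : τ i0 y' = 0 ↔ y' = 0 := by
        constructor
        · intro h4
          exact (τ i0).injective (h4.trans h0.symm)
        · rintro rfl; exact h0
      simp only [f, h2, h3]
    · rw [Function.update_of_ne hi]; rfl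
  -- two different ones
  have hne0 : ∃ x : Fin (2 ^ m + 1), x ≠ 0 := ⟨⟨1, by omega⟩, fun h0 => by
    have := congrArg Fin.val h0
    simp at this⟩
  obtain ⟨x, hx⟩ := hne0
  have hcard : (O x).card ≤ 2 := by
    by_contra hcon
    push Not at hcon
    have h1 : 2 ≤ ((O x).erase x).card := by
      have := Finset.pred_card_le_card_erase (s := O x) (a := x)
      omega
    obtain ⟨y, hy, y', hy', hne⟩ := Finset.one_lt_card.1 (by omega : 1 < ((O x).erase x).card)
    rw [Finset.mem_erase] at hy hy'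
    exact hne (htwo x y y' hy.2 hy'.2 hy.1 hy'.1)
  obtain ⟨w, hw⟩ : ∃ w, w ∉ insert 0 (O x) := by
    by_contra hcon
    push Not at hcon
    have h7 := Finset.card_le_card (fun y _ => hcon y : (Finset.univ : Finset (Fin (2 ^ m + 1))) ⊆ insert 0 (O x))
    rw [Finset.card_univ, Fintype.card_fin] at h7
    have h8 := Finset.card_insert_le (0 : Fin (2 ^ m + 1)) (O x)
    omega
  rw [Finset.mem_insert, not_or] at hw
  have hself : ∀ y, y ∈ O y := fun y => (hO y y).2 (Or.inl rfl)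
  obtain ⟨v1, hv1⟩ := hvec (f x) (hfsum x)
  obtain ⟨v2, hv2⟩ := hvec (f w) (hfsum w)
  have hfx : f x x = 1 := by simp [f, hself x, hx]
  have hfw : f w w = 1 := by simp [f, hself w, hw.1]
  have hfxw : f x w = 0 := by simp [f, hw.1, hw.2]
  have h1 : v1 = v2 := by
    refine hu v1 v2 ?_ ?_ (hfix x v1 hv1) (hfix w v2 hv2)
    · rintro rfl
      rw [he1] at hv1
      have := congrFun (congrFun hv1 i0) x
      rw [Function.update_self, hfx] at this
      exact zero_ne_one this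
    · rintro rfl
      rw [he1] at hv2
      have := congrFun (congrFun hv2 i0) w
      rw [Function.update_self, hfw] at this
      exact zero_ne_one this
  rw [h1, hv2] at hv1
  have := congrFun (congrFun hv1 i0) w
  rw [Function.update_self, Function.update_self, hfw, hfxw] at this
  exact one_ne_zero this

/-- **`|T| ≤ 2`.** -/
theorem card_le_two (hc : AConcl (T : Subgroup X) V) : Nat.card T ≤ 2 := by
  rcases hc with ⟨F, i1, i2, i3, k, hk, ⟨N⟩⟩ | ⟨k, m, hk, hm, ⟨N⟩⟩
  · exact nat_case h J hJ hu hk N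
  · exact (sym_case h J hJ hu hk hm N).elim

end

end Cfsg.Agent.Omega.NO3S.Fld.FixJ

end

section


/-!
# Fld, `q = 4`: the case `|S : O₂(P₂)| = 2` (#15515 (4))

`V` is the module of `DEight` for `S`, `z` its `S`-fixed vector; `S` is a Sylow 2-subgroup of `P ≤ C(z)`, `Q ≤ S` is
normal in `P`, `|S : Q| = 2`, `⟨V^P⟩` is abelian.  If `P` moves `R` then no `A ∈ A(S)` which centralises `V` lies outside
`Q`.
-/

set_option autoImplicit false
set_option linter.unusedSectionVars false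

namespace Cfsg.Agent.Omega.NO3S.Fld.Dih

open Subgroup Cfsg Cfsg.Agent.ZN.ChoiceBase Cfsg.Agent.ZN.ChoiceSit Cfsg.Agent.PLocal.ThompsonJ
open Cfsg.Agent.Omega.NO3S.Fld.DEight

universe u

variable {G : Type u} [Group G] [Finite G]

/-- The hypotheses of #15515 (4). -/
structure Sit (S P Q U V R V3 : Subgroup G) (z : G) : Prop where
  mod : Mod S V R V3 z
  syl : Syl S P
  Q_le : Q ≤ S
  norm : P ≤ normalizer (Q : Set G)
  idx : Q.relIndex S = 2
  cz : ∀ g ∈ P, g * z = z * g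
  U_le : U ≤ S
  U_comm : U ≤ centralizer (U : Set G)
  conj_le : ∀ g ∈ P, cj g V ≤ U
  moves : ∃ g ∈ P, ∃ s ∈ S, g * s * g⁻¹ ∉ normalizer (R : Set G)

section

variable {S P Q U V R V3 : Subgroup G} {z : G} (h : Sit S P Q U V R V3 z)
include h

theorem Sit.two {s t : G} (hs : s ∈ S) (ht : t ∈ S) (hsQ : s ∉ Q) (htQ : t ∉ Q) : s * t ∈ Q := by
  have h1 : (Q.subgroupOf S).index = 2 := h.idx
  have h2 := (mul_mem_iff_of_index_two h1 (a := ⟨s, hs⟩) (b := ⟨t, ht⟩)).2 (by
    rw [mem_subgroupOf, mem_subgroupOf]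
    exact iff_of_false hsQ htQ)
  exact h2

theorem Sit.conj_mem_Q {g x : G} (hg : g ∈ P) : g * x * g⁻¹ ∈ Q ↔ x ∈ Q :=
  ((mem_normalizer_iff.1 (h.norm hg)) x).symm

/-- The order of a product of two involutions outside `Q` modulo `Q` is odd. -/
theorem Sit.odd_pow {α β g : G} (hα : α ∈ S) (hαQ : α ∉ Q) (hα2 : α * α = 1) (hg : g ∈ P) (hβ : β = g * α * g⁻¹) :
    ∃ m : ℤ, (α * β) ^ (2 * m + 1) ∈ Q := by
  have hαP : α ∈ P := h.syl.1 hα
  have hβP : β ∈ P := by rw [hβ]; exact mul_mem (mul_mem hg hαP) (inv_mem hg)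
  have hβQ : β ∉ Q := by rw [hβ, h.conj_mem_Q hg]; exact hαQ
  have hβ2 : β * β = 1 := by
    rw [hβ]
    calc g * α * g⁻¹ * (g * α * g⁻¹) = g * (α * α) * g⁻¹ := by group
      _ = 1 := by rw [hα2]; group
  have hα' : α⁻¹ = α := inv_eq_of_mul_eq_one_left hα2
  have hβ' : β⁻¹ = β := inv_eq_of_mul_eq_one_left hβ2
  set ρ := α * β with hρ
  have hρP : ρ ∈ P := mul_mem hαP hβP
  have hinv : α * ρ * α⁻¹ = ρ⁻¹ := by
    rw [hρ, mul_inv_rev, hβ', hα', ← mul_assoc, hα2, one_mul]
  have hinvk : ∀ k : ℤ, α * ρ ^ k * α⁻¹ = (ρ ^ k)⁻¹ := by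
    intro k
    rw [← conj_zpow, hinv, inv_zpow]
  -- the order of `ρ` modulo `Q`
  have hex : ∃ m : ℕ, 0 < m ∧ ρ ^ m ∈ Q := ⟨orderOf ρ, orderOf_pos ρ, by rw [pow_orderOf_eq_one]; exact one_mem _⟩
  classical
  obtain ⟨m, ⟨hm0, hm⟩, hmin⟩ : ∃ m : ℕ, (0 < m ∧ ρ ^ m ∈ Q) ∧ ∀ k, k < m → ¬ (0 < k ∧ ρ ^ k ∈ Q) :=
    ⟨Nat.find hex, Nat.find_spec hex, fun k hk => Nat.find_min hex hk⟩
  rcases Nat.even_or_odd' m with ⟨k, hk | hk⟩
  · exfalso
    have hk0 : 0 < k := by omega
    have hγQ : ρ ^ k ∉ Q := fun h0 => hmin k (by omega) ⟨hk0, h0⟩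
    set γ := ρ ^ k with hγ
    have hγP : γ ∈ P := pow_mem hρP k
    have hγ2 : γ * γ ∈ Q := by rw [hγ, ← pow_add, ← two_mul, ← hk]; exact hm
    have hγα : α * γ * α⁻¹ = γ⁻¹ := by
      have := hinvk k
      rwa [zpow_natCast] at this
    -- `⟨γ⟩` is a 2-group modulo `Q`
    have hQ2 : IsPGroup 2 Q := h.syl.2.1.to_le h.Q_le
    have hz : IsPGroup 2 (zpowers γ) := by
      have h1 : ∃ j, (γ * γ) ^ 2 ^ j = 1 := by
        obtain ⟨j, hj⟩ := hQ2 ⟨γ * γ, hγ2⟩
        exact ⟨j, by simpa using congrArg Subtype.val hj⟩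
      obtain ⟨j, hj⟩ := h1
      have h2 : γ ^ 2 ^ (j + 1) = 1 := by
        rw [pow_succ', pow_mul, pow_two]
        exact hj
      have h3 : orderOf γ ∣ 2 ^ (j + 1) := orderOf_dvd_of_pow_eq_one h2
      obtain ⟨i, -, hi⟩ := (Nat.dvd_prime_pow Nat.prime_two).1 h3
      refine IsPGroup.of_card (n := i) ?_
      rw [Nat.card_zpowers, hi]
    have hK : IsPGroup 2 (zpowers γ ⊔ Q : Subgroup G) :=
      IsPGroup.to_sup_of_normal_right' hz hQ2 (by
        rw [zpowers_le]; exact h.norm hγP)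
    have hSK : S ≤ normalizer ((zpowers γ ⊔ Q : Subgroup G) : Set G) := by
      have hαK : α ∈ normalizer ((zpowers γ ⊔ Q : Subgroup G) : Set G) := by
        apply mem_normalizer_of_cj_le
        have e : cj α (zpowers γ ⊔ Q) = cj α (zpowers γ) ⊔ cj α Q := Subgroup.map_sup _ _ _
        rw [e]
        refine sup_le ?_ ?_
        · rintro x ⟨y, hy, rfl⟩
          obtain ⟨i, rfl⟩ := mem_zpowers_iff.1 hy
          refine (le_sup_left : zpowers γ ≤ _) ?_
          have e2 : (MulAut.conj α).toMonoidHom (γ ^ i) = (γ ^ i)⁻¹ := by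
            show α * γ ^ i * α⁻¹ = (γ ^ i)⁻¹
            rw [← conj_zpow, hγα, inv_zpow]
          rw [e2]
          exact inv_mem (zpow_mem (mem_zpowers γ) i)
        · rw [cj_eq_of_mem_normalizer (h.norm hαP)]
          exact le_sup_right
      intro s hs
      by_cases hsQ : s ∈ Q
      · exact le_normalizer ((le_sup_right : Q ≤ zpowers γ ⊔ Q) hsQ)
      · have h1 : s * α ∈ Q := h.two hs hα hsQ hαQ
        have h2 : s = (s * α) * α⁻¹ := by group
        rw [h2]
        exact mul_mem (le_normalizer ((le_sup_right : Q ≤ zpowers γ ⊔ Q) h1)) (inv_mem hαK)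
    have hT : IsPGroup 2 (S ⊔ (zpowers γ ⊔ Q) : Subgroup G) :=
      IsPGroup.to_sup_of_normal_right' h.syl.2.1 hK hSK
    have hTP : S ⊔ (zpowers γ ⊔ Q) ≤ P :=
      sup_le h.syl.1 (sup_le (by rwa [zpowers_le]) (h.Q_le.trans h.syl.1))
    have hTS := h.syl.2.2 _ hTP hT le_sup_left
    have hγS : γ ∈ S := by
      rw [← hTS]
      exact (le_sup_right : _ ≤ S ⊔ (zpowers γ ⊔ Q)) ((le_sup_left : zpowers γ ≤ _) (mem_zpowers γ))
    have hαγ : α * γ ∈ Q := h.two hα hγS hαQ hγQ
    -- `γ ≡ α` mod `Q`, so `ρ⁻¹ ≡ ρ`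
    have hρ2 : ρ ^ 2 ∈ Q := by
      have e1 : ρ⁻¹ * (α * γ) * ρ = ρ⁻¹ * α * ρ * γ := by
        have : γ * ρ = ρ * γ := by rw [hγ, ← pow_succ, pow_succ']
        rw [mul_assoc, mul_assoc, mul_assoc, this]
        group
      have e2 : ρ⁻¹ * α * ρ = α * ρ ^ 2 := by
        have : ρ⁻¹ = α * ρ * α := by rw [← hinv, hα']
        rw [this]
        calc α * ρ * α * α * ρ = α * ρ * (α * α) * ρ := by group
          _ = α * ρ ^ 2 := by rw [hα2, pow_two]; group
      have h1 : ρ⁻¹ * (α * γ) * ρ ∈ Q := by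
        have := (h.conj_mem_Q (inv_mem hρP) (x := α * γ)).2 hαγ
        rwa [inv_inv] at this
      rw [e1, e2] at h1
      have h2 : α * ρ ^ 2 * γ * (α * γ)⁻¹ ∈ Q := mul_mem h1 (inv_mem hαγ)
      have h3 : α * ρ ^ 2 * γ * (α * γ)⁻¹ = α * ρ ^ 2 * α⁻¹ := by group
      rw [h3, h.conj_mem_Q hαP] at h2
      exact h2
    have hm2 : m = 2 := by
      have h1 : ¬ 2 < m := fun h0 => hmin 2 h0 ⟨by decide, hρ2⟩
      omega
    have hk1 : k = 1 := by omega
    have hγρ : γ = ρ := by rw [hγ, hk1, pow_one]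
    apply hβQ
    rw [hγρ, hρ, ← mul_assoc, hα2, one_mul] at hαγ
    exact hαγ
  · refine ⟨k, ?_⟩
    have : ((2 * (k : ℤ) + 1 : ℤ)) = ((2 * k + 1 : ℕ) : ℤ) := by push_cast; ring
    rw [this, zpow_natCast, ← hk]
    exact hm

theorem Sit.S_eq {α : G} (hα : α ∈ S) (hαQ : α ∉ Q) {N : Subgroup G} (hQ : Q ≤ N) (hN : α ∈ N) : S ≤ N := by
  intro s hs
  by_cases hsQ : s ∈ Q
  · exact hQ hsQ
  · have h1 : s * α ∈ Q := h.two hs hα hsQ hαQ
    have h2 : s = (s * α) * α⁻¹ := by group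
    rw [h2]
    exact mul_mem (hQ h1) (inv_mem hN)

/-- `V₁ ∩ V₋₁ = ⟨z⟩`. -/
theorem Sit.inf_eq {α ρ : G} {m : ℤ} (hα : α ∈ S) (hαQ : α ∉ Q) (hαV : α ∈ centralizer (V : Set G)) (hρ : ρ ∈ P)
    (hρR : ρ ∉ normalizer (R : Set G)) (hinv : α * ρ * α⁻¹ = ρ⁻¹) (hm : ρ ^ (2 * m + 1) ∈ Q) :
    cj ρ V ⊓ cj ρ⁻¹ V = zpowers z := by
  have hQV : Q ≤ normalizer (V : Set G) := h.Q_le.trans h.mod.S_V
  have hinvk : ∀ k : ℤ, α * ρ ^ k * α⁻¹ = ρ ^ (-k) := by
    intro k
    rw [← conj_zpow, hinv, inv_zpow']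
  have hρk : ∀ k : ℤ, ρ ^ k ∈ P := fun k => zpow_mem hρ k
  have hVm : ∀ k : ℤ, cj (ρ ^ (k + (2 * m + 1))) V = cj (ρ ^ k) V := by
    intro k
    rw [zpow_add, ← cj_cj, cj_eq_of_mem_normalizer (hQV hm)]
  have hVα : ∀ k : ℤ, cj α (cj (ρ ^ k) V) = cj (ρ ^ (-k)) V := by
    intro k
    have e : α * ρ ^ k = ρ ^ (-k) * α := by rw [← hinvk k]; group
    rw [cj_cj, e, ← cj_cj, cj_eq_of_mem_normalizer (h.mod.S_V hα)]
  have hVQ : ∀ q ∈ Q, ∀ k : ℤ, cj q (cj (ρ ^ k) V) = cj (ρ ^ k) V := by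
    intro q hq k
    have h1 : ρ ^ (-k) * q * ρ ^ k ∈ Q := by
      have := (h.conj_mem_Q (hρk (-k)) (x := q)).2 hq
      rwa [zpow_neg, inv_inv, ← zpow_neg] at this
    have e : q * ρ ^ k = ρ ^ k * (ρ ^ (-k) * q * ρ ^ k) := by
      rw [zpow_neg]; group
    rw [cj_cj, e, ← cj_cj, cj_eq_of_mem_normalizer (hQV h1)]
  -- `V_m ∩ V_{m+k} ≤ V_{m-k}`
  have hstep : ∀ i k : ℤ, ∀ x, x ∈ cj (ρ ^ i) V → x ∈ cj (ρ ^ (i + k)) V → x ∈ cj (ρ ^ (i - k)) V := by
    intro i k x hx hxk
    have h1 : (ρ ^ i)⁻¹ * x * ρ ^ i ∈ V := mem_cj.1 hx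
    have h2 : (ρ ^ i)⁻¹ * x * ρ ^ i ∈ cj (ρ ^ k) V := by
      rw [mem_cj]
      have := mem_cj.1 hxk
      rw [zpow_add, mul_inv_rev] at this
      have e : (ρ ^ k)⁻¹ * ((ρ ^ i)⁻¹ * x * ρ ^ i) * ρ ^ k = (ρ ^ k)⁻¹ * (ρ ^ i)⁻¹ * x * (ρ ^ i * ρ ^ k) := by group
      rw [e]; exact this
    have h3 : α * ((ρ ^ i)⁻¹ * x * ρ ^ i) * α⁻¹ = (ρ ^ i)⁻¹ * x * ρ ^ i := by
      rw [← mem_centralizer_iff.1 hαV _ h1, mul_assoc, mul_inv_cancel, mul_one]
    have h4 : (ρ ^ i)⁻¹ * x * ρ ^ i ∈ cj (ρ ^ (-k)) V := by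
      rw [← hVα k, ← h3]
      exact Subgroup.mem_map_of_mem _ h2
    rw [mem_cj] at h4 ⊢
    have e : (ρ ^ (i - k))⁻¹ * x * ρ ^ (i - k) = (ρ ^ (-k))⁻¹ * ((ρ ^ i)⁻¹ * x * ρ ^ i) * ρ ^ (-k) := by
      rw [sub_eq_add_neg, zpow_add, mul_inv_rev]; group
    rw [e]; exact h4
  set I := cj ρ V ⊓ cj ρ⁻¹ V with hI
  -- `I ≤ V_k` for all odd `k`
  have hodd : ∀ x ∈ I, ∀ j : ℤ, x ∈ cj (ρ ^ (2 * j + 1)) V ∧ x ∈ cj (ρ ^ (2 * j - 1)) V := by
    intro x hx j
    induction j using Int.induction_on with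
    | zero =>
      refine ⟨?_, ?_⟩
      · have := hx.1; simpa using this
      · have := hx.2; simpa using this
    | succ i IH =>
      have e1 : (2 * ((i : ℤ) + 1) - 1) = 2 * (i : ℤ) + 1 := by ring
      have e2 : (2 * ((i : ℤ) + 1) + 1) = 2 * (i : ℤ) + 1 - (-2) := by ring
      have e3 : (2 * (i : ℤ) + 1 + (-2)) = 2 * (i : ℤ) - 1 := by ring
      rw [e1, e2]
      exact ⟨hstep _ _ x IH.1 (by rw [e3]; exact IH.2), IH.1⟩
    | pred i IH =>
      have e1 : (2 * (-(i : ℤ) - 1) + 1) = 2 * (-(i : ℤ)) - 1 := by ring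
      have e2 : (2 * (-(i : ℤ) - 1) - 1) = 2 * (-(i : ℤ)) - 1 - 2 := by ring
      have e3 : (2 * (-(i : ℤ)) - 1 + 2) = 2 * (-(i : ℤ)) + 1 := by ring
      rw [e1, e2]
      exact ⟨IH.2, hstep _ _ x IH.2 (by rw [e3]; exact IH.1)⟩
  have hall : ∀ x ∈ I, ∀ k : ℤ, x ∈ cj (ρ ^ k) V := by
    intro x hx k
    rcases Int.even_or_odd' k with ⟨j, hj | hj⟩
    · rw [← hVm k, hj]
      have e : 2 * j + (2 * m + 1) = 2 * (j + m) + 1 := by ring
      rw [e]
      exact (hodd x hx _).1
    · rw [hj]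
      exact (hodd x hx _).1
  have hIV : I ≤ V := by
    intro x hx
    have := hall x hx 0
    rwa [zpow_zero, cj_one] at this
  have hSI : S ≤ normalizer (I : Set G) := by
    refine h.S_eq hα hαQ ?_ ?_
    · intro q hq
      rw [mem_normalizer_iff_cj, hI, cj_inf]
      have h1 := hVQ q hq 1
      have h2 := hVQ q hq (-1)
      rw [zpow_one] at h1
      rw [zpow_neg, zpow_one] at h2
      rw [h1, h2]
    · rw [mem_normalizer_iff_cj, hI, cj_inf]
      have h1 := hVα 1
      have h2 := hVα (-1)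
      rw [zpow_one, zpow_neg, zpow_one] at h1
      rw [zpow_neg, zpow_one, neg_neg, zpow_one] at h2
      rw [h1, h2, inf_comm]
  have hzI : z ∈ I := by
    have key : ∀ g ∈ P, z ∈ cj g V := by
      intro g hg
      rw [mem_cj, mul_assoc, ← h.cz g hg, ← mul_assoc, inv_mul_cancel, one_mul]
      exact h.mod.V3_le (h.mod.R_le h.mod.z_mem)
    exact ⟨key _ hρ, key _ (inv_mem hρ)⟩
  have hRI : ¬ R ≤ I := by
    intro hR
    apply hρR
    have h2 : ρ ^ (2 : ℤ) ∈ centralizer (R : Set G) := by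
      rw [mem_centralizer_iff]
      intro x hx
      have hxI := hR hx
      have h1 : ρ⁻¹ * x * ρ ∈ V := mem_cj.1 hxI.1
      have h3 := mem_centralizer_iff.1 hαV _ h1
      have h4 := mem_centralizer_iff.1 hαV _ (hIV hxI)
      have h5 : ρ * (ρ⁻¹ * x * ρ * α) * ρ⁻¹ = ρ * (α * (ρ⁻¹ * x * ρ)) * ρ⁻¹ := by rw [h3]
      have h6 : ρ * α * ρ⁻¹ = ρ ^ (2 : ℤ) * α := by
        have : α * ρ⁻¹ = ρ * α := by
          have e := hinvk (-1)
          rw [zpow_neg, zpow_one, neg_neg, zpow_one] at e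
          exact mul_inv_eq_iff_eq_mul.1 e
        rw [mul_assoc, this, ← mul_assoc, zpow_two]
      have h7 : x * (ρ * α * ρ⁻¹) = ρ * α * ρ⁻¹ * x := by
        calc x * (ρ * α * ρ⁻¹) = ρ * (ρ⁻¹ * x * ρ * α) * ρ⁻¹ := by group
          _ = ρ * (α * (ρ⁻¹ * x * ρ)) * ρ⁻¹ := h5
          _ = ρ * α * ρ⁻¹ * x := by group
      rw [h6] at h7
      have h8 : x * ρ ^ (2 : ℤ) * α = ρ ^ (2 : ℤ) * x * α := by
        calc x * ρ ^ (2 : ℤ) * α = x * (ρ ^ (2 : ℤ) * α) := by group
          _ = ρ ^ (2 : ℤ) * α * x := h7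
          _ = ρ ^ (2 : ℤ) * (x * α) := by rw [h4, mul_assoc]
          _ = ρ ^ (2 : ℤ) * x * α := by group
      exact mul_right_cancel h8
    have h3 : ρ ^ (2 : ℤ) ∈ normalizer (R : Set G) :=
      centralizer_le_normalizer _ h2
    have h4 : ρ = ρ ^ (2 * m + 1) * (ρ ^ (2 : ℤ)) ^ (-m) := by
      rw [← zpow_mul, ← zpow_add]
      have : 2 * m + 1 + 2 * -m = 1 := by ring
      rw [this, zpow_one]
    rw [h4]
    exact mul_mem (h.mod.S_R (h.Q_le hm)) (zpow_mem h3 _)
  rcases h.mod.uni I hIV hSI with h1 | h1 | h1 | h1 | h1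
  · rw [h1, mem_bot] at hzI
    exact absurd hzI h.mod.z_ne
  · exact h1
  · exact absurd h1.ge hRI
  · exact absurd (h.mod.R_le.trans h1.ge) hRI
  · exact absurd ((h.mod.R_le.trans h.mod.V3_le).trans h1.ge) hRI

omit h in
theorem card_eq {V B : Subgroup G} : B.relIndex V * Nat.card ↥(V ⊓ B) = Nat.card V := by
  have e := relIndex_inf_mul_relIndex (⊥ : Subgroup G) B V
  rw [relIndex_bot_left, bot_inf_eq, relIndex_bot_left, mul_comm, inf_comm] at e
  exact e

/-- **#15515 (4).** -/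
theorem Sit.false {A : Subgroup G} (hA : A ∈ AA S) (hAV : A ≤ centralizer (V : Set G)) (hAQ : ¬ A ≤ Q) : False := by
  obtain ⟨α, hαA, hαQ⟩ := SetLike.not_le_iff_exists.1 hAQ
  have hα : α ∈ S := hA.2.1 hαA
  have hαP : α ∈ P := h.syl.1 hα
  have hα2 : α * α = 1 := by rw [← pow_two]; exact hA.1.2 α hαA
  have hα' : α⁻¹ = α := inv_eq_of_mul_eq_one_left hα2
  have hAcomm : ∀ a ∈ A, ∀ b ∈ A, a * b = b * a := fun a ha b hb =>
    (isElementaryAbelian_iff.1 hA.1).1 a ha b hb
  have hQR : Q ≤ normalizer (R : Set G) := h.Q_le.trans h.mod.S_R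
  -- `ρ`
  obtain ⟨g, hg, s, hs, hgs⟩ := h.moves
  have hβR : g * α * g⁻¹ ∉ normalizer (R : Set G) := by
    intro hβ
    by_cases hsQ : s ∈ Q
    · exact hgs (hQR ((h.conj_mem_Q hg).2 hsQ))
    · have h1 : s * α ∈ Q := h.two hs hα hsQ hαQ
      have h2 : g * (s * α) * g⁻¹ ∈ Q := (h.conj_mem_Q hg).2 h1
      have h3 : g * s * g⁻¹ = g * (s * α) * g⁻¹ * (g * α * g⁻¹)⁻¹ := by group
      exact hgs (h3 ▸ mul_mem (hQR h2) (inv_mem hβ))
  obtain ⟨m, hm⟩ := h.odd_pow hα hαQ hα2 hg rfl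
  set β := g * α * g⁻¹ with hβ
  have hβP : β ∈ P := mul_mem (mul_mem hg hαP) (inv_mem hg)
  have hβ2 : β * β = 1 := by
    calc g * α * g⁻¹ * (g * α * g⁻¹) = g * (α * α) * g⁻¹ := by group
      _ = 1 := by rw [hα2]; group
  have hβ' : β⁻¹ = β := inv_eq_of_mul_eq_one_left hβ2
  set ρ := α * β with hρ
  have hρP : ρ ∈ P := mul_mem hαP hβP
  have hinv : α * ρ * α⁻¹ = ρ⁻¹ := by
    rw [hρ, mul_inv_rev, hβ', hα', ← mul_assoc, hα2, one_mul]
  have hρR : ρ ∉ normalizer (R : Set G) := by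
    intro h0
    apply hβR
    have : β = α⁻¹ * ρ := by rw [hρ]; group
    rw [this]
    exact mul_mem (inv_mem (h.mod.S_R hα)) h0
  have hαV : α ∈ centralizer (V : Set G) := hAV hαA
  have hinf := h.inf_eq hα hαQ hαV hρP hρR hinv hm
  -- `V₁`, `V₂`
  have hρ'P : ρ⁻¹ ∈ P := inv_mem hρP
  set V1 := cj ρ V with hV1
  set V2 := cj ρ⁻¹ V with hV2
  have hα1 : cj α V1 = V2 := by
    have e : α * ρ = ρ⁻¹ * α := mul_inv_eq_iff_eq_mul.1 hinv
    rw [hV1, hV2, cj_cj, e, ← cj_cj, cj_eq_of_mem_normalizer (h.mod.S_V hα)]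
  have hα21 : cj α V2 = V1 := by
    rw [← hα1, cj_cj, hα2, cj_one]
  have hV1U : V1 ≤ U := h.conj_le _ hρP
  have hV2U : V2 ≤ U := h.conj_le _ hρ'P
  have hVel : IsElementaryAbelian 2 V :=
    isElementaryAbelian_iff.2 ⟨fun a ha b hb => mem_centralizer_iff.1 (h.mod.comm hb) a ha, h.mod.sq⟩
  have hV1el : IsElementaryAbelian 2 V1 := isElementaryAbelian_cj _ hVel
  have hV2el : IsElementaryAbelian 2 V2 := isElementaryAbelian_cj _ hVel
  have hcomm21 : V2 ≤ centralizer (V1 : Set G) :=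
    hV2U.trans (h.U_comm.trans (centralizer_le hV1U))
  have hNel : IsElementaryAbelian 2 (V1 ⊔ V2 : Subgroup G) :=
    Cfsg.Agent.PLocal.ElemAbSup.isElementaryAbelian_sup hV1el hV2el hcomm21
  have hcard1 : Nat.card V1 = 16 := by rw [hV1, card_cj, h.mod.card]
  -- `|V₁ ∩ V₂| ≤ 2`
  have hz2 : Nat.card (zpowers z) ≤ 2 := by
    rw [Nat.card_zpowers]
    exact Nat.le_of_dvd (by decide) (orderOf_dvd_of_pow_eq_one (h.mod.sq z (h.mod.V3_le (h.mod.R_le h.mod.z_mem))))
  set N := V1 ⊔ V2 with hN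
  have hV1N : V1 ≤ N := le_sup_left
  have hV2N : V2 ≤ N := le_sup_right
  have hNS : N ≤ S := (sup_le hV1U hV2U).trans h.U_le
  -- elements of `V₁` centralised by `α`
  have hfix : ∀ v ∈ V1, α * v = v * α → v ∈ zpowers z := by
    intro v hv hc
    rw [← hinf]
    refine ⟨hv, ?_⟩
    rw [← hα1]
    have : v = α * v * α⁻¹ := by rw [hc]; group
    rw [this]
    exact Subgroup.mem_map_of_mem _ hv
  have hidxα : 8 ≤ (centralizer ({α} : Set G)).relIndex V1 := by
    have h1 := card_eq (V := V1) (B := centralizer ({α} : Set G))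
    have h2 : Nat.card ↥(V1 ⊓ centralizer ({α} : Set G)) ≤ 2 := by
      refine le_trans (Subgroup.card_le_of_le ?_) hz2
      rintro v ⟨hv, hvc⟩
      exact hfix v hv (mem_centralizer_singleton_iff.1 hvc).symm
    rw [hcard1] at h1
    by_contra hcon
    push Not at hcon
    have := Nat.mul_le_mul (Nat.le_of_lt_succ hcon : (centralizer ({α} : Set G)).relIndex V1 ≤ 7) h2
    omega
  have hAN : ¬ A ≤ centralizer (N : Set G) := by
    intro h0
    have h1 : V1 ≤ zpowers z := fun v hv => hfix v hv (mem_centralizer_iff.1 (h0 hαA) v (hV1N hv)).symm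
    have h2 := (Subgroup.card_le_of_le h1).trans hz2
    omega
  have hmax : (centralizer (A : Set G)).relIndex N ≤ (centralizer (N : Set G)).relIndex A :=
    FFThm.relIndex_le_iff.1 (FFThm.off_of_AA hNel hNS hA hAN).le
  set D := A ⊓ Q with hD
  have hDA : D ≤ A := inf_le_left
  have hDQ : D ≤ Q := inf_le_right
  have hDc : centralizer (V1 : Set G) ⊓ D ≤ centralizer (N : Set G) := by
    rintro a ⟨ha1, haD⟩
    rw [mem_centralizer_iff]
    intro y hy
    have h1 : N ≤ centralizer ({a} : Set G) := by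
      refine sup_le (fun x hx => ?_) (fun x hx => ?_)
      · rw [mem_centralizer_singleton_iff]
        exact mem_centralizer_iff.1 ha1 x hx
      · rw [mem_centralizer_singleton_iff]
        rw [← hα1, mem_cj] at hx
        have h2 := mem_centralizer_iff.1 ha1 _ hx
        have h3 : α * a * α⁻¹ = a := by rw [hAcomm α hαA a (hDA haD)]; group
        calc x * a = α * (α⁻¹ * x * α * (α⁻¹ * (α * a * α⁻¹) * α)) * α⁻¹ := by rw [h3]; group
          _ = α * (α⁻¹ * x * α * a) * α⁻¹ := by group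
          _ = α * (a * (α⁻¹ * x * α)) * α⁻¹ := by rw [h2]
          _ = α * a * α⁻¹ * x := by group
          _ = a * x := by rw [h3]
    exact mem_centralizer_singleton_iff.1 (h1 hy)
  have hne0 : ∀ X Y : Subgroup G, X.relIndex Y ≠ 0 := fun X Y => by
    have : Finite (Y ⧸ X.subgroupOf Y) := inferInstance
    exact Nat.card_pos.ne'
  have hidx : (centralizer (N : Set G)).relIndex A ≤ (centralizer (V1 : Set G)).relIndex D * 2 := by
    refine (relIndex_le_of_le_left hDc (hne0 _ _)).trans ?_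
    rw [← relIndex_inf_mul_relIndex, inf_eq_left.2 hDA]
    refine Nat.mul_le_mul_left _ ?_
    have h1 : D.relIndex A = Q.relIndex A := by rw [hD]; exact inf_relIndex_left _ _
    rw [h1, ← h.idx]
    exact relIndex_le_of_le_right hA.2.1 (hne0 _ _)
  -- transport to `V`
  have hD'S : cj ρ⁻¹ D ≤ S := by
    refine le_trans ?_ h.Q_le
    have := cj_mono ρ⁻¹ hDQ
    rwa [cj_eq_of_mem_normalizer (h.norm hρ'P)] at this
  have hD'el : IsElementaryAbelian 2 (cj ρ⁻¹ D) := by
    apply isElementaryAbelian_cj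
    exact isElementaryAbelian_iff.2 ⟨fun a ha b hb => hAcomm a (hDA ha) b (hDA hb), fun a ha => hA.1.2 a (hDA ha)⟩
  have hD'on : ElemOn V (cj ρ⁻¹ D) :=
    ⟨fun a ha => by rw [hD'el.2 a ha]; exact one_mem _, fun a ha b hb => by
      have e : a * b = b * a := (isElementaryAbelian_iff.1 hD'el).1 a ha b hb
      have : a * b * a⁻¹ * b⁻¹ = 1 := by rw [e]; group
      rw [this]; exact one_mem _⟩
  have hidx4 : (centralizer (V1 : Set G)).relIndex D ≤ 4 := by
    have h1 := h.mod.le4 _ hD'S hD'on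
    have h2 := relIndex_map_map_of_injective (f := (MulAut.conj ρ).toMonoidHom) (centralizer (V : Set G)) (cj ρ⁻¹ D)
      (MulAut.conj ρ).injective
    have h3 : (centralizer (V : Set G)).map (MulAut.conj ρ).toMonoidHom = centralizer (V1 : Set G) :=
      cj_centralizer ρ V
    have h4 : (cj ρ⁻¹ D).map (MulAut.conj ρ).toMonoidHom = D := cj_cj_inv ρ D
    rw [h3, h4] at h2
    rw [h2]; exact h1
  have hNα : 8 ≤ (centralizer ({α} : Set G)).relIndex N :=
    hidxα.trans (relIndex_le_of_le_right hV1N (hne0 _ _))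
  have hCA : centralizer (A : Set G) ≤ centralizer ({α} : Set G) :=
    centralizer_le (Set.singleton_subset_iff.2 hαA)
  have hmul : (centralizer (A : Set G)).relIndex (centralizer ({α} : Set G) ⊓ N) *
      (centralizer ({α} : Set G)).relIndex N = (centralizer (A : Set G)).relIndex N := by
    rw [relIndex_inf_mul_relIndex, inf_eq_left.2 hCA]
  -- `A ∩ Q` centralises `v v^α`
  have hdiag : ∀ b ∈ D, ∀ v ∈ V1, b * (v * (α * v * α⁻¹)) = v * (α * v * α⁻¹) * b := by
    intro b hb v hv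
    by_contra hcon
    have hv2 : α * v * α⁻¹ ∈ V2 := by
      rw [← hα1]; exact Subgroup.mem_map_of_mem _ hv
    have hn : v * (α * v * α⁻¹) ∈ centralizer ({α} : Set G) ⊓ N := by
      refine mem_inf.2 ⟨?_, mul_mem (hV1N hv) (hV2N hv2)⟩
      rw [mem_centralizer_singleton_iff]
      have h1 : v * (α * v * α⁻¹) = α * v * α⁻¹ * v := mem_centralizer_iff.1 (hcomm21 hv2) v hv
      calc v * (α * v * α⁻¹) * α = α * v * α⁻¹ * v * α := by rw [h1]
        _ = α * (v * (α * v * α⁻¹)) * (α * α)⁻¹ * (α * α) := by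
            rw [hα2, inv_one, mul_one, mul_one]
            have : α⁻¹ * v * α = α * v * α⁻¹ := by rw [hα']
            calc α * v * α⁻¹ * v * α = α * v * (α⁻¹ * v * α) := by group
              _ = α * (v * (α * v * α⁻¹)) := by rw [this]; group
        _ = α * (v * (α * v * α⁻¹)) := by group
    have hnot : v * (α * v * α⁻¹) ∉ centralizer (A : Set G) := fun h0 =>
      hcon (mem_centralizer_iff.1 h0 b (hDA hb))
    have h2 : 2 ≤ (centralizer (A : Set G)).relIndex (centralizer ({α} : Set G) ⊓ N) := by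
      have h3 := hne0 (centralizer (A : Set G)) (centralizer ({α} : Set G) ⊓ N)
      have h4 : (centralizer (A : Set G)).relIndex (centralizer ({α} : Set G) ⊓ N) ≠ 1 := fun h5 =>
        hnot (relIndex_eq_one.1 h5 hn)
      omega
    have h5 := Nat.mul_le_mul h2 hNα
    rw [hmul] at h5
    omega
  have hQ1 : Q ≤ normalizer (V1 : Set G) := by
    intro q hq
    rw [mem_normalizer_iff_cj, hV1, cj_cj]
    have h1 : ρ⁻¹ * q * ρ ∈ Q := by
      have := (h.conj_mem_Q hρ'P (x := q)).2 hq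
      rwa [inv_inv] at this
    have e : q * ρ = ρ * (ρ⁻¹ * q * ρ) := by group
    rw [e, ← cj_cj, cj_eq_of_mem_normalizer (h.mod.S_V (h.Q_le h1))]
  have hQ2 : Q ≤ normalizer (V2 : Set G) := by
    intro q hq
    rw [mem_normalizer_iff_cj, hV2, cj_cj]
    have h1 : ρ * q * ρ⁻¹ ∈ Q := (h.conj_mem_Q hρP (x := q)).2 hq
    have e : q * ρ⁻¹ = ρ⁻¹ * (ρ * q * ρ⁻¹) := by group
    rw [e, ← cj_cj, cj_eq_of_mem_normalizer (h.mod.S_V (h.Q_le h1))]
  have hDcent : D ≤ centralizer (V1 : Set G) := by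
    intro b hb
    have hsm : ∀ v ∈ V1, b * v * b⁻¹ * v⁻¹ ∈ zpowers z := by
      intro v hv
      have hv2 : α * v * α⁻¹ ∈ V2 := by
        rw [← hα1]; exact Subgroup.mem_map_of_mem _ hv
      have hbv : b * v * b⁻¹ ∈ V1 := (mem_normalizer_iff.1 (hQ1 (hDQ hb)) v).1 hv
      have hbv2 : b * (α * v * α⁻¹) * b⁻¹ ∈ V2 := (mem_normalizer_iff.1 (hQ2 (hDQ hb)) _).1 hv2
      have h1 := hdiag b hb v hv
      have h2 : b * v * b⁻¹ * (b * (α * v * α⁻¹) * b⁻¹) = v * (α * v * α⁻¹) := by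
        calc b * v * b⁻¹ * (b * (α * v * α⁻¹) * b⁻¹) = b * (v * (α * v * α⁻¹)) * b⁻¹ := by group
          _ = v * (α * v * α⁻¹) * b * b⁻¹ := by rw [h1]
          _ = v * (α * v * α⁻¹) := by group
      have h3 : v⁻¹ * (b * v * b⁻¹) = α * v * α⁻¹ * (b * (α * v * α⁻¹) * b⁻¹)⁻¹ := by
        rw [eq_mul_inv_iff_mul_eq, mul_assoc, h2]; group
      have h4 : b * v * b⁻¹ * v⁻¹ = v⁻¹ * (b * v * b⁻¹) :=
        (isElementaryAbelian_iff.1 hV1el).1 _ hbv _ (inv_mem hv)
      rw [← hinf]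
      refine mem_inf.2 ⟨mul_mem hbv (inv_mem hv), ?_⟩
      rw [h4, h3]
      exact mul_mem hv2 (inv_mem hbv2)
    have hb' : ρ⁻¹ * b * ρ ∈ S := by
      have : ρ⁻¹ * b * ρ = ρ⁻¹ * b * (ρ⁻¹)⁻¹ := by rw [inv_inv]
      rw [this]
      exact hD'S (Subgroup.mem_map_of_mem _ hb)
    have h1 : ρ⁻¹ * b * ρ ∈ centralizer (V : Set G) := by
      refine h.mod.small _ hb' fun v hv => ?_
      have hv1 : ρ * v * ρ⁻¹ ∈ V1 := Subgroup.mem_map_of_mem _ hv
      obtain ⟨i, hi⟩ := mem_zpowers_iff.1 (hsm _ hv1)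
      have hzρ : ρ⁻¹ * z ^ i * ρ = z ^ i := by
        have h0 : ρ * z ^ i = z ^ i * ρ := ((show Commute ρ z from h.cz ρ hρP).zpow_right i).eq
        rw [mul_assoc, ← h0, ← mul_assoc, inv_mul_cancel, one_mul]
      have e : ρ⁻¹ * b * ρ * v * (ρ⁻¹ * b * ρ)⁻¹ * v⁻¹ =
          ρ⁻¹ * (b * (ρ * v * ρ⁻¹) * b⁻¹ * (ρ * v * ρ⁻¹)⁻¹) * ρ := by group
      rw [e, ← hi, hzρ]
      exact zpow_mem (mem_zpowers z) i
    have h2 : b ∈ cj ρ (centralizer (V : Set G)) := mem_cj.2 h1
    rwa [cj_centralizer] at h2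
  rw [relIndex_eq_one.2 hDcent] at hidx
  have h9 : (centralizer ({α} : Set G)).relIndex N ≤ (centralizer (A : Set G)).relIndex N := by
    rw [← hmul]
    exact Nat.le_mul_of_pos_left _ (Nat.pos_of_ne_zero (hne0 _ _))
  omega

end

end Cfsg.Agent.Omega.NO3S.Fld.Dih

end
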