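import Cfsg.Agent.Mrg.Omega.NO3S.Fld.ZJ
import Cfsg.Agent.Mrg.Omega.NO3S.Fld.Mods
import Cfsg.Agent.Mrg.Omega.NO3S.OneLine.LevOf

section


/-!
# LEMMA UNIQ over `B` (Fld, (1) of #16714)

`P ∈ P*(S)`, `J(S) ≰ O₂(P)`, `V = V_P` the natural `SL₂(q)`-module, `R = C_V(J(S))`, `|Z|` arbitrary, no mutual pair,
and the FF theorem: every `P' ∈ P*(S)` has `J(S) ≤ O₂(P')` and `P' ≤ N(R)`, or `V_{P'} = V` and `C_{V}(O²(P')) = 1`
(`uniqB`).
-/

set_option autoImplicit false
set_option linter.unusedSectionVars false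
set_option linter.unusedVariables false

namespace Cfsg.Agent.Omega.NO3S.Fld

open Subgroup Cfsg Cfsg.Agent.ZN Cfsg.Agent.ZN.ChoiceBase Cfsg.Agent.Omega.MinPar
open Cfsg.Agent.ZN.ChoiceSit (Syl o2_le_syl)
open Cfsg.Agent.Omega.SQ1.Bau (mem_AA_of_comm zj_le_AA elem_comm elem_sq mem_sup_comm card_sup_comm mem_sup_norm)
open Cfsg.Agent.Omega.SQ1.BauK (V1 mem_V1)
open Cfsg.Agent.PLocal.ElemAbSup Cfsg.Agent.PLocal.ThompsonJ
open Cfsg.Agent.MinSimple.VModule (zc_le zc_le_zl zl_le le_o2 le_normalizer_zl le_normalizer_o2)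
open Cfsg.Agent.Omega.NatPair (ap ap_zero' ap_one' ap_one ap_mul ap_add ap_smul ext2 exists_ap_e ap_inv_ap)
open Cfsg.Agent.Omega.FFThm (NoOver)
open Cfsg.Agent.Omega.FrameFF (cv)
open Cfsg.Agent.Omega.NO3S.OneLine (conj_mem card_mul_relIndex minH exists_fixed zc_elem o2_le card_sup_norm sup_isLoc
  zl_mono)

open scoped commutatorElement

universe u

variable {G : Type u} [Group G]

/-! ### The natural module -/

namespace Crd

variable {F : Type*} [Field F] {S P V : Subgroup G} (M : Crd F S P V)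

/-- an `S`-invariant subgroup of `V` not contained in `R` contains `R` -/
theorem R_le_of {X : Subgroup G} (hXV : X ≤ V) (hX : S ≤ normalizer (X : Set G)) (hn : ¬ X ≤ M.R) : M.R ≤ X := by
  obtain ⟨v, hv, hvR⟩ := SetLike.not_le_iff_exists.1 hn
  obtain ⟨x, rfl⟩ := (M.mem_iff v).1 (hXV hv)
  rw [M.e_mem_R] at hvR
  rintro _ ⟨a, rfl⟩
  obtain ⟨s, hs, h1⟩ := M.full (a / x 1)
  have h2 := mul_mem (conj_mem hX hs hv) (inv_mem hv)
  rw [h1, ← M.e_sub] at h2
  have e : ![x 0 + a / x 1 * x 1, x 1] - x = ![a, 0] := by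
    apply ext2
    · simp only [Pi.sub_apply, Matrix.cons_val_zero]
      rw [div_mul_cancel₀ _ hvR]; ring
    · simp
  rwa [e] at h2

include M in
/-- `P` is irreducible on `V` -/
theorem irr {X : Subgroup G} (hX : P ≤ normalizer (X : Set G)) {v : G} (hv : v ∈ X) (hvV : v ∈ V) (h1 : v ≠ 1) :
    V ≤ X := by
  obtain ⟨x, rfl⟩ := (M.mem_iff v).1 hvV
  have hx : x ≠ 0 := by
    rintro rfl
    exact h1 M.e_zero
  intro w hw
  obtain ⟨y, rfl⟩ := (M.mem_iff w).1 hw
  by_cases hy : y = 0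
  · rw [hy, M.e_zero]; exact one_mem _
  obtain ⟨A, hA⟩ := exists_ap_e hx
  obtain ⟨B, hB⟩ := exists_ap_e hy
  obtain ⟨g, hg, h2⟩ := M.lift (B * A⁻¹)
  have h3 := conj_mem hX hg hv
  rw [h2, ap_mul, ← hA, ap_inv_ap, hB] at h3
  exact h3

/-- `t ∈ S` with `[V, t] ≤ R` centralises `R` -/
theorem mem_centR_of {t : G} (ht : t ∈ S) (h : ∀ v ∈ V, t * v * t⁻¹ * v⁻¹ ∈ M.R) :
    t ∈ centralizer (M.R : Set G) := by
  obtain ⟨σ, c, hs⟩ := M.exists_act ht
  rw [hs.mem_centR]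
  ext a
  have h1 := h _ (M.e_mem ![0, a])
  rw [hs ![0, a], ← M.e_sub, M.e_mem_R] at h1
  simpa [sub_eq_zero] using h1

/-- `[V, t] = R` for `t ∈ B - C(V)` -/
theorem R_le_comm {t : G} (ht : t ∈ S) (htR : t ∈ centralizer (M.R : Set G)) (htV : t ∉ centralizer (V : Set G))
    {E : Subgroup G} (hE : ∀ v ∈ V, t * v * t⁻¹ * v⁻¹ ∈ E) : M.R ≤ E := by
  obtain ⟨c, hs⟩ := M.exists_root ht htR
  have hc : c ≠ 0 := fun h => htV (hs.mem_centV.2 ⟨rfl, h⟩)
  rintro _ ⟨a, rfl⟩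
  have h1 := hE _ (M.e_mem ![0, c⁻¹ * a])
  rw [hs ![0, c⁻¹ * a], ← M.e_sub] at h1
  have e : ![(RingEquiv.refl F) (![0, c⁻¹ * a] 0) + c * (RingEquiv.refl F) (![0, c⁻¹ * a] 1),
      (RingEquiv.refl F) (![0, c⁻¹ * a] 1)] - ![0, c⁻¹ * a] = ![a, 0] := by
    apply ext2
    · simp [mul_inv_cancel_left₀ hc]
    · simp
  rwa [e] at h1

end Crd

/-! ### The step -/

section step

variable [Finite G] {S : Sylow 2 G} {P P' P₁ P₂ L : Subgroup G}

/-- exactness of `A ∈ A(S)` on `V` -/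
theorem Pt.card_le (hG : IsCharacteristicTwoType G) (hP : IsParS (S : Subgroup G) P) (h : Pt (S : Subgroup G) P)
    {A : Subgroup G} (hA : A ∈ AA (S : Subgroup G)) :
    Nat.card A * Nat.card ↥(A ⊓ zl (S : Subgroup G) P) ≤
      Nat.card (zl (S : Subgroup G) P) * Nat.card ↥(A ⊓ o2 P) := by
  have h1 := h.no A (hA.2.1.trans hP.le) hA.1
  have h2 : A ⊓ zl (S : Subgroup G) P ≤ zl (S : Subgroup G) P ⊓ centralizer (A : Set G) := fun x hx =>
    ⟨hx.2, mem_centralizer_iff.2 fun a ha => elem_comm hA.1 a ha x hx.1⟩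
  have h3 : A ⊓ centralizer (zl (S : Subgroup G) P : Set G) ≤ A ⊓ o2 P := by
    refine le_inf inf_le_left ?_
    rw [← IsParS.inf_centralizer S hG hP]
    exact inf_le_inf_right _ hA.2.1
  exact (Nat.mul_le_mul_left _ (Subgroup.card_le_of_le h2)).trans
    (h1.trans (Nat.mul_le_mul_left _ (Subgroup.card_le_of_le h3)))

theorem zl_elem' (hG : IsCharacteristicTwoType G) (hP : IsParS (S : Subgroup G) P) :
    IsElementaryAbelian 2 (zl (S : Subgroup G) P) :=
  isElementaryAbelian_mono (zc_elem (o2 P)) (hP.isLoc.zl_le S hG)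

theorem comm_o2' (hG : IsCharacteristicTwoType G) (hP : IsParS (S : Subgroup G) P) :
    ∀ a ∈ o2 P, ∀ v ∈ zl (S : Subgroup G) P, a * v = v * a := fun a ha v hv =>
  (mem_zc.1 (hP.isLoc.zl_le S hG hv)).2.2 a ha

theorem zl_le_o2' (hG : IsCharacteristicTwoType G) (hP : IsParS (S : Subgroup G) P) :
    zl (S : Subgroup G) P ≤ o2 P := (hP.isLoc.zl_le S hG).trans (zc_le _)

/-- **Replacement.** -/
theorem Pt.replace (hG : IsCharacteristicTwoType G) (hP : IsParS (S : Subgroup G) P) (h : Pt (S : Subgroup G) P)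
    {A : Subgroup G} (hA : A ∈ AA (S : Subgroup G)) : (A ⊓ o2 P) ⊔ zl (S : Subgroup G) P ∈ AA (S : Subgroup G) := by
  have hVQ := zl_le_o2' hG hP
  have hQS := o2_le S hP.toIsPar
  rw [mem_AA_iff]
  refine ⟨isElementaryAbelian_sup (isElementaryAbelian_mono hA.1 inf_le_left) (zl_elem' hG hP)
    fun v hv => mem_centralizer_iff.2 fun a ha => comm_o2' hG hP a ha.2 v hv,
    sup_le (inf_le_right.trans hQS) (hVQ.trans hQS), ?_⟩
  rw [mm_eq hA]
  have h1 := card_sup_comm (A := A ⊓ o2 P) (B := zl (S : Subgroup G) P)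
    fun a ha v hv => comm_o2' hG hP a ha.2 v hv
  have h2 : (A ⊓ o2 P) ⊓ zl (S : Subgroup G) P = A ⊓ zl (S : Subgroup G) P := by
    rw [inf_assoc, inf_eq_right.2 hVQ]
  rw [h2] at h1
  have h3 := h.card_le hG hP hA
  have hp : 0 < Nat.card ↥(A ⊓ zl (S : Subgroup G) P) := Nat.card_pos
  refine Nat.le_of_mul_le_mul_right ?_ hp
  rw [h1, mul_comm (Nat.card ↥(A ⊓ o2 P))]
  exact h3

/-- **The step.** -/
theorem stepB (hG : IsCharacteristicTwoType G) (h₁ : IsParS (S : Subgroup G) P₁) (h₂ : IsParS (S : Subgroup G) P₂)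
    (hp : Pt (S : Subgroup G) P₁) (hL : IsLoc (S : Subgroup G) L) (hP₁ : P₁ ≤ L) (hP₂ : P₂ ≤ L)
    {A : Subgroup G} (hA : A ∈ AA (S : Subgroup G))
    (hAU : ¬ A ≤ centralizer (zl (S : Subgroup G) L : Set G))
    (hmax : ∀ B ∈ AA (S : Subgroup G), ¬ B ≤ centralizer (zl (S : Subgroup G) L : Set G) →
      Nat.card ↥(B ⊓ centralizer (zl (S : Subgroup G) L : Set G)) ≤
        Nat.card ↥(A ⊓ centralizer (zl (S : Subgroup G) L : Set G)))
    (hAQ : ¬ A ≤ o2 P₁) :
    ∃ E : Subgroup G, P₁ ≤ normalizer (E : Set G) ∧ E ≤ zl (S : Subgroup G) P₂ ∧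
      ∀ v ∈ zl (S : Subgroup G) P₂, ∀ t ∈ o2 P₁, t * v * t⁻¹ * v⁻¹ ∈ E := by
  set U := zl (S : Subgroup G) L with hU
  set V₁ := zl (S : Subgroup G) P₁ with hV₁
  set V₂ := zl (S : Subgroup G) P₂ with hV₂
  have hUL : U ≤ zc (o2 L) := hL.zl_le S hG
  have hUe : IsElementaryAbelian 2 U := isElementaryAbelian_mono (zc_elem (o2 L)) hUL
  have hUS : U ≤ (S : Subgroup G) := (hUL.trans (zc_le _)).trans (hL.o2_le S)
  have hV₁U : V₁ ≤ U := zl_mono _ hP₁
  have hV₂U : V₂ ≤ U := zl_mono _ hP₂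
  have hQS := o2_le S h₁.toIsPar
  have hUc : U ≤ centralizer (U : Set G) := fun u hu => mem_centralizer_iff.2 fun w hw => elem_comm hUe w hw u hu
  have hCQ : A ⊓ centralizer (U : Set G) ≤ A ⊓ o2 P₁ := by
    refine le_inf inf_le_left ?_
    rw [← IsParS.inf_centralizer S hG h₁]
    exact inf_le_inf hA.2.1 (centralizer_le hV₁U)
  have hA₁ := hp.replace hG h₁ hA
  -- `V₁ ≰ A`
  have hVA : ¬ V₁ ≤ A := by
    intro hle
    apply hAQ
    rw [← IsParS.inf_centralizer S hG h₁]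
    exact le_inf hA.2.1 fun a ha => mem_centralizer_iff.2 fun v hv => elem_comm hA.1 v (hle hv) a ha
  -- `A₁ ≤ C(U)`
  have hA₁U : (A ⊓ o2 P₁) ⊔ V₁ ≤ centralizer (U : Set G) := by
    by_contra hcon
    have h1 := hmax _ hA₁ hcon
    have h2 : (A ⊓ centralizer (U : Set G)) ⊔ V₁ ≤ ((A ⊓ o2 P₁) ⊔ V₁) ⊓ centralizer (U : Set G) :=
      le_inf (sup_le_sup_right hCQ _) (sup_le inf_le_right (hV₁U.trans hUc))
    have h3 := (Subgroup.card_le_of_le h2).trans h1
    have h4 : A ⊓ centralizer (U : Set G) = (A ⊓ centralizer (U : Set G)) ⊔ V₁ :=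
      Subgroup.eq_of_le_of_card_ge le_sup_left h3
    apply hVA
    have : V₁ ≤ A ⊓ centralizer (U : Set G) := by rw [h4]; exact le_sup_right
    exact this.trans inf_le_left
  have hAQC : A ⊓ o2 P₁ = A ⊓ centralizer (U : Set G) :=
    le_antisymm (le_inf inf_le_left (le_sup_left.trans hA₁U)) hCQ
  -- `U = V₁ (A ∩ U)`
  have hsplit : V₁ ⊔ (A ⊓ U) = U := by
    refine Subgroup.eq_of_le_of_card_ge (sup_le hV₁U inf_le_right) ?_
    have hc1 : ∀ a ∈ A ⊓ o2 P₁, ∀ u ∈ U, a * u = u * a := fun a ha u hu =>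
      (mem_centralizer_iff.1 ((hAQC ▸ ha : a ∈ A ⊓ centralizer (U : Set G))).2 u hu).symm
    have h2 : IsElementaryAbelian 2 ((A ⊓ o2 P₁) ⊔ U : Subgroup G) :=
      isElementaryAbelian_sup (isElementaryAbelian_mono hA.1 inf_le_left) hUe
        fun u hu => mem_centralizer_iff.2 fun a ha => hc1 a ha u hu
    have h3 := hA.2.2 _ h2 (sup_le (inf_le_right.trans hQS) hUS)
    have h4 := card_sup_comm hc1
    have h5 : (A ⊓ o2 P₁) ⊓ U = A ⊓ U := by
      apply le_antisymm (inf_le_inf_right _ inf_le_left)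
      rintro x ⟨hx, hx'⟩
      have h6 : x ∈ A ⊓ o2 P₁ := by rw [hAQC]; exact ⟨hx, hUc hx'⟩
      exact ⟨h6, hx'⟩
    rw [h5] at h4
    have h6 := card_sup_comm (A := V₁) (B := A ⊓ U) fun v hv a ha => elem_comm hUe v (hV₁U hv) a ha.2
    have h7 : V₁ ⊓ (A ⊓ U) = A ⊓ V₁ := by
      apply le_antisymm
      · rintro x ⟨hx, hx', -⟩
        exact ⟨hx', hx⟩
      · rintro x ⟨hx, hx'⟩
        exact ⟨hx', hx, hV₁U hx'⟩
    rw [h7] at h6
    have h8 := hp.card_le hG h₁ hA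
    rw [← hV₁] at h8
    have hpA : 0 < Nat.card ↥(A ⊓ o2 P₁) := Nat.card_pos
    have hpZ : 0 < Nat.card ↥(A ⊓ V₁) := Nat.card_pos
    -- `|A ∩ Q₁| |U| |A ∩ V₁| ≤ |V₁| |A ∩ Q₁| |A ∩ U|`
    have h9 : Nat.card ↥(A ⊓ o2 P₁) * (Nat.card U * Nat.card ↥(A ⊓ V₁)) ≤
        Nat.card ↥(A ⊓ o2 P₁) * (Nat.card V₁ * Nat.card ↥(A ⊓ U)) := by
      calc Nat.card ↥(A ⊓ o2 P₁) * (Nat.card U * Nat.card ↥(A ⊓ V₁))
          = Nat.card ↥(A ⊓ o2 P₁) * Nat.card U * Nat.card ↥(A ⊓ V₁) := by ring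
        _ = Nat.card ↥((A ⊓ o2 P₁) ⊔ U) * Nat.card ↥(A ⊓ U) * Nat.card ↥(A ⊓ V₁) := by rw [← h4]
        _ ≤ Nat.card A * Nat.card ↥(A ⊓ U) * Nat.card ↥(A ⊓ V₁) :=
            Nat.mul_le_mul_right _ (Nat.mul_le_mul_right _ h3)
        _ = Nat.card A * Nat.card ↥(A ⊓ V₁) * Nat.card ↥(A ⊓ U) := by ring
        _ ≤ Nat.card V₁ * Nat.card ↥(A ⊓ o2 P₁) * Nat.card ↥(A ⊓ U) := Nat.mul_le_mul_right _ h8
        _ = _ := by ring
    have h10 := Nat.le_of_mul_le_mul_left h9 hpA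
    rw [← h6] at h10
    exact Nat.le_of_mul_le_mul_right h10 hpZ
  -- the elements of `P₁` which centralise `U / V₁`
  have hLU : L ≤ normalizer (U : Set G) := le_normalizer_zl _ _
  have hP₁U : P₁ ≤ normalizer (U : Set G) := hP₁.trans hLU
  have hP₁V : P₁ ≤ normalizer (V₁ : Set G) := le_normalizer_zl _ _
  let N : Subgroup G :=
    { carrier := {g | g ∈ P₁ ∧ ∀ u ∈ U, g * u * g⁻¹ * u⁻¹ ∈ V₁}
      mul_mem' := by
        rintro a b ⟨ha, ha'⟩ ⟨hb, hb'⟩
        refine ⟨mul_mem ha hb, fun y hy => ?_⟩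
        have e : a * b * y * (a * b)⁻¹ * y⁻¹ =
          (a * (b * y * b⁻¹ * y⁻¹) * a⁻¹) * (a * y * a⁻¹ * y⁻¹) := by group
        rw [e]
        exact mul_mem (conj_mem hP₁V ha (hb' y hy)) (ha' y hy)
      one_mem' := ⟨one_mem _, fun y _ => by simp⟩
      inv_mem' := by
        rintro a ⟨ha, ha'⟩
        refine ⟨inv_mem ha, fun y hy => ?_⟩
        have e : a⁻¹ * y * a⁻¹⁻¹ * y⁻¹ = a⁻¹ * (a * y * a⁻¹ * y⁻¹)⁻¹ * a⁻¹⁻¹ := by group
        rw [e]
        exact conj_mem hP₁V (inv_mem ha) (inv_mem (ha' y hy)) }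
  have hNP : N ≤ P₁ := fun g hg => hg.1
  have hPN : P₁ ≤ normalizer (N : Set G) := by
    intro p hp
    apply mem_normalizer_of_cj_le
    intro x hx
    rw [mem_cj] at hx
    obtain ⟨hx1, hx2⟩ := hx
    refine ⟨?_, fun u hu => ?_⟩
    · have := mul_mem (mul_mem hp hx1) (inv_mem hp)
      have e : p * (p⁻¹ * x * p) * p⁻¹ = x := by group
      rwa [e] at this
    · have h1 : p⁻¹ * u * p ∈ U := by
        have := conj_mem hP₁U (inv_mem hp) hu
        rwa [inv_inv] at this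
      have h2 := conj_mem hP₁V hp (hx2 _ h1)
      have e : p * (p⁻¹ * x * p * (p⁻¹ * u * p) * (p⁻¹ * x * p)⁻¹ * (p⁻¹ * u * p)⁻¹) * p⁻¹ =
          x * u * x⁻¹ * u⁻¹ := by group
      rwa [e] at h2
  have hAN : A ≤ N := by
    intro a ha
    refine ⟨h₁.le (hA.2.1 ha), fun u hu => ?_⟩
    rw [← hsplit] at hu
    obtain ⟨v, hv, w, hw, rfl⟩ := mem_sup_comm (A := V₁) (B := A ⊓ U)
      (fun v hv a ha => elem_comm hUe v (hV₁U hv) a ha.2) hu
    have e1 : a * w = w * a := elem_comm hA.1 a ha w hw.1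
    have e2 : a * (v * w) * a⁻¹ * (v * w)⁻¹ = a * v * a⁻¹ * v⁻¹ := by
      have e3 : a * (v * w) * a⁻¹ * (v * w)⁻¹ = a * v * (w * a⁻¹ * w⁻¹) * v⁻¹ := by group
      have e4 : w * a⁻¹ * w⁻¹ = a⁻¹ := by
        have : w * a⁻¹ = a⁻¹ * w := by
          calc w * a⁻¹ = a⁻¹ * (a * w) * a⁻¹ := by group
            _ = a⁻¹ * w := by rw [e1]; group
        rw [this]; group
      rw [e3, e4]
    rw [e2]
    exact mul_mem (conj_mem hP₁V (h₁.le (hA.2.1 ha)) hv) (inv_mem hv)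
  have hNS : N ⊔ (S : Subgroup G) = P₁ := by
    rcases h₁.toIsPar.sup_eq_or_inf_le S hNP hPN with h | h
    · exact h
    · exact absurd ((le_inf hA.2.1 hAN).trans h) hAQ
  -- `W = V₁ V₂` is normal in `P₁`
  have hW : P₁ ≤ normalizer ((V₁ ⊔ V₂ : Subgroup G) : Set G) := by
    rw [← hNS]
    refine sup_le (fun g hg => ?_) (fun s hs => ?_)
    · apply mem_normalizer_of_cj_le
      rw [cj, Subgroup.map_sup]
      refine sup_le ?_ ?_
      · exact (cj_eq_of_mem_normalizer (hP₁V hg.1)).le.trans le_sup_left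
      · rintro _ ⟨w, hw, rfl⟩
        simp only [MulEquiv.toMonoidHom_eq_coe, MonoidHom.coe_coe, MulAut.conj_apply]
        have h1 := hg.2 w (hV₂U hw)
        have h2 := mul_mem (mem_sup_left h1 : _ ∈ V₁ ⊔ V₂) (mem_sup_right hw : w ∈ V₁ ⊔ V₂)
        rwa [inv_mul_cancel_right] at h2
    · apply mem_normalizer_of_cj_le
      rw [cj, Subgroup.map_sup]
      exact sup_le_sup (cj_eq_of_mem_normalizer (hP₁V (h₁.le hs))).le
        (cj_eq_of_mem_normalizer ((le_normalizer_zl _ _ : P₂ ≤ normalizer (V₂ : Set G)) (h₂.le hs))).le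
  -- `E = [V₁ V₂, Q₁]`
  refine ⟨⁅V₁ ⊔ V₂, o2 P₁⁆, ?_, ?_, ?_⟩
  · intro p hp
    apply mem_normalizer_of_cj_le
    rw [cj, Subgroup.map_commutator]
    exact commutator_mono (cj_eq_of_mem_normalizer (hW hp)).le
      (cj_eq_of_mem_normalizer (le_normalizer_o2 P₁ hp)).le
  · rw [commutator_le]
    intro w hw t ht
    obtain ⟨v, hv, w', hw', rfl⟩ := mem_sup_comm (A := V₁) (B := V₂)
      (fun v hv w hw => elem_comm hUe v (hV₁U hv) w (hV₂U hw)) hw
    have h1 : t * v = v * t := comm_o2' hG h₁ t ht v hv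
    have h2 : t * w' * t⁻¹ * w'⁻¹ ∈ V₂ :=
      mul_mem (conj_mem (le_normalizer_zl _ _ : P₂ ≤ normalizer (V₂ : Set G)) (h₂.le (hQS ht)) hw') (inv_mem hw')
    have h3 : v * (t * w' * t⁻¹ * w'⁻¹) = t * w' * t⁻¹ * w'⁻¹ * v := elem_comm hUe v (hV₁U hv) _ (hV₂U h2)
    rw [commutatorElement_def]
    have e : v * w' * t * (v * w')⁻¹ * t⁻¹ = (v * (t * w' * t⁻¹ * w'⁻¹) * v⁻¹)⁻¹ := by
      have e1 : (v * (t * w' * t⁻¹ * w'⁻¹) * v⁻¹)⁻¹ = v * w' * t * w'⁻¹ * (v * t)⁻¹ := by group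
      rw [e1, ← h1]
      group
    rw [e, h3, mul_inv_cancel_right]
    exact inv_mem h2
  · intro v hv t ht
    have h2 : ⁅v, t⁆ ∈ ⁅V₁ ⊔ V₂, o2 P₁⁆ := commutator_mem_commutator (mem_sup_right hv) ht
    have h3 := inv_mem h2
    rwa [commutatorElement_inv, commutatorElement_def] at h3

/-- a member of `A(S)` not centralising `V_L`, `L = ⟨P, P'⟩`, extremal and outside `O₂(P) ∩ O₂(P')` -/
theorem exists_maxA (hG : IsCharacteristicTwoType G) (h : IsParS (S : Subgroup G) P)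
    (h' : IsParS (S : Subgroup G) P') (hL : IsLoc (S : Subgroup G) (P ⊔ P'))
    (hne : ∃ A ∈ AA (S : Subgroup G), ¬ A ≤ centralizer (zl (S : Subgroup G) (P ⊔ P') : Set G)) :
    ∃ A ∈ AA (S : Subgroup G), ¬ A ≤ centralizer (zl (S : Subgroup G) (P ⊔ P') : Set G) ∧
      (∀ B ∈ AA (S : Subgroup G), ¬ B ≤ centralizer (zl (S : Subgroup G) (P ⊔ P') : Set G) →
        Nat.card ↥(B ⊓ centralizer (zl (S : Subgroup G) (P ⊔ P') : Set G)) ≤
          Nat.card ↥(A ⊓ centralizer (zl (S : Subgroup G) (P ⊔ P') : Set G))) ∧ ¬ A ≤ o2 P ⊓ o2 P' := by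
  set L := P ⊔ P' with hLdef
  set U := zl (S : Subgroup G) L with hU
  let s : Set (Subgroup G) := {B | B ∈ AA (S : Subgroup G) ∧ ¬ B ≤ centralizer (U : Set G)}
  have hne : s.Nonempty := by
    obtain ⟨A, hA, hA'⟩ := hne
    exact ⟨A, hA, hA'⟩
  obtain ⟨B, hB, hmax⟩ := Set.exists_max_image s (fun B => Nat.card ↥(B ⊓ centralizer (U : Set G)))
    (Set.toFinite s) hne
  have hLU : L ≤ normalizer (U : Set G) := le_normalizer_zl _ _
  obtain ⟨l, hl, hlS, hlQ⟩ : ∃ l ∈ L, cj l B ≤ (S : Subgroup G) ∧ ¬ cj l B ≤ o2 P ⊓ o2 P' := by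
    by_contra hcon
    push Not at hcon
    have key : ∀ l ∈ L, ∀ m ∈ L, cj m B ≤ (S : Subgroup G) → cj (l * m) B ≤ (S : Subgroup G) := by
      intro l hl
      rw [hLdef, sup_eq_closure] at hl
      induction hl using closure_induction with
      | mem x hx =>
        intro m hm h1
        have h2 := hcon m hm h1
        rw [← cj_cj]
        rcases hx with hx | hx
        · have h3 := cj_mono x (h2.trans inf_le_left)
          rw [cj_eq_of_mem_normalizer (le_normalizer_o2 P hx)] at h3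
          exact h3.trans (o2_le S h.toIsPar)
        · have h3 := cj_mono x (h2.trans inf_le_right)
          rw [cj_eq_of_mem_normalizer (le_normalizer_o2 P' hx)] at h3
          exact h3.trans (o2_le S h'.toIsPar)
      | one => intro m hm h1; rwa [one_mul]
      | mul x y hx hy ihx ihy =>
        intro m hm h1
        rw [mul_assoc]
        refine ihx (y * m) (mul_mem ?_ hm) (ihy m hm h1)
        rwa [hLdef, sup_eq_closure]
      | inv x hx ih =>
        intro m hm h1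
        obtain ⟨n, hn⟩ : ∃ n : ℕ, x⁻¹ = x ^ n := by
          refine ⟨orderOf x - 1, ?_⟩
          rw [inv_eq_iff_mul_eq_one, ← pow_succ', Nat.sub_add_cancel (orderOf_pos x), pow_orderOf_eq_one]
        rw [hn]
        have hxL : x ∈ L := by rwa [hLdef, sup_eq_closure]
        clear hn
        induction n with
        | zero => rwa [pow_zero, one_mul]
        | succ n ihn =>
          rw [pow_succ', mul_assoc]
          exact ih _ (mul_mem (pow_mem hxL n) hm) ihn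
    let N : Subgroup G := ⨆ l : L, cj (l : G) B
    have hNS : N ≤ (S : Subgroup G) := iSup_le fun l => by
      have := key l l.2 1 (one_mem _) (by rw [cj_one]; exact hB.1.2.1)
      rwa [mul_one] at this
    have hLN : L ≤ normalizer (N : Set G) := by
      intro g hg
      apply mem_normalizer_of_cj_le
      show Subgroup.map _ (⨆ l : L, cj (l : G) B) ≤ _
      rw [Subgroup.map_iSup]
      refine iSup_le fun l => ?_
      have h1 : Subgroup.map (MulAut.conj g).toMonoidHom (cj (l : G) B) = cj (g * l) B := cj_cj g l B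
      rw [h1]
      exact le_iSup (fun l : L => cj (l : G) B) ⟨g * l, mul_mem hg l.2⟩
    have hN2 : N ≤ o2 L := le_o2 (hNS.trans hL.le) (S.isPGroup'.to_le hNS) hLN
    apply hB.2
    have h1 : B ≤ N := by
      have := le_iSup (fun l : L => cj (l : G) B) 1
      rwa [OneMemClass.coe_one, cj_one] at this
    refine (h1.trans hN2).trans fun x hx => mem_centralizer_iff.2 fun u hu => ?_
    exact ((mem_zc.1 (hL.zl_le S hG hu)).2.2 x hx).symm
  have hUl : cj l U = U := cj_eq_of_mem_normalizer (hLU hl)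
  have hcUl : cj l (centralizer (U : Set G)) = centralizer (U : Set G) := by rw [cj_centralizer, hUl]
  refine ⟨cj l B, ?_, ?_, ?_, hlQ⟩
  · rw [mem_AA_iff]
    refine ⟨isElementaryAbelian_cj l hB.1.1, hlS, ?_⟩
    rw [card_cj, mm_eq hB.1]
  · intro h1
    apply hB.2
    rw [cj_le_iff] at h1
    have h2 : cj l⁻¹ (centralizer (U : Set G)) = centralizer (U : Set G) := by
      nth_rewrite 1 [← hcUl]
      rw [cj_inv_cj]
    rwa [h2] at h1
  · intro C hC hC'
    have h1 := hmax C ⟨hC, hC'⟩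
    have h2 : cj l B ⊓ centralizer (U : Set G) = cj l (B ⊓ centralizer (U : Set G)) := by
      rw [cj_inf, hcUl]
    rw [h2, card_cj]
    exact h1

end step

/-! ### The main theorem -/

section main

variable [Finite G] {S : Sylow 2 G} {P P' : Subgroup G} {F : Type*} [Field F] [Finite F] [CharP F 2]

theorem uniqB_core (hG : IsCharacteristicTwoType G) (hF : ¬ FF (S : Subgroup G)) (hP : IsParS (S : Subgroup G) P)
    (M : Crd F (S : Subgroup G) P (zl (S : Subgroup G) P)) (hb : BR (S : Subgroup G) P M.B M.R)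
    (hzc : zc (o2 P) = zl (S : Subgroup G) P) (hzj : zj (S : Subgroup G) = M.R) (hJ : ¬ jj (S : Subgroup G) ≤ o2 P)
    (hp : Pt (S : Subgroup G) P) (hP' : IsParS (S : Subgroup G) P') (hJ' : ¬ jj (S : Subgroup G) ≤ o2 P')
    (hp' : Pt (S : Subgroup G) P') :
    zl (S : Subgroup G) P' = zl (S : Subgroup G) P ∧ cv (S : Subgroup G) P' = ⊥ := by
  set V' := zl (S : Subgroup G) P' with hV'
  set Q' := o2 P' with hQ'
  have hQS : (o2 P) ≤ (S : Subgroup G) := o2_le S hP.toIsPar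
  have hQS' : Q' ≤ (S : Subgroup G) := o2_le S hP'.toIsPar
  have hcardR : Nat.card M.R = Nat.card F := M.card_R
  have hcardV : Nat.card (zl (S : Subgroup G) P) = Nat.card F * Nat.card F := M.card_V
  have hF0 : 0 < Nat.card F := Nat.card_pos
  have hidx : (o2 P).relIndex M.B = Nat.card F := by
    have h1 := hb.card
    rw [hcardV, hcardR] at h1
    exact (Nat.eq_of_mul_eq_mul_left hF0 h1).symm
  have hcQ : ∀ t ∈ (S : Subgroup G), t ∈ centralizer ((zl (S : Subgroup G) P) : Set G) → t ∈ (o2 P) := fun t ht ht' => by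
    rw [← IsParS.inf_centralizer S hG hP]
    exact ⟨ht, ht'⟩
  have hcQ' : ∀ t ∈ (S : Subgroup G), t ∈ centralizer (V' : Set G) → t ∈ Q' := fun t ht ht' => by
    rw [hQ', ← IsParS.inf_centralizer S hG hP']
    exact ⟨ht, ht'⟩
  have hV'e : IsElementaryAbelian 2 V' := zl_elem' hG hP'
  have hV'S : V' ≤ (S : Subgroup G) := (zl_le_o2' hG hP').trans hQS'
  have hVS : (zl (S : Subgroup G) P) ≤ (S : Subgroup G) := (zl_le_o2' hG hP).trans hQS
  -- `C_V'(J(S)) ≤ R`
  have hV1 : V1 (S : Subgroup G) V' ≤ M.R := by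
    intro x hx
    obtain ⟨hx1, hx2⟩ := mem_V1.1 hx
    have hsq := elem_sq hV'e x hx1
    rw [← hzj]
    exact mem_zj.2 ⟨mem_jj_of_comm (hV'S hx1) hsq hx2, hsq, hx2⟩
  have hV1c : Nat.card (V1 (S : Subgroup G) V') ≤ Nat.card F := by
    rw [← hcardR]; exact Subgroup.card_le_of_le hV1
  have hsq : Nat.card V' * Nat.card (cv (S : Subgroup G) P') ≤ Nat.card (zl (S : Subgroup G) P) := by
    refine hp'.sq.trans ?_
    rw [hcardV, pow_two]
    exact Nat.mul_le_mul hV1c hV1c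
  have hjR : jj (S : Subgroup G) ≤ centralizer (M.R : Set G) := by
    rw [jj_eq]
    exact sSup_le fun A hA => (hb.AB A hA).trans inf_le_right
  -- `V' ≤ (zl (S : Subgroup G) P)`
  have key1 : V' ≤ (zl (S : Subgroup G) P) → V' = (zl (S : Subgroup G) P) := by
    intro hle
    obtain ⟨A, hA, hAQ⟩ := exists_AA' hJ
    have hn : ¬ V' ≤ M.R := by
      intro h1
      apply hJ'
      intro x hx
      exact hcQ' x (jj_le _ hx) (centralizer_le h1 (hjR hx))
    have hRV' : M.R ≤ V' := M.R_le_of hle (hP'.le.trans (le_normalizer_zl _ _)) hn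
    have h1 : A ⊓ Q' ≤ A ⊓ (o2 P) := by
      rintro a ⟨ha, haQ'⟩
      refine ⟨ha, ?_⟩
      by_contra haQ
      apply hn
      intro v hv
      exact hb.fix a (hb.AB A hA ha) haQ v (hle hv) (comm_o2' hG hP' a haQ' v hv)
    have h2 := hp'.card_le hG hP' hA
    have h3 := BR.card_eq hG hb hA hAQ
    rw [hidx] at h3
    have h4 : Nat.card F ≤ Nat.card ↥(A ⊓ V') := by
      rw [← hcardR]
      exact Subgroup.card_le_of_le (le_inf (BR.R_le_AA hG hb hA) hRV')
    have hpA : 0 < Nat.card ↥(A ⊓ (o2 P)) := Nat.card_pos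
    have h5 : Nat.card ↥(A ⊓ (o2 P)) * (Nat.card F * Nat.card F) ≤ Nat.card ↥(A ⊓ (o2 P)) * Nat.card V' := by
      calc Nat.card ↥(A ⊓ (o2 P)) * (Nat.card F * Nat.card F)
          = Nat.card A * Nat.card F := by rw [h3]; ring
        _ ≤ Nat.card A * Nat.card ↥(A ⊓ V') := Nat.mul_le_mul_left _ h4
        _ ≤ Nat.card V' * Nat.card ↥(A ⊓ Q') := h2
        _ ≤ Nat.card V' * Nat.card ↥(A ⊓ (o2 P)) := Nat.mul_le_mul_left _ (Subgroup.card_le_of_le h1)
        _ = _ := by ring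
    have h6 := Nat.le_of_mul_le_mul_left h5 hpA
    refine Subgroup.eq_of_le_of_card_ge hle ?_
    rwa [hcardV]
  -- `(zl (S : Subgroup G) P) ≤ V'`
  have key2 : (zl (S : Subgroup G) P) ≤ V' → V' = (zl (S : Subgroup G) P) := by
    intro hle
    refine (Subgroup.eq_of_le_of_card_ge hle ?_).symm
    exact (Nat.le_mul_of_pos_right _ Nat.card_pos).trans hsq
  have main : V' = (zl (S : Subgroup G) P) := by
    have hL := sup_isLoc hG hF hP hP'
    obtain ⟨A₀, hA₀, hA₀Q⟩ := exists_AA' hJ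
    obtain ⟨A, hA, hAU, hmax, hAQ⟩ := exists_maxA hG hP hP' hL ⟨A₀, hA₀, fun h1 => hA₀Q fun a ha =>
      hcQ a (hA₀.2.1 ha) (centralizer_le (zl_mono _ le_sup_left) (h1 ha))⟩
    rcases not_and_or.1 (fun hc : A ≤ (o2 P) ∧ A ≤ Q' => hAQ (le_inf hc.1 hc.2)) with hAQ | hAQ
    · obtain ⟨E, hE1, hE2, hE3⟩ := stepB hG hP hP' hp hL le_sup_left le_sup_right hA hAU hmax hAQ
      by_cases hc : ∀ v ∈ V', ∀ t ∈ (o2 P), t * v = v * t
      · apply key1
        intro v hv
        rw [← hzc]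
        have hvQ : v ∈ (o2 P) := hP.isLoc.char2 S hG
          ⟨hP.le (hV'S hv), mem_centralizer_iff.2 fun t ht => hc v hv t ht⟩
        exact mem_zc.2 ⟨hvQ, elem_sq hV'e v hv, fun t ht => hc v hv t ht⟩
      · push Not at hc
        obtain ⟨v, hv, t, ht, hne⟩ := hc
        have hEne : ¬ E ≤ ⊥ := by
          intro h1
          have h2 := h1 (hE3 v hv t ht)
          rw [mem_bot, mul_inv_eq_one] at h2
          apply hne
          calc t * v = t * v * t⁻¹ * t := by group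
            _ = v * t := by rw [h2]
        have hSE : (S : Subgroup G) ≤ normalizer (E : Set G) := hP.le.trans hE1
        obtain ⟨y, hy, hy1, hyS⟩ := exists_fixed (M := (⊥ : Subgroup G)) S.isPGroup' (hE2.trans hV'S) hSE hEne
        have hyz : y ∈ zc (S : Subgroup G) := by
          refine mem_zc.2 ⟨hV'S (hE2 hy), elem_sq hV'e y (hE2 hy), fun s hs => ?_⟩
          have h2 := hyS s hs
          rw [mem_bot, mul_inv_eq_one] at h2
          calc s * y = s * y * s⁻¹ * s := by group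
            _ = y * s := by rw [h2]
        exact key2 ((M.irr hE1 hy (zc_le_zl _ _ hyz) hy1).trans hE2)
    · obtain ⟨E, hE1, hE2, hE3⟩ := stepB hG hP' hP hp' hL le_sup_right le_sup_left hA hAU hmax hAQ
      by_cases hc : ∀ v ∈ (zl (S : Subgroup G) P), ∀ t ∈ Q', t * v = v * t
      · have hQQ : Q' ≤ (o2 P) := fun t ht =>
          hcQ t (hQS' ht) (mem_centralizer_iff.2 fun v hv => (hc v hv t ht).symm)
        have h1 : Q'.relIndex M.B ≤ Nat.card F := by
          refine (relIndex_le_of_le_right (?_ : M.B ≤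
            (S : Subgroup G) ⊓ centralizer (V1 (S : Subgroup G) V' : Set G)) ?_).trans (hp'.cen.trans hV1c)
          · exact le_inf inf_le_left (inf_le_right.trans (centralizer_le hV1))
          · rw [relIndex]
            exact Subgroup.index_ne_zero_of_finite
        have h2 := relIndex_mul_relIndex Q' (o2 P) M.B hQQ hb.QB
        rw [hidx] at h2
        rw [← h2] at h1
        have h3 : Q'.relIndex (o2 P) ≤ 1 := by
          have : Q'.relIndex (o2 P) * Nat.card F ≤ 1 * Nat.card F := by rwa [one_mul]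
          exact Nat.le_of_mul_le_mul_right this hF0
        have h4 : Q'.relIndex (o2 P) ≠ 0 := by
          rw [relIndex]
          exact Subgroup.index_ne_zero_of_finite
        have h5 : (o2 P) ≤ Q' := relIndex_eq_one.1 (by omega)
        have h6 : Q' = (o2 P) := le_antisymm hQQ h5
        apply key1
        have h7 := hP'.isLoc.zl_le S hG
        rw [← hQ', h6, hzc] at h7
        exact h7
      · push Not at hc
        obtain ⟨v, hv, t, ht, hne⟩ := hc
        have hSE : (S : Subgroup G) ≤ normalizer (E : Set G) := hP'.le.trans hE1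
        have hRE : M.R ≤ E := by
          by_cases hER : E ≤ M.R
          · have h1 : t ∈ centralizer (M.R : Set G) := M.mem_centR_of (hQS' ht) fun w hw => hER (hE3 w hw t ht)
            refine M.R_le_comm (hQS' ht) h1 (fun h2 => hne ?_) fun w hw => hE3 w hw t ht
            exact (mem_centralizer_iff.1 h2 v hv).symm
          · exact M.R_le_of hE2 hSE hER
        apply key1
        refine le_trans (zl_le ?_ hE1) hE2
        rw [M.zc_eq hVS (zc_le_zl _ _)]
        exact inf_le_left.trans hRE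
  refine ⟨main, ?_⟩
  rw [main] at hsq
  have h1 : Nat.card (zl (S : Subgroup G) P) * Nat.card (cv (S : Subgroup G) P') ≤ Nat.card (zl (S : Subgroup G) P) * 1 := by rwa [mul_one]
  have h2 := Nat.le_of_mul_le_mul_left h1 Nat.card_pos
  exact Subgroup.card_le_one_iff_eq_bot _ |>.1 h2

/-- **LEMMA UNIQ over `B`.** -/
theorem uniqB (hFF : FFThm.Stmt.{u}) (h : HypJ S P) (M : Crd F (S : Subgroup G) P (zl (S : Subgroup G) P))
    (hP' : IsParS (S : Subgroup G) P') :
    (jj (S : Subgroup G) ≤ o2 P' ∧ P' ≤ normalizer (M.R : Set G)) ∨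
      (zl (S : Subgroup G) P' = zl (S : Subgroup G) P ∧ cv (S : Subgroup G) P' = ⊥ ∧
        zc (S : Subgroup G) ⊓ centralizer (P' : Set G) = ⊥) := by
  obtain ⟨hb, hzc, hzj⟩ := HypJ.facts M h
  have hG := h.ctx.char2
  by_cases hJ' : jj (S : Subgroup G) ≤ o2 P'
  · left
    refine ⟨hJ', ?_⟩
    have e := jj_eq_of_jj_le hJ' (o2_le S hP'.toIsPar)
    have e2 : zj (o2 P') = zj (S : Subgroup G) := by
      ext x
      rw [mem_zj, mem_zj, e]
    rw [← hzj, ← e2]
    exact (le_normalizer_o2 P').trans (normalizer_le_of_cj (F := zj) zj_cj (o2 P'))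
  · right
    obtain ⟨h1, h2⟩ := uniqB_core hG h.noFF h.star M hb hzc hzj h.jnot (pt_of hFF hG h.star h.jnot) hP' hJ'
      (pt_of hFF hG hP' hJ')
    refine ⟨h1, h2, ?_⟩
    rw [eq_bot_iff, ← h2]
    exact inf_le_inf (zc_le_zl _ _) (centralizer_le (Cfsg.Agent.MinSimple.VModule.oddGen_le P'))

end main

end Cfsg.Agent.Omega.NO3S.Fld

end

section


/-!
# BETA-FF (#19171 (4)): full support, the consequences

`P ∈ P*(S)`, `V = V_P`, `A ≤ S` an offender on `V`, `v ∈ V`, `R = {[a, v] : a ∈ A} ≥ Ω₁(Z(S))`.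

* `FSR S P A R v`, `fsr_of` : `C_V(O²(P)) = 1`, `C_V(A) = R`, `C_A(v) = C_A(V)`, `|V| = |R|²`, `|R| = |A : C_A(V)|`,
  `|C_S(R) : O₂(P)| ≤ |R|`;
* `fs_nat` : if moreover `C_V(a) = C_V(A)` for all `a ∈ A - C(V)` and `|R| > 2`, then `V` is one natural `SL₂(F)`-module
  with line `R` (`Crd F S P V`, `M.R = R`).
-/

set_option autoImplicit false
set_option linter.unusedSectionVars false
set_option linter.unusedVariables false

namespace Cfsg.Agent.Omega.NO3S.BetaFF

open Subgroup Cfsg Cfsg.Agent.ZN Cfsg.Agent.ZN.ChoiceBase Cfsg.Agent.Omega.MinPar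
open Cfsg.Agent.ZN.ChoiceSit (Syl o2_le_syl)
open Cfsg.Agent.Omega.SQ1
open Cfsg.Agent.MinSimple.VModule (zc_le zc_le_zl zl_le le_o2 le_normalizer_zl le_normalizer_o2 oddGen oddGen_le)
open Cfsg.Agent.Omega.SQ1.FFOne Cfsg.Agent.Omega.SQ1.FFSym Cfsg.Agent.Lib.SL2Mat
open Cfsg.Agent.Omega.FFThm (NatK SymK NatKM SymKM OffM NoOverM ActsSym ActsSL StmtM)
open Cfsg.Agent.Omega.FrameFF (cv)
open Cfsg.Agent.Omega.NatPair (ap ap_zero' ap_one' ap_one ap_mul ap_add ap_smul ext2 ap_inv_ap ap_inj)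
open Cfsg.Agent.Omega.NO3S.OneLine (NatC natC_of card_of_hom syl_of minH card_mul_relIndex cyc_T' disj' sy_of
  exists_fixed)
open Cfsg.Agent.Omega.NO3S.Fld

universe u

variable {G : Type u} [Group G] [Finite G] {S : Sylow 2 G} {P : Subgroup G}

/-- The conclusions of LEMMA FS for `R = [v, A] ≥ Ω₁(Z(S))`. -/
structure FSR (S P A R : Subgroup G) (v : G) : Prop where
  cv : cv S P = ⊥
  RV : R ≤ zl S P
  AR : A ≤ centralizer (R : Set G)
  cR : zl S P ⊓ centralizer (A : Set G) = R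
  ker : ∀ a ∈ A, a * v = v * a → a ∈ centralizer (zl S P : Set G)
  cardR : Nat.card R = (centralizer (zl S P : Set G)).relIndex A
  cardV : Nat.card (zl S P) = Nat.card R * Nat.card R
  cen : (o2 P).relIndex (S ⊓ centralizer (R : Set G)) ≤ Nat.card R
  no : NoOverM (zl S P) P

/-- `Ω₁(Z(S))` is not contained in `C_V(O²(P))`. -/
theorem not_zc_le_cv (hP : IsParS (S : Subgroup G) P) : ¬ zc (S : Subgroup G) ≤ cv (S : Subgroup G) P := by
  intro h
  apply hP.not_zc
  have h1 : oddGen P ⊔ (S : Subgroup G) = P :=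
    NoFF.LinesPlug.oddGen_sup hP.le (MinSimple.Basic.not_dvd_relIndex S hP.le)
  refine le_trans ?_ (centralizer_le_normalizer _)
  rw [← h1]
  refine sup_le ?_ (FrameNOFF.le_CZ S)
  rw [Subgroup.le_centralizer_iff]
  exact h.trans inf_le_right

theorem fsr_of (hFF : StmtM.{u}) (hG : IsCharacteristicTwoType G) (hP : IsParS (S : Subgroup G) P)
    {A R : Subgroup G} (hA : A ≤ (S : Subgroup G)) (hoff : OffM (zl (S : Subgroup G) P) A) {v : G}
    (hv : v ∈ zl (S : Subgroup G) P) (hR : ∀ z ∈ R, ∃ a ∈ A, a * v * a⁻¹ * v⁻¹ = z)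
    (hR' : ∀ a ∈ A, a * v * a⁻¹ * v⁻¹ ∈ R) (hZ : zc (S : Subgroup G) ≤ R) :
    FSR (S : Subgroup G) P A R v := by
  obtain ⟨z, hz, hzD⟩ := SetLike.not_le_iff_exists.1 (not_zc_le_cv hP)
  obtain ⟨a₀, ha₀, haz⟩ := hR z (hZ hz)
  obtain ⟨V1, f⟩ := exists_fs hFF hG hP hA hoff hv hz hzD ha₀ haz
  have hVS : zl (S : Subgroup G) P ≤ (S : Subgroup G) := (zl_le_o2' hG hP).trans (NO3S.OneLine.o2_le S hP.toIsPar)
  have hVe := zl_elem' hG hP
  have hcvn : P ≤ normalizer (cv (S : Subgroup G) P : Set G) := by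
    intro g hg
    apply mem_normalizer_of_cj_le
    intro y hy
    rw [mem_cj] at hy
    have h1 := SQ1.FFOf.cv_norm g hg _ hy
    have e : g * (g⁻¹ * y * g) * g⁻¹ = y := by group
    rwa [e] at h1
  -- `D = 1`
  have hcv : cv (S : Subgroup G) P = ⊥ := by
    by_contra hne
    obtain ⟨y, hy, hy1, hyS⟩ := exists_fixed (M := (⊥ : Subgroup G)) (N := cv (S : Subgroup G) P) S.isPGroup'
      (SQ1.FFOf.cv_le.trans hVS) (hP.le.trans hcvn) fun h1 => hne (le_bot_iff.1 h1)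
    have hyz : y ∈ zc (S : Subgroup G) := by
      refine mem_zc.2 ⟨hVS (SQ1.FFOf.cv_le hy), Bau.elem_sq hVe y (SQ1.FFOf.cv_le hy), fun s hs => ?_⟩
      have h2 := hyS s hs
      rw [mem_bot, mul_inv_eq_one] at h2
      calc s * y = s * y * s⁻¹ * s := by group
        _ = y * s := by rw [h2]
    obtain ⟨a, ha, hay⟩ := hR y (hZ hyz)
    have h3 := f.ker a ha (by rw [hay]; exact hy)
    apply hy1
    rw [mem_bot, ← hay, ← mem_centralizer_iff.1 h3 v hv, mul_inv_cancel_right, mul_inv_cancel]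
  -- `V₁ = R`
  have hRV1 : R ≤ V1 := by
    intro y hy
    obtain ⟨a, ha, rfl⟩ := hR y hy
    exact f.mem a ha
  have hV1R : V1 ≤ R := by
    intro w hw
    obtain ⟨a, ha, h1⟩ := f.dec w hw
    rw [hcv, mem_bot] at h1
    rw [eq_inv_of_mul_eq_one_left h1]
    exact inv_mem (hR' a ha)
  obtain rfl : V1 = R := le_antisymm hV1R hRV1
  have hcR : zl (S : Subgroup G) P ⊓ centralizer (A : Set G) = V1 :=
    le_antisymm f.cV (le_inf f.le (Subgroup.le_centralizer_iff.1 f.cA))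
  have hker : ∀ a ∈ A, a * v = v * a → a ∈ centralizer (zl (S : Subgroup G) P : Set G) := by
    intro a ha h1
    refine f.ker a ha ?_
    rw [h1, mul_inv_cancel_right, mul_inv_cancel]
    exact one_mem _
  -- `a ↦ [a, v]` is a homomorphism
  have hc : Nat.card A = Nat.card ↥(A ⊓ centralizer (zl (S : Subgroup G) P : Set G)) * Nat.card V1 := by
    have hcomm : ∀ x ∈ V1, ∀ y ∈ V1, x * y = y * x := fun x hx y hy => Bau.elem_comm hVe x (f.le hx) y (f.le hy)
    let _ : CommGroup V1 := { (inferInstance : Group V1) with mul_comm := fun a b => Subtype.ext (hcomm a a.2 b b.2) }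
    let φ : A →* V1 := MonoidHom.mk' (fun a => ⟨(a : G) * v * (a : G)⁻¹ * v⁻¹, f.mem a a.2⟩) (by
      intro a b
      apply Subtype.ext
      show (a : G) * b * v * ((a : G) * b)⁻¹ * v⁻¹ = (a : G) * v * (a : G)⁻¹ * v⁻¹ * ((b : G) * v * (b : G)⁻¹ * v⁻¹)
      rw [comm_mul (mem_centralizer_iff.1 (f.cA a.2) _ (f.mem b b.2)).symm]
      exact hcomm _ (f.mem b b.2) _ (f.mem a a.2))
    have hsurj : Function.Surjective φ := by
      rintro ⟨y, hy⟩
      obtain ⟨a, ha, h1⟩ := hR y hy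
      exact ⟨⟨a, ha⟩, Subtype.ext h1⟩
    have h1 : Nat.card φ.ker * Nat.card φ.range = Nat.card A := by
      rw [← Subgroup.index_ker, Subgroup.card_mul_index]
    have h2 : Nat.card φ.range = Nat.card V1 := by
      rw [MonoidHom.range_eq_top.2 hsurj, Subgroup.card_top]
    have h3 : Nat.card φ.ker = Nat.card ↥(A ⊓ centralizer (zl (S : Subgroup G) P : Set G)) := by
      have h4 : ∀ a : A, a ∈ φ.ker ↔ (a : G) ∈ centralizer (zl (S : Subgroup G) P : Set G) := by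
        intro a
        rw [MonoidHom.mem_ker]
        constructor
        · intro h5
          have h6 : (a : G) * v * (a : G)⁻¹ * v⁻¹ = 1 := congrArg Subtype.val h5
          exact f.ker a a.2 (by rw [h6]; exact one_mem _)
        · intro h5
          apply Subtype.ext
          show (a : G) * v * (a : G)⁻¹ * v⁻¹ = 1
          rw [← mem_centralizer_iff.1 h5 v hv, mul_inv_cancel_right, mul_inv_cancel]
      exact Nat.card_congr ⟨fun a => ⟨a.1.1, a.1.2, (h4 a.1).1 a.2⟩, fun a => ⟨⟨a.1, a.2.1⟩, (h4 _).2 a.2.2⟩,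
        fun _ => rfl, fun _ => rfl⟩
    rw [← h1, h2, h3]
  have hp : 0 < Nat.card ↥(A ⊓ centralizer (zl (S : Subgroup G) P : Set G)) := Nat.card_pos
  have hp1 : 0 < Nat.card V1 := Nat.card_pos
  refine ⟨hcv, f.le, f.cA, hcR, hker, ?_, ?_, ?_, f.no⟩
  · have h1 := card_mul_relIndex (inf_le_left : A ⊓ centralizer (zl (S : Subgroup G) P : Set G) ≤ A)
    rw [inf_relIndex_left, hc] at h1
    exact (Nat.eq_of_mul_eq_mul_left hp h1).symm
  · have h1 := hoff.le
    have h2 := f.no A (hA.trans hP.le) hoff.toElemM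
    rw [hcR] at h1 h2
    have h3 := le_antisymm h1 h2
    rw [hc] at h3
    have h4 : Nat.card ↥(A ⊓ centralizer (zl (S : Subgroup G) P : Set G)) * Nat.card (zl (S : Subgroup G) P) =
        Nat.card ↥(A ⊓ centralizer (zl (S : Subgroup G) P : Set G)) * (Nat.card V1 * Nat.card V1) := by
      rw [mul_comm, h3]; ring
    exact Nat.eq_of_mul_eq_mul_left hp h4
  · have h1 := f.cen
    rwa [hcv, Subgroup.card_bot, mul_one] at h1

end Cfsg.Agent.Omega.NO3S.BetaFF

end
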