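import Cfsg.Agent.Mrg.Omega.NO3S.Fld.FourBase
import Cfsg.Agent.Mrg.Omega.NO3S.Fld.RedFourOne
import Cfsg.Agent.Mrg.Omega.NO3b.K0.FFLem
import Cfsg.Agent.Mrg.Omega.NO3S.Fld.TI
import Cfsg.Agent.Mrg.Omega.NO3S.Fld.NS
import Cfsg.Agent.Mrg.Omega.NO3S.Fld.UniqB
import Cfsg.Agent.Mrg.Omega.FF.GlobEnd

section


/-!
# Fld, `q = 4`: the end of the reduction

* `ff_of` : the FF-LEMMA for `P₂ ∈ P(S)`, `P₂ ≤ C_G(Z)`, `J(S) ≰ O₂(P₂)`;
* `red4_or` : `C_G(Z) ≤ N_G(R)`, or `Cfg4` with some `P₂ ≤ N_G(V)`.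
-/

set_option autoImplicit false
set_option linter.unusedSectionVars false

namespace Cfsg.Agent.Omega.NO3S.Fld

open Subgroup Cfsg Cfsg.Agent.ZN Cfsg.Agent.ZN.ChoiceBase Cfsg.Agent.Omega.MinPar Cfsg.Agent.Omega.FrameNOFF
open Cfsg.Agent.ZN.ChoiceSit (Syl o2_le_syl)
open Cfsg.Agent.MinSimple.VModule (oddGen oddGen_le)

universe u

variable {G : Type u} [Group G] [Finite G] {S : Sylow 2 G} {P P2 : Subgroup G}

/-- The FF-LEMMA for a minimal parabolic in `C_G(Z)`. -/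
theorem ff_of (hAS : FFBr.AStmt.{u}) (par : IsPar (S : Subgroup G) P2) (le : P2 ≤ CZ (S : Subgroup G))
    (hJ : ¬ jj (S : Subgroup G) ≤ o2 P2) : zc (o2 P2) ≤ centralizer (oddGen P2 : Set G) := by
  have hsyl : Syl (S : Subgroup G) P2 := ⟨par.le, S.isPGroup', fun _ _ hT hST => S.is_maximal' hT hST⟩
  have hQS : o2 P2 ≤ (S : Subgroup G) := o2_le_syl hsyl
  refine NO3b.K0.ff_lemma hAS hsyl par.toIsMinPar hJ ((MinSimple.VModule.zc_le _).trans (hQS.trans par.le)) (fun y hy => (ChoiceBase.mem_zc.1 hy).2.1)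
    ?_ ?_ ?_ ?_
  · intro x hx
    rw [mem_centralizer_iff]
    intro y hy
    exact (ChoiceBase.mem_zc.1 hx).2.2 y (ChoiceBase.mem_zc.1 hy).1
  · intro g hg
    have hgQ := MinSimple.VModule.le_normalizer_o2 P2 hg
    apply mem_normalizer_of_cj_le
    intro x hx
    rw [mem_cj] at hx
    have h1 := ChoiceBase.mem_zc.1 hx
    have hcj : ∀ y, y ∈ o2 P2 ↔ g⁻¹ * y * g ∈ o2 P2 := by
      intro y
      have := mem_normalizer_iff.1 (inv_mem hgQ) y
      rwa [inv_inv] at this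
    refine ChoiceBase.mem_zc.2 ⟨(hcj x).2 h1.1, ?_, fun y hy => ?_⟩
    · have e : x ^ 2 = g * (g⁻¹ * x * g) ^ 2 * g⁻¹ := by rw [pow_two, pow_two]; group
      rw [e, h1.2.1]; group
    · have h2 := h1.2.2 _ ((hcj y).1 hy)
      have e1 : y * x = g * (g⁻¹ * y * g * (g⁻¹ * x * g)) * g⁻¹ := by group
      have e2 : x * y = g * (g⁻¹ * x * g * (g⁻¹ * y * g)) * g⁻¹ := by group
      rw [e1, e2, h2]
  · intro q hq
    rw [mem_centralizer_iff]
    intro y hy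
    exact ((ChoiceBase.mem_zc.1 hy).2.2 q hq).symm
  · rintro x ⟨hx, hxS⟩
    have h1 := ChoiceBase.mem_zc.1 hx
    have hxZ : x ∈ zc (S : Subgroup G) := ChoiceBase.mem_zc.2 ⟨hQS h1.1, h1.2.1, fun s hs => mem_centralizer_iff.1 hxS s hs⟩
    rw [mem_centralizer_iff]
    intro g hg
    exact (mem_centralizer_iff.1 (le (oddGen_le P2 hg)) x hxZ).symm

/-- `J(S) ≤ O₂(P₂)` implies that `P₂` normalises `Ω₁(Z(J(S)))`. -/
theorem norm_zj_of (par : IsPar (S : Subgroup G) P2) (hJ : jj (S : Subgroup G) ≤ o2 P2) :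
    P2 ≤ normalizer (zj (S : Subgroup G) : Set G) := by
  have hsyl : Syl (S : Subgroup G) P2 := ⟨par.le, S.isPGroup', fun _ _ hT hST => S.is_maximal' hT hST⟩
  have h1 : jj (o2 P2) = jj (S : Subgroup G) := jj_eq_of_jj_le hJ (o2_le_syl hsyl)
  intro p hp
  rw [mem_normalizer_iff_cj, ← zj_congr h1, ← zj_cj,
    NO3b.K0.cj_of_le (MinSimple.VModule.le_normalizer_o2 P2) hp]

/-- **`q = 4`**: `C_G(Z) ≤ N_G(R)`, or some `P₂ ∈ P(S)` in `C_G(Z) ∩ N_G(V)` moves `R`. -/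
theorem red4_or {F : Type*} [Field F] [Finite F] [CharP F 2] (hAS : FFBr.AStmt.{u}) (h : HypJ S P)
    (M : Crd F (S : Subgroup G) P (zl (S : Subgroup G) P)) (hF : Nat.card F = 4)
    (hZ : Nat.card (zc (S : Subgroup G)) ≠ 4) :
    CZ (S : Subgroup G) ≤ normalizer (M.R : Set G) ∨
      ∃ (P2 V3 : Subgroup G) (z : G), Cfg4 S P P2 M.R V3 z ∧ P2 ≤ normalizer (zl (S : Subgroup G) P : Set G) := by
  by_cases hall : ∀ P2 : Subgroup G, IsPar (S : Subgroup G) P2 → P2 ≤ CZ (S : Subgroup G) →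
      P2 ≤ normalizer (M.R : Set G)
  · left
    have hloc : IsLoc (S : Subgroup G) (CZ (S : Subgroup G)) :=
      isLoc_of_le_normalizer S (le_CZ S) (S.isPGroup'.to_le (MinSimple.VModule.zc_le _)) h.toHyp.zc_ne
        (centralizer_le_normalizer _)
    exact hloc.le_of_forall S (inf_le_right.trans (normalizer_S_le_R M h)) hall
  · right
    push Not at hall
    obtain ⟨P2, par, le, mv⟩ := hall
    have hzj : zj (S : Subgroup G) = M.R := (HypJ.facts M h).2.2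
    have hJ : ¬ jj (S : Subgroup G) ≤ o2 P2 := fun h0 => mv (hzj ▸ norm_zj_of par h0)
    obtain ⟨V3, z, hc⟩ := exists_cfg4 h M hF hZ par le mv (ff_of hAS par le hJ)
    exact ⟨P2, V3, z, hc, hc.norm_V (hc.idx hAS) (hc.jj_L_le hAS)⟩

end Cfsg.Agent.Omega.NO3S.Fld

end

section


/-!
# Fld: the frame `(R, B)` in the case `HypJ`

* `pb` : `PB S M.B P V M.R` from `HypJ S P`, `NatP` and `C_G(Z) ≤ N_G(R)`;
* `four_or_CZ` : `C_G(Z) ≤ N_G(R)` unless `|F| = 4` and `|Z| ≠ 4`;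
* `exists_pb_or` : the frame, or the configuration `Cfg4` (`|F| = 4`).
-/

set_option autoImplicit false
set_option linter.unusedSectionVars false
set_option linter.unusedVariables false

namespace Cfsg.Agent.Omega.NO3S.Fld

open Subgroup Cfsg Cfsg.Agent.ZN Cfsg.Agent.ZN.ChoiceBase Cfsg.Agent.Omega.MinPar
open Cfsg.Agent.Omega.Frame Cfsg.Agent.Omega.FrameNOFF
open Cfsg.Agent.Omega.NO3S.PT (PB OmB)
open Cfsg.Agent.MinSimple.VModule (zc_le_zl)

universe u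

variable {G : Type u} [Group G] [Finite G] {S : Sylow 2 G} {P : Subgroup G}
variable {F : Type*} [Field F] [Finite F] [CharP F 2]

/-- **The frame `(R, B)`** -/
theorem pb (h : HypJ S P) (M : Crd F (S : Subgroup G) P (zl (S : Subgroup G) P))
    (hCZ : CZ (S : Subgroup G) ≤ normalizer (M.R : Set G)) :
    PB S M.B P (zl (S : Subgroup G) P) M.R := by
  have hti := ti h M (fun R' hR' => (uniqB FF.Glob.ffthm h M hR').imp id fun e => ⟨e.1, e.2.2⟩) hCZ
  refine pb_of h M hti (norm_B_le_V h M) ?_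
  exact PT.wcomm_of M.S_R hti (normalizer_S_le_R M h)
    (by
      intro z hz hz1
      obtain ⟨k, hk, hkR, h1⟩ := M.tor hz hz1
      exact ⟨k, hk, hkR, h1⟩)
    (by
      intro hb
      have h1 := M.card_R
      rw [hb, card_bot] at h1
      exact absurd h1 Finite.one_lt_card.ne)
    (MinSimple.VModule.le_normalizer_zl _ _)
    (by
      intro v hv hv1
      obtain ⟨p, hp, h1⟩ := M.part hv hv1
      exact ⟨p, hp, h1⟩) (geoR h.toHypN.toHyp M) (V_R_eq h.toHypN.toHyp M)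

/-- `|F| = 4` or `|F| ≥ 16` if `Ω₁(Z(S)) < R` -/
theorem card_four_or (h : HypJ S P) (M : Crd F (S : Subgroup G) P (zl (S : Subgroup G) P))
    (hZ : Nat.card (zc (S : Subgroup G)) ≠ Nat.card F) : Nat.card F = 4 ∨ 16 ≤ Nat.card F := by
  have hn := M.not_le_centR h.toHypN.toHyp.V_le_S (zc_le_zl _ _) hZ
  obtain ⟨φ, h1, h2⟩ := M.exists_involution S.isPGroup' hn
  have h3 : orderOf φ = 2 := by
    rw [orderOf_eq_prime_iff]
    refine ⟨?_, h1⟩
    ext x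
    rw [pow_two]
    exact h2 x
  have h4 := Red.card_eq_pow φ
  rw [h3] at h4
  have := Fintype.ofFinite F
  obtain ⟨n, -, hn⟩ := FiniteField.card F 2
  rw [← Nat.card_eq_fintype_card] at hn
  have h5 : (2 : ℕ) ∣ Nat.card (Red.K φ 1) := by
    have h6 : (2 : ℕ) ∣ Nat.card (Red.K φ 1) ^ 2 := by
      rw [← h4, hn]
      exact dvd_pow_self 2 n.ne_zero
    exact Nat.prime_two.dvd_of_dvd_pow h6
  obtain ⟨k, hk⟩ := h5
  have hk0 : 0 < k := by
    rcases Nat.eq_zero_or_pos k with h6 | h6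
    · have : 2 ≤ Nat.card (Red.K φ 1) := Red.two_le_card_K_one φ
      omega
    · exact h6
  rcases Nat.lt_or_ge k 2 with h6 | h6
  · left
    have : k = 1 := by omega
    rw [h4, hk, this]
    norm_num
  · right
    rw [h4, hk]
    nlinarith

theorem CZ_le_of_eq (h : HypJ S P) (M : Crd F (S : Subgroup G) P (zl (S : Subgroup G) P))
    (hZ : Nat.card (zc (S : Subgroup G)) = Nat.card F) : CZ (S : Subgroup G) ≤ normalizer (M.R : Set G) := by
  have h1 := M.le_centR h.toHypN.toHyp.V_le_S (zc_le_zl _ _) hZ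
  have h2 := M.zc_eq h.toHypN.toHyp.V_le_S (zc_le_zl _ _)
  have h3 : zc (S : Subgroup G) = M.R := by
    rw [h2, inf_eq_left]
    rwa [le_centralizer_iff]
  rw [← h3]
  exact centralizer_le_normalizer _

/-- **THEOREM RED**: `C_G(Z) ≤ N_G(R)` unless `|F| = 4` and `|Z| ≠ 4` -/
theorem four_or_CZ (h : HypJ S P) (M : Crd F (S : Subgroup G) P (zl (S : Subgroup G) P)) :
    CZ (S : Subgroup G) ≤ normalizer (M.R : Set G) ∨ (Nat.card F = 4 ∧ Nat.card (zc (S : Subgroup G)) ≠ 4) := by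
  by_cases hZ : Nat.card (zc (S : Subgroup G)) = Nat.card F
  · exact Or.inl (CZ_le_of_eq h M hZ)
  · rcases card_four_or h M hZ with h4 | h16
    · exact Or.inr ⟨h4, by rwa [h4] at hZ⟩
    · exact Or.inl (red M h h16)

/-- **The frame `(R, B)`, or the configuration `Cfg4` with `|F| = 4`.** -/
theorem exists_pb_or (h : HypJ S P) (M : Crd F (S : Subgroup G) P (zl (S : Subgroup G) P)) :
    (PB S M.B P (zl (S : Subgroup G) P) M.R ∧ OmB M.B (zl (S : Subgroup G) P)) ∨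
      ∃ (P2 V3 : Subgroup G) (z : G), Nat.card F = 4 ∧ Nat.card (zc (S : Subgroup G)) ≠ 4 ∧
        Cfg4 S P P2 M.R V3 z ∧ P2 ≤ normalizer (zl (S : Subgroup G) P : Set G) := by
  rcases four_or_CZ h M with h1 | ⟨h4, hZ⟩
  · exact Or.inl ⟨pb h M h1, omB_of h M⟩
  · rcases red4_or FF.Glob.aStmt h M h4 hZ with h1 | ⟨P2, V3, z, h1, h2⟩
    · exact Or.inl ⟨pb h M h1, omB_of h M⟩
    · exact Or.inr ⟨P2, V3, z, h4, hZ, h1, h2⟩

end Cfsg.Agent.Omega.NO3S.Fld

end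

section


/-!
# Fld, THEOREM RED (#15355, #15515), `|F| = 4`

* `red4` : `HypJ S P`, `V_P` natural for `SL₂(4)`, `|Ω₁(Z(S))| ≠ 4` ⟹ `C_G(Z) ≤ N_G(R)` or some `P₁ ∈ P*(S)`, `P₁ ≤ P`,
  has `⟨P₁, C_G(Z)⟩` nonlocal and `|V_{P₁}| = 4`.
-/

set_option autoImplicit false

namespace Cfsg.Agent.Omega.NO3S.Fld

open Subgroup Cfsg Cfsg.Agent.ZN Cfsg.Agent.Omega.MinPar Cfsg.Agent.Omega.FrameNOFF

universe u

variable {G : Type u} [Group G] [Finite G] {S : Sylow 2 G} {P : Subgroup G}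

/-- **THEOREM RED, `q = 4`.** -/
theorem red4 {F : Type*} [Field F] [Finite F] [CharP F 2] (hAS : FFBr.AStmt.{u}) (h : HypJ S P)
    (M : Crd F (S : Subgroup G) P (zl (S : Subgroup G) P)) (hF : Nat.card F = 4)
    (hZ : Nat.card (zc (S : Subgroup G)) ≠ 4) :
    CZ (S : Subgroup G) ≤ normalizer (M.R : Set G) ∨
      ∃ P1 : Subgroup G, IsParS (S : Subgroup G) P1 ∧ P1 ≤ P ∧ NonLoc P1 (CZ (S : Subgroup G)) ∧
        Nat.card (zl (S : Subgroup G) P1) = 4 := by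
  rcases red4_or hAS h M hF hZ with h1 | ⟨P2, V3, z, h2, h3⟩
  · exact Or.inl h1
  · exact Or.inr (h2.exists_four M hF rfl h3)

end Cfsg.Agent.Omega.NO3S.Fld

end
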