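import Cfsg.Agent.Mrg.Omega.NO3S.OneLine.LevOf
import Cfsg.Agent.Mrg.Omega.NO3S.Fld.UniqB
import Cfsg.Agent.Mrg.Omega.NoFF.ThmJ
import Cfsg.Agent.Mrg.Omega.NO3S.Fld.LevBR

section


/-!
# LEMMA UNIQ over `B`, at every level

`P ∈ P*(S)`, `V = V_P` the natural `SL₂(q)`-module with line `R`, `|Z|` arbitrary, no mutual pair.  `X` is an
elementary abelian subgroup of `S` normalised by `P` and `P'` with `Ω₁(Z(O₂(P))), Ω₁(Z(O₂(P'))) ≤ X`, and `AA` a family
of subgroups of `S` which are best offenders on `X` (`OneLine.BFam`).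

* `fam_cutM` : the cut `A ∩ O₂(P)` (only `NoOverM` on `V_P` is used);
* `stepM` : the step for such a family;
* `uniqB_fam` : `Ω₁(Z(O₂(P))) = V`, `C_X(AA) = R`, some `A ∈ AA` is not in `O₂(P)` (resp. `O₂(P')`): `V_{P'} = V` and
  `C_{V_{P'}}(O²(P')) = 1`;
* `uniqB_fam'` : for every `P'`: `AA` lies in `O₂(P')` and `P' ≤ N(R)`, or `V_{P'} = V`;
* `uniqB_bo` : the same for the best offenders of `S` on `X`.
-/

set_option autoImplicit false
set_option linter.unusedSectionVars false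
set_option linter.unusedVariables false

namespace Cfsg.Agent.Omega.NO3S.Fld

open Subgroup Cfsg Cfsg.Agent.ZN Cfsg.Agent.ZN.ChoiceBase Cfsg.Agent.Omega.MinPar
open Cfsg.Agent.ZN.ChoiceSit (Syl o2_le_syl)
open Cfsg.Agent.Omega.SQ1.Bau (elem_comm elem_sq mem_sup_comm card_sup_comm mem_sup_norm)
open Cfsg.Agent.PLocal.ElemAbSup Cfsg.Agent.PLocal.ThompsonJ
open Cfsg.Agent.MinSimple.VModule (zc_le zc_le_zl zl_le le_o2 le_normalizer_zl le_normalizer_o2)
open Cfsg.Agent.Omega.FFThm (NoOverM OffM StmtM ElemM)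
open Cfsg.Agent.Omega.FrameFF (cv)
open Cfsg.Agent.Omega.NO3S.OneLine (conj_mem card_mul_relIndex minH exists_fixed zc_elem o2_le card_sup_norm sup_isLoc
  zl_mono BFam bo bo_fam elemM_mono mem_cent_sSup card_sup_relIndex zl_le_of_norm)

open scoped commutatorElement

universe u

variable {G : Type u} [Group G] [Finite G] {S : Sylow 2 G} {P P' P₁ P₂ L X : Subgroup G} {AA : Set (Subgroup G)}

/-- `A ∩ C(V_P) = A ∩ O₂(P)` -/
theorem inf_centP (hG : IsCharacteristicTwoType G) (hP : IsParS (S : Subgroup G) P) {A : Subgroup G}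
    (hA : A ≤ (S : Subgroup G)) : A ⊓ centralizer (zl (S : Subgroup G) P : Set G) = A ⊓ o2 P := by
  rw [← IsParS.inf_centralizer S hG hP, ← inf_assoc, inf_eq_left.2 hA]

/-- **The cut** `A ∩ O₂(P)`. -/
theorem fam_cutM (hG : IsCharacteristicTwoType G) (hP : IsParS (S : Subgroup G) P)
    (hno : NoOverM (zl (S : Subgroup G) P) P) (hB : BFam (S : Subgroup G) X L AA)
    (hX : ∀ x ∈ X, ∀ y ∈ X, x * y = y * x) (hVX : zl (S : Subgroup G) P ≤ X) {A : Subgroup G} (hA : A ∈ AA) :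
    Nat.card ↥(A ⊓ o2 P) * Nat.card ↥(X ⊓ centralizer ((A ⊓ o2 P : Subgroup G) : Set G)) =
        Nat.card A * Nat.card ↥(X ⊓ centralizer (A : Set G)) ∧
      zl (S : Subgroup G) P ⊔ (X ⊓ centralizer (A : Set G)) =
        X ⊓ centralizer ((A ⊓ o2 P : Subgroup G) : Set G) := by
  have hAS := hB.le A hA
  set V := zl (S : Subgroup G) P with hV
  have hle : V ⊔ (X ⊓ centralizer (A : Set G)) ≤ X ⊓ centralizer ((A ⊓ o2 P : Subgroup G) : Set G) := by
    refine sup_le (le_inf hVX fun v hv => mem_centralizer_iff.2 fun a ha => comm_o2' hG hP a ha.2 v hv) ?_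
    exact inf_le_inf_left _ (centralizer_le inf_le_left)
  have h1 := card_sup_comm (A := V) (B := X ⊓ centralizer (A : Set G)) fun v hv x hx => hX v (hVX hv) x hx.1
  have h2 : V ⊓ (X ⊓ centralizer (A : Set G)) = V ⊓ centralizer (A : Set G) := by
    rw [← inf_assoc, inf_eq_left.2 hVX]
  rw [h2] at h1
  have h3 := hno A (hAS.trans hP.le) (elemM_mono (hB.elem A hA) hVX le_rfl)
  rw [inf_centP hG hP hAS] at h3
  have hp : 0 < Nat.card ↥(V ⊓ centralizer (A : Set G)) := Nat.card_pos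
  -- `|A| |C_X(A)| ≤ |A ∩ Q| |V C_X(A)|`
  have h4 : Nat.card A * Nat.card ↥(X ⊓ centralizer (A : Set G)) ≤
      Nat.card ↥(A ⊓ o2 P) * Nat.card ↥(V ⊔ (X ⊓ centralizer (A : Set G))) := by
    refine Nat.le_of_mul_le_mul_right ?_ hp
    calc Nat.card A * Nat.card ↥(X ⊓ centralizer (A : Set G)) * Nat.card ↥(V ⊓ centralizer (A : Set G))
        = (Nat.card A * Nat.card ↥(V ⊓ centralizer (A : Set G))) * Nat.card ↥(X ⊓ centralizer (A : Set G)) := by
          ring
      _ ≤ (Nat.card V * Nat.card ↥(A ⊓ o2 P)) * Nat.card ↥(X ⊓ centralizer (A : Set G)) :=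
          Nat.mul_le_mul_right _ h3
      _ = Nat.card ↥(A ⊓ o2 P) * (Nat.card V * Nat.card ↥(X ⊓ centralizer (A : Set G))) := by ring
      _ = Nat.card ↥(A ⊓ o2 P) * (Nat.card ↥(V ⊔ (X ⊓ centralizer (A : Set G))) *
            Nat.card ↥(V ⊓ centralizer (A : Set G))) := by rw [← h1]
      _ = _ := by ring
  have h5 := Nat.mul_le_mul_left (Nat.card ↥(A ⊓ o2 P)) (Subgroup.card_le_of_le hle)
  have h6 : Nat.card ↥(A ⊓ o2 P) * Nat.card ↥(X ⊓ centralizer ((A ⊓ o2 P : Subgroup G) : Set G)) ≤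
      Nat.card A * Nat.card ↥(X ⊓ centralizer (A : Set G)) := by
    refine hB.best A hA _ ?_ inf_le_left
    rw [← inf_centP hG hP hAS]
    exact inf_le_inf_left _ (centralizer_le hVX)
  have hpA : 0 < Nat.card ↥(A ⊓ o2 P) := Nat.card_pos
  refine ⟨le_antisymm h6 (h4.trans h5), Subgroup.eq_of_le_of_card_ge hle ?_⟩
  exact Nat.le_of_mul_le_mul_left (h6.trans h4) hpA

/-- **The step.** -/
theorem stepM (hG : IsCharacteristicTwoType G) (h₁ : IsParS (S : Subgroup G) P₁) (h₂ : IsParS (S : Subgroup G) P₂)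
    (hno : NoOverM (zl (S : Subgroup G) P₁) P₁) (hL : IsLoc (S : Subgroup G) L) (hP₁ : P₁ ≤ L) (hP₂ : P₂ ≤ L)
    (hB : BFam (S : Subgroup G) (zl (S : Subgroup G) L) L AA)
    {A : Subgroup G} (hA : A ∈ AA) (hAU : ¬ A ≤ centralizer (zl (S : Subgroup G) L : Set G))
    (hmin : ∀ B ∈ AA, ¬ B ≤ centralizer (zl (S : Subgroup G) L : Set G) →
      (centralizer (zl (S : Subgroup G) L : Set G)).relIndex A ≤
        (centralizer (zl (S : Subgroup G) L : Set G)).relIndex B)
    (hAQ : ¬ A ≤ o2 P₁) :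
    ∃ E : Subgroup G, P₁ ≤ normalizer (E : Set G) ∧ E ≤ zl (S : Subgroup G) P₂ ∧
      ∀ v ∈ zl (S : Subgroup G) P₂, ∀ t ∈ o2 P₁, t * v * t⁻¹ * v⁻¹ ∈ E := by
  set U := zl (S : Subgroup G) L with hU
  set V₁ := zl (S : Subgroup G) P₁ with hV₁
  set V₂ := zl (S : Subgroup G) P₂ with hV₂
  have hUL : U ≤ zc (o2 L) := hL.zl_le S hG
  have hUe : IsElementaryAbelian 2 U := isElementaryAbelian_mono (zc_elem (o2 L)) hUL
  have hV₁U : V₁ ≤ U := zl_mono _ hP₁
  have hV₂U : V₂ ≤ U := zl_mono _ hP₂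
  have hQS := o2_le S h₁.toIsPar
  have hAS := hB.le A hA
  have hLU : L ≤ normalizer (U : Set G) := le_normalizer_zl _ _
  have hcn : ∀ B : Subgroup G, B ≤ (S : Subgroup G) → B ≤ normalizer (centralizer (U : Set G) : Set G) := by
    intro B hBS b hb
    apply mem_normalizer_of_cj_le
    rw [cj_centralizer, cj_eq_of_mem_normalizer (hLU (hL.le (hBS hb)))]
  -- `A ∩ C(U) ≤ A ∩ Q₁`
  have hCQ : A ⊓ centralizer (U : Set G) ≤ A ⊓ o2 P₁ := by
    rw [← inf_centP hG h₁ hAS]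
    exact inf_le_inf_left _ (centralizer_le hV₁U)
  obtain ⟨hcut, hVU⟩ := fam_cutM hG h₁ hno hB (elem_comm hUe) hV₁U hA
  -- `A ∩ Q₁ ≤ C(U)`
  have hA₁U : A ⊓ o2 P₁ ≤ centralizer (U : Set G) := by
    by_contra hcon
    obtain ⟨B', hB', h3⟩ := hB.cut A hA (A ⊓ o2 P₁) hCQ inf_le_left hcut
    have h4 : ¬ B' ≤ centralizer (U : Set G) := by
      intro h5
      apply hcon
      rw [sup_eq_right.2 h5] at h3
      rw [h3]
      exact le_sup_left
    have h5 := hmin B' hB' h4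
    have h6 := card_sup_relIndex (hcn B' (hB.le B' hB'))
    have h7 := card_sup_relIndex (hcn (A ⊓ o2 P₁) (inf_le_left.trans hAS))
    rw [h3, h7] at h6
    have hp : 0 < Nat.card (centralizer (U : Set G)) := Nat.card_pos
    rw [← Nat.eq_of_mul_eq_mul_right hp h6] at h5
    have h8 := card_mul_relIndex (inf_le_left : A ⊓ centralizer (U : Set G) ≤ A)
    have h9 := card_mul_relIndex (inf_le_left : (A ⊓ o2 P₁) ⊓ centralizer (U : Set G) ≤ A ⊓ o2 P₁)
    rw [inf_relIndex_left] at h8 h9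
    have h10 : (A ⊓ o2 P₁) ⊓ centralizer (U : Set G) = A ⊓ centralizer (U : Set G) :=
      le_antisymm (inf_le_inf_right _ inf_le_left) (le_inf hCQ inf_le_right)
    rw [h10] at h9
    have h11 : Nat.card A ≤ Nat.card ↥(A ⊓ o2 P₁) := by
      rw [← h8, ← h9]
      exact Nat.mul_le_mul_left _ h5
    have h12 : A ⊓ o2 P₁ = A := Subgroup.eq_of_le_of_card_ge inf_le_left h11
    exact hAQ (inf_eq_left.1 h12)
  -- `U = V₁ C_U(A)`
  have hsplit : V₁ ⊔ (U ⊓ centralizer (A : Set G)) = U := by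
    rw [hVU]
    refine inf_eq_left.2 fun u hu => mem_centralizer_iff.2 fun a ha => ?_
    exact (mem_centralizer_iff.1 (hA₁U ha) u hu).symm
  -- the elements of `P₁` which centralise `U / V₁`
  have hP₁U : P₁ ≤ normalizer (U : Set G) := hP₁.trans hLU
  have hP₁V : P₁ ≤ normalizer (V₁ : Set G) := le_normalizer_zl _ _
  let N : Subgroup G :=
    { carrier := {g | g ∈ P₁ ∧ ∀ u ∈ U, g * u * g⁻¹ * u⁻¹ ∈ V₁}
      mul_mem' := by
        rintro a b ⟨ha, ha'⟩ ⟨hb, hb'⟩
        refine ⟨mul_mem ha hb, fun y hy => ?_⟩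
        have e : a * b * y * (a * b)⁻¹ * y⁻¹ =
          (a * (b * y * b⁻¹ * y⁻¹) * a⁻¹) * (a * y * a⁻¹ * y⁻¹) := by group
        rw [e]
        exact mul_mem (conj_mem hP₁V ha (hb' y hy)) (ha' y hy)
      one_mem' := ⟨one_mem _, fun y _ => by simp⟩
      inv_mem' := by
        rintro a ⟨ha, ha'⟩
        refine ⟨inv_mem ha, fun y hy => ?_⟩
        have e : a⁻¹ * y * a⁻¹⁻¹ * y⁻¹ = a⁻¹ * (a * y * a⁻¹ * y⁻¹)⁻¹ * a⁻¹⁻¹ := by group
        rw [e]
        exact conj_mem hP₁V (inv_mem ha) (inv_mem (ha' y hy)) }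
  have hNP : N ≤ P₁ := fun g hg => hg.1
  have hPN : P₁ ≤ normalizer (N : Set G) := by
    intro p hp
    apply mem_normalizer_of_cj_le
    intro x hx
    rw [mem_cj] at hx
    obtain ⟨hx1, hx2⟩ := hx
    refine ⟨?_, fun u hu => ?_⟩
    · have := mul_mem (mul_mem hp hx1) (inv_mem hp)
      have e : p * (p⁻¹ * x * p) * p⁻¹ = x := by group
      rwa [e] at this
    · have h1 : p⁻¹ * u * p ∈ U := by
        have := conj_mem hP₁U (inv_mem hp) hu
        rwa [inv_inv] at this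
      have h2 := conj_mem hP₁V hp (hx2 _ h1)
      have e : p * (p⁻¹ * x * p * (p⁻¹ * u * p) * (p⁻¹ * x * p)⁻¹ * (p⁻¹ * u * p)⁻¹) * p⁻¹ =
          x * u * x⁻¹ * u⁻¹ := by group
      rwa [e] at h2
  have hAN : A ≤ N := by
    intro a ha
    refine ⟨h₁.le (hAS ha), fun u hu => ?_⟩
    rw [← hsplit] at hu
    obtain ⟨v, hv, w, hw, rfl⟩ := mem_sup_comm (A := V₁) (B := U ⊓ centralizer (A : Set G))
      (fun v hv a ha => elem_comm hUe v (hV₁U hv) a ha.1) hu
    have e1 : a * w = w * a := mem_centralizer_iff.1 hw.2 a ha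
    have e2 : a * (v * w) * a⁻¹ * (v * w)⁻¹ = a * v * a⁻¹ * v⁻¹ := by
      have e3 : a * (v * w) * a⁻¹ * (v * w)⁻¹ = a * v * (w * a⁻¹ * w⁻¹) * v⁻¹ := by group
      have e4 : w * a⁻¹ * w⁻¹ = a⁻¹ := by
        have : w * a⁻¹ = a⁻¹ * w := by
          calc w * a⁻¹ = a⁻¹ * (a * w) * a⁻¹ := by group
            _ = a⁻¹ * w := by rw [e1]; group
        rw [this]; group
      rw [e3, e4]
    rw [e2]
    exact mul_mem (conj_mem hP₁V (h₁.le (hAS ha)) hv) (inv_mem hv)
  have hNS : N ⊔ (S : Subgroup G) = P₁ := by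
    rcases h₁.toIsPar.sup_eq_or_inf_le S hNP hPN with h | h
    · exact h
    · exact absurd ((le_inf hAS hAN).trans h) hAQ
  -- `W = V₁ V₂` is normal in `P₁`
  have hW : P₁ ≤ normalizer ((V₁ ⊔ V₂ : Subgroup G) : Set G) := by
    rw [← hNS]
    refine sup_le (fun g hg => ?_) (fun s hs => ?_)
    · apply mem_normalizer_of_cj_le
      rw [cj, Subgroup.map_sup]
      refine sup_le ?_ ?_
      · exact (cj_eq_of_mem_normalizer (hP₁V hg.1)).le.trans le_sup_left
      · rintro _ ⟨w, hw, rfl⟩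
        simp only [MulEquiv.toMonoidHom_eq_coe, MonoidHom.coe_coe, MulAut.conj_apply]
        have h1 := hg.2 w (hV₂U hw)
        have h2 := mul_mem (mem_sup_left h1 : _ ∈ V₁ ⊔ V₂) (mem_sup_right hw : w ∈ V₁ ⊔ V₂)
        rwa [inv_mul_cancel_right] at h2
    · apply mem_normalizer_of_cj_le
      rw [cj, Subgroup.map_sup]
      exact sup_le_sup (cj_eq_of_mem_normalizer (hP₁V (h₁.le hs))).le
        (cj_eq_of_mem_normalizer ((le_normalizer_zl _ _ : P₂ ≤ normalizer (V₂ : Set G)) (h₂.le hs))).le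
  -- `E = [V₁ V₂, Q₁]`
  refine ⟨⁅V₁ ⊔ V₂, o2 P₁⁆, ?_, ?_, ?_⟩
  · intro p hp
    apply mem_normalizer_of_cj_le
    rw [cj, Subgroup.map_commutator]
    exact commutator_mono (cj_eq_of_mem_normalizer (hW hp)).le
      (cj_eq_of_mem_normalizer (le_normalizer_o2 P₁ hp)).le
  · rw [commutator_le]
    intro w hw t ht
    obtain ⟨v, hv, w', hw', rfl⟩ := mem_sup_comm (A := V₁) (B := V₂)
      (fun v hv w hw => elem_comm hUe v (hV₁U hv) w (hV₂U hw)) hw
    have h1 : t * v = v * t := comm_o2' hG h₁ t ht v hv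
    have h2 : t * w' * t⁻¹ * w'⁻¹ ∈ V₂ :=
      mul_mem (conj_mem (le_normalizer_zl _ _ : P₂ ≤ normalizer (V₂ : Set G)) (h₂.le (hQS ht)) hw') (inv_mem hw')
    have h3 : v * (t * w' * t⁻¹ * w'⁻¹) = t * w' * t⁻¹ * w'⁻¹ * v := elem_comm hUe v (hV₁U hv) _ (hV₂U h2)
    rw [commutatorElement_def]
    have e : v * w' * t * (v * w')⁻¹ * t⁻¹ = (v * (t * w' * t⁻¹ * w'⁻¹) * v⁻¹)⁻¹ := by
      have e1 : (v * (t * w' * t⁻¹ * w'⁻¹) * v⁻¹)⁻¹ = v * w' * t * w'⁻¹ * (v * t)⁻¹ := by group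
      rw [e1, ← h1]
      group
    rw [e, h3, mul_inv_cancel_right]
    exact inv_mem h2
  · intro v hv t ht
    have h2 : ⁅v, t⁆ ∈ ⁅V₁ ⊔ V₂, o2 P₁⁆ := commutator_mem_commutator (mem_sup_right hv) ht
    have h3 := inv_mem h2
    rwa [commutatorElement_inv, commutatorElement_def] at h3

/-- a member of the family not centralising `V_L`, `L = ⟨P, P'⟩`, extremal and outside `O₂(P) ∩ O₂(P')` -/
theorem exists_minA (hG : IsCharacteristicTwoType G) (h : IsParS (S : Subgroup G) P)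
    (h' : IsParS (S : Subgroup G) P') (hL : IsLoc (S : Subgroup G) (P ⊔ P'))
    (hB : BFam (S : Subgroup G) (zl (S : Subgroup G) (P ⊔ P')) (P ⊔ P') AA)
    (hne : ∃ A ∈ AA, ¬ A ≤ centralizer (zl (S : Subgroup G) (P ⊔ P') : Set G)) :
    ∃ A ∈ AA, ¬ A ≤ centralizer (zl (S : Subgroup G) (P ⊔ P') : Set G) ∧
      (∀ B ∈ AA, ¬ B ≤ centralizer (zl (S : Subgroup G) (P ⊔ P') : Set G) →
        (centralizer (zl (S : Subgroup G) (P ⊔ P') : Set G)).relIndex A ≤
          (centralizer (zl (S : Subgroup G) (P ⊔ P') : Set G)).relIndex B) ∧ ¬ A ≤ o2 P ⊓ o2 P' := by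
  set L := P ⊔ P' with hLdef
  set U := zl (S : Subgroup G) L with hU
  let s : Set (Subgroup G) := {B | B ∈ AA ∧ ¬ B ≤ centralizer (U : Set G)}
  have hne : s.Nonempty := by
    obtain ⟨A, hA, hA'⟩ := hne
    exact ⟨A, hA, hA'⟩
  obtain ⟨B, hBs, hmin⟩ := Set.exists_min_image s (fun B => (centralizer (U : Set G)).relIndex B)
    (Set.toFinite s) hne
  have hLU : L ≤ normalizer (U : Set G) := le_normalizer_zl _ _
  obtain ⟨l, hl, hlS, hlQ⟩ : ∃ l ∈ L, cj l B ≤ (S : Subgroup G) ∧ ¬ cj l B ≤ o2 P ⊓ o2 P' := by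
    by_contra hcon
    push Not at hcon
    have key : ∀ l ∈ L, ∀ m ∈ L, cj m B ≤ (S : Subgroup G) → cj (l * m) B ≤ (S : Subgroup G) := by
      intro l hl
      rw [hLdef, sup_eq_closure] at hl
      induction hl using closure_induction with
      | mem x hx =>
        intro m hm h1
        have h2 := hcon m hm h1
        rw [← cj_cj]
        rcases hx with hx | hx
        · have h3 := cj_mono x (h2.trans inf_le_left)
          rw [cj_eq_of_mem_normalizer (le_normalizer_o2 P hx)] at h3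
          exact h3.trans (o2_le S h.toIsPar)
        · have h3 := cj_mono x (h2.trans inf_le_right)
          rw [cj_eq_of_mem_normalizer (le_normalizer_o2 P' hx)] at h3
          exact h3.trans (o2_le S h'.toIsPar)
      | one => intro m hm h1; rwa [one_mul]
      | mul x y hx hy ihx ihy =>
        intro m hm h1
        rw [mul_assoc]
        refine ihx (y * m) (mul_mem ?_ hm) (ihy m hm h1)
        rwa [hLdef, sup_eq_closure]
      | inv x hx ih =>
        intro m hm h1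
        obtain ⟨n, hn⟩ : ∃ n : ℕ, x⁻¹ = x ^ n := by
          refine ⟨orderOf x - 1, ?_⟩
          rw [inv_eq_iff_mul_eq_one, ← pow_succ', Nat.sub_add_cancel (orderOf_pos x), pow_orderOf_eq_one]
        rw [hn]
        have hxL : x ∈ L := by rwa [hLdef, sup_eq_closure]
        clear hn
        induction n with
        | zero => rwa [pow_zero, one_mul]
        | succ n ihn =>
          rw [pow_succ', mul_assoc]
          exact ih _ (mul_mem (pow_mem hxL n) hm) ihn
    let N : Subgroup G := ⨆ l : L, cj (l : G) B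
    have hNS : N ≤ (S : Subgroup G) := iSup_le fun l => by
      have := key l l.2 1 (one_mem _) (by rw [cj_one]; exact hB.le B hBs.1)
      rwa [mul_one] at this
    have hLN : L ≤ normalizer (N : Set G) := by
      intro g hg
      apply mem_normalizer_of_cj_le
      show Subgroup.map _ (⨆ l : L, cj (l : G) B) ≤ _
      rw [Subgroup.map_iSup]
      refine iSup_le fun l => ?_
      have h1 : Subgroup.map (MulAut.conj g).toMonoidHom (cj (l : G) B) = cj (g * l) B := cj_cj g l B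
      rw [h1]
      exact le_iSup (fun l : L => cj (l : G) B) ⟨g * l, mul_mem hg l.2⟩
    have hN2 : N ≤ o2 L := le_o2 (hNS.trans hL.le) (S.isPGroup'.to_le hNS) hLN
    apply hBs.2
    have h1 : B ≤ N := by
      have := le_iSup (fun l : L => cj (l : G) B) 1
      rwa [OneMemClass.coe_one, cj_one] at this
    refine (h1.trans hN2).trans fun x hx => mem_centralizer_iff.2 fun u hu => ?_
    exact ((mem_zc.1 (hL.zl_le S hG hu)).2.2 x hx).symm
  have hUl : cj l U = U := cj_eq_of_mem_normalizer (hLU hl)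
  have hcUl : cj l (centralizer (U : Set G)) = centralizer (U : Set G) := by rw [cj_centralizer, hUl]
  refine ⟨cj l B, hB.conj B hBs.1 l hl hlS, ?_, ?_, hlQ⟩
  · intro h1
    apply hBs.2
    rw [cj_le_iff] at h1
    have h2 : cj l⁻¹ (centralizer (U : Set G)) = centralizer (U : Set G) := by
      nth_rewrite 1 [← hcUl]
      rw [cj_inv_cj]
    rwa [h2] at h1
  · intro C hC hC'
    have h1 := hmin C ⟨hC, hC'⟩
    have h2 : (centralizer (U : Set G)).relIndex (cj l B) = (centralizer (U : Set G)).relIndex B := by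
      have e1 := card_mul_relIndex (inf_le_left : cj l B ⊓ centralizer (U : Set G) ≤ cj l B)
      have e2 := card_mul_relIndex (inf_le_left : B ⊓ centralizer (U : Set G) ≤ B)
      rw [inf_relIndex_left] at e1 e2
      have e3 : cj l B ⊓ centralizer (U : Set G) = cj l (B ⊓ centralizer (U : Set G)) := by
        rw [cj_inf, hcUl]
      rw [e3, card_cj, card_cj, ← e2] at e1
      exact Nat.eq_of_mul_eq_mul_left Nat.card_pos e1
    rw [h2]
    exact h1

/-! ### The main theorem -/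

section main

variable {F : Type*} [Field F] [Finite F] [CharP F 2]

/-- members of the family are offenders on `V_R ≤ X`, or centralise it -/
theorem BFam.offM_or (hB : BFam (S : Subgroup G) X L AA) (hX : ∀ x ∈ X, ∀ y ∈ X, x * y = y * x) {Y : Subgroup G}
    (hYX : Y ≤ X) {A : Subgroup G} (hA : A ∈ AA) : A ≤ centralizer (Y : Set G) ∨ OffM Y A := by
  by_cases h : A ≤ centralizer (Y : Set G)
  · exact Or.inl h
  · exact Or.inr (OneLine.BFam.offM hB hX hYX hA h)

/-- **LEMMA UNIQ over `B`, for a family of best offenders.** -/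
theorem uniqB_fam (hFF : StmtM.{u}) (hG : IsCharacteristicTwoType G) (hF : ¬ FF (S : Subgroup G))
    (hB : BFam (S : Subgroup G) X L AA) (hX : IsElementaryAbelian 2 X)
    (hP : IsParS (S : Subgroup G) P) (M : Crd F (S : Subgroup G) P (zl (S : Subgroup G) P))
    (hPX : P ≤ normalizer (X : Set G)) (hPL : P ≤ L) (hQX : zc (o2 P) ≤ X)
    (hP' : IsParS (S : Subgroup G) P') (hPX' : P' ≤ normalizer (X : Set G)) (hPL' : P' ≤ L) (hQX' : zc (o2 P') ≤ X)
    (hT : zc (o2 P) = zl (S : Subgroup G) P) (hAR : ∀ A ∈ AA, A ≤ centralizer (M.R : Set G))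
    (hR : X ⊓ centralizer ((sSup AA : Subgroup G) : Set G) ≤ M.R)
    (hJ : ∃ A ∈ AA, ¬ A ≤ o2 P) (hJ' : ∃ A ∈ AA, ¬ A ≤ o2 P') :
    zl (S : Subgroup G) P' = zl (S : Subgroup G) P ∧ cv (S : Subgroup G) P' = ⊥ := by
  have hXc : ∀ x ∈ X, ∀ y ∈ X, x * y = y * x := elem_comm hX
  set V' := zl (S : Subgroup G) P' with hV'
  set Q' := o2 P' with hQ'
  have hQS : o2 P ≤ (S : Subgroup G) := o2_le S hP.toIsPar
  have hQS' : Q' ≤ (S : Subgroup G) := o2_le S hP'.toIsPar
  have hVX : zl (S : Subgroup G) P ≤ X := (hP.isLoc.zl_le S hG).trans hQX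
  have hVX' : V' ≤ X := (hP'.isLoc.zl_le S hG).trans hQX'
  have hcQ : ∀ t ∈ (S : Subgroup G), t ∈ centralizer ((zl (S : Subgroup G) P) : Set G) → t ∈ (o2 P) :=
    fun t ht ht' => by
    rw [← IsParS.inf_centralizer S hG hP]
    exact ⟨ht, ht'⟩
  have hcQ' : ∀ t ∈ (S : Subgroup G), t ∈ centralizer (V' : Set G) → t ∈ Q' := fun t ht ht' => by
    rw [hQ', ← IsParS.inf_centralizer S hG hP']
    exact ⟨ht, ht'⟩
  have hoff : ∀ {R A : Subgroup G}, IsParS (S : Subgroup G) R → zl (S : Subgroup G) R ≤ X → A ∈ AA → ¬ A ≤ o2 R →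
      OffM (zl (S : Subgroup G) R) A := by
    intro R A hR hRX hA hAR
    refine OneLine.BFam.offM hB hXc hRX hA fun h => hAR ?_
    rw [← IsParS.inf_centralizer S hG hR]
    exact le_inf (hB.le A hA) h
  obtain ⟨A₀, hA₀, hA₀Q⟩ := hJ
  obtain ⟨A₁, hA₁, hA₁Q⟩ := hJ'
  obtain ⟨V0, hp⟩ := ptM_of hFF hG hP (hB.le A₀ hA₀) (hoff hP hVX hA₀ hA₀Q)
  obtain ⟨V1, hp'⟩ := ptM_of hFF hG hP' (hB.le A₁ hA₁) (hoff hP' hVX' hA₁ hA₁Q)
  have hb := br_of hG hP M
  have hcardR : Nat.card M.R = Nat.card F := M.card_R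
  have hcardV : Nat.card (zl (S : Subgroup G) P) = Nat.card F * Nat.card F := M.card_V
  have hF0 : 0 < Nat.card F := Nat.card_pos
  have hidx : (o2 P).relIndex M.B = Nat.card F := by
    have h1 := hb.card
    rw [hcardV, hcardR] at h1
    exact (Nat.eq_of_mul_eq_mul_left hF0 h1).symm
  have hV'e : IsElementaryAbelian 2 V' := zl_elem' hG hP'
  have hV'S : V' ≤ (S : Subgroup G) := (zl_le_o2' hG hP').trans hQS'
  have hVS : (zl (S : Subgroup G) P) ≤ (S : Subgroup G) := (zl_le_o2' hG hP).trans hQS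
  -- `V₁ ≤ R`
  have hV1 : V1 ≤ M.R := by
    intro x hx
    refine hR ⟨hVX' (hp'.le hx), mem_cent_sSup.2 fun A hA a ha => ?_⟩
    rcases BFam.offM_or hB hXc hVX' hA with h1 | h1
    · exact (mem_centralizer_iff.1 (h1 ha) x (hp'.le hx)).symm
    · exact (mem_centralizer_iff.1 (hp'.off A (hB.le A hA) h1 ha) x hx).symm
  have hV1c : Nat.card V1 ≤ Nat.card F := by
    rw [← hcardR]; exact Subgroup.card_le_of_le hV1
  have hsq : Nat.card V' * Nat.card (cv (S : Subgroup G) P') ≤ Nat.card (zl (S : Subgroup G) P) := by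
    refine hp'.sq.trans ?_
    rw [hcardV, pow_two]
    exact Nat.mul_le_mul hV1c hV1c
  have hAB : ∀ A ∈ AA, A ≤ M.B := fun A hA => le_inf (hB.le A hA) (hAR A hA)
  -- `V' ≤ V`
  have key1 : V' ≤ (zl (S : Subgroup G) P) → V' = (zl (S : Subgroup G) P) := by
    intro hle
    have hn : ¬ V' ≤ M.R := by
      intro h1
      apply hA₁Q
      intro x hx
      exact hcQ' x (hB.le A₁ hA₁ hx) (centralizer_le h1 (hAR A₁ hA₁ hx))
    have hRV' : M.R ≤ V' := M.R_le_of hle (hP'.le.trans (le_normalizer_zl _ _)) hn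
    have h1 : A₀ ⊓ Q' ≤ A₀ ⊓ (o2 P) := by
      rintro a ⟨ha, haQ'⟩
      refine ⟨ha, ?_⟩
      by_contra haQ
      apply hn
      intro v hv
      exact hb.fix a (hAB A₀ hA₀ ha) haQ v (hle hv) (comm_o2' hG hP' a haQ' v hv)
    have h2 := hp'.no A₀ ((hB.le A₀ hA₀).trans hP'.le) (elemM_mono (hB.elem A₀ hA₀) hVX' le_rfl)
    rw [inf_centP hG hP' (hB.le A₀ hA₀)] at h2
    have h3 := hB.off hXc hVX hA₀
    rw [inf_centP hG hP (hB.le A₀ hA₀), hcardV] at h3
    have h4 : Nat.card F ≤ Nat.card ↥(V' ⊓ centralizer (A₀ : Set G)) := by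
      rw [← hcardR]
      refine Subgroup.card_le_of_le (le_inf hRV' fun r hr => mem_centralizer_iff.2 fun a ha => ?_)
      exact (mem_centralizer_iff.1 (hAR A₀ hA₀ ha) r hr).symm
    have h5 : Nat.card ↥(zl (S : Subgroup G) P ⊓ centralizer (A₀ : Set G)) ≤ Nat.card F := by
      rw [← hcardR]
      refine Subgroup.card_le_of_le ?_
      rintro v ⟨hv, hvA⟩
      obtain ⟨a, ha, haQ⟩ := SetLike.not_le_iff_exists.1 hA₀Q
      exact hb.fix a (hAB A₀ hA₀ ha) haQ v hv (mem_centralizer_iff.1 hvA a ha)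
    have hpA : 0 < Nat.card ↥(A₀ ⊓ (o2 P)) := Nat.card_pos
    have h6 : Nat.card ↥(A₀ ⊓ (o2 P)) * (Nat.card F * Nat.card F) ≤ Nat.card ↥(A₀ ⊓ (o2 P)) * Nat.card V' := by
      calc Nat.card ↥(A₀ ⊓ (o2 P)) * (Nat.card F * Nat.card F)
          = Nat.card F * Nat.card F * Nat.card ↥(A₀ ⊓ (o2 P)) := mul_comm _ _
        _ ≤ Nat.card A₀ * Nat.card ↥(zl (S : Subgroup G) P ⊓ centralizer (A₀ : Set G)) := h3
        _ ≤ Nat.card A₀ * Nat.card F := Nat.mul_le_mul_left _ h5
        _ ≤ Nat.card A₀ * Nat.card ↥(V' ⊓ centralizer (A₀ : Set G)) := Nat.mul_le_mul_left _ h4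
        _ ≤ Nat.card V' * Nat.card ↥(A₀ ⊓ o2 P') := h2
        _ ≤ Nat.card V' * Nat.card ↥(A₀ ⊓ (o2 P)) := Nat.mul_le_mul_left _ (Subgroup.card_le_of_le h1)
        _ = _ := by ring
    have h7 := Nat.le_of_mul_le_mul_left h6 hpA
    refine Subgroup.eq_of_le_of_card_ge hle ?_
    rwa [hcardV]
  -- `V ≤ V'`
  have key2 : (zl (S : Subgroup G) P) ≤ V' → V' = (zl (S : Subgroup G) P) := by
    intro hle
    refine (Subgroup.eq_of_le_of_card_ge hle ?_).symm
    exact (Nat.le_mul_of_pos_right _ Nat.card_pos).trans hsq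
  have main : V' = (zl (S : Subgroup G) P) := by
    have hL := sup_isLoc hG hF hP hP'
    have hUX : zl (S : Subgroup G) (P ⊔ P') ≤ X := zl_le_of_norm ((zc_le_zl _ _).trans hVX) (sup_le hPX hPX')
    have hB' := hB.mono hXc hUX (sup_le hPL hPL')
    obtain ⟨A, hA, hAU, hmin, hAQ⟩ := exists_minA hG hP hP' hL hB' ⟨A₀, hA₀, fun h1 => hA₀Q fun a ha =>
      hcQ a (hB.le A₀ hA₀ ha) (centralizer_le (zl_mono _ le_sup_left) (h1 ha))⟩
    rcases not_and_or.1 (fun hc : A ≤ (o2 P) ∧ A ≤ Q' => hAQ (le_inf hc.1 hc.2)) with hAQ | hAQ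
    · obtain ⟨E, hE1, hE2, hE3⟩ := stepM hG hP hP' hp.no hL le_sup_left le_sup_right hB' hA hAU hmin hAQ
      by_cases hc : ∀ v ∈ V', ∀ t ∈ (o2 P), t * v = v * t
      · apply key1
        intro v hv
        rw [← hT]
        have hvQ : v ∈ (o2 P) := hP.isLoc.char2 S hG
          ⟨hP.le (hV'S hv), mem_centralizer_iff.2 fun t ht => hc v hv t ht⟩
        exact mem_zc.2 ⟨hvQ, elem_sq hV'e v hv, fun t ht => hc v hv t ht⟩
      · push Not at hc
        obtain ⟨v, hv, t, ht, hne⟩ := hc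
        have hEne : ¬ E ≤ ⊥ := by
          intro h1
          have h2 := h1 (hE3 v hv t ht)
          rw [mem_bot, mul_inv_eq_one] at h2
          apply hne
          calc t * v = t * v * t⁻¹ * t := by group
            _ = v * t := by rw [h2]
        have hSE : (S : Subgroup G) ≤ normalizer (E : Set G) := hP.le.trans hE1
        obtain ⟨y, hy, hy1, hyS⟩ := exists_fixed (M := (⊥ : Subgroup G)) S.isPGroup' (hE2.trans hV'S) hSE hEne
        have hyz : y ∈ zc (S : Subgroup G) := by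
          refine mem_zc.2 ⟨hV'S (hE2 hy), elem_sq hV'e y (hE2 hy), fun s hs => ?_⟩
          have h2 := hyS s hs
          rw [mem_bot, mul_inv_eq_one] at h2
          calc s * y = s * y * s⁻¹ * s := by group
            _ = y * s := by rw [h2]
        exact key2 ((M.irr hE1 hy (zc_le_zl _ _ hyz) hy1).trans hE2)
    · obtain ⟨E, hE1, hE2, hE3⟩ := stepM hG hP' hP hp'.no hL le_sup_right le_sup_left hB' hA hAU hmin hAQ
      by_cases hc : ∀ v ∈ (zl (S : Subgroup G) P), ∀ t ∈ Q', t * v = v * t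
      · have hQQ : Q' ≤ (o2 P) := fun t ht =>
          hcQ t (hQS' ht) (mem_centralizer_iff.2 fun v hv => (hc v hv t ht).symm)
        have h1 : Q'.relIndex M.B ≤ Nat.card F := by
          refine (relIndex_le_of_le_right (?_ : M.B ≤
            (S : Subgroup G) ⊓ centralizer (V1 : Set G)) ?_).trans (hp'.cen.trans hV1c)
          · exact le_inf inf_le_left (inf_le_right.trans (centralizer_le hV1))
          · rw [relIndex]
            exact Subgroup.index_ne_zero_of_finite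
        have h2 := relIndex_mul_relIndex Q' (o2 P) M.B hQQ hb.QB
        rw [hidx] at h2
        rw [← h2] at h1
        have h3 : Q'.relIndex (o2 P) ≤ 1 := by
          have : Q'.relIndex (o2 P) * Nat.card F ≤ 1 * Nat.card F := by rwa [one_mul]
          exact Nat.le_of_mul_le_mul_right this hF0
        have h4 : Q'.relIndex (o2 P) ≠ 0 := by
          rw [relIndex]
          exact Subgroup.index_ne_zero_of_finite
        have h5 : (o2 P) ≤ Q' := relIndex_eq_one.1 (by omega)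
        have h6 : Q' = (o2 P) := le_antisymm hQQ h5
        apply key1
        have h7 := hP'.isLoc.zl_le S hG
        rw [← hQ', h6, hT] at h7
        exact h7
      · push Not at hc
        obtain ⟨v, hv, t, ht, hne⟩ := hc
        have hSE : (S : Subgroup G) ≤ normalizer (E : Set G) := hP'.le.trans hE1
        have hRE : M.R ≤ E := by
          by_cases hER : E ≤ M.R
          · have h1 : t ∈ centralizer (M.R : Set G) := M.mem_centR_of (hQS' ht) fun w hw => hER (hE3 w hw t ht)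
            refine M.R_le_comm (hQS' ht) h1 (fun h2 => hne ?_) fun w hw => hE3 w hw t ht
            exact (mem_centralizer_iff.1 h2 v hv).symm
          · exact M.R_le_of hE2 hSE hER
        apply key1
        refine le_trans (zl_le ?_ hE1) hE2
        rw [M.zc_eq hVS (zc_le_zl _ _)]
        exact inf_le_left.trans hRE
  refine ⟨main, ?_⟩
  rw [main] at hsq
  have h1 : Nat.card (zl (S : Subgroup G) P) * Nat.card (cv (S : Subgroup G) P') ≤
      Nat.card (zl (S : Subgroup G) P) * 1 := by rwa [mul_one]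
  have h2 := Nat.le_of_mul_le_mul_left h1 Nat.card_pos
  exact Subgroup.card_le_one_iff_eq_bot _ |>.1 h2

/-- `P'` normalises `C_X(AA)` if all members of the family lie in `O₂(P')`. -/
theorem BFam.norm_cent (hB : BFam (S : Subgroup G) X L AA) (hP' : IsParS (S : Subgroup G) P')
    (hPX' : P' ≤ normalizer (X : Set G)) (hPL' : P' ≤ L) (hc : ∀ A ∈ AA, A ≤ o2 P') :
    P' ≤ normalizer ((X ⊓ centralizer ((sSup AA : Subgroup G) : Set G) : Subgroup G) : Set G) := by
  have hQS := o2_le S hP'.toIsPar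
  intro g hg
  apply mem_normalizer_of_cj_le
  rw [cj_inf, cj_eq_of_mem_normalizer (hPX' hg)]
  refine inf_le_inf_left _ ?_
  intro y hy
  rw [mem_cj, mem_cent_sSup] at hy
  rw [mem_cent_sSup]
  intro B hB' b hb
  have h1 : cj g⁻¹ B ≤ o2 P' := by
    have h2 := cj_mono g⁻¹ (hc B hB')
    rwa [cj_eq_of_mem_normalizer (le_normalizer_o2 P' (inv_mem hg))] at h2
  have h2 := hB.conj B hB' g⁻¹ (hPL' (inv_mem hg)) (h1.trans hQS)
  have h3 := hy _ h2 (g⁻¹ * b * g) (by rw [mem_cj]; have e : g⁻¹⁻¹ * (g⁻¹ * b * g) * g⁻¹ = b := by group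
                                       rwa [e])
  calc b * y = g * ((g⁻¹ * b * g) * (g⁻¹ * y * g)) * g⁻¹ := by group
    _ = g * ((g⁻¹ * y * g) * (g⁻¹ * b * g)) * g⁻¹ := by rw [h3]
    _ = y * b := by group

/-- **LEMMA UNIQ over `B`, for a family of best offenders**, every `P'`. -/
theorem uniqB_fam' (hFF : StmtM.{u}) (hG : IsCharacteristicTwoType G) (hF : ¬ FF (S : Subgroup G))
    (hB : BFam (S : Subgroup G) X L AA) (hX : IsElementaryAbelian 2 X)
    (hP : IsParS (S : Subgroup G) P) (M : Crd F (S : Subgroup G) P (zl (S : Subgroup G) P))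
    (hPX : P ≤ normalizer (X : Set G)) (hPL : P ≤ L) (hQX : zc (o2 P) ≤ X)
    (hT : zc (o2 P) = zl (S : Subgroup G) P) (hAR : ∀ A ∈ AA, A ≤ centralizer (M.R : Set G))
    (hR : X ⊓ centralizer ((sSup AA : Subgroup G) : Set G) ≤ M.R) (hJ : ∃ A ∈ AA, ¬ A ≤ o2 P)
    (hP' : IsParS (S : Subgroup G) P') (hPX' : P' ≤ normalizer (X : Set G)) (hPL' : P' ≤ L)
    (hQX' : zc (o2 P') ≤ X) :
    ((∀ A ∈ AA, A ≤ o2 P') ∧ P' ≤ normalizer (M.R : Set G)) ∨
      (zl (S : Subgroup G) P' = zl (S : Subgroup G) P ∧ cv (S : Subgroup G) P' = ⊥ ∧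
        zc (S : Subgroup G) ⊓ centralizer (P' : Set G) = ⊥) := by
  by_cases hc : ∀ A ∈ AA, A ≤ o2 P'
  · left
    refine ⟨hc, ?_⟩
    have h1 := BFam.norm_cent hB hP' hPX' hPL' hc
    have h2 : X ⊓ centralizer ((sSup AA : Subgroup G) : Set G) = M.R := by
      refine le_antisymm hR (le_inf (M.R_le.trans ((hP.isLoc.zl_le S hG).trans hQX)) fun r hr => ?_)
      exact mem_cent_sSup.2 fun A hA a ha => (mem_centralizer_iff.1 (hAR A hA ha) r hr).symm
    rwa [h2] at h1
  · right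
    push Not at hc
    obtain ⟨h1, h2⟩ := uniqB_fam hFF hG hF hB hX hP M hPX hPL hQX hP' hPX' hPL' hQX' hT hAR hR hJ hc
    refine ⟨h1, h2, ?_⟩
    rw [eq_bot_iff, ← h2]
    exact inf_le_inf (zc_le_zl _ _) (centralizer_le (Cfsg.Agent.MinSimple.VModule.oddGen_le P'))

/-- **LEMMA UNIQ over `B`, for the best offenders on `X`.** -/
theorem uniqB_bo (hFF : StmtM.{u}) (hG : IsCharacteristicTwoType G) (hF : ¬ FF (S : Subgroup G))
    (hX : IsElementaryAbelian 2 X)
    (hP : IsParS (S : Subgroup G) P) (M : Crd F (S : Subgroup G) P (zl (S : Subgroup G) P))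
    (hPX : P ≤ normalizer (X : Set G)) (hQX : zc (o2 P) ≤ X)
    (hT : zc (o2 P) = zl (S : Subgroup G) P) (hAR : ∀ A ∈ bo (S : Subgroup G) X, A ≤ centralizer (M.R : Set G))
    (hR : X ⊓ centralizer ((sSup (bo (S : Subgroup G) X) : Subgroup G) : Set G) ≤ M.R)
    (hJ : ∃ A ∈ bo (S : Subgroup G) X, ¬ A ≤ o2 P)
    (hP' : IsParS (S : Subgroup G) P') (hPX' : P' ≤ normalizer (X : Set G)) (hQX' : zc (o2 P') ≤ X) :
    ((∀ A ∈ bo (S : Subgroup G) X, A ≤ o2 P') ∧ P' ≤ normalizer (M.R : Set G)) ∨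
      (zl (S : Subgroup G) P' = zl (S : Subgroup G) P ∧ cv (S : Subgroup G) P' = ⊥ ∧
        zc (S : Subgroup G) ⊓ centralizer (P' : Set G) = ⊥) :=
  uniqB_fam' hFF hG hF (bo_fam (S : Subgroup G) X) hX hP M hPX hPX hQX hT hAR hR hJ hP' hPX' hPX' hQX'

end main

end Cfsg.Agent.Omega.NO3S.Fld

end

section


/-!
# Fld at every level: LEMMA U for `P`, and (NS) `N_G(B) ≤ N_G(V)`

`M : Crd F S P V`, `V = V_P`, `R = M.R`, `B = S ∩ C(R)`; `X` elementary abelian, `AA` a family of best offenders of `S` on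
`X` (`OneLine.BFam S X L AA`), `P ≤ N(X)`, `V ≤ X`, some `A ∈ AA` is not contained in `O₂(P)`, `Ω₁(Z(O₂(P))) = V`.

* `le_zl_ofX` : `E ≤ O₂(P) ∩ X`, `[E, O₂(P)] ≤ R`, no over-offender of `O₂(P)` on `E` (module form) ⟹ `E ≤ V_P`;
* `norm_B_le_R_bl` : `N_G(B) ≤ N_G(R)` (no hypothesis);
* **`norm_B_le_V_fam`** : `N_G(B) ≤ N_G(X)` ⟹ `N_G(B) ≤ N_G(V_P)`;
* **`norm_B_le_V_lev`** : `N_G(B) ≤ N_G(V_P)` at the level `K` (`Level.Lev S K`, `K ≤ O₂(P)`).
-/

set_option autoImplicit false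
set_option linter.unusedSectionVars false
set_option linter.unusedVariables false

namespace Cfsg.Agent.Omega.NO3S.Fld

open Subgroup Cfsg Cfsg.Agent.ZN Cfsg.Agent.ZN.ChoiceBase Cfsg.Agent.Omega.MinPar
open Cfsg.Agent.Omega.NO3b.Ineq
open Cfsg.Agent.Omega.SQ1.Bau (elem_comm elem_sq mem_sup_norm)
open Cfsg.Agent.PLocal.ElemAbSup Cfsg.Agent.PLocal.ThompsonJ
open Cfsg.Agent.Omega.NatPair (ext2 ap ap_zero' ap_one')
open Cfsg.Agent.Lib.SL2Mat
open Cfsg.Agent.Omega.FFThm (ElemM NoOverM OffM StmtM)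
open Cfsg.Agent.Omega.NO3S.OneLine (BFam cj_elemM elemM_mono bo bo_fam)

universe u

variable {G : Type u} [Group G] [Finite G] {S : Sylow 2 G} {P X L : Subgroup G} {AA : Set (Subgroup G)}
variable {F : Type*} [Field F] [Finite F] [CharP F 2]

omit [Finite G] in
theorem cidx_cj (n : G) (Y Z : Subgroup G) : cidx (cj n Y) (cj n Z) = cidx Y Z := by
  rw [cidx, cidx, ← cj_centralizer]
  exact relIndex_map_map_of_injective (f := (MulAut.conj n).toMonoidHom) (centralizer (Z : Set G)) Y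
    (MulAut.conj n).injective

/-- offenders on all subgroups of `X`, as an inequality of `cidx` -/
theorem BFam.cidx_le (hB : BFam (S : Subgroup G) X L AA) (hX : ∀ x ∈ X, ∀ y ∈ X, x * y = y * x) {Y : Subgroup G}
    (hYX : Y ≤ X) {A : Subgroup G} (hA : A ∈ AA) : cidx Y A ≤ cidx A Y :=
  FFThm.relIndex_le_iff.1 (hB.off hX hYX hA)

/-- **LEMMA U for `P`, at every level.** -/
theorem le_zl_ofX (hG : IsCharacteristicTwoType G) (hP : IsParS (S : Subgroup G) P)
    (M : Crd F (S : Subgroup G) P (zl (S : Subgroup G) P)) (hB : BFam (S : Subgroup G) X L AA)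
    (hX : IsElementaryAbelian 2 X) (hPX : P ≤ normalizer (X : Set G)) (hVX : zl (S : Subgroup G) P ≤ X)
    (hT : zc (o2 P) = zl (S : Subgroup G) P) (hAR : ∀ A ∈ AA, A ≤ centralizer (M.R : Set G))
    (hJ : ∃ A ∈ AA, ¬ A ≤ o2 P) {E : Subgroup G} (hEQ : E ≤ o2 P) (hEX : E ≤ X)
    (hER : ∀ x ∈ E, ∀ t ∈ o2 P, t * x * t⁻¹ * x⁻¹ ∈ M.R)
    (hno : ∀ K : Subgroup G, K ≤ o2 P → ElemM E K → cidx K E ≤ cidx E K) :
    E ≤ zl (S : Subgroup G) P := by
  obtain ⟨A, hA, hAQ⟩ := hJ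
  have hXc : ∀ x ∈ X, ∀ y ∈ X, x * y = y * x := elem_comm hX
  have hb := bl_of hG hP M
  have hAS := hB.le A hA
  have hAB : ∀ A ∈ AA, A ≤ M.B := fun A hA => le_inf (hB.le A hA) (hAR A hA)
  have hQS : o2 P ≤ (S : Subgroup G) := hb.QB.trans hb.BS
  have hVQ : zl (S : Subgroup G) P ≤ o2 P := BL.zl_le_o2 hG hb
  have hsup : A ⊔ o2 P = M.B := BL.fam_sup hG hb hB hXc hAB hVX hA hAQ
  have hAn : A ≤ normalizer (o2 P : Set G) := (hAB A hA).trans (BL.B_norm hb)
  have hact : ∀ a ∈ A, ∃ t : F, ∀ x, a * M.e x * a⁻¹ = M.e ![x 0 + t * x 1, x 1] := by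
    intro a ha
    obtain ⟨c, hc⟩ := M.exists_root (hAB A hA ha).1 (hAB A hA ha).2
    exact ⟨c, fun x => hc x⟩
  have hfull : ∀ t : F, ∃ a ∈ A, ∀ x, a * M.e x * a⁻¹ = M.e ![x 0 + t * x 1, x 1] := by
    intro t
    obtain ⟨s, hs, hsR, hst⟩ := M.exists_full t
    have hsB : s ∈ A ⊔ o2 P := by rw [hsup]; exact ⟨hs, hsR⟩
    obtain ⟨a, ha, y, hy, rfl⟩ := mem_sup_norm hAn hsB
    refine ⟨a, ha, fun x => ?_⟩
    have h1 := hst x
    have h2 : y * M.e x = M.e x * y := BL.comm_o2 hG hb y hy _ (M.e_mem x)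
    have e : a * y * M.e x * (a * y)⁻¹ = a * (y * M.e x) * y⁻¹ * a⁻¹ := by group
    rw [e, h2] at h1
    have e2 : a * (M.e x * y) * y⁻¹ * a⁻¹ = a * M.e x * a⁻¹ := by group
    rw [e2] at h1
    exact h1
  have hPQ : P ≤ normalizer (o2 P : Set G) := MinSimple.VModule.le_normalizer_o2 P
  have hEgX : ∀ g ∈ P, cj g E ≤ X := fun g hg => by
    have := cj_mono g hEX
    rwa [cj_eq_of_mem_normalizer (hPX hg)] at this
  have hUX : LemU.UU P (zl (S : Subgroup G) P) E ≤ X := by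
    refine sSup_le ?_
    rintro K (rfl | ⟨g, hg, rfl⟩)
    · exact hVX
    · exact hEgX g hg
  have key : LemU.HypX P (o2 P) (zl (S : Subgroup G) P) A E X M.e :=
    { QP := Subgroup.map_subtype_le _
      Qn := hPQ
      Vn := MinSimple.VModule.le_normalizer_zl _ _
      VQ := hVQ
      QV := fun t ht => mem_centralizer_iff.2 fun v hv => (BL.comm_o2 hG hb t ht v hv).symm
      e_add := M.e_add
      e_inj := M.e_inj
      mem_iff := M.mem_iff
      Xel := ⟨hXc, fun x hx => by rw [← pow_two]; exact elem_sq hX x hx⟩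
      PX := hPX
      VX := hVX
      EX := hEX
      AP := hAS.trans hb.star.le
      Aco := (hB.elem A hA).comm
      off := BFam.cidx_le hB hXc hUX hA
      act := hact
      full := hfull
      AQ := by
        rw [← IsParS.inf_centralizer S hG hP]
        exact inf_le_inf_right _ hAS
      swap := by
        obtain ⟨w, hw, h1⟩ := M.lift (wm 1 one_ne_zero)
        refine ⟨w, hw, fun x => ?_⟩
        rw [h1]
        congr 1
        apply ext2
        · rw [ap_zero', wm_00, wm_01, zero_mul, zero_add, one_mul]; rfl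
        · rw [ap_one', wm_10, wm_11, zero_mul, add_zero, inv_one, CharTwo.neg_eq, one_mul]; rfl
      EQ := hEQ
      ER := by
        intro x hx t ht
        obtain ⟨a, ha⟩ := hER x hx t ht
        exact ⟨a, ha.symm⟩
      no := by
        intro K hK g hg
        have hg' := inv_mem hg
        have h1 : cj g⁻¹ K ≤ o2 P := by
          have := cj_mono g⁻¹ (hK.trans inf_le_right)
          rwa [cj_eq_of_mem_normalizer (hPQ hg')] at this
        have h2 : ElemM X (cj g⁻¹ K) :=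
          cj_elemM (hPX hg') (elemM_mono (hB.elem A hA) le_rfl (hK.trans inf_le_left))
        have h3 := hno _ h1 (elemM_mono h2 hEX le_rfl)
        rw [← cidx_cj g, ← cidx_cj g E, cj_cj_inv] at h3
        exact h3 }
  intro x hx
  rw [← hT]
  exact mem_zc.2 ⟨hEQ hx, elem_sq hX x (hEX hx), fun t ht => key.lemU x hx t ht⟩

/-- `N_G(B) ≤ N_G(R)` -/
theorem norm_B_le_R_bl (hG : IsCharacteristicTwoType G) (hP : IsParS (S : Subgroup G) P)
    (M : Crd F (S : Subgroup G) P (zl (S : Subgroup G) P)) {n : G}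
    (hn : n ∈ normalizer (M.B : Set G)) : n ∈ normalizer (M.R : Set G) := by
  have hb := bl_of hG hP M
  have hVS : zl (S : Subgroup G) P ≤ (S : Subgroup G) := (BL.zl_le_o2 hG hb).trans (hb.QB.trans hb.BS)
  have hB := M.mem_R_of_cent S.isPGroup' hVS (MinSimple.VModule.zc_le_zl _ _)
  have hRB : M.R ≤ M.B := fun r hr => hb.QB (BL.zl_le_o2 hG hb (hb.RV hr))
  apply mem_normalizer_of_cj_le
  intro x hx
  have hx' := mem_cj.1 hx
  have e : n * (n⁻¹ * x * n) * n⁻¹ = x := by group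
  refine hB x ?_ ?_ fun b hbb => ?_
  · have h1 := (mem_normalizer_iff.1 hn _).1 (hRB hx')
    rwa [e] at h1
  · have h1 := congrArg (fun t => n * t * n⁻¹) (M.sq (M.R_le hx'))
    have e1 : n * (n⁻¹ * x * n * (n⁻¹ * x * n)) * n⁻¹ = x ^ 2 := by rw [pow_two]; group
    simp only [e1, mul_one, mul_inv_cancel] at h1
    exact h1
  · have h1 : n⁻¹ * b * n ∈ M.B := by
      have := (mem_normalizer_iff.1 (inv_mem hn) b).1 hbb
      rwa [inv_inv] at this
    have h2 := congrArg (fun t => n * t * n⁻¹) (hb.cB _ h1 _ hx')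
    have e1 : n * (n⁻¹ * b * n * (n⁻¹ * x * n)) * n⁻¹ = b * x := by group
    have e2 : n * (n⁻¹ * x * n * (n⁻¹ * b * n)) * n⁻¹ = x * b := by group
    simp only [e1, e2] at h2
    exact h2

/-- **(NS)** `N_G(B) ≤ N_G(V)`, at every level; `hno` : no over-offender on `V_P`. -/
theorem norm_B_le_V_fam' (hG : IsCharacteristicTwoType G) (hP : IsParS (S : Subgroup G) P)
    (M : Crd F (S : Subgroup G) P (zl (S : Subgroup G) P)) (hno : NoOverM (zl (S : Subgroup G) P) P)
    (hB : BFam (S : Subgroup G) X L AA) (hX : IsElementaryAbelian 2 X) (hPX : P ≤ normalizer (X : Set G))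
    (hVX : zl (S : Subgroup G) P ≤ X) (hT : zc (o2 P) = zl (S : Subgroup G) P)
    (hAR : ∀ A ∈ AA, A ≤ centralizer (M.R : Set G)) (hJ : ∃ A ∈ AA, ¬ A ≤ o2 P)
    {n : G} (hn : n ∈ normalizer (M.B : Set G)) (hnX : cj n (zl (S : Subgroup G) P) ≤ X) :
    n ∈ normalizer (zl (S : Subgroup G) P : Set G) := by
  have hb := bl_of hG hP M
  have hXc : ∀ x ∈ X, ∀ y ∈ X, x * y = y * x := elem_comm hX
  have hBP : M.B ≤ P := hb.BS.trans hb.star.le
  have hVB : zl (S : Subgroup G) P ≤ M.B := (BL.zl_le_o2 hG hb).trans hb.QB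
  have hnB : cj n M.B = M.B := cj_eq_of_mem_normalizer hn
  have hnR := norm_B_le_R_bl hG hP M hn
  set E : Subgroup G := cj n (zl (S : Subgroup G) P) with hE
  have hEB : E ≤ M.B := by rw [← hnB]; exact cj_mono n hVB
  have hEQ : E ≤ o2 P := by
    rw [← IsParS.inf_centralizer S hG hP]
    refine le_inf (hEB.trans hb.BS) fun x hx => mem_centralizer_iff.2 fun v hv => ?_
    exact hXc v (hVX hv) x (hnX hx)
  have hle : E ≤ zl (S : Subgroup G) P := by
    refine le_zl_ofX hG hP M hB hX hPX hVX hT hAR hJ hEQ hnX ?_ ?_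
    · -- `[E, B] ≤ R`
      intro x hx t ht
      have hx' := mem_cj.1 hx
      have ht' : n⁻¹ * t * n ∈ M.B := by
        have := (mem_normalizer_iff.1 (inv_mem hn) t).1 (hb.QB ht)
        rwa [inv_inv] at this
      have h1 := hb.comm _ ht' _ hx'
      have h2 := (mem_normalizer_iff.1 hnR _).1 h1
      have e : n * (n⁻¹ * t * n * (n⁻¹ * x * n) * (n⁻¹ * t * n)⁻¹ * (n⁻¹ * x * n)⁻¹) * n⁻¹ = t * x * t⁻¹ * x⁻¹ := by
        group
      rwa [e] at h2
    · -- no over-offender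
      intro K hK hKe
      have hKB : cj n⁻¹ K ≤ P := by
        have h5 : cj n⁻¹ M.B = M.B := cj_eq_of_mem_normalizer (inv_mem hn)
        exact (cj_mono n⁻¹ (hK.trans hb.QB)).trans (h5.le.trans hBP)
      have hc : ∀ c : G, c ∈ centralizer (E : Set G) → n⁻¹ * c * n ∈ centralizer (zl (S : Subgroup G) P : Set G) := by
        intro c hc
        rw [hE, ← cj_centralizer, mem_cj] at hc
        exact hc
      have hKe' : ElemM (zl (S : Subgroup G) P) (cj n⁻¹ K) := by
        constructor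
        · intro a ha
          rw [mem_cj, inv_inv] at ha
          have h1 := hc _ (hKe.sq _ ha)
          have e : n⁻¹ * (n * a * n⁻¹) ^ 2 * n = a ^ 2 := by rw [pow_two, pow_two]; group
          rwa [e] at h1
        · intro a ha b hb
          rw [mem_cj, inv_inv] at ha hb
          have h1 := hc _ (hKe.comm _ ha _ hb)
          have e : n⁻¹ * (n * a * n⁻¹ * (n * b * n⁻¹) * (n * a * n⁻¹)⁻¹ * (n * b * n⁻¹)⁻¹) * n =
              a * b * a⁻¹ * b⁻¹ := by group
          rwa [e] at h1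
      have h1 := hno (cj n⁻¹ K) hKB hKe'
      have h2 := FFThm.relIndex_le_iff.1 h1
      have h3 : cidx (cj n⁻¹ K) (zl (S : Subgroup G) P) ≤ cidx (zl (S : Subgroup G) P) (cj n⁻¹ K) := h2
      rw [← cidx_cj n, ← cidx_cj n (zl (S : Subgroup G) P), cj_cj_inv] at h3
      exact h3
  have heq : E = zl (S : Subgroup G) P := by
    refine Subgroup.eq_of_le_of_card_ge hle ?_
    rw [hE, card_cj]
  rw [mem_normalizer_iff_cj]
  exact heq

/-- **(NS)** `N_G(B) ≤ N_G(V)`, at every level, by the FF theorem. -/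
theorem norm_B_le_V_fam (hFF : StmtM.{u}) (hG : IsCharacteristicTwoType G) (hP : IsParS (S : Subgroup G) P)
    (M : Crd F (S : Subgroup G) P (zl (S : Subgroup G) P))
    (hB : BFam (S : Subgroup G) X L AA) (hX : IsElementaryAbelian 2 X) (hPX : P ≤ normalizer (X : Set G))
    (hVX : zl (S : Subgroup G) P ≤ X) (hT : zc (o2 P) = zl (S : Subgroup G) P)
    (hAR : ∀ A ∈ AA, A ≤ centralizer (M.R : Set G)) (hJ : ∃ A ∈ AA, ¬ A ≤ o2 P)
    (hNX : normalizer (M.B : Set G) ≤ normalizer (X : Set G)) :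
    normalizer (M.B : Set G) ≤ normalizer (zl (S : Subgroup G) P : Set G) := by
  intro n hn
  obtain ⟨A, hA, hAQ⟩ := hJ
  have hoff : OffM (zl (S : Subgroup G) P) A := by
    refine OneLine.BFam.offM hB (elem_comm hX) hVX hA fun h => hAQ ?_
    rw [← IsParS.inf_centralizer S hG hP]
    exact le_inf (hB.le A hA) h
  obtain ⟨V0, hp⟩ := ptM_of hFF hG hP (hB.le A hA) hoff
  refine norm_B_le_V_fam' hG hP M hp.no hB hX hPX hVX hT hAR ⟨A, hA, hAQ⟩ hn ?_
  have h1 := cj_mono n hVX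
  rwa [cj_eq_of_mem_normalizer (hNX hn)] at h1

/-- (NS) for the best offenders on `X`. -/
theorem norm_B_le_V_bo (hFF : StmtM.{u}) (hG : IsCharacteristicTwoType G) (hP : IsParS (S : Subgroup G) P)
    (M : Crd F (S : Subgroup G) P (zl (S : Subgroup G) P))
    (hX : IsElementaryAbelian 2 X) (hPX : P ≤ normalizer (X : Set G))
    (hVX : zl (S : Subgroup G) P ≤ X) (hT : zc (o2 P) = zl (S : Subgroup G) P)
    (hAR : ∀ A ∈ bo (S : Subgroup G) X, A ≤ centralizer (M.R : Set G)) (hJ : ∃ A ∈ bo (S : Subgroup G) X, ¬ A ≤ o2 P)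
    (hNX : normalizer (M.B : Set G) ≤ normalizer (X : Set G)) :
    normalizer (M.B : Set G) ≤ normalizer (zl (S : Subgroup G) P : Set G) :=
  norm_B_le_V_fam hFF hG hP M (bo_fam (S : Subgroup G) X) hX hPX hVX hT hAR hJ hNX

/-- **(NS)** `N_G(B) ≤ N_G(V)` at the level `K`. -/
theorem norm_B_le_V_lev (h : Hyp S P) (M : Crd F (S : Subgroup G) P (zl (S : Subgroup G) P)) {K : Subgroup G}
    (hL : Level.Lev (S : Subgroup G) K) (hK : K ≤ o2 P) {A : Subgroup G} (hA : A ∈ Level.BO (S : Subgroup G) K)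
    (hAQ : ¬ A ≤ o2 P) (hno : NoOverM (zl (S : Subgroup G) P) P) :
    normalizer (M.B : Set G) ≤ normalizer (zl (S : Subgroup G) P : Set G) := by
  intro n hn
  have hG := h.ctx.char2
  have hP := h.star
  have hb := bl_of hG hP M
  have hQS : o2 P ≤ (S : Subgroup G) := hb.QB.trans hb.BS
  have hX := OneLine.zc_elem K
  have hXc : ∀ x ∈ zc K, ∀ y ∈ zc K, x * y = y * x := elem_comm hX
  have hQX : zc (o2 P) ≤ zc K := hL.zc_o2_le hK hQS
  have hVX : zl (S : Subgroup G) P ≤ zc K := (hP.isLoc.zl_le S hG).trans hQX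
  have hPX : P ≤ normalizer (zc K : Set G) := (hL.le_norm_of_o2 hK hQS).trans (Level.normalizer_le_zc K)
  have hB := bo_fam (S : Subgroup G) (zc K)
  have hA' : A ∈ bo (S : Subgroup G) (zc K) := by rw [← OneLine.bo_eq]; exact hA
  have hAR : ∀ A ∈ bo (S : Subgroup G) (zc K), A ≤ centralizer (M.R : Set G) := fun A hA =>
    M.off_le_centR (hB.le A hA) (elemM_mono (hB.elem A hA) hVX le_rfl) (hB.off hXc hVX hA)
  have hAB : ∀ A ∈ bo (S : Subgroup G) (zc K), A ≤ M.B := fun A hA => le_inf (hB.le A hA) (hAR A hA)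
  have hVS : zl (S : Subgroup G) P ≤ (S : Subgroup G) := (BL.zl_le_o2 hG hb).trans hQS
  have hR := M.mem_R_of_cent S.isPGroup' hVS (MinSimple.VModule.zc_le_zl _ _)
  have hT := BL.zc_o2_fam hG hb hB hXc hAB hR hQX hA' hAQ
  refine norm_B_le_V_fam' hG hP M hno hB hX hPX hVX hT hAR ⟨A, hA', hAQ⟩ hn ?_
  have h1 : n ∈ normalizer (zc K : Set G) := Level.normalizer_le_zc K (hL.norm _ (hK.trans hb.QB) hb.BS hn)
  have h2 := cj_mono n hVX
  rwa [cj_eq_of_mem_normalizer h1] at h2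

end Cfsg.Agent.Omega.NO3S.Fld

end
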