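import Cfsg.Agent.Mrg.Omega.NO3S.Basic
import Cfsg.Agent.Omega.NO3S.Fld.DEight
import Cfsg.Agent.Mrg.Omega.NO3S.Fld.Chief
import Cfsg.Agent.Mrg.Omega.NO3b.K0.FullOff
import Cfsg.Agent.Mrg.Omega.SQ1.Choice
import Cfsg.Agent.Mrg.Omega.NO3S.Fld.ZJ
import Cfsg.Agent.Mrg.Omega.NO3b.EZeroBase
import Cfsg.Agent.Mrg.Omega.NO3S.Fld.Mods
import Cfsg.Agent.Mrg.Omega.NO3S.Level.Fam

section


/-!
# Fld, `q = 4` (helper240, #15515), section (0)

`V = V_P` natural for `SL₂(4)`, `Ω₁(Z(S)) = ⟨z⟩`, `P₂ ∈ P(S)` centralises `z` and moves `R = Ω₁ Z(J(S)) = C_V(J(S))`.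
`L = O₂(P) = C_S(V)`, `Q = O₂(P₂)`, `E = O²(P₂)`, `X = ⟨R^P₂⟩ ≤ U = ⟨V^P₂⟩`.

* `Cfg4 S P P2 R V3 z` : this situation;
* `U_comm`, `U_sq`, `U_le_Q` : `U ≤ Q` is elementary abelian;
* `comm_XQ` : `[X, Q] ≤ ⟨z⟩`; `not_Q_R` : `Q ≰ C(R)`; `min_or` : `E ≤ K` or `S ∩ K ≤ Q`;
* `AA_cent` : `A ∈ A(S)`, `A ≤ Q` ⟹ `[X, A] = 1`; `inf_cent_X` : `C_S(X) ≤ Q`;
* `root` : `A ∈ A(S)`, `A ≰ L` ⟹ `|A : C_A(V)| = |V : C_V(A)| = 4`, `C_V(A) = R`, `V (A ∩ L) ∈ A(S)`.
-/

set_option autoImplicit false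
set_option linter.unusedSectionVars false

namespace Cfsg.Agent.Omega.NO3S.Fld

open Subgroup Cfsg Cfsg.Agent.ZN Cfsg.Agent.ZN.ChoiceBase Cfsg.Agent.Omega.MinPar Cfsg.Agent.Omega.FrameNOFF
open Cfsg.Agent.ZN.ChoiceSit (Syl syl_iff syl_not_dvd o2_le_syl isPGroup_o2)
open Cfsg.Agent.MinSimple.MinParabolic (IsMinPar)
open Cfsg.Agent.MinSimple.VModule (oddGen oddGen_le mem_oddGen le_normalizer_oddGen le_normalizer_o2 o2_le
  zc_le zc_le_zl le_normalizer_zl zc_sq zc_comm le_centralizer_zc)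
open Cfsg.Agent.Omega.NO3b.EZero (cl cj_le_cl le_cl cl_le cj_cl le_normalizer_cl cent_symm cj_cent cj_norm
  sq_of_comm oddGen_sup_syl mem_cj_self relIndex_cj le_normalizer_inf_cent)
open Cfsg.Agent.Omega.NO3b.K0 (conj_mem' cj_of_le cj_self)
open Cfsg.Agent.Omega.NO3S.NotFF (le_normalizer_of_forall normalizer_inf normalizer_sup normalizer_centralizer
  normalizer_commutator)
open Cfsg.Agent.Omega.SQ1.Bau (mem_AA_of_comm zj_le_AA elem_comm elem_sq)
open scoped commutatorElement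

universe u

/-- **The situation** (`q = 4`). -/
structure Cfg4 {G : Type u} [Group G] [Finite G] (S : Sylow 2 G) (P P2 R V3 : Subgroup G) (z : G) : Prop where
  hyp : HypJ S P
  mod : DEight.Mod (S : Subgroup G) (zl (S : Subgroup G) P) R V3 z
  fix4 : ∀ b ∈ (S : Subgroup G), b ∉ centralizer (zl (S : Subgroup G) P : Set G) →
    Nat.card ↥(zl (S : Subgroup G) P ⊓ centralizer ({b} : Set G)) ≤ 4
  zS : zc (S : Subgroup G) = zpowers z
  par : IsPar (S : Subgroup G) P2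
  le : P2 ≤ CZ (S : Subgroup G)
  mv : ¬ P2 ≤ normalizer (R : Set G)
  zjS : zj (S : Subgroup G) = R
  soc : zc (o2 P) = zl (S : Subgroup G) P
  /-- the FF-LEMMA -/
  ff : zc (o2 P2) ≤ centralizer (oddGen P2 : Set G)

section basic

variable {G : Type u} [Group G]

theorem mem_normalizer_of {A : Subgroup G} {g : G} (h1 : ∀ a ∈ A, g * a * g⁻¹ ∈ A)
    (h2 : ∀ a ∈ A, g⁻¹ * a * g ∈ A) : g ∈ normalizer (A : Set G) := by
  rw [mem_normalizer_iff]
  intro a
  refine ⟨h1 a, fun h => ?_⟩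
  have h3 := h2 _ h
  have e : g⁻¹ * (g * a * g⁻¹) * g = a := by group
  rwa [e] at h3

/-- the elements `x` of `Y` with `[x, q] ∈ D` for all `q ∈ Q` -/
def cmod (Y Q D : Subgroup G) (hY : Y ≤ normalizer (D : Set G)) : Subgroup G where
  carrier := {x | x ∈ Y ∧ ∀ q ∈ Q, q * x * q⁻¹ * x⁻¹ ∈ D}
  one_mem' := ⟨one_mem _, fun q _ => by
    have : q * 1 * q⁻¹ * (1 : G)⁻¹ = 1 := by group
    rw [this]
    exact one_mem _⟩
  mul_mem' := by
    rintro x y ⟨hx, hx'⟩ ⟨hy, hy'⟩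
    refine ⟨mul_mem hx hy, fun q hq => ?_⟩
    have e : q * (x * y) * q⁻¹ * (x * y)⁻¹ = (q * x * q⁻¹ * x⁻¹) * (x * (q * y * q⁻¹ * y⁻¹) * x⁻¹) := by group
    rw [e]
    exact mul_mem (hx' q hq) ((mem_normalizer_iff.1 (hY hx) _).1 (hy' q hq))
  inv_mem' := by
    rintro x ⟨hx, hx'⟩
    refine ⟨inv_mem hx, fun q hq => ?_⟩
    have e : q * x⁻¹ * q⁻¹ * x⁻¹⁻¹ = x⁻¹ * (q * x * q⁻¹ * x⁻¹)⁻¹ * x⁻¹⁻¹ := by group
    rw [e]
    exact (mem_normalizer_iff.1 (hY (inv_mem hx)) _).1 (inv_mem (hx' q hq))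

theorem mem_cmod {Y Q D : Subgroup G} {hY : Y ≤ normalizer (D : Set G)} {x : G} :
    x ∈ cmod Y Q D hY ↔ x ∈ Y ∧ ∀ q ∈ Q, q * x * q⁻¹ * x⁻¹ ∈ D := Iff.rfl

/-- `cmod` is invariant under what normalises the data -/
theorem norm_cmod {Y Q D N : Subgroup G} {hY : Y ≤ normalizer (D : Set G)} (h1 : N ≤ normalizer (Y : Set G))
    (h2 : N ≤ normalizer (Q : Set G)) (h3 : N ≤ normalizer (D : Set G)) :
    N ≤ normalizer (cmod Y Q D hY : Set G) := by
  refine le_normalizer_of_forall fun g hg x hx => ?_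
  refine ⟨conj_mem' h1 hg hx.1, fun q hq => ?_⟩
  have h4 : g⁻¹ * q * g ∈ Q := by
    have := conj_mem' h2 (inv_mem hg) hq
    rwa [inv_inv] at this
  have h5 := conj_mem' h3 hg (hx.2 _ h4)
  have e : g * (g⁻¹ * q * g * x * (g⁻¹ * q * g)⁻¹ * x⁻¹) * g⁻¹ = q * (g * x * g⁻¹) * q⁻¹ * (g * x * g⁻¹)⁻¹ := by
    group
  rwa [e] at h5

/-- the elements `g` of `N` with `[x, g] ∈ D` for all `x ∈ Y` -/
def kmod (N Y D : Subgroup G) (h1 : N ≤ normalizer (Y : Set G)) (h2 : N ≤ normalizer (D : Set G)) : Subgroup G where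
  carrier := {g | g ∈ N ∧ ∀ x ∈ Y, g * x * g⁻¹ * x⁻¹ ∈ D}
  one_mem' := ⟨one_mem _, fun x _ => by
    have : 1 * x * (1 : G)⁻¹ * x⁻¹ = 1 := by group
    rw [this]
    exact one_mem _⟩
  mul_mem' := by
    rintro g k ⟨hg, hg'⟩ ⟨hk, hk'⟩
    refine ⟨mul_mem hg hk, fun x hx => ?_⟩
    have e : g * k * x * (g * k)⁻¹ * x⁻¹ = (g * (k * x * k⁻¹ * x⁻¹) * g⁻¹) * (g * x * g⁻¹ * x⁻¹) := by group
    rw [e]
    exact mul_mem (conj_mem' h2 hg (hk' x hx)) (hg' x hx)
  inv_mem' := by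
    rintro g ⟨hg, hg'⟩
    refine ⟨inv_mem hg, fun x hx => ?_⟩
    have h3 := hg' _ (conj_mem' h1 (inv_mem hg) hx)
    have h4 := conj_mem' h2 (inv_mem hg) (inv_mem h3)
    have e : g⁻¹ * (g * (g⁻¹ * x * g⁻¹⁻¹) * g⁻¹ * (g⁻¹ * x * g⁻¹⁻¹)⁻¹)⁻¹ * g⁻¹⁻¹ = g⁻¹ * (g⁻¹ * x * g * x⁻¹) * g := by
      group
    rw [e] at h4
    have h5 := conj_mem' h2 hg h4
    have e2 : g * (g⁻¹ * (g⁻¹ * x * g * x⁻¹) * g) * g⁻¹ = g⁻¹ * x * g⁻¹⁻¹ * x⁻¹ := by group
    rwa [e2] at h5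

theorem mem_kmod {N Y D : Subgroup G} {h1 : N ≤ normalizer (Y : Set G)} {h2 : N ≤ normalizer (D : Set G)} {g : G} :
    g ∈ kmod N Y D h1 h2 ↔ g ∈ N ∧ ∀ x ∈ Y, g * x * g⁻¹ * x⁻¹ ∈ D := Iff.rfl

theorem norm_kmod {N Y D : Subgroup G} (h1 : N ≤ normalizer (Y : Set G)) (h2 : N ≤ normalizer (D : Set G)) :
    N ≤ normalizer (kmod N Y D h1 h2 : Set G) := by
  refine le_normalizer_of_forall fun n hn g hg => ?_
  refine ⟨mul_mem (mul_mem hn hg.1) (inv_mem hn), fun x hx => ?_⟩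
  have h4 : n⁻¹ * x * n ∈ Y := by
    have := conj_mem' h1 (inv_mem hn) hx
    rwa [inv_inv] at this
  have h5 := conj_mem' h2 hn (hg.2 _ h4)
  have e : n * (g * (n⁻¹ * x * n) * g⁻¹ * (n⁻¹ * x * n)⁻¹) * n⁻¹ = n * g * n⁻¹ * x * (n * g * n⁻¹)⁻¹ * x⁻¹ := by
    group
  rwa [e] at h5

theorem kmod_le {N Y D : Subgroup G} {h1 : N ≤ normalizer (Y : Set G)} {h2 : N ≤ normalizer (D : Set G)} :
    kmod N Y D h1 h2 ≤ N := fun _ h => h.1

/-- `|Y : C_Y(A)| |C_Y(A)| = |Y|` -/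
theorem relIndex_mul_card (Y C : Subgroup G) : C.relIndex Y * Nat.card ↥(Y ⊓ C) = Nat.card Y := by
  have e := relIndex_inf_mul_relIndex (⊥ : Subgroup G) C Y
  rw [relIndex_bot_left, bot_inf_eq, relIndex_bot_left, mul_comm, inf_comm] at e
  exact e

/-- maximality of `A ∈ A(T)`: `|Y : C_Y(A)| ≤ |A : C_A(Y)|` for elementary abelian `Y ≤ T` -/
theorem AA_le [Finite G] {T A Y : Subgroup G} (hA : A ∈ AA T) (hYT : Y ≤ T) (hsq : ∀ y ∈ Y, y ^ 2 = 1)
    (hc : Y ≤ centralizer (Y : Set G)) :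
    (centralizer (A : Set G)).relIndex Y ≤ (centralizer (Y : Set G)).relIndex A := by
  have hY : IsElementaryAbelian 2 Y :=
    ⟨⟨⟨fun a b => Subtype.ext (mem_centralizer_iff.1 (hc b.2) a a.2)⟩⟩, hsq⟩
  by_cases hne : A ≤ centralizer (Y : Set G)
  · rw [relIndex_eq_one.2 hne]
    exact le_of_eq (relIndex_eq_one.2 (cent_symm hne))
  · exact FFThm.relIndex_le_iff.1 (FFThm.off_of_AA hY hYT hA hne).le

end basic

namespace Cfg4

variable {G : Type u} [Group G] [Finite G] {S : Sylow 2 G} {P P2 R V3 : Subgroup G} {z : G}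
  (h : Cfg4 S P P2 R V3 z)
include h

theorem syl : Syl (S : Subgroup G) P2 :=
  ⟨h.par.le, S.isPGroup', fun _ _ hT hST => S.is_maximal' hT hST⟩

theorem S_le : (S : Subgroup G) ≤ P2 := h.par.le

theorem Q_le : o2 P2 ≤ (S : Subgroup G) := o2_le_syl h.syl

theorem L_le : o2 P ≤ (S : Subgroup G) := h.hyp.star.isLoc.o2_le S

theorem V_le_S : zl (S : Subgroup G) P ≤ (S : Subgroup G) := h.hyp.toHyp.V_le_S

theorem R_le_V : R ≤ zl (S : Subgroup G) P := h.mod.R_le.trans h.mod.V3_le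

theorem z_mem_R : z ∈ R := h.mod.z_mem

theorem z_comm {g : G} (hg : g ∈ P2) : g * z = z * g := by
  have h1 : z ∈ zc (S : Subgroup G) := by rw [h.zS]; exact mem_zpowers z
  exact (mem_centralizer_iff.1 (h.le hg) z h1).symm

theorem z_comm_zpowers {g w : G} (hg : g ∈ P2) (hw : w ∈ zpowers z) : g * w * g⁻¹ = w := by
  obtain ⟨n, rfl⟩ := mem_zpowers_iff.1 hw
  have h1 : Commute g z := h.z_comm hg
  exact mul_inv_eq_iff_eq_mul.2 (h1.zpow_right n).eq

theorem P2_zpowers : P2 ≤ normalizer (zpowers z : Set G) :=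
  le_normalizer_of_forall fun g hg w hw => by rw [h.z_comm_zpowers hg hw]; exact hw

theorem zpowers_le_R : zpowers z ≤ R := zpowers_le.2 h.z_mem_R

theorem z_sq : z * z = 1 := by
  have := h.mod.sq z (h.R_le_V h.z_mem_R)
  rwa [pow_two] at this

theorem mem_zpowers_iff' {g : G} : g ∈ zpowers z ↔ g = 1 ∨ g = z := by
  constructor
  · intro hg
    obtain ⟨n, rfl⟩ := mem_zpowers_iff.1 hg
    rcases Int.even_or_odd' n with ⟨k, rfl | rfl⟩
    · left
      rw [zpow_mul, zpow_ofNat, pow_two, h.z_sq, one_zpow]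
    · right
      rw [zpow_add, zpow_mul, zpow_ofNat, pow_two, h.z_sq, one_zpow, one_mul, zpow_one]
  · rintro (rfl | rfl)
    · exact one_mem _
    · exact mem_zpowers _

/-- `U = ⟨V^P₂⟩ ≤ W` -/
theorem U_le_WW : cl (zl (S : Subgroup G) P) P2 ≤ WW (S : Subgroup G) P :=
  cl_le fun _ hp => conj_zl_le_WW (h.le hp)

theorem U_comm : cl (zl (S : Subgroup G) P) P2 ≤ centralizer (cl (zl (S : Subgroup G) P) P2 : Set G) :=
  (h.U_le_WW.trans h.hyp.toHyp.W_comm).trans (centralizer_le h.U_le_WW)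

theorem U_sq : ∀ u ∈ cl (zl (S : Subgroup G) P) P2, u ^ 2 = 1 := fun u hu => h.hyp.toHyp.W_sq u (h.U_le_WW hu)

theorem U_norm : P2 ≤ normalizer (cl (zl (S : Subgroup G) P) P2 : Set G) := le_normalizer_cl _ _

theorem X_norm : P2 ≤ normalizer (cl R P2 : Set G) := le_normalizer_cl _ _

theorem X_le_U : cl R P2 ≤ cl (zl (S : Subgroup G) P) P2 :=
  cl_le fun _ hp => (cj_mono _ h.R_le_V).trans (cj_le_cl hp)

theorem V_le_U : zl (S : Subgroup G) P ≤ cl (zl (S : Subgroup G) P) P2 := le_cl _ _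

theorem R_le_X : R ≤ cl R P2 := le_cl _ _

theorem U_le_P2 : cl (zl (S : Subgroup G) P) P2 ≤ P2 := cl_le fun p hp => by
  have h1 := cj_mono p (h.V_le_S.trans h.S_le)
  rwa [cj_self hp] at h1

theorem U_two : IsPGroup 2 (cl (zl (S : Subgroup G) P) P2) := fun x =>
  ⟨1, Subtype.ext (by simpa using h.U_sq x x.2)⟩

theorem U_le_Q : cl (zl (S : Subgroup G) P) P2 ≤ o2 P2 := ChoiceSit.le_o2 h.U_two h.U_le_P2 h.U_norm

theorem X_le_Q : cl R P2 ≤ o2 P2 := h.X_le_U.trans h.U_le_Q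

theorem U_le_S : cl (zl (S : Subgroup G) P) P2 ≤ (S : Subgroup G) := h.U_le_Q.trans h.Q_le

theorem X_le_S : cl R P2 ≤ (S : Subgroup G) := h.X_le_Q.trans h.Q_le

theorem X_sq : ∀ u ∈ cl R P2, u ^ 2 = 1 := fun u hu => h.U_sq u (h.X_le_U hu)

theorem X_comm : cl R P2 ≤ centralizer (cl R P2 : Set G) :=
  (h.X_le_U.trans h.U_comm).trans (centralizer_le h.X_le_U)

/-- the dichotomy for normal subgroups of `P₂` -/
theorem min_or {K : Subgroup G} (hK : K ≤ P2) (hKn : P2 ≤ normalizer (K : Set G)) :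
    oddGen P2 ≤ K ∨ (S : Subgroup G) ⊓ K ≤ o2 P2 :=
  Cfsg.Agent.Omega.NO3b.K0.min_or h.syl h.par.toIsMinPar hK hKn

theorem sup_S : oddGen P2 ⊔ (S : Subgroup G) = P2 := oddGen_sup_syl h.syl

/-- `E` moves `R` -/
theorem E_R : ¬ oddGen P2 ≤ normalizer (R : Set G) := by
  intro h0
  apply h.mv
  rw [← h.sup_S]
  exact sup_le h0 h.mod.S_R

theorem E_cent_R : ¬ oddGen P2 ≤ centralizer (R : Set G) := fun h0 =>
  h.E_R (h0.trans (centralizer_le_normalizer _))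

theorem not_S_le : ¬ (S : Subgroup G) ≤ o2 P2 := by
  intro h0
  apply h.par.not_le
  rw [le_antisymm h0 h.Q_le]
  exact le_normalizer_o2 P2

/-- `[R, S] ≤ ⟨z⟩` -/
theorem comm_RS {s r : G} (hs : s ∈ (S : Subgroup G)) (hr : r ∈ R) : s * r * s⁻¹ * r⁻¹ ∈ zpowers z := by
  by_cases hr1 : r ∈ zpowers z
  · rw [h.z_comm_zpowers (h.S_le hs) hr1, mul_inv_cancel]
    exact one_mem _
  rw [h.mem_zpowers_iff'] at hr1
  push Not at hr1
  have hsr : s * r * s⁻¹ ∈ R := conj_mem' h.mod.S_R hs hr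
  have hsr1 : s * r * s⁻¹ ≠ 1 := fun h0 => hr1.1 (conj_eq_one_iff.1 h0)
  have hrr : r * r = 1 := by
    have := h.mod.sq r (h.R_le_V hr)
    rwa [pow_two] at this
  rcases eq_of_card_four h.mod.cardR (fun v hv => h.mod.sq v (h.R_le_V hv)) h.z_mem_R h.mod.z_ne hr hr1.1
    (Ne.symm hr1.2) hsr hsr1 with e | e | e
  · -- `s r s⁻¹ = z` is impossible
    exfalso
    apply hr1.2
    have h1 : r = s⁻¹ * (s * r * s⁻¹) * s := by group
    rw [h1, e]
    have h2 := h.z_comm (h.S_le hs)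
    rw [mul_assoc, ← h2, inv_mul_cancel_left]
  · rw [e, mul_inv_cancel]; exact one_mem _
  · rw [e, mul_inv_cancel_right]
    exact mem_zpowers z

/-- `[X, Q] ≤ ⟨z⟩` -/
theorem comm_XQ {q x : G} (hq : q ∈ o2 P2) (hx : x ∈ cl R P2) : q * x * q⁻¹ * x⁻¹ ∈ zpowers z := by
  have hX : cl R P2 ≤ normalizer (zpowers z : Set G) := (h.X_le_S.trans h.S_le).trans h.P2_zpowers
  have h1 : cl R P2 ≤ cmod (cl R P2) (o2 P2) (zpowers z) hX := by
    refine cl_le fun p hp => ?_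
    have h2 : R ≤ cmod (cl R P2) (o2 P2) (zpowers z) hX := fun r hr =>
      ⟨h.R_le_X hr, fun q hq => h.comm_RS (h.Q_le hq) hr⟩
    have h3 := cj_mono p h2
    rwa [cj_of_le (norm_cmod h.X_norm (le_normalizer_o2 P2) h.P2_zpowers) hp] at h3
  exact (h1 hx).2 q hq

/-- `Q ≰ C(R)` -/
theorem not_Q_R : ¬ o2 P2 ≤ centralizer (R : Set G) := by
  intro h0
  have h1 : R ≤ zc (o2 P2) := fun r hr => ChoiceBase.mem_zc.2 ⟨h.X_le_Q (h.R_le_X hr), h.X_sq r (h.R_le_X hr),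
    fun y hy => (mem_centralizer_iff.1 (h0 hy) r hr).symm⟩
  exact h.E_cent_R (cent_symm (h1.trans h.ff))

theorem not_Q_V : ¬ o2 P2 ≤ centralizer (zl (S : Subgroup G) P : Set G) := fun h0 =>
  h.not_Q_R (h0.trans (centralizer_le h.R_le_V))

/-- the conjugates of `A ∈ A(S)`, `A ≤ Q` -/
theorem AA_cj {A : Subgroup G} (hA : A ∈ AA (S : Subgroup G)) (hAQ : A ≤ o2 P2) {p : G} (hp : p ∈ P2) :
    cj p A ∈ AA (S : Subgroup G) := by
  refine ⟨isElementaryAbelian_cj p hA.1, ?_, fun B hB hBS => ?_⟩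
  · have h1 := cj_mono p hAQ
    rw [cj_of_le (le_normalizer_o2 P2) hp] at h1
    exact h1.trans h.Q_le
  · rw [card_cj]
    exact hA.2.2 B hB hBS

theorem AA_R {A : Subgroup G} (hA : A ∈ AA (S : Subgroup G)) : A ≤ centralizer (R : Set G) := by
  intro a ha
  rw [mem_centralizer_iff]
  intro r hr
  rw [← h.zjS] at hr
  exact ((mem_zj.1 hr).2.2 a (le_jj hA ha)).symm

/-- `A ∈ A(S)`, `A ≤ Q` ⟹ `[X, A] = 1` -/
theorem AA_cent {A : Subgroup G} (hA : A ∈ AA (S : Subgroup G)) (hAQ : A ≤ o2 P2) :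
    A ≤ centralizer (cl R P2 : Set G) := by
  apply cent_symm
  refine cl_le fun p hp => ?_
  have h1 := cent_symm (h.AA_R (h.AA_cj hA hAQ (inv_mem hp)))
  have h2 := cj_cent (g := p) h1
  rwa [cj_cj_inv] at h2

/-- `C_S(X) ≤ Q` -/
theorem inf_cent_X : (S : Subgroup G) ⊓ centralizer (cl R P2 : Set G) ≤ o2 P2 := by
  rcases h.min_or (K := P2 ⊓ centralizer (cl R P2 : Set G)) inf_le_left (le_normalizer_inf_cent h.X_norm) with h1 | h1
  · exact absurd ((h1.trans inf_le_right).trans (centralizer_le h.R_le_X)) h.E_cent_R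
  · exact (le_inf inf_le_left (inf_le_inf_right _ h.S_le)).trans h1

theorem inf_cent_U : (S : Subgroup G) ⊓ centralizer (cl (zl (S : Subgroup G) P) P2 : Set G) ≤ o2 P2 :=
  (inf_le_inf_left _ (centralizer_le h.X_le_U)).trans h.inf_cent_X

/-- `J(S) ≰ Q` -/
theorem not_jj_Q : ¬ jj (S : Subgroup G) ≤ o2 P2 := by
  intro h0
  apply h.mv
  have h1 : jj (o2 P2) = jj (S : Subgroup G) := jj_eq_of_jj_le h0 h.Q_le
  have h2 : zj (o2 P2) = R := (zj_congr h1).trans h.zjS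
  rw [← h2]
  intro p hp
  rw [mem_normalizer_iff_cj, ← zj_cj, cj_of_le (le_normalizer_o2 P2) hp]

theorem exists_AA_not_Q : ∃ A ∈ AA (S : Subgroup G), ¬ A ≤ o2 P2 := by
  by_contra hcon
  push Not at hcon
  apply h.not_jj_Q
  rw [jj_eq]
  exact sSup_le hcon

theorem exists_AA_not_L : ∃ A ∈ AA (S : Subgroup G), ¬ A ≤ o2 P := by
  by_contra hcon
  push Not at hcon
  apply h.hyp.jnot
  rw [jj_eq]
  exact sSup_le hcon

theorem mem_L_iff {x : G} (hx : x ∈ (S : Subgroup G)) : x ∈ o2 P ↔ x ∈ centralizer (zl (S : Subgroup G) P : Set G) := by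
  rw [← h.hyp.toHyp.inf_centralizer]
  exact ⟨fun h1 => h1.2, fun h1 => ⟨hx, h1⟩⟩

/-- the root groups -/
theorem root {A : Subgroup G} (hA : A ∈ AA (S : Subgroup G)) (hAL : ¬ A ≤ o2 P) :
    zl (S : Subgroup G) P ⊓ centralizer (A : Set G) = R ∧
      (centralizer (zl (S : Subgroup G) P : Set G)).relIndex A = 4 ∧
      (centralizer (A : Set G)).relIndex (zl (S : Subgroup G) P) = 4 := by
  obtain ⟨b, hb, hbL⟩ := SetLike.not_le_iff_exists.1 hAL
  have hbS := hA.2.1 hb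
  have hbV : b ∉ centralizer (zl (S : Subgroup G) P : Set G) := fun h0 => hbL ((h.mem_L_iff hbS).2 h0)
  have h1 := h.fix4 b hbS hbV
  have h2 : R ≤ zl (S : Subgroup G) P ⊓ centralizer (A : Set G) := le_inf h.R_le_V (cent_symm (h.AA_R hA))
  have h3 : zl (S : Subgroup G) P ⊓ centralizer (A : Set G) ≤ zl (S : Subgroup G) P ⊓ centralizer ({b} : Set G) :=
    inf_le_inf_left _ (centralizer_le (Set.singleton_subset_iff.2 hb))
  have h4 : Nat.card ↥(zl (S : Subgroup G) P ⊓ centralizer (A : Set G)) ≤ 4 := (Subgroup.card_le_of_le h3).trans h1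
  have h5 : R = zl (S : Subgroup G) P ⊓ centralizer (A : Set G) := eq_of_le_of_card_ge h2 (by rw [h.mod.cardR]; exact h4)
  have h6 := relIndex_mul_card (zl (S : Subgroup G) P) (centralizer (A : Set G))
  rw [← h5, h.mod.cardR, h.mod.card] at h6
  have h7 : (centralizer (A : Set G)).relIndex (zl (S : Subgroup G) P) = 4 := by omega
  have h8 := AA_le hA h.V_le_S h.mod.sq h.mod.comm
  have h9 := h.mod.ind A hA.2.1 ⟨fun a ha => by
    rw [elem_sq hA.1 a ha]; exact one_mem _, fun a ha b hb => by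
    rw [elem_comm hA.1 a ha b hb, mul_inv_cancel_right, mul_inv_cancel]; exact one_mem _⟩
  exact ⟨h5.symm, by omega, h7⟩

end Cfg4

end Cfsg.Agent.Omega.NO3S.Fld

end

section


/-!
# Fld, `q = 4`: the situation `Cfg4` from `HypJ S P` and coordinates

* `Crd.d8` : the coordinates `DEight.Crd F S V z`, `z = e (1, 0) ∈ Ω₁(Z(S))`;
* `exists_cfg4` : `HypJ S P`, `|F| = 4`, `|Ω₁(Z(S))| ≠ 4`, `P₂ ∈ P(S)` in `C_G(Z)` moving `R` give `Cfg4`.
-/

set_option autoImplicit false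
set_option linter.unusedSectionVars false

namespace Cfsg.Agent.Omega.NO3S.Fld

open Subgroup Cfsg Cfsg.Agent.ZN Cfsg.Agent.ZN.ChoiceBase Cfsg.Agent.Omega.MinPar Cfsg.Agent.Omega.FrameNOFF
open Cfsg.Agent.MinSimple.VModule (oddGen zc_le zc_le_zl)
open Cfsg.Agent.Omega.NatPair (ext2)

universe u

variable {G : Type u} [Group G]

section d8

variable {F : Type*} [Field F] {S P V : Subgroup G} (M : Crd F S P V)

/-- The normalised coordinates: `e' (x₀, x₁) = e (z₀ x₀, x₁)`. -/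
def Crd.d8 {z₀ : F} (h0 : z₀ ≠ 0) (hz : ∀ s ∈ S, s * M.e ![z₀, 0] * s⁻¹ = M.e ![z₀, 0])
    (hf : ¬ S ≤ centralizer (M.R : Set G)) : DEight.Crd F S V (M.e ![z₀, 0]) where
  e x := M.e ![z₀ * x 0, x 1]
  e_add x y := by
    rw [← M.e_add]
    congr 1
    apply ext2
    · simp only [Pi.add_apply, Matrix.cons_val_zero]; ring
    · rfl
  e_inj x y h := by
    have h1 := M.e_inj h
    apply ext2
    · have := congrFun h1 0
      simp only [Matrix.cons_val_zero] at this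
      exact mul_left_cancel₀ h0 this
    · have := congrFun h1 1
      simpa using this
  mem_iff g := by
    rw [M.mem_iff]
    constructor
    · rintro ⟨x, rfl⟩
      refine ⟨![z₀⁻¹ * x 0, x 1], ?_⟩
      congr 1
      apply ext2
      · simp only [Matrix.cons_val_zero]
        rw [← mul_assoc, mul_inv_cancel₀ h0, one_mul]
      · rfl
    · rintro ⟨x, rfl⟩
      exact ⟨_, rfl⟩
  z_eq := by
    congr 1
    apply ext2
    · simp
    · rfl
  act s hs := by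
    obtain ⟨σ, c, h⟩ := M.act s hs
    have hσ : σ z₀ = z₀ := by
      have h1 := (h ![z₀, 0]).symm.trans (hz s hs)
      have h2 := congrFun (M.e_inj h1) 0
      simpa using h2
    refine ⟨σ, z₀⁻¹ * c, fun x => ?_⟩
    rw [h]
    congr 1
    apply ext2
    · simp only [Matrix.cons_val_zero, Matrix.cons_val_one]
      rw [map_mul, hσ]
      field_simp
    · rfl
  full c := by
    obtain ⟨s, hs, h⟩ := M.full (z₀ * c)
    refine ⟨s, hs, fun x => ?_⟩
    rw [h]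
    congr 1
    apply ext2
    · simp only [Matrix.cons_val_zero, Matrix.cons_val_one]; ring
    · rfl
  fld := by
    obtain ⟨s, hs, hsR⟩ := SetLike.not_le_iff_exists.1 hf
    obtain ⟨σ, c, h⟩ := M.exists_act hs
    have hσ' : σ ≠ RingEquiv.refl F := fun h1 => hsR (h.mem_centR.2 h1)
    have hσ : σ z₀ = z₀ := by
      have h1 := (h ![z₀, 0]).symm.trans (hz s hs)
      have h2 := congrFun (M.e_inj h1) 0
      simpa using h2
    refine ⟨s, hs, σ, z₀⁻¹ * c, hσ', fun x => ?_⟩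
    rw [h]
    congr 1
    apply ext2
    · simp only [Matrix.cons_val_zero, Matrix.cons_val_one]
      rw [map_mul, hσ]
      field_simp
    · rfl

theorem Crd.d8_R [CharP F 2] {z₀ : F} (h0 : z₀ ≠ 0) (hz : ∀ s ∈ S, s * M.e ![z₀, 0] * s⁻¹ = M.e ![z₀, 0])
    (hf : ¬ S ≤ centralizer (M.R : Set G)) : (M.d8 h0 hz hf).R = M.R := by
  ext g
  constructor
  · rintro ⟨x, rfl, hx⟩
    exact ⟨z₀ * x 0, congrArg M.e (ext2 rfl hx.symm)⟩
  · rintro ⟨a, rfl⟩
    refine ⟨![z₀⁻¹ * a, 0], ?_, rfl⟩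
    show M.e ![z₀ * (z₀⁻¹ * a), 0] = M.e ![a, 0]
    rw [← mul_assoc, mul_inv_cancel₀ h0, one_mul]

end d8

variable [Finite G] {S : Sylow 2 G} {P P2 : Subgroup G}

/-- **`Cfg4` from the coordinates.** -/
theorem exists_cfg4 {F : Type*} [Field F] [Finite F] [CharP F 2] (h : HypJ S P)
    (M : Crd F (S : Subgroup G) P (zl (S : Subgroup G) P)) (hF : Nat.card F = 4)
    (hZ : Nat.card (zc (S : Subgroup G)) ≠ 4) (par : IsPar (S : Subgroup G) P2) (le : P2 ≤ CZ (S : Subgroup G))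
    (mv : ¬ P2 ≤ normalizer (M.R : Set G)) (ff : zc (o2 P2) ≤ centralizer (oddGen P2 : Set G)) :
    ∃ (V3 : Subgroup G) (z : G), Cfg4 S P P2 M.R V3 z := by
  obtain ⟨hBR, hsoc, hzj⟩ := HypJ.facts M h
  have hVS : zl (S : Subgroup G) P ≤ (S : Subgroup G) := h.toHyp.V_le_S
  have hZV : zc (S : Subgroup G) ≤ zl (S : Subgroup G) P := zc_le_zl _ _
  have hf : ¬ (S : Subgroup G) ≤ centralizer (M.R : Set G) := M.not_le_centR hVS hZV (by rw [hF]; exact hZ)
  have hzc := M.zc_eq hVS hZV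
  obtain ⟨⟨w, hw⟩, hw1⟩ := ne_bot_iff_exists_ne_one.1 h.toHyp.zc_ne
  have hwR : w ∈ M.R := by rw [hzc] at hw; exact hw.1
  obtain ⟨z₀, rfl⟩ := hwR
  have h0 : z₀ ≠ 0 := by
    rintro rfl
    apply hw1
    apply Subtype.ext
    show M.e ![0, 0] = 1
    rw [← M.e_zero]
    congr 1
    exact ext2 rfl rfl
  have hz : ∀ s ∈ (S : Subgroup G), s * M.e ![z₀, 0] * s⁻¹ = M.e ![z₀, 0] := by
    intro s hs
    rw [(mem_zc.1 hw).2.2 s hs]; group
  have hmod := (M.d8 h0 hz hf).mod hF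
  rw [M.d8_R h0 hz hf] at hmod
  refine ⟨_, _, ⟨h, hmod, fun b hb hbV => (M.d8 h0 hz hf).card_fix_le hF hb hbV, ?_, par, le, mv, hzj, hsoc, ff⟩⟩
  -- `Ω₁(Z(S)) = ⟨z⟩`
  have h1 : zpowers (M.e ![z₀, 0]) ≤ zc (S : Subgroup G) := zpowers_le.2 hw
  symm
  apply Subgroup.eq_of_le_of_card_ge h1
  have h2 : Nat.card (zc (S : Subgroup G)) ∣ 4 := by
    rw [← hmod.cardR, hzc]
    exact card_dvd_of_le inf_le_left
  have h3 : Nat.card (zpowers (M.e ![z₀, 0])) = 2 := by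
    rw [Nat.card_zpowers]
    exact orderOf_eq_prime (hmod.sq _ (hmod.V3_le (hmod.R_le hmod.z_mem))) hmod.z_ne
  have h4 := Nat.le_of_dvd (by decide) h2
  rw [h3]
  interval_cases Nat.card (zc (S : Subgroup G)) <;> simp_all

end Cfsg.Agent.Omega.NO3S.Fld

end

section


/-!
# Fld, `q = 4` (helper240, #15515), section (2): `V₃ ≤ X`

`Y = Ω₁ Z(J(L))`.

* `comm_YJ` : `[Y, J(S)] ≤ R` (helper705, #15839 (3.1));
* `Cfg4.two` : `V₃ ≤ X` ⟹ `|S : Q| = 2`.
-/

set_option autoImplicit false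
set_option linter.unusedSectionVars false

namespace Cfsg.Agent.Omega.NO3S.Fld

open Subgroup Cfsg Cfsg.Agent.ZN Cfsg.Agent.ZN.ChoiceBase Cfsg.Agent.Omega.MinPar Cfsg.Agent.Omega.FrameNOFF
open Cfsg.Agent.ZN.ChoiceSit (Syl syl_iff syl_not_dvd o2_le_syl isPGroup_o2)
open Cfsg.Agent.MinSimple.MinParabolic (IsMinPar)
open Cfsg.Agent.MinSimple.VModule (oddGen oddGen_le mem_oddGen le_normalizer_oddGen le_normalizer_o2 o2_le
  zc_le zc_le_zl le_normalizer_zl zc_sq zc_comm le_centralizer_zc)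
open Cfsg.Agent.Omega.NO3b.EZero (cl cj_le_cl le_cl cl_le cj_cl le_normalizer_cl cent_symm cj_cent cj_norm
  sq_of_comm oddGen_sup_syl mem_cj_self relIndex_cj le_normalizer_inf_cent)
open Cfsg.Agent.Omega.NO3b.K0 (conj_mem' cj_of_le cj_self)
open Cfsg.Agent.Omega.NO3S.NotFF (le_normalizer_of_forall normalizer_inf normalizer_sup normalizer_centralizer
  normalizer_commutator)
open Cfsg.Agent.Omega.SQ1.Bau (mem_AA_of_comm zj_le_AA elem_comm elem_sq card_sup_comm mem_sup_comm)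
open scoped commutatorElement

universe u

section basic

variable {G : Type u} [Group G]

/-- a pairing with values in a group of order 2 -/
theorem pair_le [Finite G] {X B : Subgroup G} {z : G} (hz : z * z = 1) (hXz : ∀ x ∈ X, x * z = z * x)
    (h : ∀ b ∈ B, ∀ x ∈ X, b * x * b⁻¹ * x⁻¹ = 1 ∨ b * x * b⁻¹ * x⁻¹ = z) :
    (centralizer (X : Set G)).relIndex B ≤ (centralizer (B : Set G)).relIndex X := by
  classical
  by_cases hz1 : z = 1
  · have h1 : B ≤ centralizer (X : Set G) := by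
      intro b hb
      rw [mem_centralizer_iff]
      intro x hx
      have h2 : b * x * b⁻¹ * x⁻¹ = 1 := by
        rcases h b hb x hx with h2 | h2
        · exact h2
        · rw [h2, hz1]
      rw [mul_inv_eq_one, mul_inv_eq_iff_eq_mul] at h2
      exact h2.symm
    rw [relIndex_eq_one.2 h1]
    exact le_of_eq (relIndex_eq_one.2 (cent_symm h1)).symm
  have hprod : ∀ b ∈ B, ∀ x ∈ X, ∀ y ∈ X,
      b * (x * y) * b⁻¹ * (x * y)⁻¹ = (b * x * b⁻¹ * x⁻¹) * (b * y * b⁻¹ * y⁻¹) := by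
    intro b hb x hx y hy
    have e : b * (x * y) * b⁻¹ * (x * y)⁻¹ = (b * x * b⁻¹ * x⁻¹) * (x * (b * y * b⁻¹ * y⁻¹) * x⁻¹) := by group
    rw [e]
    congr 1
    rcases h b hb y hy with h1 | h1
    · rw [h1, mul_one, mul_inv_cancel]
    · rw [h1, hXz x hx, mul_inv_cancel_right]
  let χ0 : B → X →* ℚ := fun b =>
    { toFun := fun x => if (b : G) * x * (b : G)⁻¹ * (x : G)⁻¹ = 1 then 1 else -1
      map_one' := by
        have : (b : G) * ((1 : X) : G) * (b : G)⁻¹ * ((1 : X) : G)⁻¹ = 1 := by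
          rw [Subgroup.coe_one]; group
        rw [if_pos this]
      map_mul' := by
        intro x y
        have e := hprod b b.2 x x.2 y y.2
        have e' : (b : G) * ((x * y : X) : G) * (b : G)⁻¹ * ((x * y : X) : G)⁻¹ =
            ((b : G) * x * (b : G)⁻¹ * (x : G)⁻¹) * ((b : G) * y * (b : G)⁻¹ * (y : G)⁻¹) := by
          rw [Subgroup.coe_mul]; exact e
        rw [e']
        rcases h b b.2 x x.2 with h1 | h1 <;> rcases h b b.2 y y.2 with h2 | h2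
        · rw [h1, h2, one_mul, if_pos rfl, one_mul]
        · rw [h1, h2, one_mul, if_pos rfl, one_mul]
        · rw [h1, h2, mul_one, if_pos rfl, mul_one]
        · rw [h1, h2, hz, if_pos rfl, if_neg hz1]
          norm_num }
  have hχ0 : ∀ (b : B) (x : X), χ0 b x = if (b : G) * x * (b : G)⁻¹ * (x : G)⁻¹ = 1 then 1 else -1 :=
    fun _ _ => rfl
  let χ : (B ⧸ (centralizer (X : Set G)).subgroupOf B) → X →* ℚ := fun c => χ0 c.out
  have hinj : Function.Injective χ := by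
    intro c c' hcc
    have h1 : ∀ x : X, ((c.out : B) : G) * x * ((c.out : B) : G)⁻¹ = ((c'.out : B) : G) * x * ((c'.out : B) : G)⁻¹ := by
      intro x
      have h2 : χ0 c.out x = χ0 c'.out x := by
        have := congrArg (fun f : X →* ℚ => f x) hcc
        exact this
      rw [hχ0, hχ0] at h2
      have h3 : ((c.out : B) : G) * x * ((c.out : B) : G)⁻¹ * (x : G)⁻¹ =
          ((c'.out : B) : G) * x * ((c'.out : B) : G)⁻¹ * (x : G)⁻¹ := by
        rcases h _ (c.out : B).2 x x.2 with h4 | h4 <;> rcases h _ (c'.out : B).2 x x.2 with h5 | h5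
        · rw [h4, h5]
        · rw [if_pos h4, h5, if_neg hz1] at h2
          norm_num at h2
        · rw [if_pos h5, h4, if_neg hz1] at h2
          norm_num at h2
        · rw [h4, h5]
      exact mul_right_cancel h3
    rw [← Quotient.out_eq' c, ← Quotient.out_eq' c']
    change (((c.out : B) : B ⧸ (centralizer (X : Set G)).subgroupOf B)) = ((c'.out : B) : B ⧸ _)
    rw [QuotientGroup.eq, mem_subgroupOf, mem_centralizer_iff]
    intro x hx
    have h2 := h1 ⟨x, hx⟩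
    simp only [Subgroup.coe_mul, Subgroup.coe_inv] at h2 ⊢
    have h3 : ((c'.out : B) : G) * x = ((c.out : B) : G) * x * ((c.out : B) : G)⁻¹ * ((c'.out : B) : G) := by
      rw [h2, inv_mul_cancel_right]
    rw [mul_assoc, h3]
    group
  have h1 := NO3b.Dual.card_homs_le ((centralizer (B : Set G)).subgroupOf X) χ hinj (by
    intro c x hx
    change χ0 c.out x = 1
    rw [hχ0, if_pos]
    have h2 := mem_centralizer_iff.1 (mem_subgroupOf.1 hx) _ (c.out : B).2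
    rw [h2, mul_inv_cancel_right, mul_inv_cancel])
  exact h1

/-- index at most 2 -/
theorem relIndex_le_two {H S : Subgroup G} (h : ∀ s ∈ S, ∀ t ∈ S, s ∉ H → t ∉ H → s * t ∈ H) :
    H.relIndex S ≤ 2 := by
  by_cases h0 : S ≤ H
  · rw [relIndex_eq_one.2 h0]; norm_num
  obtain ⟨a, ha, haH⟩ := SetLike.not_le_iff_exists.1 h0
  have h1 : (H.subgroupOf S).index = 2 := by
    rw [index_eq_two_iff]
    refine ⟨⟨a, ha⟩, fun b => ?_⟩
    rw [mem_subgroupOf, mem_subgroupOf, Subgroup.coe_mul]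
    by_cases hb : (b : G) ∈ H
    · right
      exact ⟨hb, fun h2 => haH ((H.mul_mem_cancel_left hb).1 h2)⟩
    · left
      exact ⟨h b b.2 a ha hb haH, hb⟩
  exact le_of_eq h1

/-- the elements of `L ⊔ Q`, `Q ≤ N(L)` -/
theorem mem_sup_norm {L Q : Subgroup G} (hQ : Q ≤ normalizer (L : Set G)) {x : G} (hx : x ∈ L ⊔ Q) :
    ∃ l ∈ L, ∃ q ∈ Q, x = l * q := by
  let K : Subgroup G :=
    { carrier := {x | ∃ l ∈ L, ∃ q ∈ Q, x = l * q}
      one_mem' := ⟨1, one_mem _, 1, one_mem _, (one_mul 1).symm⟩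
      mul_mem' := by
        rintro _ _ ⟨l, hl, q, hq, rfl⟩ ⟨l', hl', q', hq', rfl⟩
        refine ⟨l * (q * l' * q⁻¹), mul_mem hl (conj_mem' hQ hq hl'), q * q', mul_mem hq hq', by group⟩
      inv_mem' := by
        rintro _ ⟨l, hl, q, hq, rfl⟩
        refine ⟨q⁻¹ * l⁻¹ * q⁻¹⁻¹, conj_mem' hQ (inv_mem hq) (inv_mem hl), q⁻¹, inv_mem hq, by group⟩ }
  have h1 : L ⊔ Q ≤ K := sup_le (fun l hl => ⟨l, hl, 1, one_mem _, (mul_one l).symm⟩)
    fun q hq => ⟨1, one_mem _, q, hq, (one_mul q).symm⟩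
  exact h1 hx

end basic

namespace Cfg4

variable {G : Type u} [Group G] [Finite G] {S : Sylow 2 G} {P P2 R V3 : Subgroup G} {z : G}
  (h : Cfg4 S P P2 R V3 z)
include h

/-! ### `Y = Ω₁ Z(J(L))` -/

theorem V_le_L : zl (S : Subgroup G) P ≤ o2 P := by
  rw [← h.soc]; exact zc_le _

theorem V_le_Y : zl (S : Subgroup G) P ≤ zj (o2 P) := by
  have h1 := zc_le_zj (o2 P)
  rwa [h.soc] at h1

theorem Y_le_L : zj (o2 P) ≤ o2 P := fun _ hy => jj_le _ (mem_zj.1 hy).1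

theorem Y_sq : ∀ y ∈ zj (o2 P), y ^ 2 = 1 := fun _ hy => (mem_zj.1 hy).2.1

theorem Y_comm : zj (o2 P) ≤ centralizer (zj (o2 P) : Set G) := by
  intro x hx
  rw [mem_centralizer_iff]
  intro y hy
  exact (mem_zj.1 hx).2.2 y (mem_zj.1 hy).1

theorem S_L : (S : Subgroup G) ≤ normalizer (o2 P : Set G) := h.hyp.star.isLoc.le.trans (le_normalizer_o2 P)

theorem P_Y : P ≤ normalizer (zj (o2 P) : Set G) := by
  intro p hp
  rw [mem_normalizer_iff_cj, ← zj_cj, cj_of_le (le_normalizer_o2 P) hp]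

theorem S_Y : (S : Subgroup G) ≤ normalizer (zj (o2 P) : Set G) := h.hyp.star.isLoc.le.trans h.P_Y

/-- `V (A ∩ L) ∈ A(S)` -/
theorem exists_AA_L {A : Subgroup G} (hA : A ∈ AA (S : Subgroup G)) (hAL : ¬ A ≤ o2 P) :
    ∃ A' ∈ AA (S : Subgroup G), A' ≤ o2 P ∧ A ⊓ o2 P ≤ A' := by
  obtain ⟨r1, r2, -⟩ := h.root hA hAL
  have hAe := hA.1
  have hVA : A ⊓ o2 P ≤ centralizer (zl (S : Subgroup G) P : Set G) := fun a ha =>
    (h.mem_L_iff (hA.2.1 ha.1)).1 ha.2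
  have hcom : ∀ a ∈ zl (S : Subgroup G) P, ∀ b ∈ A ⊓ o2 P, a * b = b * a := fun a ha b hb =>
    mem_centralizer_iff.1 (hVA hb) a ha
  have hVe : IsElementaryAbelian 2 (zl (S : Subgroup G) P) :=
    ⟨⟨⟨fun a b => Subtype.ext (mem_centralizer_iff.1 (h.mod.comm b.2) a a.2)⟩⟩, h.mod.sq⟩
  have hBe : IsElementaryAbelian 2 (A ⊓ o2 P) :=
    ⟨⟨⟨fun a b => Subtype.ext (elem_comm hAe a a.2.1 b b.2.1)⟩⟩, fun a ha => elem_sq hAe a ha.1⟩
  have hE := Cfsg.Agent.PLocal.ElemAbSup.isElementaryAbelian_sup hVe hBe hVA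
  have hle : zl (S : Subgroup G) P ⊔ A ⊓ o2 P ≤ o2 P := sup_le h.V_le_L inf_le_right
  refine ⟨zl (S : Subgroup G) P ⊔ A ⊓ o2 P, ⟨hE, hle.trans h.L_le, fun B hB hBS => ?_⟩, hle, le_sup_right⟩
  refine (hA.2.2 B hB hBS).trans ?_
  have h1 := card_sup_comm hcom
  have h2 : zl (S : Subgroup G) P ⊓ (A ⊓ o2 P) = R := by
    rw [← r1]
    apply le_antisymm
    · intro x hx
      exact ⟨hx.1, mem_centralizer_iff.2 fun a ha => elem_comm hAe a ha x hx.2.1⟩
    · intro x hx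
      have h3 : x ∈ A := mem_AA_of_comm hA (h.V_le_S hx.1) (h.mod.sq x hx.1) fun a ha =>
        mem_centralizer_iff.1 hx.2 a ha
      exact ⟨hx.1, h3, h.V_le_L hx.1⟩
  rw [h2, h.mod.cardR, h.mod.card] at h1
  have h3 : A ⊓ centralizer (zl (S : Subgroup G) P : Set G) = A ⊓ o2 P := by
    apply le_antisymm
    · exact fun a ha => ⟨ha.1, (h.mem_L_iff (hA.2.1 ha.1)).2 ha.2⟩
    · exact fun a ha => ⟨ha.1, (h.mem_L_iff (hA.2.1 ha.1)).1 ha.2⟩
  have h4 := relIndex_mul_card A (centralizer (zl (S : Subgroup G) P : Set G))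
  rw [r2, h3] at h4
  omega

theorem mm_L : mm (o2 P) = mm (S : Subgroup G) := by
  refine le_antisymm (mm_mono h.L_le) ?_
  obtain ⟨A, hA, hAL⟩ := h.exists_AA_not_L
  obtain ⟨A', hA', hL, -⟩ := h.exists_AA_L hA hAL
  rw [mm_eq hA']
  exact card_le_mm hA'.1 hL

theorem AA_L_iff {A : Subgroup G} : A ∈ AA (o2 P) ↔ A ∈ AA (S : Subgroup G) ∧ A ≤ o2 P := by
  rw [mem_AA_iff, mem_AA_iff, h.mm_L]
  exact ⟨fun h1 => ⟨⟨h1.1, h1.2.1.trans h.L_le, h1.2.2⟩, h1.2.1⟩, fun h1 => ⟨h1.1.1, h1.2, h1.1.2.2⟩⟩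

theorem inf_L_le {A : Subgroup G} (hA : A ∈ AA (S : Subgroup G)) : A ⊓ o2 P ≤ jj (o2 P) := by
  by_cases hAL : A ≤ o2 P
  · exact inf_le_left.trans (le_jj (h.AA_L_iff.2 ⟨hA, hAL⟩))
  · obtain ⟨A', hA', hL, hle⟩ := h.exists_AA_L hA hAL
    exact hle.trans (le_jj (h.AA_L_iff.2 ⟨hA', hL⟩))

theorem jj_L_cent : jj (o2 P) ≤ centralizer (zj (o2 P) : Set G) := by
  intro x hx
  rw [mem_centralizer_iff]
  intro y hy
  exact ((mem_zj.1 hy).2.2 x hx).symm

/-- `Y = V C_Y(A)` for `A ∈ A(S)`, `A ≰ L` -/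
theorem Y_eq {A : Subgroup G} (hA : A ∈ AA (S : Subgroup G)) (hAL : ¬ A ≤ o2 P) {y : G} (hy : y ∈ zj (o2 P)) :
    ∃ v ∈ zl (S : Subgroup G) P, ∃ c ∈ zj (o2 P) ⊓ centralizer (A : Set G), y = v * c := by
  obtain ⟨r1, r2, -⟩ := h.root hA hAL
  set C := zj (o2 P) ⊓ centralizer (A : Set G) with hC
  have hcom : ∀ a ∈ zl (S : Subgroup G) P, ∀ b ∈ C, a * b = b * a := fun a ha b hb =>
    mem_centralizer_iff.1 (h.Y_comm hb.1) a (h.V_le_Y ha)
  have h1 := card_sup_comm hcom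
  have h2 : zl (S : Subgroup G) P ⊓ C = R := by
    rw [← r1, hC, ← inf_assoc, inf_eq_left.2 h.V_le_Y]
  rw [h2, h.mod.cardR, h.mod.card] at h1
  have h3 := AA_le hA (h.Y_le_L.trans h.L_le) h.Y_sq h.Y_comm
  have h4 : (centralizer (zj (o2 P) : Set G)).relIndex A ≤ 4 := by
    have h5 : A ⊓ o2 P ≤ centralizer (zj (o2 P) : Set G) := (h.inf_L_le hA).trans h.jj_L_cent
    have h6 : (centralizer (zj (o2 P) : Set G)).relIndex A ≤ (A ⊓ o2 P).relIndex A :=
      Nat.le_of_dvd (Nat.pos_of_ne_zero (FiniteIndex.index_ne_zero (H := (A ⊓ o2 P).subgroupOf A)))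
        (relIndex_dvd_of_le_left A h5)
    have h7 : A ⊓ o2 P = A ⊓ centralizer (zl (S : Subgroup G) P : Set G) := by
      apply le_antisymm
      · exact fun a ha => ⟨ha.1, (h.mem_L_iff (hA.2.1 ha.1)).1 ha.2⟩
      · exact fun a ha => ⟨ha.1, (h.mem_L_iff (hA.2.1 ha.1)).2 ha.2⟩
    rw [h7, inf_relIndex_left, r2] at h6
    exact h6
  have h8 := relIndex_mul_card (zj (o2 P)) (centralizer (A : Set G))
  have h9 : Nat.card (zj (o2 P)) ≤ 4 * Nat.card C := by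
    rw [← h8]
    exact Nat.mul_le_mul_right _ (h3.trans h4)
  have h10 : zl (S : Subgroup G) P ⊔ C = zj (o2 P) :=
    eq_of_le_of_card_ge (sup_le h.V_le_Y inf_le_left) (by omega)
  rw [← h10] at hy
  exact mem_sup_comm hcom hy

/-- `[Y, J(S)] ≤ R` -/
theorem comm_YJ {g y : G} (hg : g ∈ jj (S : Subgroup G)) (hy : y ∈ zj (o2 P)) : g * y * g⁻¹ * y⁻¹ ∈ R := by
  have key : jj (S : Subgroup G) ≤ kmod (S : Subgroup G) (zj (o2 P)) R h.S_Y h.mod.S_R := by
    rw [jj_eq]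
    refine sSup_le fun A hA => ?_
    intro a ha
    refine ⟨hA.2.1 ha, fun y hy => ?_⟩
    by_cases hAL : A ≤ o2 P
    · have h1 : a ∈ jj (o2 P) := le_jj (h.AA_L_iff.2 ⟨hA, hAL⟩) ha
      rw [(mem_zj.1 hy).2.2 a h1, mul_inv_cancel_right, mul_inv_cancel]
      exact one_mem _
    · obtain ⟨v, hv, c, hc, rfl⟩ := h.Y_eq hA hAL hy
      have h1 := mem_centralizer_iff.1 hc.2 a ha
      have h2 := h.mod.centR a (hA.2.1 ha) (h.AA_R hA ha) v hv
      have e : a * (v * c) * a⁻¹ * (v * c)⁻¹ = a * v * (c * a * a⁻¹ * c⁻¹) * a⁻¹ * v⁻¹ := by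
        have e1 : c * a * a⁻¹ * c⁻¹ = 1 := by group
        rw [e1]
        have e2 : a * (v * c) * a⁻¹ * (v * c)⁻¹ = a * v * (c * a⁻¹ * c⁻¹) * v⁻¹ := by group
        have e3 : c * a⁻¹ * c⁻¹ = a⁻¹ := by
          have h3 : c * a⁻¹ = a⁻¹ * c := by
            rw [eq_inv_mul_iff_mul_eq, ← mul_assoc, h1, mul_inv_cancel_right]
          rw [h3, mul_inv_cancel_right]
        rw [e2, e3, mul_one]
      rw [e]
      have e1 : a * v * (c * a * a⁻¹ * c⁻¹) * a⁻¹ * v⁻¹ = a * v * a⁻¹ * v⁻¹ := by group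
      rw [e1]
      exact h2
  exact (key hg).2 y hy

/-- `J(Q) ≤ L`, `J(L) ≤ Q` ⟹ `J(Q) = J(L)` -/
theorem jj_eq_of {D : Subgroup G} (h1 : jj D ≤ o2 P) (h2 : jj (o2 P) ≤ D) : jj D = jj (o2 P) := by
  have e1 : jj (D ⊓ o2 P) = jj D := jj_eq_of_jj_le (le_inf (jj_le _) h1) inf_le_left
  have e2 : jj (D ⊓ o2 P) = jj (o2 P) := jj_eq_of_jj_le (le_inf h2 (jj_le _)) inf_le_right
  exact e1.symm.trans e2

theorem mm_Q (hJ : jj (o2 P) ≤ o2 P2) : mm (o2 P2) = mm (S : Subgroup G) := by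
  refine le_antisymm (mm_mono h.Q_le) ?_
  obtain ⟨A, hA⟩ := AA_nonempty (o2 P)
  have h1 := h.AA_L_iff.1 hA
  rw [mm_eq h1.1]
  exact card_le_mm hA.1 ((le_jj hA).trans hJ)

theorem AA_Q_iff (hJ : jj (o2 P) ≤ o2 P2) {A : Subgroup G} :
    A ∈ AA (o2 P2) ↔ A ∈ AA (S : Subgroup G) ∧ A ≤ o2 P2 := by
  rw [mem_AA_iff, mem_AA_iff, h.mm_Q hJ]
  exact ⟨fun h1 => ⟨⟨h1.1, h1.2.1.trans h.Q_le, h1.2.2⟩, h1.2.1⟩, fun h1 => ⟨h1.1.1, h1.2, h1.1.2.2⟩⟩

/-- `J(Q) = J(L)`: `Y` is normal in `P₂` -/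
theorem P2_Y (h1 : jj (o2 P2) = jj (o2 P)) : P2 ≤ normalizer (zj (o2 P) : Set G) := by
  intro p hp
  rw [mem_normalizer_iff_cj, ← zj_congr h1, ← zj_cj, cj_of_le (le_normalizer_o2 P2) hp]

theorem U_le_Y (h1 : jj (o2 P2) = jj (o2 P)) : cl (zl (S : Subgroup G) P) P2 ≤ zj (o2 P) := cl_le fun p hp => by
  have h2 := cj_mono p h.V_le_Y
  rwa [cj_of_le (h.P2_Y h1) hp] at h2

theorem kmod_UX_norm : P2 ≤ normalizer (kmod P2 (cl (zl (S : Subgroup G) P) P2) (cl R P2) h.U_norm h.X_norm : Set G) :=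
  norm_kmod h.U_norm h.X_norm

/-- `J(Q) = J(L)` ⟹ `[U, E] ≤ X` -/
theorem UE_of_jj (h1 : jj (o2 P2) = jj (o2 P)) :
    oddGen P2 ≤ kmod P2 (cl (zl (S : Subgroup G) P) P2) (cl R P2) h.U_norm h.X_norm := by
  rcases h.min_or (kmod_le (h1 := h.U_norm) (h2 := h.X_norm)) h.kmod_UX_norm with h2 | h2
  · exact h2
  · exfalso
    apply h.not_jj_Q
    refine le_trans (fun g hg => ?_) h2
    refine ⟨jj_le _ hg, h.S_le (jj_le _ hg), fun u hu => ?_⟩
    exact h.R_le_X (h.comm_YJ hg (h.U_le_Y h1 hu))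

/-! ### The case `V₃ ≤ X` -/

/-- `[V, S] ≤ V₃` -/
theorem comm_VS {s v : G} (hs : s ∈ (S : Subgroup G)) (hv : v ∈ zl (S : Subgroup G) P) :
    s * v * s⁻¹ * v⁻¹ ∈ V3 := by
  have hidx : (V3.subgroupOf (zl (S : Subgroup G) P)).index = 2 := by
    have h1 := relIndex_mul_card (zl (S : Subgroup G) P) V3
    rw [inf_eq_right.2 h.mod.V3_le, h.mod.cardV3, h.mod.card] at h1
    change V3.relIndex (zl (S : Subgroup G) P) = 2
    omega
  have hsv : s * v * s⁻¹ ∈ zl (S : Subgroup G) P := conj_mem' h.mod.S_V hs hv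
  have h2 := Subgroup.mul_mem_iff_of_index_two hidx (a := ⟨s * v * s⁻¹, hsv⟩) (b := ⟨v⁻¹, inv_mem hv⟩)
  rw [mem_subgroupOf, mem_subgroupOf, mem_subgroupOf] at h2
  refine h2.2 ?_
  change s * v * s⁻¹ ∈ V3 ↔ v⁻¹ ∈ V3
  rw [inv_mem_iff]
  constructor
  · intro h3
    have h4 := conj_mem' h.mod.S_V3 (inv_mem hs) h3
    have e : s⁻¹ * (s * v * s⁻¹) * s⁻¹⁻¹ = v := by group
    rwa [e] at h4
  · exact fun h3 => conj_mem' h.mod.S_V3 hs h3

/-- `[V₃, S] ≤ R` -/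
theorem comm_V3S {s v : G} (hs : s ∈ (S : Subgroup G)) (hv : v ∈ V3) : s * v * s⁻¹ * v⁻¹ ∈ R := by
  have hidx : (R.subgroupOf V3).index = 2 := by
    have h1 := relIndex_mul_card V3 R
    rw [inf_eq_right.2 h.mod.R_le, h.mod.cardV3, h.mod.cardR] at h1
    change R.relIndex V3 = 2
    omega
  have hsv : s * v * s⁻¹ ∈ V3 := conj_mem' h.mod.S_V3 hs hv
  have h2 := Subgroup.mul_mem_iff_of_index_two hidx (a := ⟨s * v * s⁻¹, hsv⟩) (b := ⟨v⁻¹, inv_mem hv⟩)
  rw [mem_subgroupOf, mem_subgroupOf, mem_subgroupOf] at h2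
  refine h2.2 ?_
  change s * v * s⁻¹ ∈ R ↔ v⁻¹ ∈ R
  rw [inv_mem_iff]
  constructor
  · intro h3
    have h4 := conj_mem' h.mod.S_R (inv_mem hs) h3
    have e : s⁻¹ * (s * v * s⁻¹) * s⁻¹⁻¹ = v := by group
    rwa [e] at h4
  · exact fun h3 => conj_mem' h.mod.S_R hs h3

theorem exists_f : ∃ f ∈ V3, f ∉ R := by
  by_contra hcon
  push Not at hcon
  have h1 := Subgroup.card_le_of_le (show V3 ≤ R from hcon)
  rw [h.mod.cardV3, h.mod.cardR] at h1
  omega

/-- `V₃ = R ∪ f R` -/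
theorem V3_cases {f v : G} (hf : f ∈ V3) (hfR : f ∉ R) (hv : v ∈ V3) : v ∈ R ∨ ∃ r ∈ R, v = f * r := by
  by_cases hvR : v ∈ R
  · exact Or.inl hvR
  right
  have hidx : (R.subgroupOf V3).index = 2 := by
    have h1 := relIndex_mul_card V3 R
    rw [inf_eq_right.2 h.mod.R_le, h.mod.cardV3, h.mod.cardR] at h1
    change R.relIndex V3 = 2
    omega
  have h2 := Subgroup.mul_mem_iff_of_index_two hidx (a := ⟨f⁻¹, inv_mem hf⟩) (b := ⟨v, hv⟩)
  rw [mem_subgroupOf, mem_subgroupOf, mem_subgroupOf] at h2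
  have h3 : f⁻¹ * v ∈ R := h2.2 (by
    change f⁻¹ ∈ R ↔ v ∈ R
    rw [inv_mem_iff]
    exact ⟨fun h4 => absurd h4 hfR, fun h4 => absurd h4 hvR⟩)
  exact ⟨_, h3, by group⟩

section three

variable (hX : V3 ≤ cl R P2)
include hX

theorem not_V_X : ¬ zl (S : Subgroup G) P ≤ cl R P2 := by
  intro h0
  apply h.not_Q_V
  intro q hq
  exact h.mod.small q (h.Q_le hq) fun v hv => h.comm_XQ hq (h0 hv)

theorem cent_V_of_X {q : G} (hq : q ∈ (S : Subgroup G)) (hqX : q ∈ centralizer (cl R P2 : Set G)) :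
    q ∈ centralizer (zl (S : Subgroup G) P : Set G) := h.mod.faith q hq (centralizer_le hX hqX)

/-- `C_Q(X) = C_Q(U)` -/
theorem cent_U_of_X {q : G} (hq : q ∈ o2 P2) (hqX : q ∈ centralizer (cl R P2 : Set G)) :
    q ∈ centralizer (cl (zl (S : Subgroup G) P) P2 : Set G) := by
  have h1 : o2 P2 ⊓ centralizer (cl R P2 : Set G) ≤ centralizer (zl (S : Subgroup G) P : Set G) :=
    fun x hx => h.cent_V_of_X hX (h.Q_le hx.1) hx.2
  have h2 : P2 ≤ normalizer ((o2 P2 ⊓ centralizer (cl R P2 : Set G) : Subgroup G) : Set G) :=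
    normalizer_inf (le_normalizer_o2 P2) (normalizer_centralizer h.X_norm)
  have h3 : cl (zl (S : Subgroup G) P) P2 ≤ centralizer ((o2 P2 ⊓ centralizer (cl R P2 : Set G) : Subgroup G) : Set G) :=
    cl_le fun p hp => by
      have h4 := cj_cent (g := p) (cent_symm h1)
      rwa [cj_of_le h2 hp] at h4
  exact cent_symm h3 ⟨hq, hqX⟩

/-- `[U, Q] ≤ X` -/
theorem comm_UQ {q u : G} (hq : q ∈ o2 P2) (hu : u ∈ cl (zl (S : Subgroup G) P) P2) :
    q * u * q⁻¹ * u⁻¹ ∈ cl R P2 := by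
  have hU : cl (zl (S : Subgroup G) P) P2 ≤ normalizer (cl R P2 : Set G) := (h.U_le_S.trans h.S_le).trans h.X_norm
  have h1 : cl (zl (S : Subgroup G) P) P2 ≤ cmod (cl (zl (S : Subgroup G) P) P2) (o2 P2) (cl R P2) hU := by
    refine cl_le fun p hp => ?_
    have h2 : zl (S : Subgroup G) P ≤ cmod (cl (zl (S : Subgroup G) P) P2) (o2 P2) (cl R P2) hU := fun v hv =>
      ⟨h.V_le_U hv, fun q hq => hX (h.comm_VS (h.Q_le hq) hv)⟩
    have h3 := cj_mono p h2
    rwa [cj_of_le (norm_cmod h.U_norm (le_normalizer_o2 P2) h.X_norm) hp] at h3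
  exact (h1 hu).2 q hq

/-- (i) `[U, E] ≤ X` ⟹ `X = V₃` -/
theorem X_eq_of (hE : oddGen P2 ≤ kmod P2 (cl (zl (S : Subgroup G) P) P2) (cl R P2) h.U_norm h.X_norm) :
    cl R P2 = V3 := by
  -- `U = V X`
  have hVX : P2 ≤ normalizer ((zl (S : Subgroup G) P ⊔ cl R P2 : Subgroup G) : Set G) := by
    refine h.sup_S.ge.trans (sup_le ?_ (normalizer_sup h.mod.S_V (h.S_le.trans h.X_norm)))
    refine le_normalizer_of_forall fun e he w hw => ?_
    have hwU : w ∈ cl (zl (S : Subgroup G) P) P2 := (sup_le h.V_le_U h.X_le_U) hw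
    have h1 := (hE he).2 w hwU
    have h2 := mul_mem (mem_sup_right (S := zl (S : Subgroup G) P) h1) hw
    rwa [inv_mul_cancel_right] at h2
  have hU : cl (zl (S : Subgroup G) P) P2 ≤ zl (S : Subgroup G) P ⊔ cl R P2 := cl_le fun p hp => by
    have h1 := cj_mono p (le_sup_left (a := zl (S : Subgroup G) P) (b := cl R P2))
    rwa [cj_of_le hVX hp] at h1
  -- `[U, Q] ≤ V₃`
  have hW : ⁅o2 P2, cl (zl (S : Subgroup G) P) P2⁆ ≤ V3 := by
    rw [commutator_le]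
    intro q hq u hu
    obtain ⟨v, hv, x, hx, rfl⟩ := mem_sup_comm (fun a ha b hb =>
      mem_centralizer_iff.1 (h.U_comm (h.X_le_U hb)) a (h.V_le_U ha)) (hU hu)
    have h1 := h.comm_VS (h.Q_le hq) hv
    have h2 := h.zpowers_le_R.trans h.mod.R_le (h.comm_XQ hq hx)
    have h3 : v * (q * x * q⁻¹ * x⁻¹) * v⁻¹ = q * x * q⁻¹ * x⁻¹ := by
      have h4 : q * x * q⁻¹ * x⁻¹ ∈ cl (zl (S : Subgroup G) P) P2 :=
        h.X_le_U (h.R_le_X (h.zpowers_le_R (h.comm_XQ hq hx)))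
      rw [mul_inv_eq_iff_eq_mul]
      exact (mem_centralizer_iff.1 (h.U_comm h4) v (h.V_le_U hv))
    have e : ⁅q, v * x⁆ = (q * v * q⁻¹ * v⁻¹) * (v * (q * x * q⁻¹ * x⁻¹) * v⁻¹) := by
      rw [commutatorElement_def]; group
    rw [e, h3]
    exact mul_mem h1 h2
  set W := ⁅o2 P2, cl (zl (S : Subgroup G) P) P2⁆ with hWdef
  have hWn : P2 ≤ normalizer (W : Set G) := normalizer_commutator (le_normalizer_o2 P2) h.U_norm
  have hWm : ∀ q ∈ o2 P2, ∀ v ∈ zl (S : Subgroup G) P, q * v * q⁻¹ * v⁻¹ ∈ W := fun q hq v hv => by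
    have := commutator_mem_commutator hq (h.V_le_U hv)
    rwa [commutatorElement_def] at this
  have hz : ¬ W ≤ zpowers z := by
    intro h0
    apply h.not_Q_V
    intro q hq
    exact h.mod.small q (h.Q_le hq) fun v hv => h0 (hWm q hq v hv)
  have hW3 : W = V3 := by
    rcases h.mod.uni W (hW.trans h.mod.V3_le) (h.S_le.trans hWn) with h1 | h1 | h1 | h1 | h1
    · exact absurd (h1.le.trans bot_le) hz
    · exact absurd h1.le hz
    · rw [h1] at hWn
      exact absurd hWn h.mv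
    · exact h1
    · have h2 := Subgroup.card_le_of_le hW
      rw [h1, h.mod.card, h.mod.cardV3] at h2
      omega
  rw [hW3] at hWn
  apply le_antisymm _ hX
  exact cl_le fun p hp => by
    have h1 := cj_mono p h.mod.R_le
    rwa [cj_of_le hWn hp] at h1

omit hX in
/-- `P₂` normalises `V₃` ⟹ `|S : Q| = 2` -/
theorem index_of_V3 (hn : P2 ≤ normalizer (V3 : Set G)) : (o2 P2).relIndex (S : Subgroup G) = 2 := by
  have h1 : oddGen P2 ≤ kmod P2 V3 (zpowers z) hn h.P2_zpowers ∨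
      (S : Subgroup G) ⊓ kmod P2 V3 (zpowers z) hn h.P2_zpowers ≤ o2 P2 :=
    h.min_or kmod_le (norm_kmod hn h.P2_zpowers)
  have h2 : (S : Subgroup G) ⊓ kmod P2 V3 (zpowers z) hn h.P2_zpowers ≤ o2 P2 := by
    refine h1.resolve_left fun h0 => h.E_R ?_
    refine le_normalizer_of_forall fun e he r hr => ?_
    have h3 := (h0 he).2 r (h.mod.R_le hr)
    have h4 := mul_mem (h.zpowers_le_R h3) hr
    rwa [inv_mul_cancel_right] at h4
  obtain ⟨f, hf, hfR⟩ := h.exists_f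
  have hmem : ∀ s ∈ (S : Subgroup G), s * f * s⁻¹ * f⁻¹ ∈ zpowers z → s ∈ o2 P2 := by
    intro s hs hsf
    refine h2 ⟨hs, h.S_le hs, fun v hv => ?_⟩
    rcases h.V3_cases hf hfR hv with hv | ⟨r, hr, rfl⟩
    · exact h.comm_RS hs hv
    · have h3 := h.comm_RS hs hr
      have e : s * (f * r) * s⁻¹ * (f * r)⁻¹ = (s * f * s⁻¹ * f⁻¹) * (f * (s * r * s⁻¹ * r⁻¹) * f⁻¹) := by group
      have e2 : f * (s * r * s⁻¹ * r⁻¹) * f⁻¹ = s * r * s⁻¹ * r⁻¹ :=
        h.z_comm_zpowers (h.S_le (h.V_le_S (h.mod.V3_le hf))) h3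
      rw [e, e2]
      exact mul_mem hsf h3
  have h3 : (o2 P2).relIndex (S : Subgroup G) ≤ 2 := by
    refine relIndex_le_two fun s hs t ht hsQ htQ => hmem _ (mul_mem hs ht) ?_
    have hs1 : s * f * s⁻¹ * f⁻¹ ∉ zpowers z := fun h0 => hsQ (hmem s hs h0)
    have ht1 : t * f * t⁻¹ * f⁻¹ ∉ zpowers z := fun h0 => htQ (hmem t ht h0)
    have hsR := h.comm_V3S hs hf
    have htR := h.comm_V3S ht hf
    have e : s * t * f * (s * t)⁻¹ * f⁻¹ = (s * (t * f * t⁻¹ * f⁻¹) * s⁻¹ * (t * f * t⁻¹ * f⁻¹)⁻¹) *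
        ((t * f * t⁻¹ * f⁻¹) * (s * f * s⁻¹ * f⁻¹)) := by group
    rw [e]
    refine mul_mem (h.comm_RS hs htR) ?_
    rw [h.mem_zpowers_iff'] at hs1 ht1
    push Not at hs1 ht1
    have hsq : ∀ v ∈ R, v ^ 2 = 1 := fun v hv => h.mod.sq v (h.R_le_V hv)
    have h5 := h.mod.sq _ (h.R_le_V htR)
    rw [pow_two] at h5
    rcases eq_of_card_four h.mod.cardR hsq h.z_mem_R h.mod.z_ne htR ht1.1 (Ne.symm ht1.2) hsR hs1.1 with e | e | e
    · exact absurd e hs1.2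
    · rw [e, h5]; exact one_mem _
    · rw [e]
      have h6 : (t * f * t⁻¹ * f⁻¹) * z = z * (t * f * t⁻¹ * f⁻¹) :=
        h.z_comm (h.S_le (h.V_le_S (h.R_le_V htR)))
      rw [← mul_assoc, h6, mul_assoc, h5, mul_one]
      exact mem_zpowers z
  have h4 : (o2 P2).relIndex (S : Subgroup G) ≠ 1 := fun h0 => h.not_S_le (relIndex_eq_one.1 h0)
  have h5 : (o2 P2).relIndex (S : Subgroup G) ≠ 0 := FiniteIndex.index_ne_zero (H := (o2 P2).subgroupOf S)
  omega

/-- `J(L) ≤ Q` ⟹ `[U, E] ≤ X` -/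
theorem UE_of_le (hJ : jj (o2 P) ≤ o2 P2) :
    oddGen P2 ≤ kmod P2 (cl (zl (S : Subgroup G) P) P2) (cl R P2) h.U_norm h.X_norm := by
  refine h.UE_of_jj (h.jj_eq_of ?_ hJ)
  rw [jj_eq]
  refine sSup_le fun A hA => ?_
  obtain ⟨h1, h2⟩ := (h.AA_Q_iff hJ).1 hA
  intro a ha
  exact (h.mem_L_iff (h1.2.1 ha)).2 (h.cent_V_of_X hX (h1.2.1 ha) (h.AA_cent h1 h2 ha))

/-- the members of `A(S)` are exact offenders on `U / X` -/
theorem soff {A : Subgroup G} (hA : A ∈ AA (S : Subgroup G)) (hAQ : ¬ A ≤ o2 P2) :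
    SOff P2 (cl R P2) (cl (zl (S : Subgroup G) P) P2) A where
  sq a ha := by rw [elem_sq hA.1 a ha]; exact one_mem _
  comm a ha b hb := by rw [elem_comm hA.1 a ha b hb, mul_inv_cancel_right, mul_inv_cancel]; exact one_mem _
  ne := hAQ
  ex := by
    set U := cl (zl (S : Subgroup G) P) P2 with hU
    set X := cl R P2 with hXd
    set C := centralizer (A : Set G) with hC
    have hAP : A ≤ P2 := hA.2.1.trans h.S_le
    refine ⟨X ⊔ U ⊓ C, sup_le h.X_le_U inf_le_left, ?_, ?_⟩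
    · rw [commutator_le]
      intro d hd a ha
      have hcom : ∀ a ∈ X, ∀ b ∈ U ⊓ C, a * b = b * a := fun a ha b hb =>
        mem_centralizer_iff.1 (h.U_comm hb.1) a (h.X_le_U ha)
      obtain ⟨x, hx, u, hu, rfl⟩ := mem_sup_comm hcom hd
      have h1 := mem_centralizer_iff.1 hu.2 a ha
      have e : ⁅x * u, a⁆ = x * (u * a * u⁻¹ * a⁻¹) * (a * x⁻¹ * a⁻¹) := by
        rw [commutatorElement_def]; group
      have e2 : u * a * u⁻¹ * a⁻¹ = 1 := by rw [← h1, mul_inv_cancel_right, mul_inv_cancel]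
      rw [e, e2, mul_one]
      exact mul_mem hx (conj_mem' h.X_norm (hAP ha) (inv_mem hx))
    · -- the count
      have h1 : C.relIndex U ≤ (centralizer (U : Set G)).relIndex A := AA_le hA h.U_le_S h.U_sq h.U_comm
      have h2 : (centralizer (U : Set G)).relIndex A =
          (centralizer (U : Set G)).relIndex (A ⊓ o2 P2) * (o2 P2).relIndex A := by
        have h3 : A ⊓ centralizer (U : Set G) ≤ A ⊓ o2 P2 := fun a ha =>
          ⟨ha.1, h.inf_cent_U ⟨hA.2.1 ha.1, ha.2⟩⟩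
        have h4 := relIndex_mul_relIndex (A ⊓ centralizer (U : Set G)) (A ⊓ o2 P2) A h3 inf_le_left
        rw [inf_relIndex_left, inf_relIndex_left] at h4
        rw [← h4]
        congr 1
        have h5 : (A ⊓ centralizer (U : Set G)) ⊓ (A ⊓ o2 P2) = (centralizer (U : Set G)) ⊓ (A ⊓ o2 P2) := by
          apply le_antisymm
          · exact fun a ha => ⟨ha.1.2, ha.2⟩
          · exact fun a ha => ⟨⟨ha.2.1, ha.1⟩, ha.2⟩
        rw [← inf_relIndex_right, ← inf_relIndex_right (centralizer (U : Set G)), h5]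
      have h3 : (centralizer (U : Set G)).relIndex (A ⊓ o2 P2) = (centralizer (X : Set G)).relIndex (A ⊓ o2 P2) := by
        rw [← inf_relIndex_right, ← inf_relIndex_right (centralizer (X : Set G))]
        congr 1
        apply le_antisymm
        · exact inf_le_inf_right _ (centralizer_le h.X_le_U)
        · exact fun a ha => ⟨h.cent_U_of_X hX ha.2.2 ha.1, ha.2⟩
      have h4 : (centralizer (X : Set G)).relIndex (A ⊓ o2 P2) ≤
          (centralizer ((A ⊓ o2 P2 : Subgroup G) : Set G)).relIndex X := by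
        refine pair_le h.z_sq (fun x hx => h.z_comm (h.S_le (h.X_le_S hx))) fun b hb x hx => ?_
        exact h.mem_zpowers_iff'.1 (h.comm_XQ hb.2 hx)
      have h5 : (centralizer ((A ⊓ o2 P2 : Subgroup G) : Set G)).relIndex X ≤ C.relIndex X :=
        Nat.le_of_dvd (Nat.pos_of_ne_zero (FiniteIndex.index_ne_zero (H := C.subgroupOf X)))
          (relIndex_dvd_of_le_left X (centralizer_le inf_le_left))
      have h6 : (U ⊓ C).relIndex (X ⊔ U ⊓ C) * (X ⊔ U ⊓ C).relIndex U = C.relIndex U := by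
        rw [relIndex_mul_relIndex _ _ _ le_sup_right (sup_le h.X_le_U inf_le_left), inf_relIndex_left]
      have h7 : C.relIndex X ≤ (U ⊓ C).relIndex (X ⊔ U ⊓ C) := by
        have h8 : (U ⊓ C).relIndex X = C.relIndex X := by
          rw [← inf_relIndex_right, ← inf_relIndex_right C]
          congr 1
          apply le_antisymm
          · exact fun a ha => ⟨ha.1.2, ha.2⟩
          · exact fun a ha => ⟨⟨h.X_le_U ha.2, ha.1⟩, ha.2⟩
        rw [← h8]
        exact relIndex_le_of_le_right le_sup_left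
          (FiniteIndex.index_ne_zero (H := (U ⊓ C).subgroupOf (X ⊔ U ⊓ C)))
      have hpos : 0 < C.relIndex X := Nat.pos_of_ne_zero (FiniteIndex.index_ne_zero (H := C.subgroupOf X))
      have h8 : C.relIndex X * (X ⊔ U ⊓ C).relIndex U ≤ C.relIndex X * (o2 P2).relIndex A := by
        calc C.relIndex X * (X ⊔ U ⊓ C).relIndex U ≤ (U ⊓ C).relIndex (X ⊔ U ⊓ C) * (X ⊔ U ⊓ C).relIndex U :=
              Nat.mul_le_mul_right _ h7
          _ = C.relIndex U := h6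
          _ ≤ (centralizer (U : Set G)).relIndex (A ⊓ o2 P2) * (o2 P2).relIndex A := by rw [← h2]; exact h1
          _ ≤ C.relIndex X * (o2 P2).relIndex A := Nat.mul_le_mul_right _ (by rw [h3]; exact h4.trans h5)
      exact Nat.le_of_mul_le_mul_left h8 hpos

/-- (ii)(a) -/
theorem UE (hA : FFBr.AStmt.{u}) :
    oddGen P2 ≤ kmod P2 (cl (zl (S : Subgroup G) P) P2) (cl R P2) h.U_norm h.X_norm := by
  by_cases hJ : jj (o2 P) ≤ o2 P2
  · exact h.UE_of_le hX hJ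
  by_contra hE
  have hE' : ¬ ⁅cl (zl (S : Subgroup G) P) P2, oddGen P2⁆ ≤ cl R P2 := by
    intro h0
    apply hE
    intro e he
    refine ⟨oddGen_le P2 he, fun u hu => ?_⟩
    have h1 := inv_mem (h0 (commutator_mem_commutator hu he))
    rwa [commutatorElement_inv, commutatorElement_def] at h1
  obtain ⟨A₁, hA₁, hA₁Q⟩ : ∃ A ∈ AA (o2 P), ¬ A ≤ o2 P2 := by
    by_contra hcon
    push Not at hcon
    apply hJ
    rw [jj_eq]
    exact sSup_le hcon
  have hA₁' := h.AA_L_iff.1 hA₁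
  have key : ∀ A ∈ AA (S : Subgroup G), A ≤ o2 P ⊔ o2 P2 := by
    intro A hAA
    by_cases hAQ : A ≤ o2 P2
    · exact hAQ.trans le_sup_right
    exact sec_le hA h.syl h.par.toIsMinPar h.X_le_U h.U_le_P2 h.U_sq h.U_comm h.X_norm h.U_norm hE'
      hA₁'.2 h.L_le h.S_L hAA.2.1 (h.soff hX hA₁'.1 hA₁Q) (h.soff hX hAA hAQ)
  obtain ⟨A, hAA, hAL⟩ := h.exists_AA_not_L
  obtain ⟨-, r2, -⟩ := h.root hAA hAL
  obtain ⟨f, hf, hfR⟩ := h.exists_f
  have hval : ∀ a ∈ A, a * f * a⁻¹ * f⁻¹ ∈ zpowers z := by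
    intro a ha
    obtain ⟨l, hl, q, hq, rfl⟩ := mem_sup_norm (h.Q_le.trans h.S_L) (key A hAA ha)
    have h1 : q * f * q⁻¹ ∈ zl (S : Subgroup G) P := conj_mem' h.mod.S_V (h.Q_le hq) (h.mod.V3_le hf)
    have h2 := mem_centralizer_iff.1 ((h.mem_L_iff (h.L_le hl)).1 hl) _ h1
    have e : l * q * f * (l * q)⁻¹ * f⁻¹ = l * (q * f * q⁻¹) * l⁻¹ * f⁻¹ := by group
    rw [e, ← h2, mul_inv_cancel_right]
    exact h.comm_XQ hq (hX hf)
  have hc : ∀ a ∈ A, a * f * a⁻¹ * f⁻¹ = 1 → a ∈ centralizer (zl (S : Subgroup G) P : Set G) := by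
    intro a ha h0
    refine h.mod.faith a (hAA.2.1 ha) ?_
    rw [mem_centralizer_iff]
    intro v hv
    rw [mul_inv_eq_one, mul_inv_eq_iff_eq_mul] at h0
    rcases h.V3_cases hf hfR hv with hv | ⟨r, hr, rfl⟩
    · exact mem_centralizer_iff.1 (h.AA_R hAA ha) v hv
    · have h1 := mem_centralizer_iff.1 (h.AA_R hAA ha) r hr
      rw [mul_assoc, h1, ← mul_assoc, ← h0, mul_assoc]
  have h1 : (centralizer (zl (S : Subgroup G) P : Set G)).relIndex A ≤ 2 := by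
    refine relIndex_le_two fun s hs t ht hsV htV => hc _ (mul_mem hs ht) ?_
    have h2 : s * f * s⁻¹ * f⁻¹ = z := ((h.mem_zpowers_iff'.1 (hval s hs)).resolve_left fun h0 => hsV (hc s hs h0))
    have h3 : t * f * t⁻¹ * f⁻¹ = z := ((h.mem_zpowers_iff'.1 (hval t ht)).resolve_left fun h0 => htV (hc t ht h0))
    have e : s * t * f * (s * t)⁻¹ * f⁻¹ = (s * (t * f * t⁻¹ * f⁻¹) * s⁻¹) * (s * f * s⁻¹ * f⁻¹) := by group
    rw [e, h2, h3, h.z_comm (h.S_le (hAA.2.1 hs)), mul_inv_cancel_right, h.z_sq]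
  omega

/-- **`V₃ ≤ X` ⟹ `X = V₃`** -/
theorem X_eq (hA : FFBr.AStmt.{u}) : cl R P2 = V3 := h.X_eq_of hX (h.UE hX hA)

/-- **`V₃ ≤ X` ⟹ `|S : Q| = 2`** -/
theorem two (hA : FFBr.AStmt.{u}) : (o2 P2).relIndex (S : Subgroup G) = 2 := by
  refine h.index_of_V3 ?_
  rw [← h.X_eq hX hA]
  exact h.X_norm

end three

end Cfg4

end Cfsg.Agent.Omega.NO3S.Fld

end

section


/-!
# Fld, `q = 4` (helper240, #15515), section (3), first half, with the repair of helper705 (#15839)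

`|S : Q| = 2` and `J(L) ≤ Q` ⟹ `P₂` normalises `V`.

* `Cfg4.exists_jj_mul` : `S = J(S) Q`;
* `X_le_Y` : `X ≤ Y = Ω₁ Z(J(L))`; `comm_XS` : `[X, S] ≤ R`;
* `X_le_V` : `X ≤ V`;
* `Cfg4.norm_V` : `P₂ ≤ N_G(V)`.
-/

set_option autoImplicit false
set_option linter.unusedSectionVars false

namespace Cfsg.Agent.Omega.NO3S.Fld

open Subgroup Cfsg Cfsg.Agent.ZN Cfsg.Agent.ZN.ChoiceBase Cfsg.Agent.Omega.MinPar Cfsg.Agent.Omega.FrameNOFF
open Cfsg.Agent.ZN.ChoiceSit (Syl syl_iff syl_not_dvd o2_le_syl isPGroup_o2)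
open Cfsg.Agent.MinSimple.MinParabolic (IsMinPar)
open Cfsg.Agent.MinSimple.VModule (oddGen oddGen_le mem_oddGen le_normalizer_oddGen le_normalizer_o2 o2_le
  zc_le zc_le_zl le_normalizer_zl zc_sq zc_comm le_centralizer_zc)
open Cfsg.Agent.Omega.NO3b.EZero (cl cj_le_cl le_cl cl_le cj_cl le_normalizer_cl cent_symm cj_cent cj_norm
  sq_of_comm oddGen_sup_syl mem_cj_self relIndex_cj le_normalizer_inf_cent)
open Cfsg.Agent.Omega.NO3b.K0 (conj_mem' cj_of_le cj_self)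
open Cfsg.Agent.Omega.NO3S.NotFF (le_normalizer_of_forall normalizer_inf normalizer_sup normalizer_centralizer
  normalizer_commutator)
open Cfsg.Agent.Omega.SQ1.Bau (mem_AA_of_comm zj_le_AA elem_comm elem_sq card_sup_comm mem_sup_comm)
open scoped commutatorElement

universe u

namespace Cfg4

variable {G : Type u} [Group G] [Finite G] {S : Sylow 2 G} {P P2 R V3 : Subgroup G} {z : G}
  (h : Cfg4 S P P2 R V3 z)
include h

theorem sylP : Syl (S : Subgroup G) P := h.hyp.toHyp.syl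

theorem S_le_P : (S : Subgroup G) ≤ P := h.sylP.1

/-- the dichotomy for normal subgroups of `P` -/
theorem min_orP {K : Subgroup G} (hK : K ≤ P) (hKn : P ≤ normalizer (K : Set G)) :
    oddGen P ≤ K ∨ (S : Subgroup G) ⊓ K ≤ o2 P :=
  Cfsg.Agent.Omega.NO3b.K0.min_or h.sylP h.hyp.star.toIsMinPar hK hKn

theorem sup_SP : oddGen P ⊔ (S : Subgroup G) = P := oddGen_sup_syl h.sylP

/-- `V = ⟨z^P⟩` -/
theorem V_le_of {C : Subgroup G} (hC : P ≤ normalizer (C : Set G)) (hz : z ∈ C) : zl (S : Subgroup G) P ≤ C := by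
  refine iSup_le fun g => ?_
  rw [h.zS]
  have h1 : (zpowers z).map (MulAut.conj (g : G)).toMonoidHom = cj (g : G) (zpowers z) := rfl
  rw [h1]
  have h2 := cj_mono (g : G) (zpowers_le.2 hz)
  rwa [cj_of_le hC g.2] at h2

/-- `S = J(S) Q` if `|S : Q| = 2` -/
theorem exists_jj_mul (h2 : (o2 P2).relIndex (S : Subgroup G) = 2) {s : G} (hs : s ∈ (S : Subgroup G)) :
    ∃ a ∈ jj (S : Subgroup G), ∃ q ∈ o2 P2, s = a * q := by
  by_cases hsQ : s ∈ o2 P2
  · exact ⟨1, one_mem _, s, hsQ, (one_mul s).symm⟩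
  obtain ⟨a, ha, haQ⟩ := SetLike.not_le_iff_exists.1 h.not_jj_Q
  have haS := jj_le _ ha
  have h3 := Subgroup.mul_mem_iff_of_index_two (H := (o2 P2).subgroupOf (S : Subgroup G)) h2
    (a := ⟨a⁻¹, inv_mem haS⟩) (b := ⟨s, hs⟩)
  rw [mem_subgroupOf, mem_subgroupOf, mem_subgroupOf] at h3
  have h4 : a⁻¹ * s ∈ o2 P2 := h3.2 (by
    change a⁻¹ ∈ o2 P2 ↔ s ∈ o2 P2
    rw [inv_mem_iff]
    exact ⟨fun h5 => absurd h5 haQ, fun h5 => absurd h5 hsQ⟩)
  exact ⟨a, ha, _, h4, by group⟩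

/-- `J(L) ≤ Q` ⟹ `X ≤ Y` -/
theorem X_le_Y (hJ : jj (o2 P) ≤ o2 P2) : cl R P2 ≤ zj (o2 P) := by
  have key : ∀ A ∈ AA (o2 P), ∀ x ∈ cl R P2, ∀ a ∈ A, a * x = x * a := by
    intro A hA x hx a ha
    obtain ⟨h1, -⟩ := h.AA_L_iff.1 hA
    exact (mem_centralizer_iff.1 (h.AA_cent h1 ((le_jj hA).trans hJ) ha) x hx).symm
  intro x hx
  rw [mem_zj]
  obtain ⟨A, hA⟩ := AA_nonempty (o2 P)
  have hxA : x ∈ A := mem_AA_of_comm (h.AA_L_iff.1 hA).1 (h.X_le_S hx) (h.X_sq x hx) (key A hA x hx)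
  refine ⟨le_jj hA hxA, h.X_sq x hx, fun y hy => ?_⟩
  have h1 : jj (o2 P) ≤ centralizer ({x} : Set G) := by
    rw [jj_eq]
    refine sSup_le fun A hA a ha => ?_
    rw [mem_centralizer_iff]
    intro w hw
    rw [Set.mem_singleton_iff] at hw
    rw [hw]
    exact (key A hA x hx a ha).symm
  exact (mem_centralizer_iff.1 (h1 hy) x rfl).symm

/-- `[X, S] ≤ R` -/
theorem comm_XS (h2 : (o2 P2).relIndex (S : Subgroup G) = 2) (hJ : jj (o2 P) ≤ o2 P2) {s x : G}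
    (hs : s ∈ (S : Subgroup G)) (hx : x ∈ cl R P2) : s * x * s⁻¹ * x⁻¹ ∈ R := by
  obtain ⟨a, ha, q, hq, rfl⟩ := h.exists_jj_mul h2 hs
  have h3 := h.zpowers_le_R (h.comm_XQ hq hx)
  have h4 := conj_mem' h.mod.S_R (jj_le _ ha) h3
  have h5 := h.comm_YJ ha (h.X_le_Y hJ hx)
  have e : a * q * x * (a * q)⁻¹ * x⁻¹ = (a * (q * x * q⁻¹ * x⁻¹) * a⁻¹) * (a * x * a⁻¹ * x⁻¹) := by group
  rw [e]
  exact mul_mem h4 h5

/-- `[Y, O²(P)] ≤ V` -/
theorem oddGen_le_kmod : oddGen P ≤ kmod P (zj (o2 P)) (zl (S : Subgroup G) P) h.P_Y (le_normalizer_zl _ _) := by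
  rcases h.min_orP (kmod_le (h1 := h.P_Y) (h2 := le_normalizer_zl (S : Subgroup G) P))
    (norm_kmod h.P_Y (le_normalizer_zl (S : Subgroup G) P)) with h1 | h1
  · exact h1
  · exfalso
    apply h.hyp.jnot
    refine le_trans (fun g hg => ?_) h1
    refine ⟨jj_le _ hg, h.S_le_P (jj_le _ hg), fun y hy => ?_⟩
    exact h.R_le_V (h.comm_YJ hg hy)

theorem V_cent_L {v l : G} (hv : v ∈ zl (S : Subgroup G) P) (hl : l ∈ o2 P) : v * l = l * v :=
  mem_centralizer_iff.1 ((h.mem_L_iff (h.L_le hl)).1 hl) v hv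

/-- `[X, L] = 1` -/
theorem comm_XL (h2 : (o2 P2).relIndex (S : Subgroup G) = 2) (hJ : jj (o2 P) ≤ o2 P2) : ⁅cl R P2, o2 P⁆ = ⊥ := by
  set C := ⁅cl R P2, o2 P⁆ with hC
  have hCR : C ≤ R := by
    rw [hC, commutator_le]
    intro x hx l hl
    have h1 := inv_mem (h.comm_XS h2 hJ (h.L_le hl) hx)
    have e : (l * x * l⁻¹ * x⁻¹)⁻¹ = ⁅x, l⁆ := by rw [commutatorElement_def]; group
    rwa [e] at h1
  have hCV : C ≤ zl (S : Subgroup G) P := hCR.trans h.R_le_V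
  have hSC : (S : Subgroup G) ≤ normalizer (C : Set G) := normalizer_commutator (h.S_le.trans h.X_norm) h.S_L
  have hEC : oddGen P ≤ normalizer (C : Set G) := by
    refine le_normalizer_of_forall fun e he => ?_
    have heP := oddGen_le P he
    have h3 : C ≤ (C.comap (MulAut.conj e).toMonoidHom) := by
      rw [hC, commutator_le]
      intro x hx l hl
      rw [mem_comap]
      have hk := (h.oddGen_le_kmod he).2 x (h.X_le_Y hJ hx)
      have hl' : e * l * e⁻¹ ∈ o2 P := conj_mem' (le_normalizer_o2 P) heP hl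
      have h4 : ⁅x, e * l * e⁻¹⁆ ∈ C := commutator_mem_commutator hx hl'
      have h5 : (MulAut.conj e).toMonoidHom ⁅x, l⁆ = ⁅e * x * e⁻¹, e * l * e⁻¹⁆ := by
        rw [map_commutatorElement]; rfl
      rw [h5]
      set v := e * x * e⁻¹ * x⁻¹ with hv
      have h6 : e * x * e⁻¹ = v * x := by rw [hv]; group
      rw [h6]
      have h7 : ⁅v * x, e * l * e⁻¹⁆ = (v * ⁅x, e * l * e⁻¹⁆ * v⁻¹) * ⁅v, e * l * e⁻¹⁆ := by
        simp only [commutatorElement_def]; group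
      have h8 : ⁅v, e * l * e⁻¹⁆ = 1 := by
        rw [commutatorElement_eq_one_iff_mul_comm]
        exact h.V_cent_L hk hl'
      have h9 : v * ⁅x, e * l * e⁻¹⁆ * v⁻¹ = ⁅x, e * l * e⁻¹⁆ := by
        rw [mul_inv_eq_iff_eq_mul]
        exact (mem_centralizer_iff.1 (h.mod.comm (hCV h4)) v hk)
      rw [h7, h8, h9, mul_one]
      exact h4
    intro c hc
    exact h3 hc
  have hPC : P ≤ normalizer (C : Set G) := h.sup_SP.ge.trans (sup_le hEC hSC)
  have hzC : z ∉ C := by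
    intro h0
    have h1 := Subgroup.card_le_of_le ((h.V_le_of hPC h0).trans hCR)
    rw [h.mod.card, h.mod.cardR] at h1
    omega
  rcases h.mod.uni C hCV hSC with h1 | h1 | h1 | h1 | h1
  · exact h1
  · exact absurd (h1 ▸ mem_zpowers z) hzC
  · exact absurd (h1 ▸ h.z_mem_R) hzC
  · exact absurd (h1 ▸ h.mod.R_le h.z_mem_R) hzC
  · exact absurd (h1 ▸ h.R_le_V h.z_mem_R) hzC

/-- `X ≤ V` -/
theorem X_le_V (h2 : (o2 P2).relIndex (S : Subgroup G) = 2) (hJ : jj (o2 P) ≤ o2 P2) :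
    cl R P2 ≤ zl (S : Subgroup G) P := by
  have h1 := h.comm_XL h2 hJ
  rw [commutator_eq_bot_iff_le_centralizer] at h1
  intro x hx
  rw [← h.soc, ChoiceBase.mem_zc]
  exact ⟨h.Y_le_L (h.X_le_Y hJ hx), h.X_sq x hx, fun y hy => mem_centralizer_iff.1 (h1 hx) y hy⟩

/-- **`|S : Q| = 2`, `J(L) ≤ Q` ⟹ `P₂ ≤ N_G(V)`** -/
theorem norm_V (h2 : (o2 P2).relIndex (S : Subgroup G) = 2) (hJ : jj (o2 P) ≤ o2 P2) :
    P2 ≤ normalizer (zl (S : Subgroup G) P : Set G) := by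
  have hXV := h.X_le_V h2 hJ
  rcases h.mod.uni _ hXV (h.S_le.trans h.X_norm) with h1 | h1 | h1 | h1 | h1
  · exact absurd (h1 ▸ h.R_le_X h.z_mem_R) (by rw [mem_bot]; exact h.mod.z_ne)
  · exfalso
    have h3 := Subgroup.card_le_of_le h.R_le_X
    rw [h1, h.mod.cardR, Nat.card_zpowers, orderOf_eq_prime (by rw [pow_two]; exact h.z_sq) h.mod.z_ne] at h3
    omega
  · exfalso
    apply h.mv
    have h3 := h.X_norm
    rwa [h1] at h3
  · -- `X = V₃`
    have h3 : V3 ≤ cl R P2 := h1.ge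
    have h4 : jj (o2 P2) ≤ o2 P := by
      rw [jj_eq]
      refine sSup_le fun A hA => ?_
      obtain ⟨h5, h6⟩ := (h.AA_Q_iff hJ).1 hA
      intro a ha
      exact (h.mem_L_iff (h5.2.1 ha)).2 (h.cent_V_of_X h3 (h5.2.1 ha) (h.AA_cent h5 h6 ha))
    have h5 := h.UE_of_jj (h.jj_eq_of h4 hJ)
    refine h.sup_S.ge.trans (sup_le ?_ h.mod.S_V)
    refine le_normalizer_of_forall fun e he v hv => ?_
    have h6 := hXV ((h5 he).2 v (h.V_le_U hv))
    have h7 := mul_mem h6 hv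
    rwa [inv_mul_cancel_right] at h7
  · have h3 := h.X_norm
    rwa [h1] at h3

end Cfg4

end Cfsg.Agent.Omega.NO3S.Fld

end

section


/-!
# Fld, `q = 4` (helper240, #15515), section (3), second half: the stabiliser of `z` in `N_G(V)`

`M : Crd F S P V`, `|F| = 4`, `z = e (1, 0)`, `H = N_G(V) ∩ C_G(z)` moves `R`, some element of `S` acts nontrivially on
`R`.

* `not_V3` : `H` moves `V₃ = {x₁ ∈ F₂}`;
* `trans` : `H` is transitive on `V - ⟨z⟩`.
-/

set_option autoImplicit false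
set_option linter.unusedSectionVars false

namespace Cfsg.Agent.Omega.NO3S.Fld.FourEnd

open Subgroup Cfsg Cfsg.Agent.ZN Cfsg.Agent.ZN.ChoiceBase Cfsg.Agent.Omega.MinPar Cfsg.Agent.Omega.FrameNOFF
open Cfsg.Agent.Omega.NatPair (ap ap_zero' ap_one' ext2)
open Cfsg.Agent.Omega.NO3b.K0 (conj_mem')
open Cfsg.Agent.Omega.NO3S.NotFF (le_normalizer_of_forall)
open Cfsg.Agent.Lib.SL2Mat
open Cfsg.Agent.Omega.NO3S.Fld.DEight (exists_omega sig_add of_sig_eq exists_ne)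

universe u

section field

variable {F : Type*} [Field F] [CharP F 2]

/-- a fixed point free additive automorphism of `F₄` is a multiplication -/
theorem mul_of_fpf (hF : Nat.card F = 4) {α : F → F} (hadd : ∀ a b, α (a + b) = α a + α b)
    (h0 : ∀ a, a ≠ 0 → α a ≠ 0) (h1 : ∀ a, a ≠ 0 → α a ≠ a) :
    ∃ u : F, u ≠ 0 ∧ u * u = u + 1 ∧ ∀ a, α a = u * a := by
  obtain ⟨w, hw, hall⟩ := exists_omega hF
  have hz : α 0 = 0 := by
    have := hadd 0 0
    rw [add_zero] at this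
    exact left_eq_add.1 this
  have key : ∀ u : F, u * u = u + 1 → (∀ x : F, x = 0 ∨ x = 1 ∨ x = u ∨ x = u + 1) → α 1 = u →
      ∀ a, α a = u * a := by
    intro u hu hall hu1
    have hu0 : u ≠ 0 := fun h => by rw [h] at hu; simp at hu
    have hu2 : α u = u + 1 := by
      rcases hall (α u) with h | h | h | h
      · exact absurd h (h0 u hu0)
      · exfalso
        have h3 : u + 1 ≠ 0 := by rw [← hu]; exact mul_ne_zero hu0 hu0
        refine h1 (u + 1) h3 ?_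
        rw [hadd, h, hu1, add_comm]
      · exact absurd h (h1 u hu0)
      · exact h
    intro a
    rcases hall a with h | h | h | h
    · rw [h, hz, mul_zero]
    · rw [h, hu1, mul_one]
    · rw [h, hu2, hu]
    · rw [h, hadd, hu2, hu1, mul_add, hu, mul_one]
  have hne : α 1 ≠ 0 := h0 1 one_ne_zero
  have hne1 : α 1 ≠ 1 := h1 1 one_ne_zero
  rcases hall (α 1) with h | h | h | h
  · exact absurd h hne
  · exact absurd h hne1
  · refine ⟨w, h ▸ hne, hw, key w hw hall h⟩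
  · have e2 : w + 1 + 1 = w := by rw [add_assoc, CharTwo.add_self_eq_zero, add_zero]
    have e1 : (w + 1) * (w + 1) = w + 1 + 1 := by
      have e3 : (w + 1) * (w + 1) = w * w + (w + w) + 1 := by ring
      rw [e3, hw, CharTwo.add_self_eq_zero, add_zero]
    refine ⟨w + 1, h ▸ hne, e1, key (w + 1) e1 (fun x => ?_) h⟩
    rcases hall x with hx | hx | hx | hx
    · exact Or.inl hx
    · exact Or.inr (Or.inl hx)
    · right; right; right
      rw [hx, e2]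
    · exact Or.inr (Or.inr (Or.inl hx))

/-- two elements of `F₄ - F₂` -/
theorem eq_or_sig (hF : Nat.card F = 4) {σ : F ≃+* F} (hσ : σ ≠ RingEquiv.refl F) {x y : F} (hx0 : x ≠ 0)
    (hx1 : x ≠ 1) (hy0 : y ≠ 0) (hy1 : y ≠ 1) : y = x ∨ y = σ x := by
  obtain ⟨w, hw, hall⟩ := exists_omega hF
  have h1 := sig_add hF hσ hx0 hx1
  have h2 : σ x = x + 1 := by
    have : σ x = (σ x + x) + x := by rw [add_assoc, CharTwo.add_self_eq_zero, add_zero]
    rw [this, h1, add_comm]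
  have e2 : w + 1 + 1 = w := by rw [add_assoc, CharTwo.add_self_eq_zero, add_zero]
  rw [h2]
  rcases hall x with h | h | h | h
  · exact absurd h hx0
  · exact absurd h hx1
  · rcases hall y with h' | h' | h' | h'
    · exact absurd h' hy0
    · exact absurd h' hy1
    · left; rw [h, h']
    · right; rw [h, h']
  · rcases hall y with h' | h' | h' | h'
    · exact absurd h' hy0
    · exact absurd h' hy1
    · right; rw [h, h', e2]
    · left; rw [h, h']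

end field

variable {G : Type u} [Group G] {F : Type*} [Field F] [CharP F 2]

section v3

variable {S P V : Subgroup G} (M : Crd F S P V)

/-- `V₃ = {x₁ ∈ F₂}` -/
def V3 : Subgroup G where
  carrier := {g | ∃ x : Fin 2 → F, (x 1 = 0 ∨ x 1 = 1) ∧ M.e x = g}
  one_mem' := ⟨0, Or.inl rfl, M.e_zero⟩
  mul_mem' := by
    rintro _ _ ⟨x, hx, rfl⟩ ⟨y, hy, rfl⟩
    refine ⟨x + y, ?_, M.e_add x y⟩
    rw [Pi.add_apply]
    rcases hx with hx | hx <;> rcases hy with hy | hy <;> rw [hx, hy]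
    · left; exact add_zero 0
    · right; exact zero_add 1
    · right; exact add_zero 1
    · left; exact CharTwo.add_self_eq_zero 1
  inv_mem' := by
    rintro _ ⟨x, hx, rfl⟩
    refine ⟨-x, ?_, M.e_neg x⟩
    rw [Pi.neg_apply]
    rcases hx with hx | hx
    · left; rw [hx, neg_zero]
    · right; rw [hx, CharTwo.neg_eq]

theorem mem_V3 {x : Fin 2 → F} : M.e x ∈ V3 M ↔ x 1 = 0 ∨ x 1 = 1 := by
  constructor
  · rintro ⟨y, hy, h⟩
    rwa [← M.e_inj h]
  · intro h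
    exact ⟨x, h, rfl⟩

theorem R_le_V3 : M.R ≤ V3 M := by
  rintro _ ⟨a, rfl⟩
  exact ⟨_, Or.inl rfl, rfl⟩

/-- `z = e (1, 0)` -/
def zz : G := M.e ![1, 0]

theorem zz_mem_R : zz M ∈ M.R := ⟨1, rfl⟩

theorem zz_ne : zz M ≠ 1 := by
  intro h
  rw [zz, ← M.e_zero] at h
  have := congrFun (M.e_inj h) 0
  simp at this

theorem e_mem_zpowers {x : Fin 2 → F} : M.e x ∈ zpowers (zz M) ↔ x 1 = 0 ∧ (x 0 = 0 ∨ x 0 = 1) := by
  have hsq : zz M * zz M = 1 := M.sq (M.R_le (zz_mem_R M))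
  constructor
  · intro h
    obtain ⟨n, hn⟩ := mem_zpowers_iff.1 h
    rcases Int.even_or_odd' n with ⟨k, rfl | rfl⟩
    · rw [zpow_mul, zpow_ofNat, pow_two, hsq, one_zpow, ← M.e_zero] at hn
      rw [← M.e_inj hn]
      exact ⟨rfl, Or.inl rfl⟩
    · rw [zpow_add, zpow_mul, zpow_ofNat, pow_two, hsq, one_zpow, one_mul, zpow_one] at hn
      rw [← M.e_inj hn]
      exact ⟨rfl, Or.inr rfl⟩
  · rintro ⟨h1, h2 | h2⟩
    · have : x = 0 := ext2 h2 h1
      rw [this, M.e_zero]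
      exact one_mem _
    · have : x = ![1, 0] := ext2 h2 h1
      rw [this]
      exact mem_zpowers _

/-- the stabiliser of `z` in `N_G(V)` -/
def HH : Subgroup G := normalizer (V : Set G) ⊓ centralizer ({zz M} : Set G)

theorem mem_HH {g : G} : g ∈ HH M ↔ g ∈ normalizer (V : Set G) ∧ g * zz M = zz M * g := by
  rw [HH, mem_inf, mem_centralizer_singleton_iff]

theorem HH_z {g : G} (hg : g ∈ HH M) : g * zz M * g⁻¹ = zz M := by
  rw [((mem_HH M).1 hg).2, mul_inv_cancel_right]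

/-- the action of `g ∈ N_G(V)` -/
theorem exists_y {g : G} (hg : g ∈ normalizer (V : Set G)) (x : Fin 2 → F) : ∃ y, g * M.e x * g⁻¹ = M.e y := by
  obtain ⟨y, hy⟩ := (M.mem_iff _).1 ((mem_normalizer_iff.1 hg _).1 (M.e_mem x))
  exact ⟨y, hy.symm⟩

/-- `s (1, 0) = (1, 0)` for `s ∈ S` -/
theorem S_le_HH : S ≤ HH M := by
  intro s hs
  obtain ⟨σ, c, h⟩ := M.act s hs
  rw [mem_HH]
  refine ⟨M.S_V hs, ?_⟩
  have h1 := h ![1, 0]
  have h2 : (![σ ((![1, 0] : Fin 2 → F) 0) + c * σ ((![1, 0] : Fin 2 → F) 1), σ ((![1, 0] : Fin 2 → F) 1)] : Fin 2 → F) =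
      ![1, 0] := by
    apply ext2 <;> simp
  rw [h2, mul_inv_eq_iff_eq_mul] at h1
  exact h1

end v3

section alpha

variable [Finite G] {S : Sylow 2 G} {P V : Subgroup G} (M : Crd F (S : Subgroup G) P V)
  (hPV : P ≤ normalizer (V : Set G)) (hF : Nat.card F = 4) (hR : ¬ HH M ≤ normalizer (M.R : Set G))

include hPV hF hR in
/-- (α) `H` moves `V₃` -/
theorem not_V3 : ¬ HH M ≤ normalizer (V3 M : Set G) := by
  intro h3
  have hSH : (S : Subgroup G) ≤ HH M := S_le_HH M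
  have hHV : HH M ≤ normalizer (V : Set G) := inf_le_left
  have hHz : HH M ≤ normalizer (zpowers (zz M) : Set G) := by
    refine le_normalizer_of_forall fun g hg w hw => ?_
    obtain ⟨n, rfl⟩ := mem_zpowers_iff.1 hw
    have h1 : Commute g (zz M) := ((mem_HH M).1 hg).2
    have h2 : g * zz M ^ n * g⁻¹ = zz M ^ n := mul_inv_eq_iff_eq_mul.2 (h1.zpow_right n).eq
    rw [h2]
    exact zpow_mem (mem_zpowers _) n
  have hzR : zpowers (zz M) ≤ M.R := zpowers_le.2 (zz_mem_R M)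
  have hKn : HH M ≤ normalizer (kmod (HH M) (V3 M) (zpowers (zz M)) h3 hHz : Set G) := norm_kmod h3 hHz
  have hKR : kmod (HH M) (V3 M) (zpowers (zz M)) h3 hHz ≤ normalizer (M.R : Set G) := by
    refine le_normalizer_of_forall fun g hg r hr => ?_
    have h1 := hzR (hg.2 r (R_le_V3 M hr))
    have h2 := mul_mem h1 hr
    rwa [inv_mul_cancel_right] at h2
  have hfr := MinSimple.Basic.frattini hSH S.isPGroup' (MinSimple.Basic.not_dvd_relIndex S hSH) hKn
  set K := kmod (HH M) (V3 M) (zpowers (zz M)) h3 hHz with hK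
  obtain ⟨y, ⟨hyH, hyN⟩, hyR⟩ : ∃ y ∈ HH M ⊓ normalizer (((S : Subgroup G) ⊓ K : Subgroup G) : Set G),
      y ∉ normalizer (M.R : Set G) := by
    by_contra hcon
    push Not at hcon
    exact hR (hfr.trans (sup_le hKR hcon))
  obtain ⟨t, htS, ht⟩ := M.full 1
  have ht' : ∀ x : Fin 2 → F, t * M.e x * t⁻¹ = M.e ![x 0 + x 1, x 1] := fun x => by rw [ht, one_mul]
  have htA : M.Act t (RingEquiv.refl F) 1 := ht
  have htV : t ∉ centralizer (V : Set G) := fun h0 => one_ne_zero (htA.mem_centV.1 h0).2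
  have htK : t ∈ (S : Subgroup G) ⊓ K := by
    refine ⟨htS, hSH htS, ?_⟩
    rintro _ ⟨x, hx, rfl⟩
    rw [ht', ← M.e_sub, e_mem_zpowers]
    refine ⟨by simp, ?_⟩
    simp only [Pi.sub_apply, Matrix.cons_val_zero, add_sub_cancel_left]
    exact hx
  have hyt := conj_mem' (le_refl _) hyN htK
  obtain ⟨σ, c, hact⟩ := M.act _ hyt.1
  have hact' : M.Act (y * t * y⁻¹) σ c := hact
  have hyV : y ∈ normalizer (V : Set G) := hHV hyH
  -- `σ ≠ 1`
  have hσ : σ ≠ RingEquiv.refl F := by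
    intro h0
    apply hyR
    have h1 := hact'.mem_centR.2 h0
    have h2 : y * t * y⁻¹ ∉ centralizer (V : Set G) := by
      intro h4
      apply htV
      rw [mem_centralizer_iff]
      intro v hv
      have h5 := mem_centralizer_iff.1 h4 _ ((mem_normalizer_iff.1 hyV _).1 hv)
      have e1 : y * v * y⁻¹ * (y * t * y⁻¹) = y * (v * t) * y⁻¹ := by group
      have e2 : y * t * y⁻¹ * (y * v * y⁻¹) = y * (t * v) * y⁻¹ := by group
      rw [e1, e2] at h5
      exact mul_left_cancel (mul_right_cancel h5)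
    have h6 : ∀ r ∈ M.R, y * r * y⁻¹ ∈ M.R := by
      rintro _ ⟨a, rfl⟩
      refine M.fix hyt.1 h1 h2 ((mem_normalizer_iff.1 hyV _).1 (M.e_mem _)) ?_
      have h7 : t * M.e ![a, 0] = M.e ![a, 0] * t := by
        have h8 := ht' ![a, 0]
        have h9 : (![(![a, 0] : Fin 2 → F) 0 + (![a, 0] : Fin 2 → F) 1, (![a, 0] : Fin 2 → F) 1] : Fin 2 → F) = ![a, 0] := by
          apply ext2 <;> simp
        rw [h9, mul_inv_eq_iff_eq_mul] at h8
        exact h8
      have e1 : y * t * y⁻¹ * (y * M.e ![a, 0] * y⁻¹) = y * (t * M.e ![a, 0]) * y⁻¹ := by group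
      have e2 : y * M.e ![a, 0] * y⁻¹ * (y * t * y⁻¹) = y * (M.e ![a, 0] * t) * y⁻¹ := by group
      rw [e1, e2, h7]
    rw [mem_normalizer_iff_cj]
    refine Subgroup.eq_of_le_of_card_ge ?_ ?_
    · rintro _ ⟨r, hr, rfl⟩
      exact h6 r hr
    · rw [card_cj]
  -- `c ∈ F₂`
  have hc : c = 0 ∨ c = 1 := by
    have h1 := hyt.2.2 (M.e ![0, 1]) ((mem_V3 M).2 (Or.inr rfl))
    rw [hact, ← M.e_sub, e_mem_zpowers] at h1
    simpa using h1.2
  -- a conjugate of `t` acts as `σ`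
  obtain ⟨y', hy'H, hy'⟩ : ∃ y' ∈ HH M, ∀ x : Fin 2 → F, y' * t * y'⁻¹ * M.e x * (y' * t * y'⁻¹)⁻¹ =
      M.e ![σ (x 0), σ (x 1)] := by
    rcases hc with rfl | rfl
    · refine ⟨y, hyH, fun x => ?_⟩
      rw [hact, zero_mul, add_zero]
    · obtain ⟨c0, h0, h1⟩ := exists_ne hF
      obtain ⟨s, hs, hs1⟩ := M.full c0
      have hs' : M.Act s (RingEquiv.refl F) c0 := hs1
      have hsi := hs'.inv
      refine ⟨s * y, mul_mem (hSH hs) hyH, fun x => ?_⟩
      have e1 : s * y * t * (s * y)⁻¹ = s * (y * t * y⁻¹) * s⁻¹ := by group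
      rw [e1, ((hs'.mul hact').mul hsi) x]
      have h2 := sig_add hF hσ h0 h1
      have h3 : c0 + 1 + σ (-c0) = 0 := by
        rw [CharTwo.neg_eq]
        have : c0 + 1 + σ c0 = (σ c0 + c0) + 1 := by ring
        rw [this, h2, CharTwo.add_self_eq_zero]
      congr 1
      apply ext2
      · have h4 : (c0 + (RingEquiv.refl F) (1 : F) + (σ.trans (RingEquiv.refl F)) ((RingEquiv.refl F).symm (-c0)) : F) =
            c0 + 1 + σ (-c0) := rfl
        simp only [Matrix.cons_val_zero]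
        rw [h4, h3, zero_mul, add_zero]
        rfl
      · rfl
  have hy'V : y' ∈ normalizer (V : Set G) := hHV hy'H
  -- an element of order 3 which commutes with `σ`
  obtain ⟨c', hc'P, hc'⟩ := M.lift (mk 0 1 1 1 (by rw [zero_mul, one_mul, zero_sub, CharTwo.neg_eq]))
  have hc'' : ∀ x : Fin 2 → F, c' * M.e x * c'⁻¹ = M.e ![x 1, x 0 + x 1] := by
    intro x
    rw [hc']
    congr 1
    apply ext2
    · rw [ap_zero', mk_00, mk_01]; simp
    · rw [ap_one', mk_10, mk_11]; simp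
  set d := y'⁻¹ * c' * y' with hd
  have hdV : d ∈ normalizer (V : Set G) := mul_mem (mul_mem (inv_mem hy'V) (hPV hc'P)) hy'V
  -- `d` commutes with `t` on `V`
  have hdt : ∀ v ∈ V, t * (d * v * d⁻¹) * t⁻¹ = d * (t * v * t⁻¹) * d⁻¹ := by
    intro v hv
    obtain ⟨x, hx⟩ := (M.mem_iff _).1 ((mem_normalizer_iff.1 hy'V _).1 hv)
    have e1 : t * (d * v * d⁻¹) * t⁻¹ = y'⁻¹ * (y' * t * y'⁻¹ * (c' * (y' * v * y'⁻¹) * c'⁻¹) * (y' * t * y'⁻¹)⁻¹) * y' := by
      rw [hd]; group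
    have e2 : d * (t * v * t⁻¹) * d⁻¹ = y'⁻¹ * (c' * (y' * t * y'⁻¹ * (y' * v * y'⁻¹) * (y' * t * y'⁻¹)⁻¹) * c'⁻¹) * y' := by
      rw [hd]; group
    rw [e1, e2, ← hx, hc'', hy', hy', hc'']
    congr 3
    apply ext2
    · simp
    · simp [map_add]
  -- `d` has no fixed points
  have hdf : ∀ v ∈ V, d * v * d⁻¹ = v → v = 1 := by
    intro v hv hdv
    obtain ⟨x, hx⟩ := (M.mem_iff _).1 ((mem_normalizer_iff.1 hy'V _).1 hv)
    have h1 : c' * M.e x * c'⁻¹ = M.e x := by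
      rw [hx]
      have e1 : c' * (y' * v * y'⁻¹) * c'⁻¹ = y' * (d * v * d⁻¹) * y'⁻¹ := by rw [hd]; group
      rw [e1, hdv]
    rw [hc''] at h1
    have h2 := congrFun (M.e_inj h1) 0
    have h3 := congrFun (M.e_inj h1) 1
    simp only [Matrix.cons_val_zero, Matrix.cons_val_one] at h2 h3
    have h4 : x 0 = 0 := by
      exact right_eq_add.1 h3.symm
    have h5 : x = 0 := ext2 h4 (h2.trans h4)
    rw [h5, M.e_zero] at hx
    exact conj_eq_one_iff.1 hx.symm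
  choose φ hφ using fun x : Fin 2 → F => exists_y M hdV x
  have hφadd : ∀ x y, φ (x + y) = φ x + φ y := by
    intro x w
    apply M.e_inj
    rw [M.e_add, ← hφ, ← hφ, ← hφ, M.e_add]
    group
  -- `d` normalises `R`
  have hφR : ∀ a, φ ![a, 0] 1 = 0 := by
    intro a
    have h1 := hdt _ (M.e_mem ![a, 0])
    rw [hφ, ht', ht'] at h1
    have h2 : (![(![a, 0] : Fin 2 → F) 0 + (![a, 0] : Fin 2 → F) 1, (![a, 0] : Fin 2 → F) 1] : Fin 2 → F) = ![a, 0] := by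
      apply ext2 <;> simp
    rw [h2, hφ] at h1
    have h3 := congrFun (M.e_inj h1) 0
    simp only [Matrix.cons_val_zero] at h3
    exact left_eq_add.1 h3.symm
  obtain ⟨u, hu0, hu, hα⟩ := mul_of_fpf hF (α := fun a => φ ![a, 0] 0) (fun a b => by
      have h1 : (![a + b, 0] : Fin 2 → F) = ![a, 0] + ![b, 0] := by apply ext2 <;> simp
      show φ ![a + b, 0] 0 = _
      rw [h1, hφadd]
      rfl) (fun a ha h1 => by
      apply ha
      have h2 : φ ![a, 0] = 0 := ext2 h1 (hφR a)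
      have h3 := hφ ![a, 0]
      rw [h2, M.e_zero, conj_eq_one_iff, ← M.e_zero] at h3
      have := congrFun (M.e_inj h3) 0
      simpa using this) (fun a ha h1 => by
      apply ha
      have h2 : φ ![a, 0] = ![a, 0] := ext2 h1 (hφR a)
      have h3 := hφ ![a, 0]
      rw [h2] at h3
      have h4 := hdf _ (M.e_mem _) h3
      rw [← M.e_zero] at h4
      have := congrFun (M.e_inj h4) 0
      simpa using this)
  have hα' : ∀ a, φ ![a, 0] 0 = u * a := hα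
  -- the action on `V / R`
  have hβ : ∀ x, φ x 1 = u * x 1 := by
    intro x
    have h1 := hdt _ (M.e_mem x)
    rw [hφ, ht', ht'] at h1
    have h2 : (![x 0 + x 1, x 1] : Fin 2 → F) = x + ![x 1, 0] := by apply ext2 <;> simp
    rw [h2, hφ, hφadd] at h1
    have h3 := congrFun (M.e_inj h1) 0
    simp only [Matrix.cons_val_zero, Pi.add_apply, hα'] at h3
    exact add_left_cancel h3
  -- the torus
  obtain ⟨k, hkP, hk⟩ := M.lift (dg u⁻¹ (inv_ne_zero hu0))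
  have hk' : ∀ x : Fin 2 → F, k * M.e x * k⁻¹ = M.e ![u⁻¹ * x 0, u * x 1] := by
    intro x
    rw [hk]
    congr 1
    apply ext2
    · rw [ap_zero', dg, mk_00, mk_01]; simp
    · rw [ap_one', dg, mk_10, mk_11]; simp
  have hg : d * k ∈ HH M := by
    rw [mem_HH]
    refine ⟨mul_mem hdV (hPV hkP), ?_⟩
    rw [← mul_inv_eq_iff_eq_mul]
    have e1 : d * k * zz M * (d * k)⁻¹ = d * (k * M.e ![1, 0] * k⁻¹) * d⁻¹ := by rw [zz]; group
    rw [e1, hk']
    have h2 : (![u⁻¹ * (![1, 0] : Fin 2 → F) 0, u * (![1, 0] : Fin 2 → F) 1] : Fin 2 → F) = ![u⁻¹, 0] := by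
      apply ext2 <;> simp
    rw [h2, hφ, zz]
    congr 1
    refine ext2 ?_ (hφR _)
    rw [hα', mul_inv_cancel₀ hu0]
    rfl
  have h4 := conj_mem' h3 hg ((mem_V3 M).2 (Or.inr rfl : (![0, 1] : Fin 2 → F) 1 = 0 ∨ (![0, 1] : Fin 2 → F) 1 = 1))
  have e1 : d * k * M.e ![0, 1] * (d * k)⁻¹ = d * (k * M.e ![0, 1] * k⁻¹) * d⁻¹ := by group
  rw [e1, hk', hφ, mem_V3, hβ] at h4
  change u * (u * 1) = 0 ∨ u * (u * 1) = 1 at h4
  rw [mul_one, hu] at h4
  rcases h4 with h5 | h5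
  · have : u * u = 0 := hu.trans h5
    rcases mul_eq_zero.1 this with h6 | h6 <;> exact hu0 h6
  · exact hu0 (by simpa using h5)

end alpha

section beta

variable {S P V : Subgroup G} (M : Crd F S P V)

/-- fusion under `H` -/
def Fus (v w : G) : Prop := ∃ g ∈ HH M, g * v * g⁻¹ = w

variable {M}

theorem Fus.symm {v w : G} (h : Fus M v w) : Fus M w v := by
  obtain ⟨g, hg, rfl⟩ := h
  exact ⟨g⁻¹, inv_mem hg, by group⟩

theorem Fus.trans {v w u : G} (h : Fus M v w) (h' : Fus M w u) : Fus M v u := by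
  obtain ⟨g, hg, rfl⟩ := h
  obtain ⟨k, hk, rfl⟩ := h'
  exact ⟨k * g, mul_mem hk hg, by group⟩

variable (M)

/-- the root elements of `S` -/
theorem fus_root {x y : Fin 2 → F} (h1 : x 1 = y 1) (h0 : x 1 ≠ 0) : Fus M (M.e x) (M.e y) := by
  obtain ⟨s, hs, h⟩ := M.full ((y 0 - x 0) / x 1)
  refine ⟨s, S_le_HH M hs, ?_⟩
  rw [h]
  congr 1
  apply ext2
  · simp only [Matrix.cons_val_zero]
    rw [div_mul_cancel₀ _ h0, add_sub_cancel]
  · simpa using h1

variable (hF : Nat.card F = 4) (hfld : ∃ s ∈ S, ∃ σ c, M.Act s σ c ∧ σ ≠ RingEquiv.refl F)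
include hF hfld

theorem fus_C {x y : Fin 2 → F} (hx0 : x 1 ≠ 0) (hx1 : x 1 ≠ 1) (hy0 : y 1 ≠ 0) (hy1 : y 1 ≠ 1) :
    Fus M (M.e x) (M.e y) := by
  obtain ⟨s, hs, σ, c, h, hσ⟩ := hfld
  rcases eq_or_sig hF hσ hx0 hx1 hy0 hy1 with e | e
  · exact fus_root M e.symm hx0
  · refine Fus.trans (w := M.e ![σ (x 0) + c * σ (x 1), σ (x 1)]) ⟨s, S_le_HH M hs, h x⟩ (fus_root M ?_ ?_)
    · exact e.symm
    · show σ (x 1) ≠ 0
      rw [← e]
      exact hy0

theorem fus_A {x y : Fin 2 → F} (hx : x 1 = 0) (hx0 : x 0 ≠ 0) (hx1 : x 0 ≠ 1) (hy : y 1 = 0) (hy0 : y 0 ≠ 0)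
    (hy1 : y 0 ≠ 1) : Fus M (M.e x) (M.e y) := by
  obtain ⟨s, hs, σ, c, h, hσ⟩ := hfld
  rcases eq_or_sig hF hσ hx0 hx1 hy0 hy1 with e | e
  · have : x = y := ext2 e.symm (hx.trans hy.symm)
    rw [this]
    exact ⟨1, one_mem _, by group⟩
  · refine ⟨s, S_le_HH M hs, ?_⟩
    rw [h]
    congr 1
    apply ext2
    · simp only [Matrix.cons_val_zero]
      rw [hx, map_zero, mul_zero, add_zero, e]
    · show σ (x 1) = y 1
      rw [hx, map_zero, hy]

/-- (β) `H` is transitive on `V - ⟨z⟩` -/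
theorem fus (hR : ¬ HH M ≤ normalizer (M.R : Set G)) (h3 : ¬ HH M ≤ normalizer (V3 M : Set G)) {x y : Fin 2 → F}
    (hx : M.e x ∉ zpowers (zz M)) (hy : M.e y ∉ zpowers (zz M)) : Fus M (M.e x) (M.e y) := by
  obtain ⟨w, hw0, hw1⟩ := exists_ne hF
  have hHV : HH M ≤ normalizer (V : Set G) := inf_le_left
  -- the class of an element outside `⟨z⟩`
  have cls : ∀ x : Fin 2 → F, M.e x ∉ zpowers (zz M) → Fus M (M.e x) (M.e ![w, 0]) ∨ Fus M (M.e x) (M.e ![0, 1]) ∨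
      Fus M (M.e x) (M.e ![0, w]) := by
    intro x hx
    by_cases h1 : x 1 = 0
    · left
      rw [e_mem_zpowers] at hx
      push Not at hx
      exact fus_A M hF hfld h1 (hx h1).1 (hx h1).2 rfl hw0 hw1
    · right
      by_cases h2 : x 1 = 1
      · left
        exact fus_root M h2 h1
      · right
        exact fus_C M hF hfld h1 h2 hw0 hw1
  -- the images stay outside `⟨z⟩`
  have hout : ∀ g ∈ HH M, ∀ x y : Fin 2 → F, g * M.e x * g⁻¹ = M.e y → M.e x ∉ zpowers (zz M) →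
      M.e y ∉ zpowers (zz M) := by
    intro g hg x y hxy hx hy
    apply hx
    obtain ⟨n, hn⟩ := mem_zpowers_iff.1 hy
    have h1 : Commute g (zz M) := ((mem_HH M).1 hg).2
    have h2 : M.e x = g⁻¹ * M.e y * g := by rw [← hxy]; group
    rw [h2, ← hn, mul_assoc, ← (h1.zpow_right n).eq, inv_mul_cancel_left]
    exact zpow_mem (mem_zpowers _) n
  have l1 : Fus M (M.e ![w, 0]) (M.e ![0, 1]) ∨ Fus M (M.e ![w, 0]) (M.e ![0, w]) := by
    obtain ⟨g, hg, a, ha⟩ : ∃ g ∈ HH M, ∃ a : F, g * M.e ![a, 0] * g⁻¹ ∉ M.R := by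
      by_contra hcon
      push Not at hcon
      apply hR
      refine le_normalizer_of_forall fun g hg r hr => ?_
      obtain ⟨a, rfl⟩ := hr
      exact hcon g hg a
    have hz : M.e ![a, 0] ∉ zpowers (zz M) := by
      intro h1
      apply ha
      obtain ⟨n, hn⟩ := mem_zpowers_iff.1 h1
      have h2 : Commute g (zz M) := ((mem_HH M).1 hg).2
      rw [← hn, (h2.zpow_right n).eq, mul_inv_cancel_right]
      exact zpow_mem (zz_mem_R M) n
    obtain ⟨y, hy⟩ := exists_y M (hHV hg) ![a, 0]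
    have h1 : Fus M (M.e ![w, 0]) (M.e y) := by
      have hz' := hz
      rw [e_mem_zpowers] at hz'
      push Not at hz'
      exact (fus_A M hF hfld (y := ![a, 0]) rfl hw0 hw1 rfl (hz' rfl).1 (hz' rfl).2).trans ⟨g, hg, hy⟩
    have hy1 : y 1 ≠ 0 := fun h0 => ha (by rw [hy, M.e_mem_R]; exact h0)
    by_cases hy2 : y 1 = 1
    · left
      exact h1.trans (fus_root M hy2 hy1)
    · right
      exact h1.trans (fus_C M hF hfld hy1 hy2 hw0 hw1)
  have l2 : Fus M (M.e ![w, 0]) (M.e ![0, w]) ∨ Fus M (M.e ![0, 1]) (M.e ![0, w]) := by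
    obtain ⟨g, hg, x, hx, hgx⟩ : ∃ g ∈ HH M, ∃ x : Fin 2 → F, M.e x ∈ V3 M ∧ g * M.e x * g⁻¹ ∉ V3 M := by
      by_contra hcon
      push Not at hcon
      apply h3
      refine le_normalizer_of_forall fun g hg r hr => ?_
      obtain ⟨x, hx, rfl⟩ := hr
      exact hcon g hg x ⟨x, hx, rfl⟩
    have hz : M.e x ∉ zpowers (zz M) := by
      intro h1
      apply hgx
      obtain ⟨n, hn⟩ := mem_zpowers_iff.1 h1
      have h2 : Commute g (zz M) := ((mem_HH M).1 hg).2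
      rw [← hn, (h2.zpow_right n).eq, mul_inv_cancel_right]
      exact zpow_mem (R_le_V3 M (zz_mem_R M)) n
    obtain ⟨y, hy⟩ := exists_y M (hHV hg) x
    rw [hy, mem_V3] at hgx
    push Not at hgx
    have h1 : Fus M (M.e x) (M.e ![0, w]) := Fus.trans ⟨g, hg, hy⟩ (fus_C M hF hfld hgx.1 hgx.2 hw0 hw1)
    rcases (mem_V3 M).1 hx with h2 | h2
    · left
      rw [e_mem_zpowers] at hz
      push Not at hz
      exact (fus_A M hF hfld (x := ![w, 0]) rfl hw0 hw1 h2 (hz h2).1 (hz h2).2).trans h1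
    · right
      exact (fus_root M h2.symm one_ne_zero).trans h1
  have l3 : Fus M (M.e ![w, 0]) (M.e ![0, 1]) ∨ Fus M (M.e ![0, 1]) (M.e ![0, w]) := by
    obtain ⟨g, hg, x, hx, y, hy, hgx⟩ : ∃ g ∈ HH M, ∃ x : Fin 2 → F, x 1 = 1 ∧ ∃ y : Fin 2 → F, y 1 ≠ 1 ∧
        g * M.e x * g⁻¹ = M.e y := by
      by_contra hcon
      push Not at hcon
      apply h3
      refine le_normalizer_of_forall fun g hg r hr => ?_
      have key : ∀ x : Fin 2 → F, x 1 = 1 → ∃ y : Fin 2 → F, y 1 = 1 ∧ g * M.e x * g⁻¹ = M.e y := by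
        intro x hx
        obtain ⟨y, hy⟩ := exists_y M (hHV hg) x
        refine ⟨y, ?_, hy⟩
        by_contra hne
        exact hcon g hg x hx y hne hy
      obtain ⟨x, hx, rfl⟩ := hr
      rcases hx with hx | hx
      · obtain ⟨y, hy, h1⟩ := key ![x 0, 1] rfl
        obtain ⟨y', hy', h1'⟩ := key ![0, 1] rfl
        have e1 : x = ![x 0, 1] + ![0, 1] := by
          apply ext2
          · simp
          · simp only [Pi.add_apply, Matrix.cons_val_one]
            rw [CharTwo.add_self_eq_zero, hx]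
        rw [e1, M.e_add]
        have e2 : g * (M.e ![x 0, 1] * M.e ![0, 1]) * g⁻¹ = (g * M.e ![x 0, 1] * g⁻¹) * (g * M.e ![0, 1] * g⁻¹) := by
          group
        rw [e2, h1, h1', ← M.e_add, mem_V3]
        left
        rw [Pi.add_apply, hy, hy', CharTwo.add_self_eq_zero]
      · obtain ⟨y, hy, h1⟩ := key x hx
        rw [h1, mem_V3]
        exact Or.inr hy
    have hz : M.e x ∉ zpowers (zz M) := by
      rw [e_mem_zpowers]
      rintro ⟨h0, -⟩
      rw [hx] at h0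
      exact one_ne_zero h0
    have hz' := hout g hg x y hgx hz
    have h1 : Fus M (M.e ![0, 1]) (M.e y) := (fus_root M hx.symm one_ne_zero).trans ⟨g, hg, hgx⟩
    by_cases hy0 : y 1 = 0
    · left
      rw [e_mem_zpowers] at hz'
      push Not at hz'
      exact (fus_A M hF hfld (x := ![w, 0]) rfl hw0 hw1 hy0 (hz' hy0).1 (hz' hy0).2).trans h1.symm
    · right
      exact h1.trans (fus_C M hF hfld hy0 hy hw0 hw1)
  have hAB : Fus M (M.e ![w, 0]) (M.e ![0, 1]) := by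
    rcases l1 with h | h
    · exact h
    · rcases l3 with h' | h'
      · exact h'
      · exact h.trans h'.symm
  have hAC : Fus M (M.e ![w, 0]) (M.e ![0, w]) := by
    rcases l2 with h | h
    · exact h
    · exact hAB.trans h
  have key : ∀ x : Fin 2 → F, M.e x ∉ zpowers (zz M) → Fus M (M.e x) (M.e ![w, 0]) := by
    intro x hx
    rcases cls x hx with h | h | h
    · exact h
    · exact h.trans hAB.symm
    · exact h.trans hAC.symm
  exact (key x hx).trans (key y hy).symm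

end beta

end Cfsg.Agent.Omega.NO3S.Fld.FourEnd

end

section


/-!
# Fld, `q = 4` (helper240, #15515), section (3): `P₂ ≤ N_G(V)` gives a `P₁` with `|V_{P₁}| = 4`

* `Cfg4.exists_four` : `P₂ ≤ N_G(V)` ⟹ some `P₁ ∈ P*(S)`, `P₁ ≤ P`, with `⟨P₁, C_G(Z)⟩` nonlocal and `|V_{P₁}| = 4`;
* `Cfg4.main_of` : the same from `|S : O₂(P₂)| = 2` and `J(O₂(P)) ≤ O₂(P₂)`.
-/

set_option autoImplicit false
set_option linter.unusedSectionVars false

namespace Cfsg.Agent.Omega.NO3S.Fld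

open Subgroup Cfsg Cfsg.Agent.ZN Cfsg.Agent.ZN.ChoiceBase Cfsg.Agent.Omega.MinPar Cfsg.Agent.Omega.FrameNOFF
open Cfsg.Agent.Omega.NatPair (ap ap_zero' ap_one' ext2)
open Cfsg.Agent.Omega.NO3b.K0 (conj_mem' cj_of_le)
open Cfsg.Agent.Omega.NO3S.NotFF (le_normalizer_of_forall)
open Cfsg.Agent.MinSimple.VModule (zc_le_zl le_normalizer_zl normalizer_le_normalizer_zc)
open Cfsg.Agent.Lib.SL2Mat
open Cfsg.Agent.Omega.NO3S.Fld.DEight (of_sig_eq exists_ne)

universe u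

namespace Cfg4

variable {G : Type u} [Group G] [Finite G] {S : Sylow 2 G} {P P2 R V3 : Subgroup G} {z : G}
  (h : Cfg4 S P P2 R V3 z) {F : Type*} [Field F] [CharP F 2] (M : Crd F (S : Subgroup G) P (zl (S : Subgroup G) P))
  (hF : Nat.card F = 4) (hMR : M.R = R)
include h hF hMR

theorem exists_fld : ∃ s ∈ (S : Subgroup G), ∃ σ c, M.Act s σ c ∧ σ ≠ RingEquiv.refl F := by
  obtain ⟨s, hs, hsR⟩ := SetLike.not_le_iff_exists.1 h.mod.fld
  obtain ⟨σ, c, h1⟩ := M.exists_act hs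
  refine ⟨s, hs, σ, c, h1, fun h0 => hsR ?_⟩
  rw [← hMR]
  exact h1.mem_centR.2 h0

theorem zz_eq : FourEnd.zz M = z := by
  have hz := h.z_mem_R
  rw [← hMR] at hz
  obtain ⟨a, ha⟩ := hz
  obtain ⟨s, hs, σ, c, h1, hσ⟩ := h.exists_fld M hF hMR
  have h2 := h1 ![a, 0]
  rw [ha] at h2
  have h3 := h.z_comm (h.S_le hs)
  rw [h3, mul_inv_cancel_right, ← ha] at h2
  have h4 := congrFun (M.e_inj h2) 0
  simp only [Matrix.cons_val_zero] at h4
  have h5 : a = σ a := by simpa using h4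
  rcases of_sig_eq hF hσ h5.symm with h6 | h6
  · exfalso
    apply h.mod.z_ne
    rw [← ha, h6, ← M.e_zero]
    congr 1
    apply ext2 <;> simp
  · rw [← ha, h6]
    rfl

/-- **`P₂ ≤ N_G(V)` gives a `P₁` with `|V_{P₁}| = 4`** -/
theorem exists_four (hV : P2 ≤ normalizer (zl (S : Subgroup G) P : Set G)) :
    ∃ P1 : Subgroup G, IsParS (S : Subgroup G) P1 ∧ P1 ≤ P ∧ NonLoc P1 (CZ (S : Subgroup G)) ∧
      Nat.card (zl (S : Subgroup G) P1) = 4 := by
  have hz := h.zz_eq M hF hMR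
  have hfld := h.exists_fld M hF hMR
  have hPV : P ≤ normalizer (zl (S : Subgroup G) P : Set G) := le_normalizer_zl _ _
  have hP2H : P2 ≤ FourEnd.HH M := by
    intro p hp
    rw [FourEnd.mem_HH]
    refine ⟨hV hp, ?_⟩
    rw [hz]
    exact h.z_comm hp
  have hR : ¬ FourEnd.HH M ≤ normalizer (M.R : Set G) := by
    intro h0
    apply h.mv
    rw [← hMR]
    exact hP2H.trans h0
  have h3 := FourEnd.not_V3 M hPV hF hR
  have hfus : ∀ x y : Fin 2 → F, M.e x ∉ zpowers z → M.e y ∉ zpowers z → FourEnd.Fus M (M.e x) (M.e y) := by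
    intro x y hx hy
    rw [← hz] at hx hy
    exact FourEnd.fus M hF hfld hR h3 hx hy
  -- the torus
  obtain ⟨w, hw0, hw1⟩ := exists_ne hF
  obtain ⟨k, hkP, hk⟩ := M.lift (dg w hw0)
  have hk' : ∀ x : Fin 2 → F, k * M.e x * k⁻¹ = M.e ![w * x 0, w⁻¹ * x 1] := by
    intro x
    rw [hk]
    congr 1
    apply ext2
    · rw [ap_zero', dg, mk_00, mk_01]; simp
    · rw [ap_one', dg, mk_10, mk_11]; simp
  have hkR : k ∈ normalizer (R : Set G) := by
    rw [← hMR, mem_normalizer_iff_cj]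
    refine Subgroup.eq_of_le_of_card_ge ?_ ?_
    · rintro _ ⟨r, ⟨a, rfl⟩, rfl⟩
      show k * M.e ![a, 0] * k⁻¹ ∈ M.R
      rw [hk', M.e_mem_R]
      simp
    · rw [card_cj]
  have hL : IsLoc (S : Subgroup G) (P ⊓ normalizer (R : Set G)) :=
    h.hyp.star.isLoc.of_le S (le_inf h.S_le_P h.mod.S_R) inf_le_left
  have hLn : ¬ P ⊓ normalizer (R : Set G) ≤ normalizer (zc (S : Subgroup G) : Set G) := by
    intro h0
    have hkk : k ∈ P ⊓ normalizer (R : Set G) := ⟨hkP, hkR⟩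
    have hzz : z ∈ zc (S : Subgroup G) := by rw [h.zS]; exact mem_zpowers z
    have h1 := conj_mem' h0 hkk hzz
    rw [h.zS, ← hz, FourEnd.zz, hk'] at h1
    have h2 := (FourEnd.e_mem_zpowers M).1 h1
    simp only [Matrix.cons_val_zero, mul_one] at h2
    rcases h2.2 with h3 | h3
    · exact hw0 h3
    · exact hw1 h3
  obtain ⟨P1, hP1, hP1L, hP1n⟩ := IsLoc.exists_not_le S hL (inf_le_right.trans (normalizer_le_normalizer_zc _)) hLn
  have hP1S : IsParS (S : Subgroup G) P1 := ⟨hP1, hP1n⟩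
  have hP1P : P1 ≤ P := hP1L.trans inf_le_left
  have hP1R : P1 ≤ normalizer (R : Set G) := hP1L.trans inf_le_right
  refine ⟨P1, hP1S, hP1P, ?_, ?_⟩
  · intro U hU hU1 hU2
    refine h.hyp.nonLoc U hU (hPV.trans ?_) hU2
    obtain ⟨p, hp, hpz⟩ : ∃ p ∈ P1, p * z * p⁻¹ ∉ zpowers z := by
      by_contra hcon
      push Not at hcon
      apply hP1n
      rw [h.zS]
      refine le_normalizer_of_forall fun g hg v hv => ?_
      rcases h.mem_zpowers_iff'.1 hv with rfl | rfl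
      · rw [mul_one, mul_inv_cancel]
        exact one_mem _
      · exact hcon g hg
    have hHU : FourEnd.HH M ≤ normalizer (U : Set G) := by
      intro g hg
      apply hU2
      rw [mem_centralizer_iff]
      intro v hv
      rw [h.zS] at hv
      have hc : g * z = z * g := by
        have := ((FourEnd.mem_HH M).1 hg).2
        rwa [hz] at this
      rcases h.mem_zpowers_iff'.1 hv with rfl | rfl
      · rw [one_mul, mul_one]
      · exact hc.symm
    intro g hg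
    obtain ⟨y, hy⟩ := FourEnd.exists_y M hg ![1, 0]
    have hzg : g * z * g⁻¹ = M.e y := by rw [← hz]; exact hy
    by_cases hyz : M.e y ∈ zpowers z
    · apply hHU
      rw [FourEnd.mem_HH, hz]
      refine ⟨hg, ?_⟩
      rcases h.mem_zpowers_iff'.1 hyz with h4 | h4
      · rw [h4, conj_eq_one_iff] at hzg
        exact absurd hzg h.mod.z_ne
      · rw [h4, mul_inv_eq_iff_eq_mul] at hzg
        exact hzg
    · obtain ⟨x, hx⟩ := FourEnd.exists_y M (hPV (hP1P hp)) ![1, 0]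
      have hzp : p * z * p⁻¹ = M.e x := by rw [← hz]; exact hx
      rw [hzp] at hpz
      obtain ⟨c, hc, hcx⟩ := hfus x y hpz hyz
      have h5 : g⁻¹ * c * p ∈ FourEnd.HH M := by
        rw [FourEnd.mem_HH, hz]
        refine ⟨mul_mem (mul_mem (inv_mem hg) ((FourEnd.mem_HH M).1 hc).1) (hPV (hP1P hp)), ?_⟩
        rw [← mul_inv_eq_iff_eq_mul]
        have e1 : g⁻¹ * c * p * z * (g⁻¹ * c * p)⁻¹ = g⁻¹ * (c * (p * z * p⁻¹) * c⁻¹) * g := by group
        rw [e1, hzp, hcx, ← hzg]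
        group
      have e2 : g = c * p * (g⁻¹ * c * p)⁻¹ := by group
      rw [e2]
      exact mul_mem (mul_mem (hHU hc) (hU1 hp)) (inv_mem (hHU h5))
  · have h4 : zl (S : Subgroup G) P1 ≤ R := by
      refine iSup_le fun g => ?_
      have h5 : (zc (S : Subgroup G)).map (MulAut.conj (g : G)).toMonoidHom = cj (g : G) (zc (S : Subgroup G)) := rfl
      rw [h5, h.zS]
      have h6 := cj_mono (g : G) h.zpowers_le_R
      rwa [cj_of_le hP1R g.2] at h6
    have h5 : zpowers z ≤ zl (S : Subgroup G) P1 := by rw [← h.zS]; exact zc_le_zl _ _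
    have h6 : Nat.card (zpowers z) = 2 := by
      rw [Nat.card_zpowers]
      exact orderOf_eq_prime (by rw [pow_two]; exact h.z_sq) h.mod.z_ne
    have h7 : 2 < Nat.card (zl (S : Subgroup G) P1) := by
      by_contra hcon
      push Not at hcon
      have h8 : zpowers z = zl (S : Subgroup G) P1 := Subgroup.eq_of_le_of_card_ge h5 (by rw [h6]; exact hcon)
      apply hP1n
      rw [h.zS, h8]
      exact le_normalizer_zl _ _
    have h8 : Nat.card (zl (S : Subgroup G) P1) ∣ 4 := by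
      rw [← h.mod.cardR]
      exact card_dvd_of_le h4
    have h9 : Nat.card (zl (S : Subgroup G) P1) ≤ 4 := Nat.le_of_dvd (by norm_num) h8
    interval_cases hc : Nat.card (zl (S : Subgroup G) P1)
    · exact absurd h8 (by decide)
    · rfl

/-- **(3)**: `|S : O₂(P₂)| = 2` and `J(O₂(P)) ≤ O₂(P₂)` give a `P₁` with `|V_{P₁}| = 4` -/
theorem main_of (h2 : (o2 P2).relIndex (S : Subgroup G) = 2) (hJ : jj (o2 P) ≤ o2 P2) :
    ∃ P1 : Subgroup G, IsParS (S : Subgroup G) P1 ∧ P1 ≤ P ∧ NonLoc P1 (CZ (S : Subgroup G)) ∧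
      Nat.card (zl (S : Subgroup G) P1) = 4 := h.exists_four M hF hMR (h.norm_V h2 hJ)

end Cfg4

end Cfsg.Agent.Omega.NO3S.Fld

end

section


/-!
# Fld, `q = 4`, at a level `K` (#16560 (4)): the situation

`Lv4 S P P2 R V3 K z` : `V = V_P` natural for `SL₂(4)`, `Ω₁(Z(S)) = ⟨z⟩`, `P₂ ∈ P(S)` centralises `z` and moves `R`,
`K` a level (`Lev S K`), `K ≤ O₂(P) = L`, `K ≤ O₂(P₂) = Q`, `J⁺ = nxt S K ≰ Q`, `J⁺ ≤ C(R)`; `A` ranges over the best
offenders `BO S K` on `Ω₁(Z(K))`. `X = ⟨R^P₂⟩ ≤ U = ⟨V^P₂⟩ ≤ Ω₁(Z(K))`.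

* `Lv4.BO_le` : `|W : C_W(A)| ≤ |A : C_A(W)|` for `W ≤ Ω₁(Z(K))`;
* `comm_XQ`, `not_Q_R`, `min_or`, `BO_cent` (`A ≤ Q` ⟹ `[X, A] = 1`), `inf_cent_X`;
* `root` : `A ≰ L` ⟹ `|A : C_A(V)| = |V : C_V(A)| = 4`, `C_V(A) = R`.
-/

set_option autoImplicit false
set_option linter.unusedSectionVars false

namespace Cfsg.Agent.Omega.NO3S.Fld

open Subgroup Cfsg Cfsg.Agent.ZN Cfsg.Agent.ZN.ChoiceBase Cfsg.Agent.Omega.MinPar Cfsg.Agent.Omega.FrameNOFF
open Cfsg.Agent.ZN.ChoiceSit (Syl syl_iff syl_not_dvd o2_le_syl isPGroup_o2)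
open Cfsg.Agent.MinSimple.MinParabolic (IsMinPar)
open Cfsg.Agent.MinSimple.VModule (oddGen oddGen_le mem_oddGen le_normalizer_oddGen le_normalizer_o2 o2_le
  zc_le zc_le_zl le_normalizer_zl zc_sq zc_comm le_centralizer_zc)
open Cfsg.Agent.Omega.NO3b.EZero (cl cj_le_cl le_cl cl_le cj_cl le_normalizer_cl cent_symm cj_cent cj_norm
  sq_of_comm oddGen_sup_syl mem_cj_self relIndex_cj le_normalizer_inf_cent)
open Cfsg.Agent.Omega.NO3b.K0 (conj_mem' cj_of_le cj_self)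
open Cfsg.Agent.Omega.NO3S.NotFF (le_normalizer_of_forall normalizer_inf normalizer_sup normalizer_centralizer
  normalizer_commutator)
open Cfsg.Agent.Omega.NO3S.Level (Lev BO nxt)
open scoped commutatorElement

universe u

/-- **The situation at a level** (`q = 4`). -/
structure Lv4 {G : Type u} [Group G] [Finite G] (S : Sylow 2 G) (P P2 R V3 K : Subgroup G) (z : G) : Prop where
  hyp : Hyp S P
  mod : DEight.Mod (S : Subgroup G) (zl (S : Subgroup G) P) R V3 z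
  fix4 : ∀ b ∈ (S : Subgroup G), b ∉ centralizer (zl (S : Subgroup G) P : Set G) →
    Nat.card ↥(zl (S : Subgroup G) P ⊓ centralizer ({b} : Set G)) ≤ 4
  zS : zc (S : Subgroup G) = zpowers z
  par : IsPar (S : Subgroup G) P2
  le : P2 ≤ CZ (S : Subgroup G)
  mv : ¬ P2 ≤ normalizer (R : Set G)
  soc : zc (o2 P) = zl (S : Subgroup G) P
  /-- the FF-LEMMA -/
  ff : zc (o2 P2) ≤ centralizer (oddGen P2 : Set G)
  lev : Lev (S : Subgroup G) K
  KL : K ≤ o2 P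
  KQ : K ≤ o2 P2
  nQ : ¬ nxt (S : Subgroup G) K ≤ o2 P2
  cR : nxt (S : Subgroup G) K ≤ centralizer (R : Set G)

namespace Lv4

variable {G : Type u} [Group G] [Finite G] {S : Sylow 2 G} {P P2 R V3 K : Subgroup G} {z : G}
  (h : Lv4 S P P2 R V3 K z)
include h

theorem syl : Syl (S : Subgroup G) P2 :=
  ⟨h.par.le, S.isPGroup', fun _ _ hT hST => S.is_maximal' hT hST⟩

theorem S_le : (S : Subgroup G) ≤ P2 := h.par.le

theorem Q_le : o2 P2 ≤ (S : Subgroup G) := o2_le_syl h.syl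

theorem L_le : o2 P ≤ (S : Subgroup G) := h.hyp.star.isLoc.o2_le S

theorem V_le_S : zl (S : Subgroup G) P ≤ (S : Subgroup G) := h.hyp.V_le_S

theorem R_le_V : R ≤ zl (S : Subgroup G) P := h.mod.R_le.trans h.mod.V3_le

theorem z_mem_R : z ∈ R := h.mod.z_mem

theorem z_comm {g : G} (hg : g ∈ P2) : g * z = z * g := by
  have h1 : z ∈ zc (S : Subgroup G) := by rw [h.zS]; exact mem_zpowers z
  exact (mem_centralizer_iff.1 (h.le hg) z h1).symm

theorem z_comm_zpowers {g w : G} (hg : g ∈ P2) (hw : w ∈ zpowers z) : g * w * g⁻¹ = w := by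
  obtain ⟨n, rfl⟩ := mem_zpowers_iff.1 hw
  have h1 : Commute g z := h.z_comm hg
  exact mul_inv_eq_iff_eq_mul.2 (h1.zpow_right n).eq

theorem P2_zpowers : P2 ≤ normalizer (zpowers z : Set G) :=
  le_normalizer_of_forall fun g hg w hw => by rw [h.z_comm_zpowers hg hw]; exact hw

theorem zpowers_le_R : zpowers z ≤ R := zpowers_le.2 h.z_mem_R

theorem z_sq : z * z = 1 := by
  have := h.mod.sq z (h.R_le_V h.z_mem_R)
  rwa [pow_two] at this

theorem mem_zpowers_iff' {g : G} : g ∈ zpowers z ↔ g = 1 ∨ g = z := by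
  constructor
  · intro hg
    obtain ⟨n, rfl⟩ := mem_zpowers_iff.1 hg
    rcases Int.even_or_odd' n with ⟨k, rfl | rfl⟩
    · left
      rw [zpow_mul, zpow_ofNat, pow_two, h.z_sq, one_zpow]
    · right
      rw [zpow_add, zpow_mul, zpow_ofNat, pow_two, h.z_sq, one_zpow, one_mul, zpow_one]
  · rintro (rfl | rfl)
    · exact one_mem _
    · exact mem_zpowers _

/-- `U = ⟨V^P₂⟩ ≤ W` -/
theorem U_le_WW : cl (zl (S : Subgroup G) P) P2 ≤ WW (S : Subgroup G) P :=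
  cl_le fun _ hp => conj_zl_le_WW (h.le hp)

theorem U_comm : cl (zl (S : Subgroup G) P) P2 ≤ centralizer (cl (zl (S : Subgroup G) P) P2 : Set G) :=
  (h.U_le_WW.trans h.hyp.W_comm).trans (centralizer_le h.U_le_WW)

theorem U_sq : ∀ u ∈ cl (zl (S : Subgroup G) P) P2, u ^ 2 = 1 := fun u hu => h.hyp.W_sq u (h.U_le_WW hu)

theorem U_norm : P2 ≤ normalizer (cl (zl (S : Subgroup G) P) P2 : Set G) := le_normalizer_cl _ _

theorem X_norm : P2 ≤ normalizer (cl R P2 : Set G) := le_normalizer_cl _ _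

theorem X_le_U : cl R P2 ≤ cl (zl (S : Subgroup G) P) P2 :=
  cl_le fun _ hp => (cj_mono _ h.R_le_V).trans (cj_le_cl hp)

theorem V_le_U : zl (S : Subgroup G) P ≤ cl (zl (S : Subgroup G) P) P2 := le_cl _ _

theorem R_le_X : R ≤ cl R P2 := le_cl _ _

theorem U_le_P2 : cl (zl (S : Subgroup G) P) P2 ≤ P2 := cl_le fun p hp => by
  have h1 := cj_mono p (h.V_le_S.trans h.S_le)
  rwa [cj_self hp] at h1

theorem U_two : IsPGroup 2 (cl (zl (S : Subgroup G) P) P2) := fun x =>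
  ⟨1, Subtype.ext (by simpa using h.U_sq x x.2)⟩

theorem U_le_Q : cl (zl (S : Subgroup G) P) P2 ≤ o2 P2 := ChoiceSit.le_o2 h.U_two h.U_le_P2 h.U_norm

theorem X_le_Q : cl R P2 ≤ o2 P2 := h.X_le_U.trans h.U_le_Q

theorem U_le_S : cl (zl (S : Subgroup G) P) P2 ≤ (S : Subgroup G) := h.U_le_Q.trans h.Q_le

theorem X_le_S : cl R P2 ≤ (S : Subgroup G) := h.X_le_Q.trans h.Q_le

theorem X_sq : ∀ u ∈ cl R P2, u ^ 2 = 1 := fun u hu => h.U_sq u (h.X_le_U hu)

theorem X_comm : cl R P2 ≤ centralizer (cl R P2 : Set G) :=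
  (h.X_le_U.trans h.U_comm).trans (centralizer_le h.X_le_U)

/-- the dichotomy for normal subgroups of `P₂` -/
theorem min_or {N : Subgroup G} (hK : N ≤ P2) (hKn : P2 ≤ normalizer (N : Set G)) :
    oddGen P2 ≤ N ∨ (S : Subgroup G) ⊓ N ≤ o2 P2 :=
  Cfsg.Agent.Omega.NO3b.K0.min_or h.syl h.par.toIsMinPar hK hKn

theorem sup_S : oddGen P2 ⊔ (S : Subgroup G) = P2 := oddGen_sup_syl h.syl

/-- `E` moves `R` -/
theorem E_R : ¬ oddGen P2 ≤ normalizer (R : Set G) := by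
  intro h0
  apply h.mv
  rw [← h.sup_S]
  exact sup_le h0 h.mod.S_R

theorem E_cent_R : ¬ oddGen P2 ≤ centralizer (R : Set G) := fun h0 =>
  h.E_R (h0.trans (centralizer_le_normalizer _))

theorem not_S_le : ¬ (S : Subgroup G) ≤ o2 P2 := by
  intro h0
  apply h.par.not_le
  rw [le_antisymm h0 h.Q_le]
  exact le_normalizer_o2 P2

/-- `[R, S] ≤ ⟨z⟩` -/
theorem comm_RS {s r : G} (hs : s ∈ (S : Subgroup G)) (hr : r ∈ R) : s * r * s⁻¹ * r⁻¹ ∈ zpowers z := by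
  by_cases hr1 : r ∈ zpowers z
  · rw [h.z_comm_zpowers (h.S_le hs) hr1, mul_inv_cancel]
    exact one_mem _
  rw [h.mem_zpowers_iff'] at hr1
  push Not at hr1
  have hsr : s * r * s⁻¹ ∈ R := conj_mem' h.mod.S_R hs hr
  have hsr1 : s * r * s⁻¹ ≠ 1 := fun h0 => hr1.1 (conj_eq_one_iff.1 h0)
  have hrr : r * r = 1 := by
    have := h.mod.sq r (h.R_le_V hr)
    rwa [pow_two] at this
  rcases eq_of_card_four h.mod.cardR (fun v hv => h.mod.sq v (h.R_le_V hv)) h.z_mem_R h.mod.z_ne hr hr1.1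
    (Ne.symm hr1.2) hsr hsr1 with e | e | e
  · -- `s r s⁻¹ = z` is impossible
    exfalso
    apply hr1.2
    have h1 : r = s⁻¹ * (s * r * s⁻¹) * s := by group
    rw [h1, e]
    have h2 := h.z_comm (h.S_le hs)
    rw [mul_assoc, ← h2, inv_mul_cancel_left]
  · rw [e, mul_inv_cancel]; exact one_mem _
  · rw [e, mul_inv_cancel_right]
    exact mem_zpowers z

/-- `[X, Q] ≤ ⟨z⟩` -/
theorem comm_XQ {q x : G} (hq : q ∈ o2 P2) (hx : x ∈ cl R P2) : q * x * q⁻¹ * x⁻¹ ∈ zpowers z := by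
  have hX : cl R P2 ≤ normalizer (zpowers z : Set G) := (h.X_le_S.trans h.S_le).trans h.P2_zpowers
  have h1 : cl R P2 ≤ cmod (cl R P2) (o2 P2) (zpowers z) hX := by
    refine cl_le fun p hp => ?_
    have h2 : R ≤ cmod (cl R P2) (o2 P2) (zpowers z) hX := fun r hr =>
      ⟨h.R_le_X hr, fun q hq => h.comm_RS (h.Q_le hq) hr⟩
    have h3 := cj_mono p h2
    rwa [cj_of_le (norm_cmod h.X_norm (le_normalizer_o2 P2) h.P2_zpowers) hp] at h3
  exact (h1 hx).2 q hq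

/-- `Q ≰ C(R)` -/
theorem not_Q_R : ¬ o2 P2 ≤ centralizer (R : Set G) := by
  intro h0
  have h1 : R ≤ zc (o2 P2) := fun r hr => ChoiceBase.mem_zc.2 ⟨h.X_le_Q (h.R_le_X hr), h.X_sq r (h.R_le_X hr),
    fun y hy => (mem_centralizer_iff.1 (h0 hy) r hr).symm⟩
  exact h.E_cent_R (cent_symm (h1.trans h.ff))

theorem not_Q_V : ¬ o2 P2 ≤ centralizer (zl (S : Subgroup G) P : Set G) := fun h0 =>
  h.not_Q_R (h0.trans (centralizer_le h.R_le_V))

/-! ### The level -/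

theorem P_norm : P ≤ normalizer (K : Set G) := h.lev.le_norm_of_o2 h.KL h.L_le

theorem P2_norm : P2 ≤ normalizer (K : Set G) := h.lev.le_norm_of_o2 h.KQ h.Q_le

theorem P_zc : P ≤ normalizer (zc K : Set G) := h.P_norm.trans (Level.normalizer_le_zc K)

theorem P2_zc : P2 ≤ normalizer (zc K : Set G) := h.P2_norm.trans (Level.normalizer_le_zc K)

theorem V_le_zc : zl (S : Subgroup G) P ≤ zc K := by
  rw [← h.soc]
  exact h.lev.zc_o2_le h.KL h.L_le

theorem U_le_zc : cl (zl (S : Subgroup G) P) P2 ≤ zc K := cl_le fun p hp => by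
  have h1 := cj_mono p h.V_le_zc
  rwa [cj_of_le h.P2_zc hp] at h1

theorem zcK_sq : ∀ x ∈ zc K, x ^ 2 = 1 := fun _ hx => (ChoiceBase.mem_zc.1 hx).2.1

theorem zcK_comm : zc K ≤ centralizer (zc K : Set G) := fun _ hx =>
  mem_centralizer_iff.2 fun _ hy => Lev.zc_comm hy hx

theorem zcK_le_S : zc K ≤ (S : Subgroup G) := (zc_le K).trans h.lev.le

omit h in
/-- a best offender offends on `W ≤ Ω₁(Z(K))` -/
theorem BO_le {A W : Subgroup G} (hA : A ∈ BO (S : Subgroup G) K) (hW : W ≤ zc K) :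
    (centralizer (A : Set G)).relIndex W ≤ (centralizer (W : Set G)).relIndex A := by
  by_cases hne : A ≤ centralizer (W : Set G)
  · rw [relIndex_eq_one.2 hne]
    exact le_of_eq (relIndex_eq_one.2 (cent_symm hne))
  · exact FFThm.relIndex_le_iff.1 (hA.2.offM hW hne).le

/-- the conjugates of `A ∈ BO(S, K)`, `A ≤ Q` -/
theorem BO_cj {A : Subgroup G} (hA : A ∈ BO (S : Subgroup G) K) (hAQ : A ≤ o2 P2) {p : G} (hp : p ∈ P2) :
    cj p A ∈ BO (S : Subgroup G) K ∧ cj p A ≤ o2 P2 := by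
  have h1 := cj_mono p hAQ
  rw [cj_of_le (le_normalizer_o2 P2) hp] at h1
  exact ⟨Level.BO.conj hA (h.P2_norm hp) (h1.trans h.Q_le), h1⟩

/-- the conjugates of `A ∈ BO(S, K)`, `A ≤ L` -/
theorem BO_cjP {A : Subgroup G} (hA : A ∈ BO (S : Subgroup G) K) (hAL : A ≤ o2 P) {p : G} (hp : p ∈ P) :
    cj p A ∈ BO (S : Subgroup G) K ∧ cj p A ≤ o2 P := by
  have h1 := cj_mono p hAL
  rw [cj_of_le (le_normalizer_o2 P) hp] at h1
  exact ⟨Level.BO.conj hA (h.P_norm hp) (h1.trans h.L_le), h1⟩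

theorem BO_R {A : Subgroup G} (hA : A ∈ BO (S : Subgroup G) K) : A ≤ centralizer (R : Set G) :=
  (Level.BO.le_nxt hA).trans h.cR

/-- `A ∈ BO(S, K)`, `A ≤ Q` ⟹ `[X, A] = 1` -/
theorem BO_cent {A : Subgroup G} (hA : A ∈ BO (S : Subgroup G) K) (hAQ : A ≤ o2 P2) :
    A ≤ centralizer (cl R P2 : Set G) := by
  apply cent_symm
  refine cl_le fun p hp => ?_
  have h1 := cent_symm (h.BO_R (h.BO_cj hA hAQ (inv_mem hp)).1)
  have h2 := cj_cent (g := p) h1
  rwa [cj_cj_inv] at h2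

/-- `C_S(X) ≤ Q` -/
theorem inf_cent_X : (S : Subgroup G) ⊓ centralizer (cl R P2 : Set G) ≤ o2 P2 := by
  rcases h.min_or (N := P2 ⊓ centralizer (cl R P2 : Set G)) inf_le_left (le_normalizer_inf_cent h.X_norm) with h1 | h1
  · exact absurd ((h1.trans inf_le_right).trans (centralizer_le h.R_le_X)) h.E_cent_R
  · exact (le_inf inf_le_left (inf_le_inf_right _ h.S_le)).trans h1

theorem inf_cent_U : (S : Subgroup G) ⊓ centralizer (cl (zl (S : Subgroup G) P) P2 : Set G) ≤ o2 P2 :=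
  (inf_le_inf_left _ (centralizer_le h.X_le_U)).trans h.inf_cent_X

theorem inf_cent_zc : (S : Subgroup G) ⊓ centralizer (zc K : Set G) ≤ o2 P2 :=
  (inf_le_inf_left _ (centralizer_le h.U_le_zc)).trans h.inf_cent_U

theorem exists_BO_not_Q : ∃ A ∈ BO (S : Subgroup G) K, ¬ A ≤ o2 P2 := by
  by_contra hcon
  push Not at hcon
  exact h.nQ (sup_le h.inf_cent_zc (sSup_le hcon))

theorem mem_L_iff {x : G} (hx : x ∈ (S : Subgroup G)) : x ∈ o2 P ↔ x ∈ centralizer (zl (S : Subgroup G) P : Set G) := by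
  rw [← h.hyp.inf_centralizer]
  exact ⟨fun h1 => h1.2, fun h1 => ⟨hx, h1⟩⟩

theorem inf_cent_zc_L : (S : Subgroup G) ⊓ centralizer (zc K : Set G) ≤ o2 P := fun _ hx =>
  (h.mem_L_iff hx.1).2 (centralizer_le h.V_le_zc hx.2)

/-- squares and commutators of `A` lie in `C_S(Ω₁(Z(K)))` -/
theorem BO_sq {A : Subgroup G} (hA : A ∈ BO (S : Subgroup G) K) {a : G} (ha : a ∈ A) :
    a ^ 2 ∈ (S : Subgroup G) ⊓ centralizer (zc K : Set G) :=
  ⟨pow_mem (hA.1 ha) 2, hA.2.sq a ha⟩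

theorem BO_comm {A : Subgroup G} (hA : A ∈ BO (S : Subgroup G) K) {a b : G} (ha : a ∈ A) (hb : b ∈ A) :
    a * b * a⁻¹ * b⁻¹ ∈ (S : Subgroup G) ⊓ centralizer (zc K : Set G) :=
  ⟨(S : Subgroup G).mul_mem ((S : Subgroup G).mul_mem ((S : Subgroup G).mul_mem (hA.1 ha) (hA.1 hb))
    ((S : Subgroup G).inv_mem (hA.1 ha))) ((S : Subgroup G).inv_mem (hA.1 hb)), hA.2.comm a ha b hb⟩

/-- the root groups -/
theorem root {A : Subgroup G} (hA : A ∈ BO (S : Subgroup G) K) (hAL : ¬ A ≤ o2 P) :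
    zl (S : Subgroup G) P ⊓ centralizer (A : Set G) = R ∧
      (centralizer (zl (S : Subgroup G) P : Set G)).relIndex A = 4 ∧
      (centralizer (A : Set G)).relIndex (zl (S : Subgroup G) P) = 4 := by
  obtain ⟨b, hb, hbL⟩ := SetLike.not_le_iff_exists.1 hAL
  have hbS := hA.1 hb
  have hbV : b ∉ centralizer (zl (S : Subgroup G) P : Set G) := fun h0 => hbL ((h.mem_L_iff hbS).2 h0)
  have h1 := h.fix4 b hbS hbV
  have h2 : R ≤ zl (S : Subgroup G) P ⊓ centralizer (A : Set G) := le_inf h.R_le_V (cent_symm (h.BO_R hA))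
  have h3 : zl (S : Subgroup G) P ⊓ centralizer (A : Set G) ≤ zl (S : Subgroup G) P ⊓ centralizer ({b} : Set G) :=
    inf_le_inf_left _ (centralizer_le (Set.singleton_subset_iff.2 hb))
  have h4 : Nat.card ↥(zl (S : Subgroup G) P ⊓ centralizer (A : Set G)) ≤ 4 := (Subgroup.card_le_of_le h3).trans h1
  have h5 : R = zl (S : Subgroup G) P ⊓ centralizer (A : Set G) := eq_of_le_of_card_ge h2 (by rw [h.mod.cardR]; exact h4)
  have h6 := relIndex_mul_card (zl (S : Subgroup G) P) (centralizer (A : Set G))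
  rw [← h5, h.mod.cardR, h.mod.card] at h6
  have h7 : (centralizer (A : Set G)).relIndex (zl (S : Subgroup G) P) = 4 := by omega
  have h8 := BO_le hA h.V_le_zc
  have h9 := h.mod.ind A hA.1 ⟨fun a ha => centralizer_le h.V_le_zc (h.BO_sq hA ha).2,
    fun a ha b hb => centralizer_le h.V_le_zc (h.BO_comm hA ha hb).2⟩
  exact ⟨h5.symm, by omega, h7⟩

end Lv4

end Cfsg.Agent.Omega.NO3S.Fld

end

section


/-!
# Fld, `q = 4`, at a level: sections (2) and (3) (helper240 #15515, helper705 #15839, helper781 #16560)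

`𝒳 = Ω₁(Z(K))`, `hR : Ω₁(Z(nxt S K)) = R` (the level `j = i`), `Y = C_𝒳(⟨A ∈ BO | A ≤ L⟩)`.

* `Lv4.inf_o2`, `fix_eq` : `A ∩ L ∈ BO`, `C_𝒳(A ∩ L) = V C_𝒳(A)` for `A ≰ L`;
* `comm_YJ` : `[Y, nxt S K] ≤ R`;
* `X_eq_of`, `index_of_V3` (no offenders);
* `Lv4.two` : `V₃ ≤ X` ⟹ `|S : Q| = 2`.
-/

set_option autoImplicit false
set_option linter.unusedSectionVars false

namespace Cfsg.Agent.Omega.NO3S.Fld

open Subgroup Cfsg Cfsg.Agent.ZN Cfsg.Agent.ZN.ChoiceBase Cfsg.Agent.Omega.MinPar Cfsg.Agent.Omega.FrameNOFF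
open Cfsg.Agent.ZN.ChoiceSit (Syl syl_iff syl_not_dvd o2_le_syl isPGroup_o2)
open Cfsg.Agent.MinSimple.MinParabolic (IsMinPar)
open Cfsg.Agent.MinSimple.VModule (oddGen oddGen_le mem_oddGen le_normalizer_oddGen le_normalizer_o2 o2_le
  zc_le zc_le_zl le_normalizer_zl zc_sq zc_comm le_centralizer_zc)
open Cfsg.Agent.Omega.NO3b.EZero (cl cj_le_cl le_cl cl_le cj_cl le_normalizer_cl cent_symm cj_cent cj_norm
  sq_of_comm oddGen_sup_syl mem_cj_self relIndex_cj le_normalizer_inf_cent)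
open Cfsg.Agent.Omega.NO3b.K0 (conj_mem' cj_of_le cj_self)
open Cfsg.Agent.Omega.NO3S.NotFF (le_normalizer_of_forall normalizer_inf normalizer_sup normalizer_centralizer
  normalizer_commutator)
open Cfsg.Agent.Omega.SQ1.Bau (elem_comm elem_sq card_sup_comm mem_sup_comm)
open Cfsg.Agent.Omega.NO1.BestOff (Best)
open Cfsg.Agent.Omega.NO3S.Level (Lev BO nxt)
open scoped commutatorElement

universe u

section defs

variable {G : Type u} [Group G]

/-- the subgroup generated by the best offenders in `L` -/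
def jL (S L K : Subgroup G) : Subgroup G := sSup {A | A ∈ BO S K ∧ A ≤ L}

/-- `Y = C_𝒳(⟨A ∈ BO | A ≤ L⟩)` -/
def yL (S L K : Subgroup G) : Subgroup G := zc K ⊓ centralizer (jL S L K : Set G)

theorem le_jL {S L K A : Subgroup G} (hA : A ∈ BO S K) (hAL : A ≤ L) : A ≤ jL S L K := le_sSup ⟨hA, hAL⟩

end defs

namespace Lv4

variable {G : Type u} [Group G] [Finite G] {S : Sylow 2 G} {P P2 R V3 K : Subgroup G} {z : G}
  (h : Lv4 S P P2 R V3 K z)
include h

/-! ### `Y = C_𝒳(⟨A ∈ BO | A ≤ L⟩)` -/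

theorem V_le_L : zl (S : Subgroup G) P ≤ o2 P := by
  rw [← h.soc]; exact zc_le _

theorem S_L : (S : Subgroup G) ≤ normalizer (o2 P : Set G) := h.hyp.star.isLoc.le.trans (le_normalizer_o2 P)

theorem jL_le : jL (S : Subgroup G) (o2 P) K ≤ o2 P := sSup_le fun _ hA => hA.2

theorem P_jL : P ≤ normalizer (jL (S : Subgroup G) (o2 P) K : Set G) := by
  intro p hp
  apply mem_normalizer_of_cj_le
  show Subgroup.map _ _ ≤ _
  rw [jL, sSup_eq_iSup, Subgroup.map_iSup]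
  refine iSup_le fun A => ?_
  rw [Subgroup.map_iSup]
  refine iSup_le fun hA => ?_
  obtain ⟨h1, h2⟩ := h.BO_cjP hA.1 hA.2 hp
  exact le_iSup₂_of_le (cj p A) ⟨h1, h2⟩ le_rfl

theorem P_Y : P ≤ normalizer (yL (S : Subgroup G) (o2 P) K : Set G) :=
  normalizer_inf h.P_zc (normalizer_centralizer h.P_jL)

theorem S_Y : (S : Subgroup G) ≤ normalizer (yL (S : Subgroup G) (o2 P) K : Set G) :=
  h.hyp.star.isLoc.le.trans h.P_Y

theorem V_le_Y : zl (S : Subgroup G) P ≤ yL (S : Subgroup G) (o2 P) K :=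
  le_inf h.V_le_zc (cent_symm fun _ hx => (h.mem_L_iff (h.L_le (h.jL_le hx))).1 (h.jL_le hx))

theorem Y_le_S : yL (S : Subgroup G) (o2 P) K ≤ (S : Subgroup G) := inf_le_left.trans h.zcK_le_S

theorem inf_L_eq {A : Subgroup G} (hA : A ≤ (S : Subgroup G)) :
    A ⊓ centralizer (zl (S : Subgroup G) P : Set G) = A ⊓ o2 P := by
  apply le_antisymm
  · exact fun a ha => ⟨ha.1, (h.mem_L_iff (hA ha.1)).2 ha.2⟩
  · exact fun a ha => ⟨ha.1, (h.mem_L_iff (hA ha.1)).1 ha.2⟩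

/-- the count -/
theorem count {A : Subgroup G} (hA : A ∈ BO (S : Subgroup G) K) (hAL : ¬ A ≤ o2 P) :
    Nat.card A = 4 * Nat.card ↥(A ⊓ o2 P) ∧
    Nat.card ↥(A ⊓ o2 P) * Nat.card ↥(zc K ⊓ centralizer ((A ⊓ o2 P : Subgroup G) : Set G)) =
      Nat.card A * Nat.card ↥(zc K ⊓ centralizer (A : Set G)) ∧
    zc K ⊓ centralizer ((A ⊓ o2 P : Subgroup G) : Set G) =
      zl (S : Subgroup G) P ⊔ (zc K ⊓ centralizer (A : Set G)) := by
  obtain ⟨r1, r2, -⟩ := h.root hA hAL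
  have h1 := relIndex_mul_card A (centralizer (zl (S : Subgroup G) P : Set G))
  rw [r2, h.inf_L_eq hA.1] at h1
  have hcom : ∀ a ∈ zl (S : Subgroup G) P, ∀ b ∈ zc K ⊓ centralizer (A : Set G), a * b = b * a := fun a ha b hb =>
    Lev.zc_comm (h.V_le_zc ha) hb.1
  have h2 := card_sup_comm hcom
  have h3 : zl (S : Subgroup G) P ⊓ (zc K ⊓ centralizer (A : Set G)) = R := by
    rw [← inf_assoc, inf_eq_left.2 h.V_le_zc, r1]
  rw [h3, h.mod.cardR, h.mod.card] at h2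
  have h4 : zl (S : Subgroup G) P ⊔ (zc K ⊓ centralizer (A : Set G)) ≤
      zc K ⊓ centralizer ((A ⊓ o2 P : Subgroup G) : Set G) := by
    refine sup_le (le_inf h.V_le_zc (cent_symm fun x hx => (h.mem_L_iff (hA.1 hx.1)).1 hx.2)) ?_
    exact le_inf inf_le_left (inf_le_right.trans (centralizer_le inf_le_left))
  have h5 := hA.2.max (A ⊓ o2 P) inf_le_left
    (le_inf inf_le_left ((inf_le_inf_right _ hA.1).trans h.inf_cent_zc_L))
  have h6 := Subgroup.card_le_of_le h4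
  have hp : 0 < Nat.card ↥(A ⊓ o2 P) := Nat.card_pos
  have h7 : Nat.card ↥(zc K ⊓ centralizer ((A ⊓ o2 P : Subgroup G) : Set G)) ≤
      4 * Nat.card ↥(zc K ⊓ centralizer (A : Set G)) := by
    rw [← h1] at h5
    have h8 : Nat.card ↥(A ⊓ o2 P) * Nat.card ↥(zc K ⊓ centralizer ((A ⊓ o2 P : Subgroup G) : Set G)) ≤
        Nat.card ↥(A ⊓ o2 P) * (4 * Nat.card ↥(zc K ⊓ centralizer (A : Set G))) := by
      refine h5.trans (le_of_eq ?_)
      ring
    exact Nat.le_of_mul_le_mul_left h8 hp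
  have h8 : Nat.card ↥(zl (S : Subgroup G) P ⊔ (zc K ⊓ centralizer (A : Set G))) =
      4 * Nat.card ↥(zc K ⊓ centralizer (A : Set G)) := by omega
  have h9 := (Subgroup.eq_of_le_of_card_ge h4 (by rw [h8]; exact h7)).symm
  refine ⟨h1.symm, ?_, h9⟩
  rw [h9, h8, ← h1]
  ring

/-- `C_𝒳(A ∩ L) = V C_𝒳(A)` -/
theorem fix_eq {A : Subgroup G} (hA : A ∈ BO (S : Subgroup G) K) (hAL : ¬ A ≤ o2 P) :
    zc K ⊓ centralizer ((A ⊓ o2 P : Subgroup G) : Set G) =
      zl (S : Subgroup G) P ⊔ (zc K ⊓ centralizer (A : Set G)) := (h.count hA hAL).2.2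

/-- `A ∩ L` is a best offender -/
theorem inf_o2 {A : Subgroup G} (hA : A ∈ BO (S : Subgroup G) K) (hAL : ¬ A ≤ o2 P) :
    A ⊓ o2 P ∈ BO (S : Subgroup G) K := by
  refine ⟨inf_le_left.trans hA.1, { toElemM := NO1.BestOff.ElemM.mono hA.2.toElemM inf_le_left, max := ?_ }⟩
  intro B hB hcB
  rw [(h.count hA hAL).2.1]
  refine hA.2.max B (hB.trans inf_le_left) (le_trans ?_ hcB)
  exact le_inf (le_inf inf_le_left ((inf_le_inf_right _ hA.1).trans h.inf_cent_zc_L)) inf_le_right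

theorem inf_L_le {A : Subgroup G} (hA : A ∈ BO (S : Subgroup G) K) : A ⊓ o2 P ≤ jL (S : Subgroup G) (o2 P) K := by
  by_cases hAL : A ≤ o2 P
  · exact inf_le_left.trans (le_jL hA hAL)
  · exact le_jL (h.inf_o2 hA hAL) inf_le_right

/-- `Y = V C_Y(A)` for `A ≰ L` -/
theorem Y_eq {A : Subgroup G} (hA : A ∈ BO (S : Subgroup G) K) (hAL : ¬ A ≤ o2 P) {y : G}
    (hy : y ∈ yL (S : Subgroup G) (o2 P) K) :
    ∃ v ∈ zl (S : Subgroup G) P, ∃ c ∈ zc K ⊓ centralizer (A : Set G), y = v * c := by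
  have h1 : y ∈ zc K ⊓ centralizer ((A ⊓ o2 P : Subgroup G) : Set G) :=
    ⟨hy.1, centralizer_le (h.inf_L_le hA) hy.2⟩
  rw [h.fix_eq hA hAL] at h1
  have hcom : ∀ a ∈ zl (S : Subgroup G) P, ∀ b ∈ zc K ⊓ centralizer (A : Set G), a * b = b * a := fun a ha b hb =>
    Lev.zc_comm (h.V_le_zc ha) hb.1
  exact mem_sup_comm hcom h1

/-- `[Y, nxt S K] ≤ R` -/
theorem comm_YJ {g y : G} (hg : g ∈ nxt (S : Subgroup G) K) (hy : y ∈ yL (S : Subgroup G) (o2 P) K) :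
    g * y * g⁻¹ * y⁻¹ ∈ R := by
  have key : nxt (S : Subgroup G) K ≤ kmod (S : Subgroup G) (yL (S : Subgroup G) (o2 P) K) R h.S_Y h.mod.S_R := by
    refine sup_le ?_ (sSup_le fun A hA => ?_)
    · intro a ha
      refine ⟨ha.1, fun y hy => ?_⟩
      have h1 := mem_centralizer_iff.1 ha.2 y hy.1
      rw [← h1, mul_inv_cancel_right, mul_inv_cancel]
      exact one_mem _
    · intro a ha
      refine ⟨hA.1 ha, fun y hy => ?_⟩
      by_cases hAL : A ≤ o2 P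
      · have h1 := mem_centralizer_iff.1 hy.2 a (le_jL hA hAL ha)
        rw [h1, mul_inv_cancel_right, mul_inv_cancel]
        exact one_mem _
      · obtain ⟨v, hv, c, hc, rfl⟩ := h.Y_eq hA hAL hy
        have h1 := mem_centralizer_iff.1 hc.2 a ha
        have h2 := h.mod.centR a (hA.1 ha) (h.BO_R hA ha) v hv
        have e : a * (v * c) * a⁻¹ * (v * c)⁻¹ = a * v * (c * a * a⁻¹ * c⁻¹) * a⁻¹ * v⁻¹ := by
          have e1 : c * a * a⁻¹ * c⁻¹ = 1 := by group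
          rw [e1]
          have e2 : a * (v * c) * a⁻¹ * (v * c)⁻¹ = a * v * (c * a⁻¹ * c⁻¹) * v⁻¹ := by group
          have e3 : c * a⁻¹ * c⁻¹ = a⁻¹ := by
            have h3 : c * a⁻¹ = a⁻¹ * c := by
              rw [eq_inv_mul_iff_mul_eq, ← mul_assoc, h1, mul_inv_cancel_right]
            rw [h3, mul_inv_cancel_right]
          rw [e2, e3, mul_one]
        rw [e]
        have e1 : a * v * (c * a * a⁻¹ * c⁻¹) * a⁻¹ * v⁻¹ = a * v * a⁻¹ * v⁻¹ := by group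
        rw [e1]
        exact h2
  exact (key hg).2 y hy

/-- all members in `L` are in `Q`, all members in `Q` are in `L` ⟹ `P₂` normalises `Y` -/
theorem P2_Y (h1 : ∀ A ∈ BO (S : Subgroup G) K, A ≤ o2 P → A ≤ o2 P2)
    (h2 : ∀ A ∈ BO (S : Subgroup G) K, A ≤ o2 P2 → A ≤ o2 P) :
    P2 ≤ normalizer (yL (S : Subgroup G) (o2 P) K : Set G) := by
  have hj : P2 ≤ normalizer (jL (S : Subgroup G) (o2 P) K : Set G) := by
    intro p hp
    apply mem_normalizer_of_cj_le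
    show Subgroup.map _ _ ≤ _
    rw [jL, sSup_eq_iSup, Subgroup.map_iSup]
    refine iSup_le fun A => ?_
    rw [Subgroup.map_iSup]
    refine iSup_le fun hA => ?_
    obtain ⟨h3, h4⟩ := h.BO_cj hA.1 (h1 A hA.1 hA.2) hp
    exact le_iSup₂_of_le (cj p A) ⟨h3, h2 _ h3 h4⟩ le_rfl
  exact normalizer_inf h.P2_zc (normalizer_centralizer hj)

theorem U_le_Y (h1 : ∀ A ∈ BO (S : Subgroup G) K, A ≤ o2 P → A ≤ o2 P2)
    (h2 : ∀ A ∈ BO (S : Subgroup G) K, A ≤ o2 P2 → A ≤ o2 P) :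
    cl (zl (S : Subgroup G) P) P2 ≤ yL (S : Subgroup G) (o2 P) K := cl_le fun p hp => by
  have h3 := cj_mono p h.V_le_Y
  rwa [cj_of_le (h.P2_Y h1 h2) hp] at h3

theorem kmod_UX_norm : P2 ≤ normalizer (kmod P2 (cl (zl (S : Subgroup G) P) P2) (cl R P2) h.U_norm h.X_norm : Set G) :=
  norm_kmod h.U_norm h.X_norm

/-- `BO ∩ L = BO ∩ Q` ⟹ `[U, E] ≤ X` -/
theorem UE_of_jj (h1 : ∀ A ∈ BO (S : Subgroup G) K, A ≤ o2 P → A ≤ o2 P2)
    (h1' : ∀ A ∈ BO (S : Subgroup G) K, A ≤ o2 P2 → A ≤ o2 P) :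
    oddGen P2 ≤ kmod P2 (cl (zl (S : Subgroup G) P) P2) (cl R P2) h.U_norm h.X_norm := by
  rcases h.min_or (kmod_le (h1 := h.U_norm) (h2 := h.X_norm)) h.kmod_UX_norm with h2 | h2
  · exact h2
  · exfalso
    apply h.nQ
    refine le_trans (fun g hg => ?_) h2
    refine ⟨Level.nxt_le _ _ hg, h.S_le (Level.nxt_le _ _ hg), fun u hu => ?_⟩
    exact h.R_le_X (h.comm_YJ hg (h.U_le_Y h1 h1' hu))

/-- some best offender is not contained in `L` -/
theorem exists_BO_not_L (hR : zc (nxt (S : Subgroup G) K) = R) : ∃ A ∈ BO (S : Subgroup G) K, ¬ A ≤ o2 P := by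
  by_contra hcon
  push Not at hcon
  have h1 : nxt (S : Subgroup G) K ≤ o2 P := sup_le h.inf_cent_zc_L (sSup_le hcon)
  have h2 := h.lev.next.zc_le_zc h1 h.L_le
  rw [h.soc, hR] at h2
  have h3 := Subgroup.card_le_of_le h2
  rw [h.mod.card, h.mod.cardR] at h3
  omega

/-! ### The case `V₃ ≤ X` -/

/-- `[V, S] ≤ V₃` -/
theorem comm_VS {s v : G} (hs : s ∈ (S : Subgroup G)) (hv : v ∈ zl (S : Subgroup G) P) :
    s * v * s⁻¹ * v⁻¹ ∈ V3 := by
  have hidx : (V3.subgroupOf (zl (S : Subgroup G) P)).index = 2 := by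
    have h1 := relIndex_mul_card (zl (S : Subgroup G) P) V3
    rw [inf_eq_right.2 h.mod.V3_le, h.mod.cardV3, h.mod.card] at h1
    change V3.relIndex (zl (S : Subgroup G) P) = 2
    omega
  have hsv : s * v * s⁻¹ ∈ zl (S : Subgroup G) P := conj_mem' h.mod.S_V hs hv
  have h2 := Subgroup.mul_mem_iff_of_index_two hidx (a := ⟨s * v * s⁻¹, hsv⟩) (b := ⟨v⁻¹, inv_mem hv⟩)
  rw [mem_subgroupOf, mem_subgroupOf, mem_subgroupOf] at h2
  refine h2.2 ?_
  change s * v * s⁻¹ ∈ V3 ↔ v⁻¹ ∈ V3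
  rw [inv_mem_iff]
  constructor
  · intro h3
    have h4 := conj_mem' h.mod.S_V3 (inv_mem hs) h3
    have e : s⁻¹ * (s * v * s⁻¹) * s⁻¹⁻¹ = v := by group
    rwa [e] at h4
  · exact fun h3 => conj_mem' h.mod.S_V3 hs h3

/-- `[V₃, S] ≤ R` -/
theorem comm_V3S {s v : G} (hs : s ∈ (S : Subgroup G)) (hv : v ∈ V3) : s * v * s⁻¹ * v⁻¹ ∈ R := by
  have hidx : (R.subgroupOf V3).index = 2 := by
    have h1 := relIndex_mul_card V3 R
    rw [inf_eq_right.2 h.mod.R_le, h.mod.cardV3, h.mod.cardR] at h1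
    change R.relIndex V3 = 2
    omega
  have hsv : s * v * s⁻¹ ∈ V3 := conj_mem' h.mod.S_V3 hs hv
  have h2 := Subgroup.mul_mem_iff_of_index_two hidx (a := ⟨s * v * s⁻¹, hsv⟩) (b := ⟨v⁻¹, inv_mem hv⟩)
  rw [mem_subgroupOf, mem_subgroupOf, mem_subgroupOf] at h2
  refine h2.2 ?_
  change s * v * s⁻¹ ∈ R ↔ v⁻¹ ∈ R
  rw [inv_mem_iff]
  constructor
  · intro h3
    have h4 := conj_mem' h.mod.S_R (inv_mem hs) h3
    have e : s⁻¹ * (s * v * s⁻¹) * s⁻¹⁻¹ = v := by group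
    rwa [e] at h4
  · exact fun h3 => conj_mem' h.mod.S_R hs h3

theorem exists_f : ∃ f ∈ V3, f ∉ R := by
  by_contra hcon
  push Not at hcon
  have h1 := Subgroup.card_le_of_le (show V3 ≤ R from hcon)
  rw [h.mod.cardV3, h.mod.cardR] at h1
  omega

/-- `V₃ = R ∪ f R` -/
theorem V3_cases {f v : G} (hf : f ∈ V3) (hfR : f ∉ R) (hv : v ∈ V3) : v ∈ R ∨ ∃ r ∈ R, v = f * r := by
  by_cases hvR : v ∈ R
  · exact Or.inl hvR
  right
  have hidx : (R.subgroupOf V3).index = 2 := by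
    have h1 := relIndex_mul_card V3 R
    rw [inf_eq_right.2 h.mod.R_le, h.mod.cardV3, h.mod.cardR] at h1
    change R.relIndex V3 = 2
    omega
  have h2 := Subgroup.mul_mem_iff_of_index_two hidx (a := ⟨f⁻¹, inv_mem hf⟩) (b := ⟨v, hv⟩)
  rw [mem_subgroupOf, mem_subgroupOf, mem_subgroupOf] at h2
  have h3 : f⁻¹ * v ∈ R := h2.2 (by
    change f⁻¹ ∈ R ↔ v ∈ R
    rw [inv_mem_iff]
    exact ⟨fun h4 => absurd h4 hfR, fun h4 => absurd h4 hvR⟩)
  exact ⟨_, h3, by group⟩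

section three

variable (hX : V3 ≤ cl R P2)
include hX

theorem not_V_X : ¬ zl (S : Subgroup G) P ≤ cl R P2 := by
  intro h0
  apply h.not_Q_V
  intro q hq
  exact h.mod.small q (h.Q_le hq) fun v hv => h.comm_XQ hq (h0 hv)

theorem cent_V_of_X {q : G} (hq : q ∈ (S : Subgroup G)) (hqX : q ∈ centralizer (cl R P2 : Set G)) :
    q ∈ centralizer (zl (S : Subgroup G) P : Set G) := h.mod.faith q hq (centralizer_le hX hqX)

/-- `C_Q(X) = C_Q(U)` -/
theorem cent_U_of_X {q : G} (hq : q ∈ o2 P2) (hqX : q ∈ centralizer (cl R P2 : Set G)) :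
    q ∈ centralizer (cl (zl (S : Subgroup G) P) P2 : Set G) := by
  have h1 : o2 P2 ⊓ centralizer (cl R P2 : Set G) ≤ centralizer (zl (S : Subgroup G) P : Set G) :=
    fun x hx => h.cent_V_of_X hX (h.Q_le hx.1) hx.2
  have h2 : P2 ≤ normalizer ((o2 P2 ⊓ centralizer (cl R P2 : Set G) : Subgroup G) : Set G) :=
    normalizer_inf (le_normalizer_o2 P2) (normalizer_centralizer h.X_norm)
  have h3 : cl (zl (S : Subgroup G) P) P2 ≤ centralizer ((o2 P2 ⊓ centralizer (cl R P2 : Set G) : Subgroup G) : Set G) :=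
    cl_le fun p hp => by
      have h4 := cj_cent (g := p) (cent_symm h1)
      rwa [cj_of_le h2 hp] at h4
  exact cent_symm h3 ⟨hq, hqX⟩

/-- `[U, Q] ≤ X` -/
theorem comm_UQ {q u : G} (hq : q ∈ o2 P2) (hu : u ∈ cl (zl (S : Subgroup G) P) P2) :
    q * u * q⁻¹ * u⁻¹ ∈ cl R P2 := by
  have hU : cl (zl (S : Subgroup G) P) P2 ≤ normalizer (cl R P2 : Set G) := (h.U_le_S.trans h.S_le).trans h.X_norm
  have h1 : cl (zl (S : Subgroup G) P) P2 ≤ cmod (cl (zl (S : Subgroup G) P) P2) (o2 P2) (cl R P2) hU := by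
    refine cl_le fun p hp => ?_
    have h2 : zl (S : Subgroup G) P ≤ cmod (cl (zl (S : Subgroup G) P) P2) (o2 P2) (cl R P2) hU := fun v hv =>
      ⟨h.V_le_U hv, fun q hq => hX (h.comm_VS (h.Q_le hq) hv)⟩
    have h3 := cj_mono p h2
    rwa [cj_of_le (norm_cmod h.U_norm (le_normalizer_o2 P2) h.X_norm) hp] at h3
  exact (h1 hu).2 q hq

/-- (i) `[U, E] ≤ X` ⟹ `X = V₃` -/
theorem X_eq_of (hE : oddGen P2 ≤ kmod P2 (cl (zl (S : Subgroup G) P) P2) (cl R P2) h.U_norm h.X_norm) :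
    cl R P2 = V3 := by
  -- `U = V X`
  have hVX : P2 ≤ normalizer ((zl (S : Subgroup G) P ⊔ cl R P2 : Subgroup G) : Set G) := by
    refine h.sup_S.ge.trans (sup_le ?_ (normalizer_sup h.mod.S_V (h.S_le.trans h.X_norm)))
    refine le_normalizer_of_forall fun e he w hw => ?_
    have hwU : w ∈ cl (zl (S : Subgroup G) P) P2 := (sup_le h.V_le_U h.X_le_U) hw
    have h1 := (hE he).2 w hwU
    have h2 := mul_mem (mem_sup_right (S := zl (S : Subgroup G) P) h1) hw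
    rwa [inv_mul_cancel_right] at h2
  have hU : cl (zl (S : Subgroup G) P) P2 ≤ zl (S : Subgroup G) P ⊔ cl R P2 := cl_le fun p hp => by
    have h1 := cj_mono p (le_sup_left (a := zl (S : Subgroup G) P) (b := cl R P2))
    rwa [cj_of_le hVX hp] at h1
  -- `[U, Q] ≤ V₃`
  have hW : ⁅o2 P2, cl (zl (S : Subgroup G) P) P2⁆ ≤ V3 := by
    rw [commutator_le]
    intro q hq u hu
    obtain ⟨v, hv, x, hx, rfl⟩ := mem_sup_comm (fun a ha b hb =>
      mem_centralizer_iff.1 (h.U_comm (h.X_le_U hb)) a (h.V_le_U ha)) (hU hu)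
    have h1 := h.comm_VS (h.Q_le hq) hv
    have h2 := h.zpowers_le_R.trans h.mod.R_le (h.comm_XQ hq hx)
    have h3 : v * (q * x * q⁻¹ * x⁻¹) * v⁻¹ = q * x * q⁻¹ * x⁻¹ := by
      have h4 : q * x * q⁻¹ * x⁻¹ ∈ cl (zl (S : Subgroup G) P) P2 :=
        h.X_le_U (h.R_le_X (h.zpowers_le_R (h.comm_XQ hq hx)))
      rw [mul_inv_eq_iff_eq_mul]
      exact (mem_centralizer_iff.1 (h.U_comm h4) v (h.V_le_U hv))
    have e : ⁅q, v * x⁆ = (q * v * q⁻¹ * v⁻¹) * (v * (q * x * q⁻¹ * x⁻¹) * v⁻¹) := by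
      rw [commutatorElement_def]; group
    rw [e, h3]
    exact mul_mem h1 h2
  set W := ⁅o2 P2, cl (zl (S : Subgroup G) P) P2⁆ with hWdef
  have hWn : P2 ≤ normalizer (W : Set G) := normalizer_commutator (le_normalizer_o2 P2) h.U_norm
  have hWm : ∀ q ∈ o2 P2, ∀ v ∈ zl (S : Subgroup G) P, q * v * q⁻¹ * v⁻¹ ∈ W := fun q hq v hv => by
    have := commutator_mem_commutator hq (h.V_le_U hv)
    rwa [commutatorElement_def] at this
  have hz : ¬ W ≤ zpowers z := by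
    intro h0
    apply h.not_Q_V
    intro q hq
    exact h.mod.small q (h.Q_le hq) fun v hv => h0 (hWm q hq v hv)
  have hW3 : W = V3 := by
    rcases h.mod.uni W (hW.trans h.mod.V3_le) (h.S_le.trans hWn) with h1 | h1 | h1 | h1 | h1
    · exact absurd (h1.le.trans bot_le) hz
    · exact absurd h1.le hz
    · rw [h1] at hWn
      exact absurd hWn h.mv
    · exact h1
    · have h2 := Subgroup.card_le_of_le hW
      rw [h1, h.mod.card, h.mod.cardV3] at h2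
      omega
  rw [hW3] at hWn
  apply le_antisymm _ hX
  exact cl_le fun p hp => by
    have h1 := cj_mono p h.mod.R_le
    rwa [cj_of_le hWn hp] at h1

omit hX in
/-- `P₂` normalises `V₃` ⟹ `|S : Q| = 2` -/
theorem index_of_V3 (hn : P2 ≤ normalizer (V3 : Set G)) : (o2 P2).relIndex (S : Subgroup G) = 2 := by
  have h1 : oddGen P2 ≤ kmod P2 V3 (zpowers z) hn h.P2_zpowers ∨
      (S : Subgroup G) ⊓ kmod P2 V3 (zpowers z) hn h.P2_zpowers ≤ o2 P2 :=
    h.min_or kmod_le (norm_kmod hn h.P2_zpowers)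
  have h2 : (S : Subgroup G) ⊓ kmod P2 V3 (zpowers z) hn h.P2_zpowers ≤ o2 P2 := by
    refine h1.resolve_left fun h0 => h.E_R ?_
    refine le_normalizer_of_forall fun e he r hr => ?_
    have h3 := (h0 he).2 r (h.mod.R_le hr)
    have h4 := mul_mem (h.zpowers_le_R h3) hr
    rwa [inv_mul_cancel_right] at h4
  obtain ⟨f, hf, hfR⟩ := h.exists_f
  have hmem : ∀ s ∈ (S : Subgroup G), s * f * s⁻¹ * f⁻¹ ∈ zpowers z → s ∈ o2 P2 := by
    intro s hs hsf
    refine h2 ⟨hs, h.S_le hs, fun v hv => ?_⟩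
    rcases h.V3_cases hf hfR hv with hv | ⟨r, hr, rfl⟩
    · exact h.comm_RS hs hv
    · have h3 := h.comm_RS hs hr
      have e : s * (f * r) * s⁻¹ * (f * r)⁻¹ = (s * f * s⁻¹ * f⁻¹) * (f * (s * r * s⁻¹ * r⁻¹) * f⁻¹) := by group
      have e2 : f * (s * r * s⁻¹ * r⁻¹) * f⁻¹ = s * r * s⁻¹ * r⁻¹ :=
        h.z_comm_zpowers (h.S_le (h.V_le_S (h.mod.V3_le hf))) h3
      rw [e, e2]
      exact mul_mem hsf h3
  have h3 : (o2 P2).relIndex (S : Subgroup G) ≤ 2 := by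
    refine relIndex_le_two fun s hs t ht hsQ htQ => hmem _ (mul_mem hs ht) ?_
    have hs1 : s * f * s⁻¹ * f⁻¹ ∉ zpowers z := fun h0 => hsQ (hmem s hs h0)
    have ht1 : t * f * t⁻¹ * f⁻¹ ∉ zpowers z := fun h0 => htQ (hmem t ht h0)
    have hsR := h.comm_V3S hs hf
    have htR := h.comm_V3S ht hf
    have e : s * t * f * (s * t)⁻¹ * f⁻¹ = (s * (t * f * t⁻¹ * f⁻¹) * s⁻¹ * (t * f * t⁻¹ * f⁻¹)⁻¹) *
        ((t * f * t⁻¹ * f⁻¹) * (s * f * s⁻¹ * f⁻¹)) := by group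
    rw [e]
    refine mul_mem (h.comm_RS hs htR) ?_
    rw [h.mem_zpowers_iff'] at hs1 ht1
    push Not at hs1 ht1
    have hsq : ∀ v ∈ R, v ^ 2 = 1 := fun v hv => h.mod.sq v (h.R_le_V hv)
    have h5 := h.mod.sq _ (h.R_le_V htR)
    rw [pow_two] at h5
    rcases eq_of_card_four h.mod.cardR hsq h.z_mem_R h.mod.z_ne htR ht1.1 (Ne.symm ht1.2) hsR hs1.1 with e | e | e
    · exact absurd e hs1.2
    · rw [e, h5]; exact one_mem _
    · rw [e]
      have h6 : (t * f * t⁻¹ * f⁻¹) * z = z * (t * f * t⁻¹ * f⁻¹) :=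
        h.z_comm (h.S_le (h.V_le_S (h.R_le_V htR)))
      rw [← mul_assoc, h6, mul_assoc, h5, mul_one]
      exact mem_zpowers z
  have h4 : (o2 P2).relIndex (S : Subgroup G) ≠ 1 := fun h0 => h.not_S_le (relIndex_eq_one.1 h0)
  have h5 : (o2 P2).relIndex (S : Subgroup G) ≠ 0 := FiniteIndex.index_ne_zero (H := (o2 P2).subgroupOf S)
  omega

/-- all members in `L` are in `Q` ⟹ `[U, E] ≤ X` -/
theorem UE_of_le (hJ : ∀ A ∈ BO (S : Subgroup G) K, A ≤ o2 P → A ≤ o2 P2) :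
    oddGen P2 ≤ kmod P2 (cl (zl (S : Subgroup G) P) P2) (cl R P2) h.U_norm h.X_norm := by
  refine h.UE_of_jj hJ fun A hA hAQ a ha => ?_
  exact (h.mem_L_iff (hA.1 ha)).2 (h.cent_V_of_X hX (hA.1 ha) (h.BO_cent hA hAQ ha))

/-- the best offenders are exact offenders on `U / X` -/
theorem soff {A : Subgroup G} (hA : A ∈ BO (S : Subgroup G) K) (hAQ : ¬ A ≤ o2 P2) :
    SOff P2 (cl R P2) (cl (zl (S : Subgroup G) P) P2) A where
  sq a ha := h.inf_cent_zc (h.BO_sq hA ha)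
  comm a ha b hb := h.inf_cent_zc (h.BO_comm hA ha hb)
  ne := hAQ
  ex := by
    set U := cl (zl (S : Subgroup G) P) P2 with hU
    set X := cl R P2 with hXd
    set C := centralizer (A : Set G) with hC
    have hAP : A ≤ P2 := hA.1.trans h.S_le
    refine ⟨X ⊔ U ⊓ C, sup_le h.X_le_U inf_le_left, ?_, ?_⟩
    · rw [commutator_le]
      intro d hd a ha
      have hcom : ∀ a ∈ X, ∀ b ∈ U ⊓ C, a * b = b * a := fun a ha b hb =>
        mem_centralizer_iff.1 (h.U_comm hb.1) a (h.X_le_U ha)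
      obtain ⟨x, hx, u, hu, rfl⟩ := mem_sup_comm hcom hd
      have h1 := mem_centralizer_iff.1 hu.2 a ha
      have e : ⁅x * u, a⁆ = x * (u * a * u⁻¹ * a⁻¹) * (a * x⁻¹ * a⁻¹) := by
        rw [commutatorElement_def]; group
      have e2 : u * a * u⁻¹ * a⁻¹ = 1 := by rw [← h1, mul_inv_cancel_right, mul_inv_cancel]
      rw [e, e2, mul_one]
      exact mul_mem hx (conj_mem' h.X_norm (hAP ha) (inv_mem hx))
    · -- the count
      have h1 : C.relIndex U ≤ (centralizer (U : Set G)).relIndex A := BO_le hA h.U_le_zc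
      have h2 : (centralizer (U : Set G)).relIndex A =
          (centralizer (U : Set G)).relIndex (A ⊓ o2 P2) * (o2 P2).relIndex A := by
        have h3 : A ⊓ centralizer (U : Set G) ≤ A ⊓ o2 P2 := fun a ha =>
          ⟨ha.1, h.inf_cent_U ⟨hA.1 ha.1, ha.2⟩⟩
        have h4 := relIndex_mul_relIndex (A ⊓ centralizer (U : Set G)) (A ⊓ o2 P2) A h3 inf_le_left
        rw [inf_relIndex_left, inf_relIndex_left] at h4
        rw [← h4]
        congr 1
        have h5 : (A ⊓ centralizer (U : Set G)) ⊓ (A ⊓ o2 P2) = (centralizer (U : Set G)) ⊓ (A ⊓ o2 P2) := by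
          apply le_antisymm
          · exact fun a ha => ⟨ha.1.2, ha.2⟩
          · exact fun a ha => ⟨⟨ha.2.1, ha.1⟩, ha.2⟩
        rw [← inf_relIndex_right, ← inf_relIndex_right (centralizer (U : Set G)), h5]
      have h3 : (centralizer (U : Set G)).relIndex (A ⊓ o2 P2) = (centralizer (X : Set G)).relIndex (A ⊓ o2 P2) := by
        rw [← inf_relIndex_right, ← inf_relIndex_right (centralizer (X : Set G))]
        congr 1
        apply le_antisymm
        · exact inf_le_inf_right _ (centralizer_le h.X_le_U)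
        · exact fun a ha => ⟨h.cent_U_of_X hX ha.2.2 ha.1, ha.2⟩
      have h4 : (centralizer (X : Set G)).relIndex (A ⊓ o2 P2) ≤
          (centralizer ((A ⊓ o2 P2 : Subgroup G) : Set G)).relIndex X := by
        refine pair_le h.z_sq (fun x hx => h.z_comm (h.S_le (h.X_le_S hx))) fun b hb x hx => ?_
        exact h.mem_zpowers_iff'.1 (h.comm_XQ hb.2 hx)
      have h5 : (centralizer ((A ⊓ o2 P2 : Subgroup G) : Set G)).relIndex X ≤ C.relIndex X :=
        Nat.le_of_dvd (Nat.pos_of_ne_zero (FiniteIndex.index_ne_zero (H := C.subgroupOf X)))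
          (relIndex_dvd_of_le_left X (centralizer_le inf_le_left))
      have h6 : (U ⊓ C).relIndex (X ⊔ U ⊓ C) * (X ⊔ U ⊓ C).relIndex U = C.relIndex U := by
        rw [relIndex_mul_relIndex _ _ _ le_sup_right (sup_le h.X_le_U inf_le_left), inf_relIndex_left]
      have h7 : C.relIndex X ≤ (U ⊓ C).relIndex (X ⊔ U ⊓ C) := by
        have h8 : (U ⊓ C).relIndex X = C.relIndex X := by
          rw [← inf_relIndex_right, ← inf_relIndex_right C]
          congr 1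
          apply le_antisymm
          · exact fun a ha => ⟨ha.1.2, ha.2⟩
          · exact fun a ha => ⟨⟨h.X_le_U ha.2, ha.1⟩, ha.2⟩
        rw [← h8]
        exact relIndex_le_of_le_right le_sup_left
          (FiniteIndex.index_ne_zero (H := (U ⊓ C).subgroupOf (X ⊔ U ⊓ C)))
      have hpos : 0 < C.relIndex X := Nat.pos_of_ne_zero (FiniteIndex.index_ne_zero (H := C.subgroupOf X))
      have h8 : C.relIndex X * (X ⊔ U ⊓ C).relIndex U ≤ C.relIndex X * (o2 P2).relIndex A := by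
        calc C.relIndex X * (X ⊔ U ⊓ C).relIndex U ≤ (U ⊓ C).relIndex (X ⊔ U ⊓ C) * (X ⊔ U ⊓ C).relIndex U :=
              Nat.mul_le_mul_right _ h7
          _ = C.relIndex U := h6
          _ ≤ (centralizer (U : Set G)).relIndex (A ⊓ o2 P2) * (o2 P2).relIndex A := by rw [← h2]; exact h1
          _ ≤ C.relIndex X * (o2 P2).relIndex A := Nat.mul_le_mul_right _ (by rw [h3]; exact h4.trans h5)
      exact Nat.le_of_mul_le_mul_left h8 hpos

/-- (ii)(a) -/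
theorem UE (hA : FFBr.AStmt.{u}) (hR : zc (nxt (S : Subgroup G) K) = R) :
    oddGen P2 ≤ kmod P2 (cl (zl (S : Subgroup G) P) P2) (cl R P2) h.U_norm h.X_norm := by
  by_cases hJ : ∀ A ∈ BO (S : Subgroup G) K, A ≤ o2 P → A ≤ o2 P2
  · exact h.UE_of_le hX hJ
  by_contra hE
  have hE' : ¬ ⁅cl (zl (S : Subgroup G) P) P2, oddGen P2⁆ ≤ cl R P2 := by
    intro h0
    apply hE
    intro e he
    refine ⟨oddGen_le P2 he, fun u hu => ?_⟩
    have h1 := inv_mem (h0 (commutator_mem_commutator hu he))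
    rwa [commutatorElement_inv, commutatorElement_def] at h1
  push Not at hJ
  obtain ⟨A₁, hA₁, hA₁L, hA₁Q⟩ := hJ
  have key : ∀ A ∈ BO (S : Subgroup G) K, A ≤ o2 P ⊔ o2 P2 := by
    intro A hAA
    by_cases hAQ : A ≤ o2 P2
    · exact hAQ.trans le_sup_right
    exact sec_le hA h.syl h.par.toIsMinPar h.X_le_U h.U_le_P2 h.U_sq h.U_comm h.X_norm h.U_norm hE'
      hA₁L h.L_le h.S_L hAA.1 (h.soff hX hA₁ hA₁Q) (h.soff hX hAA hAQ)
  obtain ⟨A, hAA, hAL⟩ := h.exists_BO_not_L hR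
  obtain ⟨-, r2, -⟩ := h.root hAA hAL
  obtain ⟨f, hf, hfR⟩ := h.exists_f
  have hval : ∀ a ∈ A, a * f * a⁻¹ * f⁻¹ ∈ zpowers z := by
    intro a ha
    obtain ⟨l, hl, q, hq, rfl⟩ := mem_sup_norm (h.Q_le.trans h.S_L) (key A hAA ha)
    have h1 : q * f * q⁻¹ ∈ zl (S : Subgroup G) P := conj_mem' h.mod.S_V (h.Q_le hq) (h.mod.V3_le hf)
    have h2 := mem_centralizer_iff.1 ((h.mem_L_iff (h.L_le hl)).1 hl) _ h1
    have e : l * q * f * (l * q)⁻¹ * f⁻¹ = l * (q * f * q⁻¹) * l⁻¹ * f⁻¹ := by group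
    rw [e, ← h2, mul_inv_cancel_right]
    exact h.comm_XQ hq (hX hf)
  have hc : ∀ a ∈ A, a * f * a⁻¹ * f⁻¹ = 1 → a ∈ centralizer (zl (S : Subgroup G) P : Set G) := by
    intro a ha h0
    refine h.mod.faith a (hAA.1 ha) ?_
    rw [mem_centralizer_iff]
    intro v hv
    rw [mul_inv_eq_one, mul_inv_eq_iff_eq_mul] at h0
    rcases h.V3_cases hf hfR hv with hv | ⟨r, hr, rfl⟩
    · exact mem_centralizer_iff.1 (h.BO_R hAA ha) v hv
    · have h1 := mem_centralizer_iff.1 (h.BO_R hAA ha) r hr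
      rw [mul_assoc, h1, ← mul_assoc, ← h0, mul_assoc]
  have h1 : (centralizer (zl (S : Subgroup G) P : Set G)).relIndex A ≤ 2 := by
    refine relIndex_le_two fun s hs t ht hsV htV => hc _ (mul_mem hs ht) ?_
    have h2 : s * f * s⁻¹ * f⁻¹ = z := ((h.mem_zpowers_iff'.1 (hval s hs)).resolve_left fun h0 => hsV (hc s hs h0))
    have h3 : t * f * t⁻¹ * f⁻¹ = z := ((h.mem_zpowers_iff'.1 (hval t ht)).resolve_left fun h0 => htV (hc t ht h0))
    have e : s * t * f * (s * t)⁻¹ * f⁻¹ = (s * (t * f * t⁻¹ * f⁻¹) * s⁻¹) * (s * f * s⁻¹ * f⁻¹) := by group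
    rw [e, h2, h3, h.z_comm (h.S_le (hAA.1 hs)), mul_inv_cancel_right, h.z_sq]
  omega

/-- **`V₃ ≤ X` ⟹ `X = V₃`** -/
theorem X_eq (hA : FFBr.AStmt.{u}) (hR : zc (nxt (S : Subgroup G) K) = R) : cl R P2 = V3 :=
  h.X_eq_of hX (h.UE hX hA hR)

/-- **`V₃ ≤ X` ⟹ `|S : Q| = 2`** -/
theorem two (hA : FFBr.AStmt.{u}) (hR : zc (nxt (S : Subgroup G) K) = R) :
    (o2 P2).relIndex (S : Subgroup G) = 2 := by
  refine h.index_of_V3 ?_
  rw [← h.X_eq hX hA hR]
  exact h.X_norm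

end three

end Lv4

end Cfsg.Agent.Omega.NO3S.Fld

end

section


/-!
# Fld, `q = 4`, at a level: section (3)

* `Lv4.norm_V` : `Ω₁(Z(nxt S K)) = R`, `|S : Q| = 2`, all members of `BO` in `L` are in `Q` ⟹ `P₂ ≤ N_G(V)`;
* `Lv4.exists_four` : `P₂ ≤ N_G(V)` ⟹ some `P₁ ∈ P*(S)`, `P₁ ≤ P`, with `⟨P₁, C_G(Z)⟩` nonlocal and `|V_{P₁}| = 4`.
-/

set_option autoImplicit false
set_option linter.unusedSectionVars false

namespace Cfsg.Agent.Omega.NO3S.Fld

open Subgroup Cfsg Cfsg.Agent.ZN Cfsg.Agent.ZN.ChoiceBase Cfsg.Agent.Omega.MinPar Cfsg.Agent.Omega.FrameNOFF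
open Cfsg.Agent.ZN.ChoiceSit (Syl syl_iff syl_not_dvd o2_le_syl isPGroup_o2)
open Cfsg.Agent.MinSimple.MinParabolic (IsMinPar)
open Cfsg.Agent.MinSimple.VModule (oddGen oddGen_le mem_oddGen le_normalizer_oddGen le_normalizer_o2 o2_le
  zc_le zc_le_zl le_normalizer_zl zc_sq zc_comm le_centralizer_zc normalizer_le_normalizer_zc)
open Cfsg.Agent.Omega.NO3b.EZero (cl cj_le_cl le_cl cl_le cj_cl le_normalizer_cl cent_symm cj_cent cj_norm
  sq_of_comm oddGen_sup_syl mem_cj_self relIndex_cj le_normalizer_inf_cent)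
open Cfsg.Agent.Omega.NO3b.K0 (conj_mem' cj_of_le cj_self)
open Cfsg.Agent.Omega.NO3S.NotFF (le_normalizer_of_forall normalizer_inf normalizer_sup normalizer_centralizer
  normalizer_commutator)
open Cfsg.Agent.Omega.SQ1.Bau (card_sup_comm mem_sup_comm)
open Cfsg.Agent.Omega.NatPair (ap ap_zero' ap_one' ext2)
open Cfsg.Agent.Lib.SL2Mat
open Cfsg.Agent.Omega.NO3S.Fld.DEight (of_sig_eq exists_ne)
open Cfsg.Agent.Omega.NO3S.Level (Lev BO nxt)
open scoped commutatorElement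

universe u

namespace Lv4

variable {G : Type u} [Group G] [Finite G] {S : Sylow 2 G} {P P2 R V3 K : Subgroup G} {z : G}
  (h : Lv4 S P P2 R V3 K z)
include h

theorem sylP : Syl (S : Subgroup G) P := h.hyp.syl

theorem S_le_P : (S : Subgroup G) ≤ P := h.sylP.1

/-- the dichotomy for normal subgroups of `P` -/
theorem min_orP {N : Subgroup G} (hK : N ≤ P) (hKn : P ≤ normalizer (N : Set G)) :
    oddGen P ≤ N ∨ (S : Subgroup G) ⊓ N ≤ o2 P :=
  Cfsg.Agent.Omega.NO3b.K0.min_or h.sylP h.hyp.star.toIsMinPar hK hKn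

theorem sup_SP : oddGen P ⊔ (S : Subgroup G) = P := oddGen_sup_syl h.sylP

/-- `V = ⟨z^P⟩` -/
theorem V_le_of {C : Subgroup G} (hC : P ≤ normalizer (C : Set G)) (hz : z ∈ C) : zl (S : Subgroup G) P ≤ C := by
  refine iSup_le fun g => ?_
  rw [h.zS]
  have h1 : (zpowers z).map (MulAut.conj (g : G)).toMonoidHom = cj (g : G) (zpowers z) := rfl
  rw [h1]
  have h2 := cj_mono (g : G) (zpowers_le.2 hz)
  rwa [cj_of_le hC g.2] at h2

/-- `S = J⁺ Q` if `|S : Q| = 2` -/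
theorem exists_nxt_mul (h2 : (o2 P2).relIndex (S : Subgroup G) = 2) {s : G} (hs : s ∈ (S : Subgroup G)) :
    ∃ a ∈ nxt (S : Subgroup G) K, ∃ q ∈ o2 P2, s = a * q := by
  by_cases hsQ : s ∈ o2 P2
  · exact ⟨1, one_mem _, s, hsQ, (one_mul s).symm⟩
  obtain ⟨a, ha, haQ⟩ := SetLike.not_le_iff_exists.1 h.nQ
  have haS := Level.nxt_le _ _ ha
  have h3 := Subgroup.mul_mem_iff_of_index_two (H := (o2 P2).subgroupOf (S : Subgroup G)) h2
    (a := ⟨a⁻¹, inv_mem haS⟩) (b := ⟨s, hs⟩)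
  rw [mem_subgroupOf, mem_subgroupOf, mem_subgroupOf] at h3
  have h4 : a⁻¹ * s ∈ o2 P2 := h3.2 (by
    change a⁻¹ ∈ o2 P2 ↔ s ∈ o2 P2
    rw [inv_mem_iff]
    exact ⟨fun h5 => absurd h5 haQ, fun h5 => absurd h5 hsQ⟩)
  exact ⟨a, ha, _, h4, by group⟩

/-- all members in `L` are in `Q` ⟹ `X ≤ Y` -/
theorem X_le_Y (hJ : ∀ A ∈ BO (S : Subgroup G) K, A ≤ o2 P → A ≤ o2 P2) :
    cl R P2 ≤ yL (S : Subgroup G) (o2 P) K := by
  refine le_inf (h.X_le_U.trans h.U_le_zc) (cent_symm ?_)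
  exact sSup_le fun A hA => h.BO_cent hA.1 (hJ A hA.1 hA.2)

/-- `[X, S] ≤ R` -/
theorem comm_XS (h2 : (o2 P2).relIndex (S : Subgroup G) = 2) (hJ : ∀ A ∈ BO (S : Subgroup G) K, A ≤ o2 P → A ≤ o2 P2) {s x : G}
    (hs : s ∈ (S : Subgroup G)) (hx : x ∈ cl R P2) : s * x * s⁻¹ * x⁻¹ ∈ R := by
  obtain ⟨a, ha, q, hq, rfl⟩ := h.exists_nxt_mul h2 hs
  have h3 := h.zpowers_le_R (h.comm_XQ hq hx)
  have h4 := conj_mem' h.mod.S_R (Level.nxt_le _ _ ha) h3
  have h5 := h.comm_YJ ha (h.X_le_Y hJ hx)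
  have e : a * q * x * (a * q)⁻¹ * x⁻¹ = (a * (q * x * q⁻¹ * x⁻¹) * a⁻¹) * (a * x * a⁻¹ * x⁻¹) := by group
  rw [e]
  exact mul_mem h4 h5

/-- `[Y, O²(P)] ≤ V` -/
theorem oddGen_le_kmod (hR : zc (nxt (S : Subgroup G) K) = R) :
    oddGen P ≤ kmod P (yL (S : Subgroup G) (o2 P) K) (zl (S : Subgroup G) P) h.P_Y (le_normalizer_zl _ _) := by
  rcases h.min_orP (kmod_le (h1 := h.P_Y) (h2 := le_normalizer_zl (S : Subgroup G) P))
    (norm_kmod h.P_Y (le_normalizer_zl (S : Subgroup G) P)) with h1 | h1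
  · exact h1
  · exfalso
    obtain ⟨A, hA, hAL⟩ := h.exists_BO_not_L hR
    apply hAL
    refine le_trans (Level.BO.le_nxt hA) (le_trans (fun g hg => ?_) h1)
    refine ⟨Level.nxt_le _ _ hg, h.S_le_P (Level.nxt_le _ _ hg), fun y hy => ?_⟩
    exact h.R_le_V (h.comm_YJ hg hy)

theorem V_cent_L {v l : G} (hv : v ∈ zl (S : Subgroup G) P) (hl : l ∈ o2 P) : v * l = l * v :=
  mem_centralizer_iff.1 ((h.mem_L_iff (h.L_le hl)).1 hl) v hv

/-- `[X, L] = 1` -/
theorem comm_XL (hR : zc (nxt (S : Subgroup G) K) = R) (h2 : (o2 P2).relIndex (S : Subgroup G) = 2) (hJ : ∀ A ∈ BO (S : Subgroup G) K, A ≤ o2 P → A ≤ o2 P2) : ⁅cl R P2, o2 P⁆ = ⊥ := by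
  set C := ⁅cl R P2, o2 P⁆ with hC
  have hCR : C ≤ R := by
    rw [hC, commutator_le]
    intro x hx l hl
    have h1 := inv_mem (h.comm_XS h2 hJ (h.L_le hl) hx)
    have e : (l * x * l⁻¹ * x⁻¹)⁻¹ = ⁅x, l⁆ := by rw [commutatorElement_def]; group
    rwa [e] at h1
  have hCV : C ≤ zl (S : Subgroup G) P := hCR.trans h.R_le_V
  have hSC : (S : Subgroup G) ≤ normalizer (C : Set G) := normalizer_commutator (h.S_le.trans h.X_norm) h.S_L
  have hEC : oddGen P ≤ normalizer (C : Set G) := by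
    refine le_normalizer_of_forall fun e he => ?_
    have heP := oddGen_le P he
    have h3 : C ≤ (C.comap (MulAut.conj e).toMonoidHom) := by
      rw [hC, commutator_le]
      intro x hx l hl
      rw [mem_comap]
      have hk := (h.oddGen_le_kmod hR he).2 x (h.X_le_Y hJ hx)
      have hl' : e * l * e⁻¹ ∈ o2 P := conj_mem' (le_normalizer_o2 P) heP hl
      have h4 : ⁅x, e * l * e⁻¹⁆ ∈ C := commutator_mem_commutator hx hl'
      have h5 : (MulAut.conj e).toMonoidHom ⁅x, l⁆ = ⁅e * x * e⁻¹, e * l * e⁻¹⁆ := by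
        rw [map_commutatorElement]; rfl
      rw [h5]
      set v := e * x * e⁻¹ * x⁻¹ with hv
      have h6 : e * x * e⁻¹ = v * x := by rw [hv]; group
      rw [h6]
      have h7 : ⁅v * x, e * l * e⁻¹⁆ = (v * ⁅x, e * l * e⁻¹⁆ * v⁻¹) * ⁅v, e * l * e⁻¹⁆ := by
        simp only [commutatorElement_def]; group
      have h8 : ⁅v, e * l * e⁻¹⁆ = 1 := by
        rw [commutatorElement_eq_one_iff_mul_comm]
        exact h.V_cent_L hk hl'
      have h9 : v * ⁅x, e * l * e⁻¹⁆ * v⁻¹ = ⁅x, e * l * e⁻¹⁆ := by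
        rw [mul_inv_eq_iff_eq_mul]
        exact (mem_centralizer_iff.1 (h.mod.comm (hCV h4)) v hk)
      rw [h7, h8, h9, mul_one]
      exact h4
    intro c hc
    exact h3 hc
  have hPC : P ≤ normalizer (C : Set G) := h.sup_SP.ge.trans (sup_le hEC hSC)
  have hzC : z ∉ C := by
    intro h0
    have h1 := Subgroup.card_le_of_le ((h.V_le_of hPC h0).trans hCR)
    rw [h.mod.card, h.mod.cardR] at h1
    omega
  rcases h.mod.uni C hCV hSC with h1 | h1 | h1 | h1 | h1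
  · exact h1
  · exact absurd (h1 ▸ mem_zpowers z) hzC
  · exact absurd (h1 ▸ h.z_mem_R) hzC
  · exact absurd (h1 ▸ h.mod.R_le h.z_mem_R) hzC
  · exact absurd (h1 ▸ h.R_le_V h.z_mem_R) hzC

/-- `X ≤ V` -/
theorem X_le_V (hR : zc (nxt (S : Subgroup G) K) = R) (h2 : (o2 P2).relIndex (S : Subgroup G) = 2) (hJ : ∀ A ∈ BO (S : Subgroup G) K, A ≤ o2 P → A ≤ o2 P2) :
    cl R P2 ≤ zl (S : Subgroup G) P := by
  have h1 := h.comm_XL hR h2 hJ
  rw [commutator_eq_bot_iff_le_centralizer] at h1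
  intro x hx
  have hxL : x ∈ o2 P := by
    refine (h.mem_L_iff (h.X_le_S hx)).2 ?_
    rw [mem_centralizer_iff]
    intro v hv
    exact Lev.zc_comm (h.V_le_zc hv) (h.U_le_zc (h.X_le_U hx))
  rw [← h.soc, ChoiceBase.mem_zc]
  exact ⟨hxL, h.X_sq x hx, fun y hy => mem_centralizer_iff.1 (h1 hx) y hy⟩

/-- **`|S : Q| = 2`, `J(L) ≤ Q` ⟹ `P₂ ≤ N_G(V)`** -/
theorem norm_V (hR : zc (nxt (S : Subgroup G) K) = R) (h2 : (o2 P2).relIndex (S : Subgroup G) = 2) (hJ : ∀ A ∈ BO (S : Subgroup G) K, A ≤ o2 P → A ≤ o2 P2) :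
    P2 ≤ normalizer (zl (S : Subgroup G) P : Set G) := by
  have hXV := h.X_le_V hR h2 hJ
  rcases h.mod.uni _ hXV (h.S_le.trans h.X_norm) with h1 | h1 | h1 | h1 | h1
  · exact absurd (h1 ▸ h.R_le_X h.z_mem_R) (by rw [mem_bot]; exact h.mod.z_ne)
  · exfalso
    have h3 := Subgroup.card_le_of_le h.R_le_X
    rw [h1, h.mod.cardR, Nat.card_zpowers, orderOf_eq_prime (by rw [pow_two]; exact h.z_sq) h.mod.z_ne] at h3
    omega
  · exfalso
    apply h.mv
    have h3 := h.X_norm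
    rwa [h1] at h3
  · -- `X = V₃`
    have h3 : V3 ≤ cl R P2 := h1.ge
    have h5 := h.UE_of_le h3 hJ
    refine h.sup_S.ge.trans (sup_le ?_ h.mod.S_V)
    refine le_normalizer_of_forall fun e he v hv => ?_
    have h6 := hXV ((h5 he).2 v (h.V_le_U hv))
    have h7 := mul_mem h6 hv
    rwa [inv_mul_cancel_right] at h7
  · have h3 := h.X_norm
    rwa [h1] at h3

section crd

variable {F : Type*} [Field F] [CharP F 2] (M : Crd F (S : Subgroup G) P (zl (S : Subgroup G) P))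
  (hF : Nat.card F = 4) (hMR : M.R = R)
include hF hMR

theorem exists_fld : ∃ s ∈ (S : Subgroup G), ∃ σ c, M.Act s σ c ∧ σ ≠ RingEquiv.refl F := by
  obtain ⟨s, hs, hsR⟩ := SetLike.not_le_iff_exists.1 h.mod.fld
  obtain ⟨σ, c, h1⟩ := M.exists_act hs
  refine ⟨s, hs, σ, c, h1, fun h0 => hsR ?_⟩
  rw [← hMR]
  exact h1.mem_centR.2 h0

theorem zz_eq : FourEnd.zz M = z := by
  have hz := h.z_mem_R
  rw [← hMR] at hz
  obtain ⟨a, ha⟩ := hz
  obtain ⟨s, hs, σ, c, h1, hσ⟩ := h.exists_fld M hF hMR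
  have h2 := h1 ![a, 0]
  rw [ha] at h2
  have h3 := h.z_comm (h.S_le hs)
  rw [h3, mul_inv_cancel_right, ← ha] at h2
  have h4 := congrFun (M.e_inj h2) 0
  simp only [Matrix.cons_val_zero] at h4
  have h5 : a = σ a := by simpa using h4
  rcases of_sig_eq hF hσ h5.symm with h6 | h6
  · exfalso
    apply h.mod.z_ne
    rw [← ha, h6, ← M.e_zero]
    congr 1
    apply ext2 <;> simp
  · rw [← ha, h6]
    rfl

/-- **`P₂ ≤ N_G(V)` gives a `P₁` with `|V_{P₁}| = 4`** -/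
theorem exists_four (hV : P2 ≤ normalizer (zl (S : Subgroup G) P : Set G)) :
    ∃ P1 : Subgroup G, IsParS (S : Subgroup G) P1 ∧ P1 ≤ P ∧ NonLoc P1 (CZ (S : Subgroup G)) ∧
      Nat.card (zl (S : Subgroup G) P1) = 4 := by
  have hz := h.zz_eq M hF hMR
  have hfld := h.exists_fld M hF hMR
  have hPV : P ≤ normalizer (zl (S : Subgroup G) P : Set G) := le_normalizer_zl _ _
  have hP2H : P2 ≤ FourEnd.HH M := by
    intro p hp
    rw [FourEnd.mem_HH]
    refine ⟨hV hp, ?_⟩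
    rw [hz]
    exact h.z_comm hp
  have hR : ¬ FourEnd.HH M ≤ normalizer (M.R : Set G) := by
    intro h0
    apply h.mv
    rw [← hMR]
    exact hP2H.trans h0
  have h3 := FourEnd.not_V3 M hPV hF hR
  have hfus : ∀ x y : Fin 2 → F, M.e x ∉ zpowers z → M.e y ∉ zpowers z → FourEnd.Fus M (M.e x) (M.e y) := by
    intro x y hx hy
    rw [← hz] at hx hy
    exact FourEnd.fus M hF hfld hR h3 hx hy
  -- the torus
  obtain ⟨w, hw0, hw1⟩ := exists_ne hF
  obtain ⟨k, hkP, hk⟩ := M.lift (dg w hw0)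
  have hk' : ∀ x : Fin 2 → F, k * M.e x * k⁻¹ = M.e ![w * x 0, w⁻¹ * x 1] := by
    intro x
    rw [hk]
    congr 1
    apply ext2
    · rw [ap_zero', dg, mk_00, mk_01]; simp
    · rw [ap_one', dg, mk_10, mk_11]; simp
  have hkR : k ∈ normalizer (R : Set G) := by
    rw [← hMR, mem_normalizer_iff_cj]
    refine Subgroup.eq_of_le_of_card_ge ?_ ?_
    · rintro _ ⟨r, ⟨a, rfl⟩, rfl⟩
      show k * M.e ![a, 0] * k⁻¹ ∈ M.R
      rw [hk', M.e_mem_R]
      simp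
    · rw [card_cj]
  have hL : IsLoc (S : Subgroup G) (P ⊓ normalizer (R : Set G)) :=
    h.hyp.star.isLoc.of_le S (le_inf h.S_le_P h.mod.S_R) inf_le_left
  have hLn : ¬ P ⊓ normalizer (R : Set G) ≤ normalizer (zc (S : Subgroup G) : Set G) := by
    intro h0
    have hkk : k ∈ P ⊓ normalizer (R : Set G) := ⟨hkP, hkR⟩
    have hzz : z ∈ zc (S : Subgroup G) := by rw [h.zS]; exact mem_zpowers z
    have h1 := conj_mem' h0 hkk hzz
    rw [h.zS, ← hz, FourEnd.zz, hk'] at h1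
    have h2 := (FourEnd.e_mem_zpowers M).1 h1
    simp only [Matrix.cons_val_zero, mul_one] at h2
    rcases h2.2 with h3 | h3
    · exact hw0 h3
    · exact hw1 h3
  obtain ⟨P1, hP1, hP1L, hP1n⟩ := IsLoc.exists_not_le S hL (inf_le_right.trans (normalizer_le_normalizer_zc _)) hLn
  have hP1S : IsParS (S : Subgroup G) P1 := ⟨hP1, hP1n⟩
  have hP1P : P1 ≤ P := hP1L.trans inf_le_left
  have hP1R : P1 ≤ normalizer (R : Set G) := hP1L.trans inf_le_right
  refine ⟨P1, hP1S, hP1P, ?_, ?_⟩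
  · intro U hU hU1 hU2
    refine h.hyp.nonLoc U hU (hPV.trans ?_) hU2
    obtain ⟨p, hp, hpz⟩ : ∃ p ∈ P1, p * z * p⁻¹ ∉ zpowers z := by
      by_contra hcon
      push Not at hcon
      apply hP1n
      rw [h.zS]
      refine le_normalizer_of_forall fun g hg v hv => ?_
      rcases h.mem_zpowers_iff'.1 hv with rfl | rfl
      · rw [mul_one, mul_inv_cancel]
        exact one_mem _
      · exact hcon g hg
    have hHU : FourEnd.HH M ≤ normalizer (U : Set G) := by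
      intro g hg
      apply hU2
      rw [mem_centralizer_iff]
      intro v hv
      rw [h.zS] at hv
      have hc : g * z = z * g := by
        have := ((FourEnd.mem_HH M).1 hg).2
        rwa [hz] at this
      rcases h.mem_zpowers_iff'.1 hv with rfl | rfl
      · rw [one_mul, mul_one]
      · exact hc.symm
    intro g hg
    obtain ⟨y, hy⟩ := FourEnd.exists_y M hg ![1, 0]
    have hzg : g * z * g⁻¹ = M.e y := by rw [← hz]; exact hy
    by_cases hyz : M.e y ∈ zpowers z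
    · apply hHU
      rw [FourEnd.mem_HH, hz]
      refine ⟨hg, ?_⟩
      rcases h.mem_zpowers_iff'.1 hyz with h4 | h4
      · rw [h4, conj_eq_one_iff] at hzg
        exact absurd hzg h.mod.z_ne
      · rw [h4, mul_inv_eq_iff_eq_mul] at hzg
        exact hzg
    · obtain ⟨x, hx⟩ := FourEnd.exists_y M (hPV (hP1P hp)) ![1, 0]
      have hzp : p * z * p⁻¹ = M.e x := by rw [← hz]; exact hx
      rw [hzp] at hpz
      obtain ⟨c, hc, hcx⟩ := hfus x y hpz hyz
      have h5 : g⁻¹ * c * p ∈ FourEnd.HH M := by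
        rw [FourEnd.mem_HH, hz]
        refine ⟨mul_mem (mul_mem (inv_mem hg) ((FourEnd.mem_HH M).1 hc).1) (hPV (hP1P hp)), ?_⟩
        rw [← mul_inv_eq_iff_eq_mul]
        have e1 : g⁻¹ * c * p * z * (g⁻¹ * c * p)⁻¹ = g⁻¹ * (c * (p * z * p⁻¹) * c⁻¹) * g := by group
        rw [e1, hzp, hcx, ← hzg]
        group
      have e2 : g = c * p * (g⁻¹ * c * p)⁻¹ := by group
      rw [e2]
      exact mul_mem (mul_mem (hHU hc) (hU1 hp)) (inv_mem (hHU h5))
  · have h4 : zl (S : Subgroup G) P1 ≤ R := by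
      refine iSup_le fun g => ?_
      have h5 : (zc (S : Subgroup G)).map (MulAut.conj (g : G)).toMonoidHom = cj (g : G) (zc (S : Subgroup G)) := rfl
      rw [h5, h.zS]
      have h6 := cj_mono (g : G) h.zpowers_le_R
      rwa [cj_of_le hP1R g.2] at h6
    have h5 : zpowers z ≤ zl (S : Subgroup G) P1 := by rw [← h.zS]; exact zc_le_zl _ _
    have h6 : Nat.card (zpowers z) = 2 := by
      rw [Nat.card_zpowers]
      exact orderOf_eq_prime (by rw [pow_two]; exact h.z_sq) h.mod.z_ne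
    have h7 : 2 < Nat.card (zl (S : Subgroup G) P1) := by
      by_contra hcon
      push Not at hcon
      have h8 : zpowers z = zl (S : Subgroup G) P1 := Subgroup.eq_of_le_of_card_ge h5 (by rw [h6]; exact hcon)
      apply hP1n
      rw [h.zS, h8]
      exact le_normalizer_zl _ _
    have h8 : Nat.card (zl (S : Subgroup G) P1) ∣ 4 := by
      rw [← h.mod.cardR]
      exact card_dvd_of_le h4
    have h9 : Nat.card (zl (S : Subgroup G) P1) ≤ 4 := Nat.le_of_dvd (by norm_num) h8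
    interval_cases hc : Nat.card (zl (S : Subgroup G) P1)
    · exact absurd h8 (by decide)
    · rfl

end crd

end Lv4

end Cfsg.Agent.Omega.NO3S.Fld

end

section


/-!
# The replacement theorem for best offenders (one vector)

`A` is a best offender on the abelian group `X`, `v ∈ X`, `tr A v = ⟨[v, a] | a ∈ A⟩`.

* `tr_best` : `A_v = C_A([v, A])` is a best offender on `X` and `C_X(A_v) = [v, A] C_X(A)`;
* `best_cut` : a subgroup `B` of `A` with `|B| |C_U(B)| = |A| |C_U(A)|` (`U ≤ X`) is a best offender on `X`;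
* `comm_bot` : `[U, A] ≤ [U, A, A]` ⟹ `[U, A] = 1` in a nilpotent group.
-/

set_option autoImplicit false
set_option linter.unusedSectionVars false

namespace Cfsg.Agent.Omega.NO3S.Fld

open Subgroup Cfsg Cfsg.Agent.ZN Cfsg.Agent.ZN.ChoiceBase Cfsg.Agent.Omega.MinPar
open Cfsg.Agent.Omega.NO3b.K0 (conj_mem' cj_of_le cj_self)
open Cfsg.Agent.Omega.NO1.BestOff (Best)
open Cfsg.Agent.Omega.FFThm (OffM ElemM)
open Cfsg.Agent.Omega.NO3S.Level (Lev BO nxt)
open scoped commutatorElement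

universe u

variable {G : Type u} [Group G]

/-- `[v, A]` -/
def tr (A : Subgroup G) (v : G) : Subgroup G := closure {c | ∃ a ∈ A, c = a * v * a⁻¹ * v⁻¹}

theorem mem_tr {A : Subgroup G} {v a : G} (ha : a ∈ A) : a * v * a⁻¹ * v⁻¹ ∈ tr A v :=
  subset_closure ⟨a, ha, rfl⟩

theorem tr_le {X A : Subgroup G} (hA : A ≤ normalizer (X : Set G)) {v : G} (hv : v ∈ X) : tr A v ≤ X := by
  rw [tr, closure_le]
  rintro _ ⟨a, ha, rfl⟩
  exact mul_mem (conj_mem' hA ha hv) (inv_mem hv)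

/-- `[a, [b, v]] = [b, [a, v]]` -/
theorem tr_symm {X A : Subgroup G} (hXc : ∀ x ∈ X, ∀ y ∈ X, x * y = y * x) (hA : A ≤ normalizer (X : Set G))
    (hE : ElemM X A) {v a b : G} (hv : v ∈ X) (ha : a ∈ A) (hb : b ∈ A) :
    b * (a * v * a⁻¹ * v⁻¹) * b⁻¹ * (a * v * a⁻¹ * v⁻¹)⁻¹ =
      a * (b * v * b⁻¹ * v⁻¹) * a⁻¹ * (b * v * b⁻¹ * v⁻¹)⁻¹ := by
  have hav := conj_mem' hA ha hv
  have hbv := conj_mem' hA hb hv
  have hab : a * b * v * (a * b)⁻¹ ∈ X := conj_mem' hA (mul_mem ha hb) hv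
  have hpe : b * a * v * (b * a)⁻¹ = a * b * v * (a * b)⁻¹ := by
    have h1 := mem_centralizer_iff.1 (hE.comm b hb a ha) _ hab
    have e : b * a * v * (b * a)⁻¹ = (b * a * b⁻¹ * a⁻¹) * (a * b * v * (a * b)⁻¹) * (b * a * b⁻¹ * a⁻¹)⁻¹ := by
      group
    rw [e, ← h1, mul_inv_cancel_right]
  have e1 : b * (a * v * a⁻¹ * v⁻¹) * b⁻¹ * (a * v * a⁻¹ * v⁻¹)⁻¹ =
      (b * a * v * (b * a)⁻¹) * ((b * v * b⁻¹)⁻¹ * v * (a * v * a⁻¹)⁻¹) := by group
  have e2 : a * (b * v * b⁻¹ * v⁻¹) * a⁻¹ * (b * v * b⁻¹ * v⁻¹)⁻¹ =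
      (a * b * v * (a * b)⁻¹) * ((a * v * a⁻¹)⁻¹ * v * (b * v * b⁻¹)⁻¹) := by group
  rw [e1, e2, hpe]
  congr 1
  rw [hXc _ (mul_mem (inv_mem hbv) hv) _ (inv_mem hav), hXc _ (inv_mem hbv) _ hv, ← mul_assoc]

theorem mem_cent_tr {X A : Subgroup G} (hXc : ∀ x ∈ X, ∀ y ∈ X, x * y = y * x)
    (hA : A ≤ normalizer (X : Set G)) (hE : ElemM X A) {v a : G} (hv : v ∈ X) (ha : a ∈ A) :
    a ∈ centralizer (tr A v : Set G) ↔ a * v * a⁻¹ * v⁻¹ ∈ centralizer (A : Set G) := by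
  constructor
  · intro h
    rw [mem_centralizer_iff]
    intro b hb
    have h1 := mem_centralizer_iff.1 h _ (mem_tr (v := v) hb)
    have h2 := tr_symm hXc hA hE hv ha hb
    have h3 : a * (b * v * b⁻¹ * v⁻¹) * a⁻¹ * (b * v * b⁻¹ * v⁻¹)⁻¹ = 1 := by
      rw [← h1, mul_inv_cancel_right, mul_inv_cancel]
    rw [h3, mul_inv_eq_one, mul_inv_eq_iff_eq_mul] at h2
    exact h2
  · intro h
    have h1 : tr A v ≤ centralizer ({a} : Set G) := by
      rw [tr, closure_le]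
      rintro _ ⟨b, hb, rfl⟩
      show b * v * b⁻¹ * v⁻¹ ∈ centralizer ({a} : Set G)
      rw [mem_centralizer_singleton_iff]
      have h2 := tr_symm hXc hA hE hv ha hb
      have h3 := mem_centralizer_iff.1 h b hb
      rw [h3, mul_inv_cancel_right, mul_inv_cancel] at h2
      have h4 := h2.symm
      rw [mul_inv_eq_one, mul_inv_eq_iff_eq_mul] at h4
      exact h4.symm
    rw [mem_centralizer_iff]
    intro w hw
    exact mem_centralizer_singleton_iff.1 (h1 hw)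

/-- an injection of cosets -/
theorem relIndex_le_of_map [Finite G] {A H W F : Subgroup G} (c : G → G) (hc : ∀ a ∈ A, c a ∈ W)
    (h : ∀ a ∈ A, ∀ b ∈ A, (c a)⁻¹ * c b ∈ F → a⁻¹ * b ∈ H) : H.relIndex A ≤ F.relIndex W := by
  change Nat.card (A ⧸ H.subgroupOf A) ≤ Nat.card (W ⧸ F.subgroupOf W)
  let f : (A ⧸ H.subgroupOf A) → (W ⧸ F.subgroupOf W) := fun q => QuotientGroup.mk ⟨c (q.out : A), hc _ (q.out : A).2⟩
  have hf : Function.Injective f := by
    intro p q hpq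
    have h1 := QuotientGroup.eq.1 hpq
    rw [mem_subgroupOf] at h1
    have h2 := h _ (p.out : A).2 _ (q.out : A).2 h1
    rw [← Quotient.out_eq' p, ← Quotient.out_eq' q]
    change (((p.out : A) : A ⧸ H.subgroupOf A)) = ((q.out : A) : A ⧸ _)
    rw [QuotientGroup.eq, mem_subgroupOf]
    exact h2
  exact Nat.card_le_card_of_injective f hf

/-- **The replacement theorem** -/
theorem tr_best' [Finite G] {X A : Subgroup G} (hXc : ∀ x ∈ X, ∀ y ∈ X, x * y = y * x)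
    (hAn : A ≤ normalizer (X : Set G)) (hA : Best X A) {v : G} (hv : v ∈ X) :
    Best X (A ⊓ centralizer (tr A v : Set G)) ∧
      X ⊓ centralizer ((A ⊓ centralizer (tr A v : Set G) : Subgroup G) : Set G) =
        tr A v ⊔ (X ⊓ centralizer (A : Set G)) ∧
      Nat.card A * Nat.card ↥(X ⊓ centralizer (A : Set G)) ≤ Nat.card ↥(A ⊓ centralizer (tr A v : Set G)) *
        Nat.card ↥(X ⊓ centralizer ((A ⊓ centralizer (tr A v : Set G) : Subgroup G) : Set G)) := by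
  set B := A ⊓ centralizer (tr A v : Set G) with hB
  set F := X ⊓ centralizer (A : Set G) with hF
  have htX := tr_le hAn hv
  have h1 : (centralizer (tr A v : Set G)).relIndex A ≤ F.relIndex (tr A v ⊔ F) := by
    refine relIndex_le_of_map (fun a => a * v * a⁻¹ * v⁻¹) (fun a ha => mem_sup_left (mem_tr ha)) ?_
    intro a ha b hb hab
    rw [mem_cent_tr hXc hAn hA.toElemM hv (mul_mem (inv_mem ha) hb)]
    have hca : a * v * a⁻¹ * v⁻¹ ∈ X := htX (mem_tr ha)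
    have hcb : b * v * b⁻¹ * v⁻¹ ∈ X := htX (mem_tr hb)
    rw [hXc _ (inv_mem hca) _ hcb] at hab
    have e : a⁻¹ * b * v * (a⁻¹ * b)⁻¹ * v⁻¹ =
        a⁻¹ * ((b * v * b⁻¹ * v⁻¹) * (a * v * a⁻¹ * v⁻¹)⁻¹) * a := by group
    have h2 := mem_centralizer_iff.1 hab.2 a ha
    rw [e, mul_assoc, ← h2, inv_mul_cancel_left]
    exact hab.2
  have h2 := relIndex_mul_card A (centralizer (tr A v : Set G))
  have h3 := relIndex_mul_card (tr A v ⊔ F) F
  rw [inf_eq_right.2 (le_sup_right : F ≤ tr A v ⊔ F)] at h3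
  have h4 : tr A v ⊔ F ≤ X ⊓ centralizer (B : Set G) := by
    refine sup_le (le_inf htX ?_) (inf_le_inf_left _ (centralizer_le inf_le_left))
    intro w hw
    rw [mem_centralizer_iff]
    intro b hb
    exact (mem_centralizer_iff.1 hb.2 w hw).symm
  have h5 : Nat.card A * Nat.card F ≤ Nat.card B * Nat.card ↥(tr A v ⊔ F) := by
    rw [← h2, ← h3]
    calc (centralizer (tr A v : Set G)).relIndex A * Nat.card ↥(A ⊓ centralizer (tr A v : Set G)) * Nat.card F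
        = (centralizer (tr A v : Set G)).relIndex A * (Nat.card B * Nat.card F) := by rw [← hB]; ring
      _ ≤ F.relIndex (tr A v ⊔ F) * (Nat.card B * Nat.card F) := Nat.mul_le_mul_right _ h1
      _ = _ := by ring
  have h6 : Nat.card B * Nat.card ↥(X ⊓ centralizer (B : Set G)) ≤ Nat.card A * Nat.card F := by
    refine hA.max B inf_le_left (le_inf inf_le_left ?_)
    exact inf_le_right.trans (centralizer_le htX)
  have h7 : tr A v ⊔ F = X ⊓ centralizer (B : Set G) := by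
    refine Subgroup.eq_of_le_of_card_ge h4 ?_
    exact Nat.le_of_mul_le_mul_left (h6.trans h5) Nat.card_pos
  refine ⟨⟨⟨fun a ha => hA.sq a ha.1, fun a ha b hb => hA.comm a ha.1 b hb.1⟩, ?_⟩, h7.symm, by rw [← h7]; exact h5⟩
  intro Y hY hYc
  rw [← h7]
  refine (hA.max Y (hY.trans inf_le_left) (le_trans ?_ hYc)).trans h5
  refine le_inf (le_inf inf_le_left ?_) inf_le_right
  exact inf_le_right.trans (centralizer_le htX)

/-- the replacement theorem -/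
theorem tr_best [Finite G] {X A : Subgroup G} (hXc : ∀ x ∈ X, ∀ y ∈ X, x * y = y * x)
    (hAn : A ≤ normalizer (X : Set G)) (hA : Best X A) {v : G} (hv : v ∈ X) :
    Best X (A ⊓ centralizer (tr A v : Set G)) ∧
      X ⊓ centralizer ((A ⊓ centralizer (tr A v : Set G) : Subgroup G) : Set G) =
        tr A v ⊔ (X ⊓ centralizer (A : Set G)) :=
  ⟨(tr_best' hXc hAn hA hv).1, (tr_best' hXc hAn hA hv).2.1⟩

/-- the exact subgroups of a best offender -/
theorem best_cut [Finite G] {X U A B : Subgroup G} (hXc : ∀ x ∈ X, ∀ y ∈ X, x * y = y * x) (hA : Best X A)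
    (hUX : U ≤ X) (h1 : A ⊓ centralizer (U : Set G) ≤ B) (h2 : B ≤ A)
    (h3 : Nat.card A * Nat.card ↥(U ⊓ centralizer (A : Set G)) ≤
      Nat.card B * Nat.card ↥(U ⊓ centralizer (B : Set G))) : Best X B := by
  refine ⟨NO1.BestOff.ElemM.mono hA.toElemM h2, fun Y hY hYc => ?_⟩
  have hAX : A ⊓ centralizer (X : Set G) ≤ B := le_trans (inf_le_inf_left _ (centralizer_le hUX)) h1
  have h4 := Level.best_sub hXc hA hUX h1 h2
  have h5 : Nat.card A * Nat.card ↥(X ⊓ centralizer (A : Set G)) ≤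
      Nat.card B * Nat.card ↥(X ⊓ centralizer (B : Set G)) := by
    have hp : 0 < Nat.card ↥(U ⊓ centralizer (A : Set G)) := Nat.card_pos
    refine Nat.le_of_mul_le_mul_right (c := Nat.card ↥(U ⊓ centralizer (A : Set G))) (le_trans ?_ h4) hp
    calc Nat.card A * Nat.card ↥(X ⊓ centralizer (A : Set G)) * Nat.card ↥(U ⊓ centralizer (A : Set G))
        = Nat.card A * Nat.card ↥(U ⊓ centralizer (A : Set G)) * Nat.card ↥(X ⊓ centralizer (A : Set G)) := by ring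
      _ ≤ _ := Nat.mul_le_mul_right _ h3
  exact (hA.max Y (hY.trans h2) (le_trans (le_inf hAX inf_le_right) hYc)).trans h5

/-- `[U, A] ≤ [U, A, A]` ⟹ `[U, A] = 1` -/
theorem comm_bot {P U A : Subgroup G} (hP : Group.IsNilpotent P) (hU : U ≤ P) (hA : A ≤ P)
    (h : ⁅U, A⁆ ≤ ⁅⁅U, A⁆, A⁆) : ⁅U, A⁆ = ⊥ := by
  obtain ⟨n, hn⟩ := (Subgroup.isNilpotent_iff_lowerCentralSeries P).1 hP
  have key : ∀ k : ℕ, ⁅U, A⁆ ≤ P.lowerCentralSeries k := by
    intro k
    induction k with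
    | zero => exact (commutator_mono hU hA).trans (commutator_le_self P)
    | succ k ih =>
      rw [Subgroup.lowerCentralSeries_succ]
      exact h.trans (commutator_mono ih hA)
  have := key n
  rw [hn] at this
  exact le_bot_iff.1 this

end Cfsg.Agent.Omega.NO3S.Fld

end
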