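import Cfsg.Agent.Mrg.Omega.NO3S.Fld.GainOne
import Cfsg.Agent.Mrg.Omega.NO3S.Fld.FourBase


/-!
# Fld, `q = 4`, at a level: the case `|S : O₂(P₂)| = 2` (#15515 (4), #16560)

The dihedral argument of `Dih` for offenders `A ≤ S` which are elementary abelian only modulo `C_S(U)`, `U = ⟨V^P⟩`.

* `Sit.false_of` : `A ≤ C_S(V)`, `|W : C_W(A)| ≤ |A : C_A(W)|` for all `W ≤ U` ⟹ `A ≤ Q`;
* `Lv4.dih` : `|S : O₂(P₂)| = 2` ⟹ the best offenders in `O₂(P)` are contained in `O₂(P₂)`.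
-/

set_option autoImplicit false
set_option linter.unusedSectionVars false

namespace Cfsg.Agent.Omega.NO3S.Fld.LDih

open Subgroup Cfsg Cfsg.Agent.ZN.ChoiceBase Cfsg.Agent.ZN.ChoiceSit Cfsg.Agent.PLocal.ThompsonJ
open Cfsg.Agent.Omega.NO3S.Fld.DEight Cfsg.Agent.Omega.NO3S.Fld.Dih

universe u

section grp

variable {Γ : Type*} [Group Γ] [Finite Γ]

/-- commuting involutions are equal if `4 ∤ |Γ|` -/
theorem eq_of_comm (h4 : ¬ 4 ∣ Nat.card Γ) {a c : Γ} (ha : a * a = 1) (hc : c * c = 1) (hac : a * c = c * a)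
    (ha1 : a ≠ 1) (hc1 : c ≠ 1) : a = c := by
  by_contra hne
  apply h4
  have h1 : Nat.card (zpowers a) = 2 := by
    rw [Nat.card_zpowers]; exact orderOf_eq_prime (by rw [pow_two]; exact ha) ha1
  have h2 : Nat.card (zpowers c) = 2 := by
    rw [Nat.card_zpowers]; exact orderOf_eq_prime (by rw [pow_two]; exact hc) hc1
  have hm : ∀ x : Γ, x * x = 1 → ∀ y ∈ zpowers x, y = 1 ∨ y = x := by
    rintro x hx _ ⟨n, rfl⟩
    obtain ⟨k, hk | hk⟩ := Int.even_or_odd' n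
    · left
      show x ^ n = 1
      rw [hk, zpow_mul, show x ^ (2 : ℤ) = 1 by rw [zpow_two]; exact hx, one_zpow]
    · right
      show x ^ n = x
      rw [hk, zpow_add, zpow_mul, show x ^ (2 : ℤ) = 1 by rw [zpow_two]; exact hx, one_zpow, one_mul, zpow_one]
  have h3 : zpowers a ⊓ zpowers c = ⊥ := by
    rw [eq_bot_iff]
    rintro x ⟨hx1, hx2⟩
    rw [mem_bot]
    rcases hm a ha x hx1 with h | h
    · exact h
    · rcases hm c hc x hx2 with h' | h'
      · exact h'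
      · exact absurd (h.symm.trans h') hne
  have hcom : ∀ x ∈ zpowers a, ∀ y ∈ zpowers c, x * y = y * x := by
    intro x hx y hy
    rcases hm a ha x hx with rfl | rfl
    · rw [one_mul, mul_one]
    · rcases hm c hc y hy with rfl | rfl
      · rw [one_mul, mul_one]
      · exact hac
  have h5 := Cfsg.Agent.Omega.SQ1.Bau.card_sup_comm hcom
  rw [h3, card_bot, h1, h2] at h5
  have h6 : Nat.card ↥(zpowers a ⊔ zpowers c) ∣ Nat.card Γ := card_subgroup_dvd_card _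
  have h7 : Nat.card ↥(zpowers a ⊔ zpowers c) = 4 := by omega
  rwa [h7] at h6

/-- the product of two involutions has odd order if `4 ∤ |Γ|` -/
theorem odd_orderOf (h4 : ¬ 4 ∣ Nat.card Γ) {a b : Γ} (ha : a * a = 1) (hb : b * b = 1)
    (ha1 : a ≠ 1) (hb1 : b ≠ 1) : Odd (orderOf (a * b)) := by
  rw [← Nat.not_even_iff_odd]
  rintro ⟨k, hk⟩
  have hpos : 0 < orderOf (a * b) := orderOf_pos _
  set c := (a * b) ^ k with hc
  have hc2 : c * c = 1 := by rw [hc, ← pow_add, ← hk, pow_orderOf_eq_one]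
  have hc1 : c ≠ 1 := by
    intro h0
    have h1 := orderOf_dvd_of_pow_eq_one h0
    have h2 := Nat.le_of_dvd (by omega) h1
    omega
  have hci : c⁻¹ = c := inv_eq_of_mul_eq_one_left hc2
  have ha' : a⁻¹ = a := inv_eq_of_mul_eq_one_left ha
  have hb' : b⁻¹ = b := inv_eq_of_mul_eq_one_left hb
  have h1 : a * c = c * a := by
    have h2 : a * c * a⁻¹ = c⁻¹ := by
      rw [hc, ← conj_pow, ← inv_pow]
      congr 1
      rw [mul_inv_rev, ha', hb', ← mul_assoc, ha, one_mul]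
    rw [hci] at h2
    exact mul_inv_eq_iff_eq_mul.1 h2
  have h2 : b * c = c * b := by
    have h2 : b * c * b⁻¹ = c⁻¹ := by
      rw [hc, ← conj_pow, ← inv_pow]
      congr 1
      rw [mul_inv_rev, ha', hb', mul_assoc, mul_assoc, hb, mul_one]
    rw [hci] at h2
    exact mul_inv_eq_iff_eq_mul.1 h2
  have e1 := eq_of_comm h4 ha hc2 h1 ha1 hc1
  have e2 := eq_of_comm h4 hb hc2 h2 hb1 hc1
  apply hc1
  rw [hc, e1, e2, hc2, one_pow]

end grp

variable {G : Type u} [Group G] [Finite G] {S P Q U V R V3 : Subgroup G} {z : G} (h : Sit S P Q U V R V3 z)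
include h

/-- `4 ∤ |P : Q|` -/
theorem not_four : ¬ 4 ∣ Q.relIndex P := by
  have h1 : Q.relIndex S * S.relIndex P = Q.relIndex P := relIndex_mul_relIndex _ _ _ h.Q_le h.syl.1
  have h2 : ¬ 2 ∣ S.relIndex P := syl_not_dvd h.syl
  rw [← h1, h.idx]
  omega

/-- The order of a product of two involutions outside `Q` modulo `Q` is odd. -/
theorem odd_pow {α β g : G} (hα : α ∈ S) (hαQ : α ∉ Q) (hα2 : α * α ∈ Q) (hg : g ∈ P) (hβ : β = g * α * g⁻¹) :
    ∃ m : ℤ, (α * β) ^ (2 * m + 1) ∈ Q := by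
  have hαP : α ∈ P := h.syl.1 hα
  have hβP : β ∈ P := by rw [hβ]; exact mul_mem (mul_mem hg hαP) (inv_mem hg)
  have hβQ : β ∉ Q := by rw [hβ, h.conj_mem_Q hg]; exact hαQ
  have hβ2 : β * β ∈ Q := by
    have e : β * β = g * (α * α) * g⁻¹ := by rw [hβ]; group
    rw [e]; exact (h.conj_mem_Q hg).2 hα2
  have hn : (Q.subgroupOf P).Normal := normal_subgroupOf_of_le_normalizer h.norm
  have h4 : ¬ 4 ∣ Nat.card (P ⧸ Q.subgroupOf P) := not_four h
  have key : ∀ x : P, (QuotientGroup.mk x : P ⧸ Q.subgroupOf P) = 1 ↔ (x : G) ∈ Q := by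
    intro x
    rw [QuotientGroup.eq_one_iff, mem_subgroupOf]
  set a : P := ⟨α, hαP⟩ with ha
  set b : P := ⟨β, hβP⟩ with hb
  have ha2 : (QuotientGroup.mk a : P ⧸ Q.subgroupOf P) * QuotientGroup.mk a = 1 := by
    rw [← QuotientGroup.mk_mul]; exact (key _).2 hα2
  have hb2 : (QuotientGroup.mk b : P ⧸ Q.subgroupOf P) * QuotientGroup.mk b = 1 := by
    rw [← QuotientGroup.mk_mul]; exact (key _).2 hβ2
  obtain ⟨m, hm⟩ := odd_orderOf h4 ha2 hb2 (fun h0 => hαQ ((key _).1 h0)) (fun h0 => hβQ ((key _).1 h0))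
  refine ⟨m, ?_⟩
  have h1 : ((QuotientGroup.mk a : P ⧸ Q.subgroupOf P) * QuotientGroup.mk b) ^ (2 * m + 1) = 1 := by
    rw [← hm, pow_orderOf_eq_one]
  rw [← QuotientGroup.mk_mul, ← QuotientGroup.mk_pow] at h1
  have h2 := (key _).1 h1
  have e : (2 * (m : ℤ) + 1 : ℤ) = ((2 * m + 1 : ℕ) : ℤ) := by push_cast; ring
  rw [e, zpow_natCast]
  exact h2

/-- inversion modulo `C_P(U)` and powers -/
theorem inv_pow_mem (hU : P ≤ normalizer (U : Set G)) {α ρ : G} (hα : α ∈ P) (hρ : ρ ∈ P)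
    (hinv : α * ρ * α⁻¹ * ρ ∈ centralizer (U : Set G)) (k : ℤ) :
    α * ρ ^ k * α⁻¹ * ρ ^ k ∈ centralizer (U : Set G) := by
  set N := P ⊓ centralizer (U : Set G) with hN
  have hPN : P ≤ normalizer (N : Set G) :=
    Cfsg.Agent.Omega.NO3b.EZero.le_normalizer_inf_cent hU
  have hn : (N.subgroupOf P).Normal := normal_subgroupOf_of_le_normalizer hPN
  have key : ∀ x : P, (QuotientGroup.mk' (N.subgroupOf P) x) = 1 ↔ (x : G) ∈ centralizer (U : Set G) := by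
    intro x
    rw [QuotientGroup.mk'_apply, QuotientGroup.eq_one_iff, mem_subgroupOf]
    exact ⟨fun h0 => h0.2, fun h0 => ⟨x.2, h0⟩⟩
  set a : P := ⟨α, hα⟩ with ha
  set r : P := ⟨ρ, hρ⟩ with hr
  set φ := QuotientGroup.mk' (N.subgroupOf P) with hφ
  have h1 : φ a * φ r * (φ a)⁻¹ = (φ r)⁻¹ := by
    rw [eq_inv_iff_mul_eq_one, ← map_mul, ← map_inv, ← map_mul, ← map_mul]
    exact (key _).2 hinv
  have h2 : φ (a * r ^ k * a⁻¹ * r ^ k) = 1 := by
    rw [map_mul, map_mul, map_mul, map_zpow, map_inv, ← conj_zpow, h1, inv_zpow, inv_mul_cancel]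
  exact (key _).1 h2

/-- `V₁ ∩ V₋₁ = ⟨z⟩`. -/
theorem inf_eq (hU : P ≤ normalizer (U : Set G)) {α ρ : G} {m : ℤ} (hα : α ∈ S) (hαQ : α ∉ Q)
    (hαV : α ∈ centralizer (V : Set G)) (hρ : ρ ∈ P)
    (hρR : ρ ∉ normalizer (R : Set G)) (hinv : α * ρ * α⁻¹ * ρ ∈ centralizer (U : Set G))
    (hm : ρ ^ (2 * m + 1) ∈ Q) : cj ρ V ⊓ cj ρ⁻¹ V = zpowers z := by
  have hαP : α ∈ P := h.syl.1 hα
  have hQV : Q ≤ normalizer (V : Set G) := h.Q_le.trans h.mod.S_V
  have hinvk : ∀ k : ℤ, α * ρ ^ k * α⁻¹ * ρ ^ k ∈ centralizer (U : Set G) := inv_pow_mem h hU hαP hρ hinv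
  have hρk : ∀ k : ℤ, ρ ^ k ∈ P := fun k => zpow_mem hρ k
  have hVm : ∀ k : ℤ, cj (ρ ^ (k + (2 * m + 1))) V = cj (ρ ^ k) V := by
    intro k
    rw [zpow_add, ← cj_cj, cj_eq_of_mem_normalizer (hQV hm)]
  have hcU : ∀ n ∈ centralizer (U : Set G), ∀ g ∈ P, cj n (cj g V) = cj g V := fun n hn g hg =>
    cj_eq_of_mem_normalizer (centralizer_le_normalizer _ (centralizer_le (h.conj_le g hg) hn))
  have hVα : ∀ k : ℤ, cj α (cj (ρ ^ k) V) = cj (ρ ^ (-k)) V := by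
    intro k
    obtain ⟨n, hn, e⟩ : ∃ n ∈ centralizer (U : Set G), α * ρ ^ k = n * (ρ ^ (-k) * α) :=
      ⟨_, hinvk k, by rw [zpow_neg]; group⟩
    rw [cj_cj, e, ← cj_cj, ← cj_cj, cj_eq_of_mem_normalizer (h.mod.S_V hα), hcU n hn _ (hρk _)]
  have hVQ : ∀ q ∈ Q, ∀ k : ℤ, cj q (cj (ρ ^ k) V) = cj (ρ ^ k) V := by
    intro q hq k
    have h1 : ρ ^ (-k) * q * ρ ^ k ∈ Q := by
      have := (h.conj_mem_Q (hρk (-k)) (x := q)).2 hq
      rwa [zpow_neg, inv_inv, ← zpow_neg] at this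
    have e : q * ρ ^ k = ρ ^ k * (ρ ^ (-k) * q * ρ ^ k) := by
      rw [zpow_neg]; group
    rw [cj_cj, e, ← cj_cj, cj_eq_of_mem_normalizer (hQV h1)]
  -- `V_m ∩ V_{m+k} ≤ V_{m-k}`
  have hstep : ∀ i k : ℤ, ∀ x, x ∈ cj (ρ ^ i) V → x ∈ cj (ρ ^ (i + k)) V → x ∈ cj (ρ ^ (i - k)) V := by
    intro i k x hx hxk
    have h1 : (ρ ^ i)⁻¹ * x * ρ ^ i ∈ V := mem_cj.1 hx
    have h2 : (ρ ^ i)⁻¹ * x * ρ ^ i ∈ cj (ρ ^ k) V := by
      rw [mem_cj]
      have := mem_cj.1 hxk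
      rw [zpow_add, mul_inv_rev] at this
      have e : (ρ ^ k)⁻¹ * ((ρ ^ i)⁻¹ * x * ρ ^ i) * ρ ^ k = (ρ ^ k)⁻¹ * (ρ ^ i)⁻¹ * x * (ρ ^ i * ρ ^ k) := by group
      rw [e]; exact this
    have h3 : α * ((ρ ^ i)⁻¹ * x * ρ ^ i) * α⁻¹ = (ρ ^ i)⁻¹ * x * ρ ^ i := by
      rw [← mem_centralizer_iff.1 hαV _ h1, mul_assoc, mul_inv_cancel, mul_one]
    have h4 : (ρ ^ i)⁻¹ * x * ρ ^ i ∈ cj (ρ ^ (-k)) V := by
      rw [← hVα k, ← h3]
      exact Subgroup.mem_map_of_mem _ h2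
    rw [mem_cj] at h4 ⊢
    have e : (ρ ^ (i - k))⁻¹ * x * ρ ^ (i - k) = (ρ ^ (-k))⁻¹ * ((ρ ^ i)⁻¹ * x * ρ ^ i) * ρ ^ (-k) := by
      rw [sub_eq_add_neg, zpow_add, mul_inv_rev]; group
    rw [e]; exact h4
  set I := cj ρ V ⊓ cj ρ⁻¹ V with hI
  -- `I ≤ V_k` for all odd `k`
  have hodd : ∀ x ∈ I, ∀ j : ℤ, x ∈ cj (ρ ^ (2 * j + 1)) V ∧ x ∈ cj (ρ ^ (2 * j - 1)) V := by
    intro x hx j
    induction j using Int.induction_on with
    | zero =>
      refine ⟨?_, ?_⟩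
      · have := hx.1; simpa using this
      · have := hx.2; simpa using this
    | succ i IH =>
      have e1 : (2 * ((i : ℤ) + 1) - 1) = 2 * (i : ℤ) + 1 := by ring
      have e2 : (2 * ((i : ℤ) + 1) + 1) = 2 * (i : ℤ) + 1 - (-2) := by ring
      have e3 : (2 * (i : ℤ) + 1 + (-2)) = 2 * (i : ℤ) - 1 := by ring
      rw [e1, e2]
      exact ⟨hstep _ _ x IH.1 (by rw [e3]; exact IH.2), IH.1⟩
    | pred i IH =>
      have e1 : (2 * (-(i : ℤ) - 1) + 1) = 2 * (-(i : ℤ)) - 1 := by ring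
      have e2 : (2 * (-(i : ℤ) - 1) - 1) = 2 * (-(i : ℤ)) - 1 - 2 := by ring
      have e3 : (2 * (-(i : ℤ)) - 1 + 2) = 2 * (-(i : ℤ)) + 1 := by ring
      rw [e1, e2]
      exact ⟨IH.2, hstep _ _ x IH.2 (by rw [e3]; exact IH.1)⟩
  have hall : ∀ x ∈ I, ∀ k : ℤ, x ∈ cj (ρ ^ k) V := by
    intro x hx k
    rcases Int.even_or_odd' k with ⟨j, hj | hj⟩
    · rw [← hVm k, hj]
      have e : 2 * j + (2 * m + 1) = 2 * (j + m) + 1 := by ring
      rw [e]
      exact (hodd x hx _).1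
    · rw [hj]
      exact (hodd x hx _).1
  have hIV : I ≤ V := by
    intro x hx
    have := hall x hx 0
    rwa [zpow_zero, cj_one] at this
  have hSI : S ≤ normalizer (I : Set G) := by
    refine h.S_eq hα hαQ ?_ ?_
    · intro q hq
      rw [mem_normalizer_iff_cj, hI, cj_inf]
      have h1 := hVQ q hq 1
      have h2 := hVQ q hq (-1)
      rw [zpow_one] at h1
      rw [zpow_neg, zpow_one] at h2
      rw [h1, h2]
    · rw [mem_normalizer_iff_cj, hI, cj_inf]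
      have h1 := hVα 1
      have h2 := hVα (-1)
      rw [zpow_one, zpow_neg, zpow_one] at h1
      rw [zpow_neg, zpow_one, neg_neg, zpow_one] at h2
      rw [h1, h2, inf_comm]
  have hzI : z ∈ I := by
    have key : ∀ g ∈ P, z ∈ cj g V := by
      intro g hg
      rw [mem_cj, mul_assoc, ← h.cz g hg, ← mul_assoc, inv_mul_cancel, one_mul]
      exact h.mod.V3_le (h.mod.R_le h.mod.z_mem)
    exact ⟨key _ hρ, key _ (inv_mem hρ)⟩
  have hVU : V ≤ U := by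
    have := h.conj_le 1 (one_mem _)
    rwa [cj_one] at this
  have hRI : ¬ R ≤ I := by
    intro hR
    apply hρR
    have h2 : ρ ^ (2 : ℤ) ∈ centralizer (R : Set G) := by
      rw [mem_centralizer_iff]
      intro x hx
      have hxI := hR hx
      have h1 : ρ⁻¹ * x * ρ ∈ V := mem_cj.1 hxI.1
      have h3 := mem_centralizer_iff.1 hαV _ h1
      have h4 := mem_centralizer_iff.1 hαV _ (hIV hxI)
      have h5 : ρ * (ρ⁻¹ * x * ρ * α) * ρ⁻¹ = ρ * (α * (ρ⁻¹ * x * ρ)) * ρ⁻¹ := by rw [h3]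
      -- `ρ α ρ⁻¹ = ρ n ρ α`
      set n := α * ρ ^ (-1 : ℤ) * α⁻¹ * ρ ^ (-1 : ℤ) with hn
      have hnc : ρ * n * ρ⁻¹ ∈ centralizer (U : Set G) := by
        have hPC : P ≤ normalizer ((centralizer (U : Set G) : Subgroup G) : Set G) :=
          NotFF.normalizer_centralizer hU
        exact (mem_normalizer_iff.1 (hPC hρ) n).1 (hinvk (-1))
      have h6 : ρ * α * ρ⁻¹ = (ρ * n * ρ⁻¹) * (ρ ^ (2 : ℤ) * α) := by
        rw [hn]; simp only [zpow_neg, zpow_one, zpow_two]; group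
      have h7 : x * (ρ * α * ρ⁻¹) = ρ * α * ρ⁻¹ * x := by
        calc x * (ρ * α * ρ⁻¹) = ρ * (ρ⁻¹ * x * ρ * α) * ρ⁻¹ := by group
          _ = ρ * (α * (ρ⁻¹ * x * ρ)) * ρ⁻¹ := h5
          _ = ρ * α * ρ⁻¹ * x := by group
      have hnx := mem_centralizer_iff.1 hnc x (hVU (hIV hxI))
      rw [h6] at h7
      have h8 : (ρ * n * ρ⁻¹) * (x * ρ ^ (2 : ℤ) * α) = (ρ * n * ρ⁻¹) * (ρ ^ (2 : ℤ) * x * α) := by
        calc (ρ * n * ρ⁻¹) * (x * ρ ^ (2 : ℤ) * α) = ((ρ * n * ρ⁻¹) * x) * (ρ ^ (2 : ℤ) * α) := by group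
          _ = x * ((ρ * n * ρ⁻¹) * (ρ ^ (2 : ℤ) * α)) := by rw [← hnx]; group
          _ = (ρ * n * ρ⁻¹) * (ρ ^ (2 : ℤ) * α) * x := h7
          _ = (ρ * n * ρ⁻¹) * (ρ ^ (2 : ℤ) * (α * x)) := by group
          _ = (ρ * n * ρ⁻¹) * (ρ ^ (2 : ℤ) * (x * α)) := by rw [h4]
          _ = (ρ * n * ρ⁻¹) * (ρ ^ (2 : ℤ) * x * α) := by group
      exact mul_right_cancel (mul_left_cancel h8)
    have h3 : ρ ^ (2 : ℤ) ∈ normalizer (R : Set G) :=
      centralizer_le_normalizer _ h2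
    have h4 : ρ = ρ ^ (2 * m + 1) * (ρ ^ (2 : ℤ)) ^ (-m) := by
      rw [← zpow_mul, ← zpow_add]
      have : 2 * m + 1 + 2 * -m = 1 := by ring
      rw [this, zpow_one]
    rw [h4]
    exact mul_mem (h.mod.S_R (h.Q_le hm)) (zpow_mem h3 _)
  rcases h.mod.uni I hIV hSI with h1 | h1 | h1 | h1 | h1
  · rw [h1, mem_bot] at hzI
    exact absurd hzI h.mod.z_ne
  · exact h1
  · exact absurd h1.ge hRI
  · exact absurd (h.mod.R_le.trans h1.ge) hRI
  · exact absurd ((h.mod.R_le.trans h.mod.V3_le).trans h1.ge) hRI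

/-- **#15515 (4)** for offenders elementary abelian modulo `C_S(U)`. -/
theorem false_of (hU : P ≤ normalizer (U : Set G)) (hQU : S ⊓ centralizer (U : Set G) ≤ Q) {A : Subgroup G}
    (hAS : A ≤ S) (hsq : ∀ a ∈ A, a ^ 2 ∈ centralizer (U : Set G))
    (hcm : ∀ a ∈ A, ∀ b ∈ A, a * b * a⁻¹ * b⁻¹ ∈ centralizer (U : Set G))
    (hoff : ∀ W ≤ U, (centralizer (A : Set G)).relIndex W ≤ (centralizer (W : Set G)).relIndex A)
    (hAV : A ≤ centralizer (V : Set G)) (hAQ : ¬ A ≤ Q) : False := by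
  obtain ⟨α, hαA, hαQ⟩ := SetLike.not_le_iff_exists.1 hAQ
  have hα : α ∈ S := hAS hαA
  have hαP : α ∈ P := h.syl.1 hα
  have hα2U : α * α ∈ centralizer (U : Set G) := by rw [← pow_two]; exact hsq α hαA
  have hα2 : α * α ∈ Q := hQU ⟨mul_mem hα hα, hα2U⟩
  have hQR : Q ≤ normalizer (R : Set G) := h.Q_le.trans h.mod.S_R
  have hPC : P ≤ normalizer ((centralizer (U : Set G) : Subgroup G) : Set G) := NotFF.normalizer_centralizer hU
  -- `ρ`
  obtain ⟨g, hg, s, hs, hgs⟩ := h.moves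
  have hβR : g * α * g⁻¹ ∉ normalizer (R : Set G) := by
    intro hβ
    by_cases hsQ : s ∈ Q
    · exact hgs (hQR ((h.conj_mem_Q hg).2 hsQ))
    · have h1 : s * α ∈ Q := h.two hs hα hsQ hαQ
      have h2 : g * (s * α) * g⁻¹ ∈ Q := (h.conj_mem_Q hg).2 h1
      have h3 : g * s * g⁻¹ = g * (s * α) * g⁻¹ * (g * α * g⁻¹)⁻¹ := by group
      exact hgs (h3 ▸ mul_mem (hQR h2) (inv_mem hβ))
  obtain ⟨m, hm⟩ := odd_pow h hα hαQ hα2 hg rfl
  set β := g * α * g⁻¹ with hβ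
  have hβP : β ∈ P := mul_mem (mul_mem hg hαP) (inv_mem hg)
  have hβ2 : β * β ∈ centralizer (U : Set G) := by
    have e : β * β = g * (α * α) * g⁻¹ := by rw [hβ]; group
    rw [e]; exact (mem_normalizer_iff.1 (hPC hg) _).1 hα2U
  set ρ := α * β with hρ
  have hρP : ρ ∈ P := mul_mem hαP hβP
  have hinv : α * ρ * α⁻¹ * ρ ∈ centralizer (U : Set G) := by
    have e : α * ρ * α⁻¹ * ρ = (α * α) * (β * β) := by rw [hρ]; group
    rw [e]; exact mul_mem hα2U hβ2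
  have hρR : ρ ∉ normalizer (R : Set G) := by
    intro h0
    apply hβR
    have : β = α⁻¹ * ρ := by rw [hρ]; group
    rw [this]
    exact mul_mem (inv_mem (h.mod.S_R hα)) h0
  have hαV : α ∈ centralizer (V : Set G) := hAV hαA
  have hinf := inf_eq h hU hα hαQ hαV hρP hρR hinv hm
  -- `V₁`, `V₂`
  have hρ'P : ρ⁻¹ ∈ P := inv_mem hρP
  set V1 := cj ρ V with hV1
  set V2 := cj ρ⁻¹ V with hV2
  have hV1U : V1 ≤ U := h.conj_le _ hρP
  have hV2U : V2 ≤ U := h.conj_le _ hρ'P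
  have hα1 : cj α V1 = V2 := by
    obtain ⟨n, hn, e⟩ : ∃ n ∈ centralizer (U : Set G), α * ρ = n * (ρ⁻¹ * α) := ⟨_, hinv, by group⟩
    rw [hV1, cj_cj, e, ← cj_cj, ← cj_cj, cj_eq_of_mem_normalizer (h.mod.S_V hα),
      cj_eq_of_mem_normalizer (centralizer_le_normalizer _ (centralizer_le hV2U hn))]
  have hVel : IsElementaryAbelian 2 V :=
    isElementaryAbelian_iff.2 ⟨fun a ha b hb => mem_centralizer_iff.1 (h.mod.comm hb) a ha, h.mod.sq⟩
  have hV1el : IsElementaryAbelian 2 V1 := isElementaryAbelian_cj _ hVel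
  have hcomm21 : V2 ≤ centralizer (V1 : Set G) :=
    hV2U.trans (h.U_comm.trans (centralizer_le hV1U))
  have hcard1 : Nat.card V1 = 16 := by rw [hV1, card_cj, h.mod.card]
  -- `|V₁ ∩ V₂| ≤ 2`
  have hz2 : Nat.card (zpowers z) ≤ 2 := by
    rw [Nat.card_zpowers]
    exact Nat.le_of_dvd (by decide) (orderOf_dvd_of_pow_eq_one (h.mod.sq z (h.mod.V3_le (h.mod.R_le h.mod.z_mem))))
  set N := V1 ⊔ V2 with hN
  have hV1N : V1 ≤ N := le_sup_left
  have hV2N : V2 ≤ N := le_sup_right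
  have hNU : N ≤ U := sup_le hV1U hV2U
  -- elements of `V₁` centralised by `α`
  have hfix : ∀ v ∈ V1, α * v = v * α → v ∈ zpowers z := by
    intro v hv hc
    rw [← hinf]
    refine ⟨hv, ?_⟩
    rw [← hα1]
    have : v = α * v * α⁻¹ := by rw [hc]; group
    rw [this]
    exact Subgroup.mem_map_of_mem _ hv
  have hidxα : 8 ≤ (centralizer ({α} : Set G)).relIndex V1 := by
    have h1 := card_eq (V := V1) (B := centralizer ({α} : Set G))
    have h2 : Nat.card ↥(V1 ⊓ centralizer ({α} : Set G)) ≤ 2 := by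
      refine le_trans (Subgroup.card_le_of_le ?_) hz2
      rintro v ⟨hv, hvc⟩
      exact hfix v hv (mem_centralizer_singleton_iff.1 hvc).symm
    rw [hcard1] at h1
    by_contra hcon
    push Not at hcon
    have := Nat.mul_le_mul (Nat.le_of_lt_succ hcon : (centralizer ({α} : Set G)).relIndex V1 ≤ 7) h2
    omega
  have hmax : (centralizer (A : Set G)).relIndex N ≤ (centralizer (N : Set G)).relIndex A := hoff N hNU
  set D := A ⊓ Q with hD
  have hDA : D ≤ A := inf_le_left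
  have hDQ : D ≤ Q := inf_le_right
  have hDc : centralizer (V1 : Set G) ⊓ D ≤ centralizer (N : Set G) := by
    rintro a ⟨ha1, haD⟩
    rw [mem_centralizer_iff]
    intro y hy
    have h1 : N ≤ centralizer ({a} : Set G) := by
      refine sup_le (fun x hx => ?_) (fun x hx => ?_)
      · rw [mem_centralizer_singleton_iff]
        exact mem_centralizer_iff.1 ha1 x hx
      · rw [mem_centralizer_singleton_iff]
        rw [← hα1, mem_cj] at hx
        have hxU : α⁻¹ * x * α ∈ U := hV1U hx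
        have h2 := mem_centralizer_iff.1 ha1 _ hx
        -- `α⁻¹ a α = c a`, `c ∈ C(U)`
        have h3 := hcm α⁻¹ (inv_mem hαA) a (hDA haD)
        rw [inv_inv] at h3
        have h4 := mem_centralizer_iff.1 h3 _ hxU
        have e : x * a = α * ((α⁻¹ * x * α) * (α⁻¹ * a * α * a⁻¹) * a) * α⁻¹ := by group
        have e2 : (α⁻¹ * x * α) * (α⁻¹ * a * α * a⁻¹) * a = (α⁻¹ * a * α * a⁻¹) * a * (α⁻¹ * x * α) := by
          rw [h4, mul_assoc, h2, ← mul_assoc]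
        rw [e, e2]; group
    exact mem_centralizer_singleton_iff.1 (h1 hy)
  have hne0 : ∀ X Y : Subgroup G, X.relIndex Y ≠ 0 := fun X Y => by
    have : Finite (Y ⧸ X.subgroupOf Y) := inferInstance
    exact Nat.card_pos.ne'
  have hidx : (centralizer (N : Set G)).relIndex A ≤ (centralizer (V1 : Set G)).relIndex D * 2 := by
    refine (relIndex_le_of_le_left hDc (hne0 _ _)).trans ?_
    rw [← relIndex_inf_mul_relIndex, inf_eq_left.2 hDA]
    refine Nat.mul_le_mul_left _ ?_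
    have h1 : D.relIndex A = Q.relIndex A := by rw [hD]; exact inf_relIndex_left _ _
    rw [h1, ← h.idx]
    exact relIndex_le_of_le_right hAS (hne0 _ _)
  -- transport to `V`
  have hD'S : cj ρ⁻¹ D ≤ S := by
    refine le_trans ?_ h.Q_le
    have := cj_mono ρ⁻¹ hDQ
    rwa [cj_eq_of_mem_normalizer (h.norm hρ'P)] at this
  have hVc : ∀ x ∈ centralizer (U : Set G), ρ⁻¹ * x * ρ ∈ centralizer (V : Set G) := by
    intro x hx
    have h1 := centralizer_le (show (V1 : Set G) ⊆ U from hV1U) hx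
    rw [hV1, ← cj_centralizer, mem_cj] at h1
    exact h1
  have hD'on : ElemOn V (cj ρ⁻¹ D) := by
    constructor
    · intro a ha
      rw [mem_cj, inv_inv] at ha
      have h1 := hVc _ (hsq _ (hDA ha))
      have e : ρ⁻¹ * (ρ * a * ρ⁻¹) ^ 2 * ρ = a ^ 2 := by rw [pow_two, pow_two]; group
      rwa [e] at h1
    · intro a ha b hb
      rw [mem_cj, inv_inv] at ha hb
      have h1 := hVc _ (hcm _ (hDA ha) _ (hDA hb))
      have e : ρ⁻¹ * ((ρ * a * ρ⁻¹) * (ρ * b * ρ⁻¹) * (ρ * a * ρ⁻¹)⁻¹ * (ρ * b * ρ⁻¹)⁻¹) * ρ =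
        a * b * a⁻¹ * b⁻¹ := by group
      rwa [e] at h1
  have hidx4 : (centralizer (V1 : Set G)).relIndex D ≤ 4 := by
    have h1 := h.mod.le4 _ hD'S hD'on
    have h2 := relIndex_map_map_of_injective (f := (MulAut.conj ρ).toMonoidHom) (centralizer (V : Set G)) (cj ρ⁻¹ D)
      (MulAut.conj ρ).injective
    have h3 : (centralizer (V : Set G)).map (MulAut.conj ρ).toMonoidHom = centralizer (V1 : Set G) :=
      cj_centralizer ρ V
    have h4 : (cj ρ⁻¹ D).map (MulAut.conj ρ).toMonoidHom = D := cj_cj_inv ρ D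
    rw [h3, h4] at h2
    rw [h2]; exact h1
  have hNα : 8 ≤ (centralizer ({α} : Set G)).relIndex N :=
    hidxα.trans (relIndex_le_of_le_right hV1N (hne0 _ _))
  have hCA : centralizer (A : Set G) ≤ centralizer ({α} : Set G) :=
    centralizer_le (Set.singleton_subset_iff.2 hαA)
  have hmul : (centralizer (A : Set G)).relIndex (centralizer ({α} : Set G) ⊓ N) *
      (centralizer ({α} : Set G)).relIndex N = (centralizer (A : Set G)).relIndex N := by
    rw [relIndex_inf_mul_relIndex, inf_eq_left.2 hCA]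
  -- `A ∩ Q` centralises `v v^α`
  have hdiag : ∀ b ∈ D, ∀ v ∈ V1, b * (v * (α * v * α⁻¹)) = v * (α * v * α⁻¹) * b := by
    intro b hb v hv
    by_contra hcon
    have hv2 : α * v * α⁻¹ ∈ V2 := by
      rw [← hα1]; exact Subgroup.mem_map_of_mem _ hv
    have hn : v * (α * v * α⁻¹) ∈ centralizer ({α} : Set G) ⊓ N := by
      refine mem_inf.2 ⟨?_, mul_mem (hV1N hv) (hV2N hv2)⟩
      rw [mem_centralizer_singleton_iff]
      have h1 : v * (α * v * α⁻¹) = α * v * α⁻¹ * v := mem_centralizer_iff.1 (hcomm21 hv2) v hv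
      have h2 : v * (α * α) = α * α * v := mem_centralizer_iff.1 hα2U v (hV1U hv)
      calc v * (α * v * α⁻¹) * α = α * v * α⁻¹ * v * α := by rw [h1]
        _ = α * v * α⁻¹ * (v * (α * α)) * α⁻¹ := by group
        _ = α * (v * (α * v * α⁻¹)) := by rw [h2]; group
    have hnot : v * (α * v * α⁻¹) ∉ centralizer (A : Set G) := fun h0 =>
      hcon (mem_centralizer_iff.1 h0 b (hDA hb))
    have h2 : 2 ≤ (centralizer (A : Set G)).relIndex (centralizer ({α} : Set G) ⊓ N) := by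
      have h3 := hne0 (centralizer (A : Set G)) (centralizer ({α} : Set G) ⊓ N)
      have h4 : (centralizer (A : Set G)).relIndex (centralizer ({α} : Set G) ⊓ N) ≠ 1 := fun h5 =>
        hnot (relIndex_eq_one.1 h5 hn)
      omega
    have h5 := Nat.mul_le_mul h2 hNα
    rw [hmul] at h5
    omega
  have hQ1 : Q ≤ normalizer (V1 : Set G) := by
    intro q hq
    rw [mem_normalizer_iff_cj, hV1, cj_cj]
    have h1 : ρ⁻¹ * q * ρ ∈ Q := by
      have := (h.conj_mem_Q hρ'P (x := q)).2 hq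
      rwa [inv_inv] at this
    have e : q * ρ = ρ * (ρ⁻¹ * q * ρ) := by group
    rw [e, ← cj_cj, cj_eq_of_mem_normalizer (h.mod.S_V (h.Q_le h1))]
  have hQ2 : Q ≤ normalizer (V2 : Set G) := by
    intro q hq
    rw [mem_normalizer_iff_cj, hV2, cj_cj]
    have h1 : ρ * q * ρ⁻¹ ∈ Q := (h.conj_mem_Q hρP (x := q)).2 hq
    have e : q * ρ⁻¹ = ρ⁻¹ * (ρ * q * ρ⁻¹) := by group
    rw [e, ← cj_cj, cj_eq_of_mem_normalizer (h.mod.S_V (h.Q_le h1))]
  have hDcent : D ≤ centralizer (V1 : Set G) := by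
    intro b hb
    have hsm : ∀ v ∈ V1, b * v * b⁻¹ * v⁻¹ ∈ zpowers z := by
      intro v hv
      have hv2 : α * v * α⁻¹ ∈ V2 := by
        rw [← hα1]; exact Subgroup.mem_map_of_mem _ hv
      have hbv : b * v * b⁻¹ ∈ V1 := (mem_normalizer_iff.1 (hQ1 (hDQ hb)) v).1 hv
      have hbv2 : b * (α * v * α⁻¹) * b⁻¹ ∈ V2 := (mem_normalizer_iff.1 (hQ2 (hDQ hb)) _).1 hv2
      have h1 := hdiag b hb v hv
      have h2 : b * v * b⁻¹ * (b * (α * v * α⁻¹) * b⁻¹) = v * (α * v * α⁻¹) := by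
        calc b * v * b⁻¹ * (b * (α * v * α⁻¹) * b⁻¹) = b * (v * (α * v * α⁻¹)) * b⁻¹ := by group
          _ = v * (α * v * α⁻¹) * b * b⁻¹ := by rw [h1]
          _ = v * (α * v * α⁻¹) := by group
      have h3 : v⁻¹ * (b * v * b⁻¹) = α * v * α⁻¹ * (b * (α * v * α⁻¹) * b⁻¹)⁻¹ := by
        rw [eq_mul_inv_iff_mul_eq, mul_assoc, h2]; group
      have h4 : b * v * b⁻¹ * v⁻¹ = v⁻¹ * (b * v * b⁻¹) :=
        (isElementaryAbelian_iff.1 hV1el).1 _ hbv _ (inv_mem hv)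
      rw [← hinf]
      refine mem_inf.2 ⟨mul_mem hbv (inv_mem hv), ?_⟩
      rw [h4, h3]
      exact mul_mem hv2 (inv_mem hbv2)
    have hb' : ρ⁻¹ * b * ρ ∈ S := by
      have : ρ⁻¹ * b * ρ = ρ⁻¹ * b * (ρ⁻¹)⁻¹ := by rw [inv_inv]
      rw [this]
      exact hD'S (Subgroup.mem_map_of_mem _ hb)
    have h1 : ρ⁻¹ * b * ρ ∈ centralizer (V : Set G) := by
      refine h.mod.small _ hb' fun v hv => ?_
      have hv1 : ρ * v * ρ⁻¹ ∈ V1 := Subgroup.mem_map_of_mem _ hv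
      obtain ⟨i, hi⟩ := mem_zpowers_iff.1 (hsm _ hv1)
      have hzρ : ρ⁻¹ * z ^ i * ρ = z ^ i := by
        have h0 : ρ * z ^ i = z ^ i * ρ := ((show Commute ρ z from h.cz ρ hρP).zpow_right i).eq
        rw [mul_assoc, ← h0, ← mul_assoc, inv_mul_cancel, one_mul]
      have e : ρ⁻¹ * b * ρ * v * (ρ⁻¹ * b * ρ)⁻¹ * v⁻¹ =
          ρ⁻¹ * (b * (ρ * v * ρ⁻¹) * b⁻¹ * (ρ * v * ρ⁻¹)⁻¹) * ρ := by group
      rw [e, ← hi, hzρ]
      exact zpow_mem (mem_zpowers z) i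
    have h2 : b ∈ cj ρ (centralizer (V : Set G)) := mem_cj.2 h1
    rwa [cj_centralizer] at h2
  rw [relIndex_eq_one.2 hDcent] at hidx
  have h9 : (centralizer ({α} : Set G)).relIndex N ≤ (centralizer (A : Set G)).relIndex N := by
    rw [← hmul]
    exact Nat.le_mul_of_pos_left _ (Nat.pos_of_ne_zero (hne0 _ _))
  omega

end Cfsg.Agent.Omega.NO3S.Fld.LDih

/-! ### At a level -/

namespace Cfsg.Agent.Omega.NO3S.Fld.Lv4

open Subgroup Cfsg Cfsg.Agent.ZN Cfsg.Agent.ZN.ChoiceBase Cfsg.Agent.Omega.MinPar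
open Cfsg.Agent.MinSimple.VModule (oddGen le_normalizer_o2)
open Cfsg.Agent.Omega.NO3b.EZero (cl cj_le_cl le_cl cl_le le_normalizer_cl)
open Cfsg.Agent.Omega.NO3b.K0 (cj_self)
open Cfsg.Agent.Omega.NO3S.Level (Lev BO nxt)

universe u

variable {G : Type u} [Group G] [Finite G] {S : Sylow 2 G} {P P2 R V3 K : Subgroup G} {z : G}
  (h : Lv4 S P P2 R V3 K z)
include h

/-- the normal closure of `S` in `P₂` moves `R` -/
theorem moves : ∃ g ∈ P2, ∃ s ∈ (S : Subgroup G), g * s * g⁻¹ ∉ normalizer (R : Set G) := by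
  by_contra hcon
  push Not at hcon
  have h1 : cl (S : Subgroup G) P2 ≤ normalizer (R : Set G) := by
    refine cl_le fun p hp => ?_
    rintro _ ⟨s, hs, rfl⟩
    exact hcon p hp s hs
  have h2 : cl (S : Subgroup G) P2 ≤ P2 := cl_le fun p hp => by
    have h3 := cj_mono p h.S_le
    rwa [cj_self hp] at h3
  rcases h.min_or h2 (le_normalizer_cl _ _) with h3 | h3
  · exact h.E_R (h3.trans h1)
  · exact h.not_S_le ((le_inf le_rfl (le_cl _ _)).trans h3)

theorem sit (hidx : (o2 P2).relIndex (S : Subgroup G) = 2) :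
    Dih.Sit (S : Subgroup G) P2 (o2 P2) (cl (zl (S : Subgroup G) P) P2) (zl (S : Subgroup G) P) R V3 z where
  mod := h.mod
  syl := h.syl
  Q_le := h.Q_le
  norm := le_normalizer_o2 P2
  idx := hidx
  cz := fun _ hg => h.z_comm hg
  U_le := h.U_le_S
  U_comm := h.U_comm
  conj_le := fun _ hg => cj_le_cl hg
  moves := h.moves

/-- **#15515 (4) at a level**: `|S : Q| = 2` ⟹ the best offenders in `L` are contained in `Q`. -/
theorem dih (hidx : (o2 P2).relIndex (S : Subgroup G) = 2) {A : Subgroup G} (hA : A ∈ BO (S : Subgroup G) K)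
    (hAL : A ≤ o2 P) : A ≤ o2 P2 := by
  by_contra hcon
  exact LDih.false_of (h.sit hidx) h.U_norm h.inf_cent_U hA.1
    (fun a ha => centralizer_le h.U_le_zc (h.BO_sq hA ha).2)
    (fun a ha b hb => centralizer_le h.U_le_zc (h.BO_comm hA ha hb).2)
    (fun W hW => BO_le hA (hW.trans h.U_le_zc))
    (fun a ha => (h.mem_L_iff (hA.1 ha)).1 (hAL ha)) hcon

end Cfsg.Agent.Omega.NO3S.Fld.Lv4
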