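import Cfsg.Agent.Mrg.Omega.NO3S.Fld.LOne
import Cfsg.Agent.Mrg.Omega.NO3S.Fld.LDih

section


/-!
# Fld, `q = 4`, `j < i` : the case `[V₃, Q] ≤ ⟨z⟩`

`nb B = {u ∈ U | [u, B] ≤ ⟨z⟩}`, `K₀ = nb Q`; `A ∈ F` acts quadratically on `U`, `A ≰ Q`, `A₀ = A ∩ Q`.

* `B4.lb` : `|B : C_B(U)| ≤ |U : nb B|` for `B ≤ A₀`;
* `B4.CA` : the result of the count; `B4.key` : `V₃^y = V₃^y'` if they have a common element `∉ C(A₀)`;
* `B4.normA` : `P₂ ≤ N_G(V₃)`.
-/

set_option autoImplicit false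
set_option linter.unusedSectionVars false

namespace Cfsg.Agent.Omega.NO3S.Fld

open Subgroup Cfsg Cfsg.Agent.ZN Cfsg.Agent.ZN.ChoiceBase Cfsg.Agent.Omega.MinPar Cfsg.Agent.Omega.FrameNOFF
open Cfsg.Agent.ZN.ChoiceSit (Syl syl_iff syl_not_dvd o2_le_syl isPGroup_o2)
open Cfsg.Agent.MinSimple.MinParabolic (IsMinPar)
open Cfsg.Agent.MinSimple.VModule (oddGen oddGen_le mem_oddGen le_normalizer_oddGen le_normalizer_o2 o2_le
  zc_le zc_le_zl le_normalizer_zl zc_sq zc_comm le_centralizer_zc)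
open Cfsg.Agent.Omega.NO3b.EZero (cl cj_le_cl le_cl cl_le cj_cl le_normalizer_cl cent_symm cj_cent cj_norm
  sq_of_comm oddGen_sup_syl mem_cj_self relIndex_cj le_normalizer_inf_cent)
open Cfsg.Agent.Omega.NO3b.K0 (conj_mem' cj_of_le cj_self NoOv)
open Cfsg.Agent.Omega.NO3S.NotFF (le_normalizer_of_forall normalizer_inf normalizer_sup normalizer_centralizer
  normalizer_commutator)
open Cfsg.Agent.Omega.SQ1.Bau (card_sup_comm mem_sup_comm)
open Cfsg.Agent.Omega.NO1.BestOff (Best)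
open Cfsg.Agent.Omega.NO3S.Level (Lev BO nxt)
open scoped commutatorElement

universe u

section aux

variable {G : Type u} [Group G] [Finite G]

theorem relIndex_pos (H L : Subgroup G) : 0 < H.relIndex L :=
  Nat.pos_of_ne_zero (FiniteIndex.index_ne_zero (H := H.subgroupOf L))

/-- `|L : H| = |L : M| |M : H|` for `H ∩ L ≤ M ≤ L` -/
theorem relIndex_mul_of {H M L : Subgroup G} (h1 : L ⊓ H ≤ M) (h2 : M ≤ L) :
    H.relIndex M * M.relIndex L = H.relIndex L := by
  have h3 := relIndex_mul_relIndex (L ⊓ H) M L h1 h2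
  rw [inf_relIndex_left] at h3
  rw [← h3]
  congr 1
  rw [← inf_relIndex_right, ← inf_relIndex_right (L ⊓ H)]
  congr 1
  apply le_antisymm
  · exact fun a ha => ⟨⟨h2 ha.2, ha.1⟩, ha.2⟩
  · exact fun a ha => ⟨ha.1.2, ha.2⟩

theorem two_le_relIndex {H L : Subgroup G} {v : G} (hv : v ∈ L) (hvH : v ∉ H) : 2 ≤ H.relIndex L := by
  have h1 : H.relIndex L ≠ 1 := fun h0 => hvH (relIndex_eq_one.1 h0 hv)
  have h2 := relIndex_pos H L
  omega

/-- equal index -/
theorem eq_of_relIndex {H M L : Subgroup G} (h1 : H ≤ M) (h2 : M ≤ L) (h3 : H.relIndex L ≤ M.relIndex L) :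
    H = M := by
  have h4 := relIndex_mul_relIndex H M L h1 h2
  have h5 : H.relIndex M ≤ 1 := by
    by_contra hcon
    push Not at hcon
    have h6 := relIndex_pos M L
    nlinarith
  have h6 := relIndex_pos H M
  exact le_antisymm h1 (relIndex_eq_one.1 (by omega))

end aux

namespace B4

variable {G : Type u} [Group G] [Finite G] {S : Sylow 2 G} {P P2 R V3 : Subgroup G} {z : G}
  (h : B4 S P P2 R V3 z)
include h

/-- `{u ∈ U | [u, B] ≤ ⟨z⟩}` -/
def nb (B : Subgroup G) : Subgroup G := cmod (cl (zl (S : Subgroup G) P) P2) B (zpowers z) h.U_z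

theorem mem_nb {B : Subgroup G} {u : G} : u ∈ h.nb B ↔
    u ∈ cl (zl (S : Subgroup G) P) P2 ∧ ∀ b ∈ B, b * u * b⁻¹ * u⁻¹ ∈ zpowers z := Iff.rfl

theorem nb_le (B : Subgroup G) : h.nb B ≤ cl (zl (S : Subgroup G) P) P2 := fun _ hu => hu.1

theorem nb_anti {B B' : Subgroup G} (hB : B ≤ B') : h.nb B' ≤ h.nb B := fun _ hu => ⟨hu.1, fun b hb => hu.2 b (hB hb)⟩

theorem P2_nb : P2 ≤ normalizer (h.nb (o2 P2) : Set G) := norm_cmod h.U_norm (le_normalizer_o2 P2) h.P2_zpowers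

theorem X_le_nb : cl R P2 ≤ h.nb (o2 P2) := fun _ hx => ⟨h.X_le_U hx, fun _ hb => h.comm_XQ hb hx⟩

theorem U_mul {u v : G} (hu : u ∈ cl (zl (S : Subgroup G) P) P2) (hv : v ∈ cl (zl (S : Subgroup G) P) P2) :
    u * v = v * u := mem_centralizer_iff.1 (h.U_comm hv) u hu

theorem U_sq' {u : G} (hu : u ∈ cl (zl (S : Subgroup G) P) P2) : u * u = 1 := by
  have := h.U_sq u hu
  rwa [pow_two] at this

/-- `[b, u v] = [b, u] [b, v]` -/
theorem comm_mul {b u v : G} (hb : b ∈ P2) (hu : u ∈ cl (zl (S : Subgroup G) P) P2)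
    (hv : v ∈ cl (zl (S : Subgroup G) P) P2) :
    b * (u * v) * b⁻¹ * (u * v)⁻¹ = (b * u * b⁻¹ * u⁻¹) * (b * v * b⁻¹ * v⁻¹) := by
  have h1 : b * v * b⁻¹ * v⁻¹ ∈ cl (zl (S : Subgroup G) P) P2 := mul_mem (conj_mem' h.U_norm hb hv) (inv_mem hv)
  have h2 := h.U_mul hu h1
  have e : b * (u * v) * b⁻¹ * (u * v)⁻¹ = (b * u * b⁻¹ * u⁻¹) * (u * (b * v * b⁻¹ * v⁻¹) * u⁻¹) := by group
  rw [e, h2, mul_inv_cancel_right]

/-- the index of `C_A(U)` -/
theorem relIndex_U {A : Subgroup G} (hA : A ≤ (S : Subgroup G)) :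
    (centralizer (cl (zl (S : Subgroup G) P) P2 : Set G)).relIndex (A ⊓ o2 P2) * (o2 P2).relIndex A =
      (centralizer (cl (zl (S : Subgroup G) P) P2 : Set G)).relIndex A := by
  have h1 := relIndex_mul_of (H := centralizer (cl (zl (S : Subgroup G) P) P2 : Set G)) (M := A ⊓ o2 P2) (L := A)
    (fun a ha => ⟨ha.1, h.inf_cent_U ⟨hA ha.1, ha.2⟩⟩) inf_le_left
  rw [inf_relIndex_left] at h1
  exact h1

/-- `|A₀ : C_{A₀}(W)| |A : A₀| = |A : C_A(W)|` for `X ≤ W` -/
theorem relIndex_W {A W : Subgroup G} (hA : A ≤ (S : Subgroup G)) (hW : cl R P2 ≤ W) :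
    (centralizer (W : Set G)).relIndex (A ⊓ o2 P2) * (o2 P2).relIndex A = (centralizer (W : Set G)).relIndex A := by
  have h1 := relIndex_mul_of (H := centralizer (W : Set G)) (M := A ⊓ o2 P2) (L := A)
    (fun a ha => ⟨ha.1, h.inf_cent_X ⟨hA ha.1, centralizer_le hW ha.2⟩⟩) inf_le_left
  rw [inf_relIndex_left] at h1
  exact h1

section A

variable (hz : ∀ b ∈ o2 P2, ∀ v ∈ V3, b * v * b⁻¹ * v⁻¹ ∈ zpowers z)
include hz

theorem hzy {y : G} (hy : y ∈ P2) : ∀ b ∈ o2 P2, ∀ v ∈ cj y V3, b * v * b⁻¹ * v⁻¹ ∈ zpowers z :=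
  (h.hz_iff hy).2 hz

theorem cjV3_nb {y : G} (hy : y ∈ P2) : cj y V3 ≤ h.nb (o2 P2) := fun _ hv =>
  ⟨h.cjV_le hy (cj_mono y h.mod.V3_le hv), fun b hb => h.hzy hz hy b hb _ hv⟩

/-- `C_Q(K₀) = C_Q(U)` -/
theorem cent_nb {q : G} (hq : q ∈ o2 P2) (hc : q ∈ centralizer (h.nb (o2 P2) : Set G)) :
    q ∈ centralizer (cl (zl (S : Subgroup G) P) P2 : Set G) := by
  have h1 : cl (zl (S : Subgroup G) P) P2 ≤ centralizer ({q} : Set G) := by
    refine cl_le fun y hy v hv => ?_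
    rw [mem_centralizer_singleton_iff]
    have h2 := (h.loc hy).faith q hq (centralizer_le (h.cjV3_nb hz hy) hc)
    exact mem_centralizer_iff.1 h2 v hv
  rw [mem_centralizer_iff]
  exact fun u hu => mem_centralizer_singleton_iff.1 (h1 hu)

/-- `[U, E] ≤ K₀` ⟹ `P₂ ≤ N(V₃)` -/
theorem norm_of_E (hE : ⁅cl (zl (S : Subgroup G) P) P2, oddGen P2⁆ ≤ h.nb (o2 P2)) :
    P2 ≤ normalizer (V3 : Set G) := by
  have hVX : P2 ≤ normalizer ((zl (S : Subgroup G) P ⊔ h.nb (o2 P2) : Subgroup G) : Set G) := by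
    refine h.sup_S.ge.trans (sup_le ?_ (normalizer_sup h.mod.S_V (h.S_le.trans h.P2_nb)))
    refine le_normalizer_of_forall fun e he w hw => ?_
    have hwU : w ∈ cl (zl (S : Subgroup G) P) P2 := (sup_le h.V_le_U (h.nb_le _)) hw
    have h1 : e * w * e⁻¹ * w⁻¹ ∈ h.nb (o2 P2) := by
      have h2 := inv_mem (hE (commutator_mem_commutator hwU he))
      rwa [commutatorElement_inv, commutatorElement_def] at h2
    have h2 := mul_mem (mem_sup_right (S := zl (S : Subgroup G) P) h1) hw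
    rwa [inv_mul_cancel_right] at h2
  have hU : cl (zl (S : Subgroup G) P) P2 ≤ zl (S : Subgroup G) P ⊔ h.nb (o2 P2) := cl_le fun p hp => by
    have h1 := cj_mono p (le_sup_left (a := zl (S : Subgroup G) P) (b := h.nb (o2 P2)))
    rwa [cj_of_le hVX hp] at h1
  have hW : ⁅o2 P2, cl (zl (S : Subgroup G) P) P2⁆ ≤ V3 := by
    rw [commutator_le]
    intro q hq u hu
    obtain ⟨v, hv, x, hx, rfl⟩ := mem_sup_comm (fun a ha b hb => h.U_mul (h.V_le_U ha) (h.nb_le _ hb)) (hU hu)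
    have h1 := h.comm_VS (h.Q_le hq) hv
    have h2 := h.zpowers_le_R.trans h.mod.R_le (hx.2 q hq)
    rw [commutatorElement_def, h.comm_mul (h.S_le (h.Q_le hq)) (h.V_le_U hv) hx.1]
    exact mul_mem h1 h2
  set W := ⁅o2 P2, cl (zl (S : Subgroup G) P) P2⁆ with hWdef
  have hWn : P2 ≤ normalizer (W : Set G) := normalizer_commutator (le_normalizer_o2 P2) h.U_norm
  have hWm : ∀ q ∈ o2 P2, ∀ v ∈ zl (S : Subgroup G) P, q * v * q⁻¹ * v⁻¹ ∈ W := fun q hq v hv => by
    have := commutator_mem_commutator hq (h.V_le_U hv)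
    rwa [commutatorElement_def] at this
  have hWz : ¬ W ≤ zpowers z := by
    intro h0
    apply h.not_Q_V
    intro q hq
    exact h.mod.small q (h.Q_le hq) fun v hv => h0 (hWm q hq v hv)
  rcases h.mod.uni W (hW.trans h.mod.V3_le) (h.S_le.trans hWn) with h1 | h1 | h1 | h1 | h1
  · exact absurd (h1.le.trans bot_le) hWz
  · exact absurd h1.le hWz
  · rw [h1] at hWn
    exact absurd hWn h.mv
  · rwa [h1] at hWn
  · have h2 := Subgroup.card_le_of_le hW
    rw [h1, h.mod.card, h.mod.cardV3] at h2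
    omega

section quad

variable {F : Set (Subgroup G)} (f : F4 S P P2 F) {A : Subgroup G} (hA : A ∈ F) (hAQ : ¬ A ≤ o2 P2)
  (hq : ∀ u ∈ cl (zl (S : Subgroup G) P) P2, ∀ a ∈ A, a * u * a⁻¹ * u⁻¹ ∈ centralizer (A : Set G))

include f hA hq in
omit hAQ in
/-- `|A₀ : C_{A₀}(V^y)| ≤ 2` -/
theorem mul_cent {y s t : G} (hy : y ∈ P2) (hs : s ∈ A ⊓ o2 P2) (ht : t ∈ A ⊓ o2 P2)
    (hsV : s ∉ centralizer ((cj y (zl (S : Subgroup G) P) : Subgroup G) : Set G))
    (htV : t ∉ centralizer ((cj y (zl (S : Subgroup G) P) : Subgroup G) : Set G)) :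
    s * t ∈ centralizer ((cj y (zl (S : Subgroup G) P) : Subgroup G) : Set G) := by
  have l := h.loc hy
  have lz := h.hzy hz hy
  obtain ⟨v, hv, hv3⟩ := l.exists_v
  have hvU := h.cjV_le hy hv
  have h1 : s * v * s⁻¹ * v⁻¹ ∉ zpowers z := fun h0 => hsV (l.L1 lz hs.2 hv hv3 h0)
  have h2 : t * v * t⁻¹ * v⁻¹ ∉ zpowers z := fun h0 => htV (l.L1 lz ht.2 hv hv3 h0)
  have h3 := l.comm3 s hs.2 v hv
  have h4 := l.comm3 t ht.2 v hv
  have hts : s * (t * v * t⁻¹ * v⁻¹) = (t * v * t⁻¹ * v⁻¹) * s :=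
    mem_centralizer_iff.1 (hq v hvU t ht.1) s hs.1
  have h5 := l.L3 hs.2 hsV h3 h4 h1 h2 (l.L2 lz hs.2 hv) hts
  refine l.L1 lz (mul_mem hs.2 ht.2) hv hv3 ?_
  have e : s * t * v * (s * t)⁻¹ * v⁻¹ = (s * (t * v * t⁻¹ * v⁻¹) * s⁻¹) * (s * v * s⁻¹ * v⁻¹) := by group
  have h6 := l.sq _ (l.V3_le h3)
  rw [pow_two] at h6
  rw [inv_eq_of_mul_eq_one_right h6] at h5
  rw [e, hts, mul_inv_cancel_right]
  exact h5

include f hA hq in
omit hAQ in
/-- **`|B : C_B(U)| ≤ |U : nb B|`** -/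
theorem lb : ∀ (n : ℕ) (B : Subgroup G), Nat.card B ≤ n → B ≤ A ⊓ o2 P2 →
    (centralizer (cl (zl (S : Subgroup G) P) P2 : Set G)).relIndex B ≤
      (h.nb B).relIndex (cl (zl (S : Subgroup G) P) P2) := by
  intro n
  induction n with
  | zero =>
    intro B hB
    have := Nat.card_pos (α := B)
    omega
  | succ n ih =>
    intro B hBn hB
    set U := cl (zl (S : Subgroup G) P) P2 with hU
    by_cases hBU : B ≤ centralizer (U : Set G)
    · rw [relIndex_eq_one.2 hBU]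
      exact relIndex_pos _ _
    obtain ⟨y, hy, hBy⟩ : ∃ y ∈ P2, ¬ B ≤ centralizer ((cj y (zl (S : Subgroup G) P) : Subgroup G) : Set G) := by
      by_contra hcon
      push Not at hcon
      exact hBU (cent_symm (cl_le fun y hy => cent_symm (hcon y hy)))
    obtain ⟨b, hb, hbV⟩ := SetLike.not_le_iff_exists.1 hBy
    have l := h.loc hy
    have lz := h.hzy hz hy
    obtain ⟨v, hv, hv3⟩ := l.exists_v
    have hvU : v ∈ U := h.cjV_le hy hv
    set B1 := B ⊓ centralizer ((cj y (zl (S : Subgroup G) P) : Subgroup G) : Set G) with hB1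
    have hB1B : B1 ≤ B := inf_le_left
    have h1 : Nat.card B1 < Nat.card B := by
      refine lt_of_le_of_ne (Subgroup.card_le_of_le hB1B) fun h0 => ?_
      have h2 := Subgroup.eq_of_le_of_card_ge hB1B h0.ge
      exact hBy (inf_eq_left.1 h2)
    have h2 := ih B1 (by omega) (hB1B.trans hB)
    have h3 : B1.relIndex B ≤ 2 := by
      rw [hB1, inf_relIndex_left]
      exact relIndex_le_two fun s hs t ht hsV htV => h.mul_cent hz f hA hq hy (hB hs) (hB ht) hsV htV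
    have h4 := relIndex_mul_of (H := centralizer (U : Set G)) (M := B1) (L := B)
      (le_inf inf_le_left (inf_le_right.trans (centralizer_le (h.cjV_le hy)))) hB1B
    have h5 := relIndex_mul_relIndex (h.nb B) (h.nb B1) U (h.nb_anti hB1B) (h.nb_le _)
    have h6 : 2 ≤ (h.nb B).relIndex (h.nb B1) := by
      refine two_le_relIndex (v := v) ⟨hvU, fun c hc => ?_⟩ fun h0 => hbV (l.L1 lz (hB hb).2 hv hv3 (h0.2 b hb))
      have h7 := mem_centralizer_iff.1 hc.2 v hv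
      rw [← h7, mul_inv_cancel_right, mul_inv_cancel]
      exact one_mem _
    rw [← h4, ← h5, mul_comm]
    exact Nat.mul_le_mul (h3.trans h6) h2

include f hA hAQ in
omit hq in
/-- **the count** -/
theorem count_A (hN : NoOv P2) (hE : ¬ ⁅cl (zl (S : Subgroup G) P) P2, oddGen P2⁆ ≤ h.nb (o2 P2)) :
    (∀ u ∈ h.nb (o2 P2), u ∈ centralizer ((A ⊓ o2 P2 : Subgroup G) : Set G) → u ∈ centralizer (A : Set G)) ∧
    (∀ u ∈ cl (zl (S : Subgroup G) P) P2, (∀ a ∈ A, a * u * a⁻¹ * u⁻¹ ∈ h.nb (o2 P2)) → u ∈ h.nb (A ⊓ o2 P2)) ∧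
    (h.nb (A ⊓ o2 P2)).relIndex (cl (zl (S : Subgroup G) P) P2) ≤
      (centralizer (cl (zl (S : Subgroup G) P) P2 : Set G)).relIndex (A ⊓ o2 P2) ∧
    2 ≤ (centralizer (cl (zl (S : Subgroup G) P) P2 : Set G)).relIndex (A ⊓ o2 P2) := by
  set U := cl (zl (S : Subgroup G) P) P2 with hU
  set K0 := h.nb (o2 P2) with hK0
  set A0 := A ⊓ o2 P2 with hA0
  set C := centralizer (A : Set G) with hC
  set x := (o2 P2).relIndex A with hx
  set r := (centralizer (U : Set G)).relIndex A0 with hr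
  have hAP : A ≤ P2 := (f.le A hA).trans h.S_le
  have hK0U : K0 ≤ U := h.nb_le _
  have h1 : r * x = (centralizer (U : Set G)).relIndex A := h.relIndex_U (f.le A hA)
  have h2 : C.relIndex U ≤ (centralizer (U : Set G)).relIndex A := f.index_le hA
  set M := K0 ⊔ (U ⊓ C) with hM
  have hMU : M ≤ U := sup_le hK0U inf_le_left
  have h3 : C.relIndex M * M.relIndex U = C.relIndex U := relIndex_mul_of le_sup_right hMU
  have h4 : C.relIndex K0 ≤ C.relIndex M := relIndex_le_of_le_right le_sup_left (relIndex_pos _ _).ne'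
  have hUK : U ≤ normalizer (K0 : Set G) := h.U_le_P2.trans h.P2_nb
  have hMD : M ≤ cmod U A K0 hUK := by
    refine sup_le (fun k hk => ⟨hK0U hk, fun a ha => mul_mem (conj_mem' h.P2_nb (hAP ha) hk) (inv_mem hk)⟩) ?_
    intro k hk
    refine ⟨hk.1, fun a ha => ?_⟩
    have := mem_centralizer_iff.1 hk.2 a ha
    rw [this, mul_inv_cancel_right, mul_inv_cancel]
    exact one_mem _
  have hDU : cmod U A K0 hUK ≤ U := fun _ hu => hu.1
  obtain ⟨hA2, hAc⟩ := h.F_o2 f hA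
  have h5 : x ≤ (cmod U A K0 hUK).relIndex U := by
    refine hN.gen hK0U h.U_le_P2 h.U_sq h.U_comm h.P2_nb h.U_norm hE hAP hA2 hAc hDU ?_
    rw [commutator_le]
    intro d hd a ha
    have h6 := inv_mem (hd.2 a ha)
    have e : (a * d * a⁻¹ * d⁻¹)⁻¹ = ⁅d, a⁆ := by rw [commutatorElement_def]; group
    rwa [e] at h6
  have h6 : (cmod U A K0 hUK).relIndex U ≤ M.relIndex U :=
    Nat.le_of_dvd (relIndex_pos _ _) (relIndex_dvd_of_le_left U hMD)
  have h7 : (centralizer (A0 : Set G)).relIndex K0 ≤ C.relIndex K0 :=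
    Nat.le_of_dvd (relIndex_pos _ _) (relIndex_dvd_of_le_left K0 (centralizer_le inf_le_left))
  have h8 : r ≤ (centralizer (A0 : Set G)).relIndex K0 := by
    have h9 : r ≤ (centralizer (K0 : Set G)).relIndex A0 := by
      rw [hr, ← inf_relIndex_left A0, ← inf_relIndex_left A0 (centralizer (K0 : Set G))]
      refine Nat.le_of_dvd (relIndex_pos _ _) (relIndex_dvd_of_le_left A0 ?_)
      exact fun a ha => ⟨ha.1, h.cent_nb hz ha.1.2 ha.2⟩
    refine h9.trans (pair_le h.z_sq (fun y hy => h.z_comm (h.U_le_P2 (hK0U hy))) fun b hb y hy => ?_)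
    exact h.mem_zpowers_iff'.1 (hy.2 b hb.2)
  have hxpos : 0 < x := relIndex_pos _ _
  have hrpos : 0 < r := relIndex_pos _ _
  have h9 : C.relIndex K0 * M.relIndex U ≤ r * x := by
    calc C.relIndex K0 * M.relIndex U ≤ C.relIndex M * M.relIndex U := Nat.mul_le_mul_right _ h4
      _ = C.relIndex U := h3
      _ ≤ _ := by rw [h1]; exact h2
  have h10 : C.relIndex K0 ≤ r := by
    have h11 : C.relIndex K0 * x ≤ r * x := (Nat.mul_le_mul_left _ (h5.trans h6)).trans h9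
    exact Nat.le_of_mul_le_mul_right h11 hxpos
  have h11 : M.relIndex U ≤ x := by
    have h12 : r * M.relIndex U ≤ r * x := (Nat.mul_le_mul_right _ (h8.trans h7)).trans h9
    exact Nat.le_of_mul_le_mul_left h12 hrpos
  have h12 : x ≤ r := by
    have h13 : x ≤ (K0 ⊓ C).relIndex K0 := by
      refine hN.gen (N := ⊥) (Y := K0) (D := K0 ⊓ C) bot_le (hK0U.trans h.U_le_P2) (fun y hy => h.U_sq y (hK0U hy))
        (hK0U.trans (h.U_comm.trans (centralizer_le hK0U))) (normalizer_eq_top (H := (⊥ : Subgroup G)) ▸ le_top) h.P2_nb ?_ hAP hA2 hAc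
        inf_le_left ?_
      · intro h0
        have h14 := commutator_eq_bot_iff_le_centralizer.1 (le_bot_iff.1 h0)
        exact h.E_cent_R (cent_symm ((h.R_le_X.trans h.X_le_nb).trans h14))
      · rw [le_bot_iff, commutator_eq_bot_iff_le_centralizer]
        exact inf_le_right
    rw [inf_relIndex_left] at h13
    exact h13.trans h10
  refine ⟨?_, ?_, ?_, ?_⟩
  · have h13 : K0 ⊓ C = K0 ⊓ centralizer (A0 : Set G) := by
      refine eq_of_relIndex (inf_le_inf_left _ (centralizer_le inf_le_left)) inf_le_left ?_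
      rw [inf_relIndex_left, inf_relIndex_left]
      exact h10.trans h8
    intro u hu huA
    have h14 : u ∈ K0 ⊓ centralizer (A0 : Set G) := ⟨hu, huA⟩
    rw [← h13] at h14
    exact h14.2
  · have h13 : M = cmod U A K0 hUK := eq_of_relIndex hMD hDU (h11.trans h5)
    intro u hu huA
    have h14 : u ∈ M := by rw [h13]; exact ⟨hu, huA⟩
    have h15 : M ≤ h.nb A0 := by
      refine sup_le (h.nb_anti inf_le_right) fun k hk => ⟨hk.1, fun a ha => ?_⟩
      have := mem_centralizer_iff.1 hk.2 a ha.1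
      rw [this, mul_inv_cancel_right, mul_inv_cancel]
      exact one_mem _
    exact h15 h14
  · have h15 : M ≤ h.nb A0 := by
      refine sup_le (h.nb_anti inf_le_right) fun k hk => ⟨hk.1, fun a ha => ?_⟩
      have := mem_centralizer_iff.1 hk.2 a ha.1
      rw [this, mul_inv_cancel_right, mul_inv_cancel]
      exact one_mem _
    exact ((Nat.le_of_dvd (relIndex_pos _ _) (relIndex_dvd_of_le_left U h15)).trans h11).trans h12
  · obtain ⟨a, ha, haQ⟩ := SetLike.not_le_iff_exists.1 hAQ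
    exact (two_le_relIndex ha haQ).trans h12

include f hA hq in
omit hAQ in
/-- **KEY** -/
theorem key (hle : (h.nb (A ⊓ o2 P2)).relIndex (cl (zl (S : Subgroup G) P) P2) ≤
      (centralizer (cl (zl (S : Subgroup G) P) P2 : Set G)).relIndex (A ⊓ o2 P2)) {y y' : G} (hy : y ∈ P2)
    (hy' : y' ∈ P2) {p : G} (hp : p ∈ cj y V3) (hp' : p ∈ cj y' V3)
    (hpA : p ∉ centralizer ((A ⊓ o2 P2 : Subgroup G) : Set G)) : cj y V3 = cj y' V3 := by
  by_contra hne
  set U := cl (zl (S : Subgroup G) P) P2 with hU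
  have l := h.loc hy
  have l' := h.loc hy'
  have lz := h.hzy hz hy
  have lz' := h.hzy hz hy'
  obtain ⟨v, hv, hv3⟩ := l.exists_v
  obtain ⟨v', hv', hv3'⟩ := l'.exists_v
  have hvU : v ∈ U := h.cjV_le hy hv
  have hvU' : v' ∈ U := h.cjV_le hy' hv'
  obtain ⟨b, hb, hbp⟩ : ∃ b ∈ A ⊓ o2 P2, b * p ≠ p * b := by
    by_contra hcon
    push Not at hcon
    exact hpA (mem_centralizer_iff.2 hcon)
  have hbV : b ∉ centralizer ((cj y (zl (S : Subgroup G) P) : Subgroup G) : Set G) := fun h0 =>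
    hbp (mem_centralizer_iff.1 h0 p (l.V3_le hp)).symm
  have hbV' : b ∉ centralizer ((cj y' (zl (S : Subgroup G) P) : Subgroup G) : Set G) := fun h0 =>
    hbp (mem_centralizer_iff.1 h0 p (l'.V3_le hp')).symm
  -- `C_{A₀}(p) = C_{A₀}(V^y) = C_{A₀}(V^y')`
  have h1 : ∀ c ∈ A ⊓ o2 P2, c * p = p * c →
      c ∈ centralizer ((cj y (zl (S : Subgroup G) P) : Subgroup G) : Set G) := by
    intro c hc hcp
    by_contra hcV
    have h2 := mem_centralizer_iff.1 (h.mul_cent hz f hA hq hy hc hb hcV hbV) p (l.V3_le hp)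
    rw [← mul_assoc, ← hcp, mul_assoc, mul_assoc] at h2
    exact hbp (mul_left_cancel h2).symm
  have h1' : ∀ c ∈ A ⊓ o2 P2, c * p = p * c →
      c ∈ centralizer ((cj y' (zl (S : Subgroup G) P) : Subgroup G) : Set G) := by
    intro c hc hcp
    by_contra hcV
    have h2 := mem_centralizer_iff.1 (h.mul_cent hz f hA hq hy' hc hb hcV hbV') p (l'.V3_le hp')
    rw [← mul_assoc, ← hcp, mul_assoc, mul_assoc] at h2
    exact hbp (mul_left_cancel h2).symm
  set A0 := A ⊓ o2 P2 with hA0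
  set B1 := A0 ⊓ centralizer ({p} : Set G) with hB1
  have hB1A : B1 ≤ A0 := inf_le_left
  have hB1p : ∀ c ∈ B1, c * p = p * c := fun c hc => mem_centralizer_singleton_iff.1 hc.2
  have h3 : B1.relIndex A0 ≤ 2 := by
    rw [hB1, inf_relIndex_left]
    refine relIndex_le_two fun s hs t ht hsp htp => ?_
    rw [mem_centralizer_singleton_iff] at hsp htp ⊢
    have hsV : s ∉ centralizer ((cj y (zl (S : Subgroup G) P) : Subgroup G) : Set G) := fun h0 =>
      hsp (mem_centralizer_iff.1 h0 p (l.V3_le hp)).symm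
    have htV : t ∉ centralizer ((cj y (zl (S : Subgroup G) P) : Subgroup G) : Set G) := fun h0 =>
      htp (mem_centralizer_iff.1 h0 p (l.V3_le hp)).symm
    exact (mem_centralizer_iff.1 (h.mul_cent hz f hA hq hy hs ht hsV htV) p (l.V3_le hp)).symm
  have hB1U : A0 ⊓ centralizer (U : Set G) ≤ B1 := by
    refine le_inf inf_le_left (inf_le_right.trans (centralizer_le (Set.singleton_subset_iff.2 ?_)))
    exact h.cjV_le hy (l.V3_le hp)
  have h4 := relIndex_mul_of (H := centralizer (U : Set G)) (M := B1) (L := A0) hB1U hB1A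
  have h5 := relIndex_mul_relIndex (h.nb A0) (h.nb B1) U (h.nb_anti hB1A) (h.nb_le _)
  have h6 := h.lb hz f hA hq _ B1 le_rfl hB1A
  have hvB : v ∈ h.nb B1 := by
    refine ⟨hvU, fun c hc => ?_⟩
    have h7 := mem_centralizer_iff.1 (h1 c (hB1A hc) (hB1p c hc)) v hv
    rw [← h7, mul_inv_cancel_right, mul_inv_cancel]
    exact one_mem _
  have hvB' : v' ∈ h.nb B1 := by
    refine ⟨hvU', fun c hc => ?_⟩
    have h7 := mem_centralizer_iff.1 (h1' c (hB1A hc) (hB1p c hc)) v' hv'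
    rw [← h7, mul_inv_cancel_right, mul_inv_cancel]
    exact one_mem _
  have hvA : v ∉ h.nb A0 := fun h0 => hbV (l.L1 lz hb.2 hv hv3 (h0.2 b hb))
  have hvA' : v' ∉ h.nb A0 := fun h0 => hbV' (l'.L1 lz' hb.2 hv' hv3' (h0.2 b hb))
  have h7 : 3 ≤ (h.nb A0).relIndex (h.nb B1) := by
    have h8 := two_le_relIndex hvB hvA
    by_contra hcon
    push Not at hcon
    have h9 : (h.nb A0).relIndex (h.nb B1) = 2 := by omega
    have h10 := Subgroup.mul_mem_iff_of_index_two (H := (h.nb A0).subgroupOf (h.nb B1)) h9 (a := ⟨v, hvB⟩)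
      (b := ⟨v', hvB'⟩)
    rw [mem_subgroupOf, mem_subgroupOf, mem_subgroupOf] at h10
    have h11 : v * v' ∈ h.nb A0 := h10.2 ⟨fun h0 => absurd h0 hvA, fun h0 => absurd h0 hvA'⟩
    have h12 := h11.2 b hb
    rw [h.comm_mul (h.S_le (h.Q_le hb.2)) hvU hvU'] at h12
    set w := b * v * b⁻¹ * v⁻¹ with hw
    set w' := b * v' * b⁻¹ * v'⁻¹ with hw'
    have hw3 : w ∈ cj y V3 := l.comm3 b hb.2 v hv
    have hw3' : w' ∈ cj y' V3 := l'.comm3 b hb.2 v' hv'
    have hwz : w ∉ zpowers z := fun h0 => hbV (l.L1 lz hb.2 hv hv3 h0)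
    have hzy : z ∈ cj y V3 := l.R_le l.z_mem
    have hzy' : z ∈ cj y' V3 := l'.R_le l'.z_mem
    have hww : w ∈ cj y' V3 := by
      have h13 : w = (w * w') * w'⁻¹ := by group
      rw [h13]
      exact mul_mem (zpowers_le.2 hzy' h12) (inv_mem hw3')
    -- `V₃^y ∩ V₃^y'` has order 8
    set D := cj y V3 ⊓ cj y' V3 with hD
    set D0 := D ⊓ centralizer ({b} : Set G) with hD0
    have hbz : z * b = b * z := (h.z_comm (h.S_le (h.Q_le hb.2))).symm
    have hzD : z ∈ D0 := ⟨⟨hzy, hzy'⟩, mem_centralizer_singleton_iff.2 hbz⟩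
    have hwD : w ∈ D0 := ⟨⟨hw3, hww⟩, mem_centralizer_singleton_iff.2 (l.L2 lz hb.2 hv).symm⟩
    have hpD : p ∈ D := ⟨hp, hp'⟩
    have hpD0 : p ∉ D0 := fun h0 => hbp (mem_centralizer_singleton_iff.1 h0.2).symm
    have h14 : 2 < Nat.card D0 := by
      by_contra hcon
      push Not at hcon
      have h15 : zpowers z = D0 := Subgroup.eq_of_le_of_card_ge (zpowers_le.2 hzD) (by rw [l.card_z]; exact hcon)
      rw [← h15] at hwD
      exact hwz hwD
    have h15 : 2 * Nat.card D0 ≤ Nat.card D := by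
      have h16 := relIndex_mul_card D D0
      rw [inf_eq_right.2 (inf_le_left : D0 ≤ D)] at h16
      rw [← h16]
      exact Nat.mul_le_mul_right _ (two_le_relIndex hpD hpD0)
    have h16 : Nat.card D ∣ 8 := by rw [← l.cardV3]; exact card_dvd_of_le inf_le_left
    have h17 : Nat.card D ≤ 8 := Nat.le_of_dvd (by norm_num) h16
    have h18 : Nat.card D ≠ 6 ∧ Nat.card D ≠ 7 := by
      refine ⟨?_, ?_⟩ <;> intro h7 <;> rw [h7] at h16 <;> revert h16 <;> decide
    have h19 : Nat.card D = 8 := by omega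
    have h20 : D = cj y V3 := Subgroup.eq_of_le_of_card_ge inf_le_left (by rw [h19, l.cardV3])
    have h21 : D = cj y' V3 := Subgroup.eq_of_le_of_card_ge inf_le_right (by rw [h19, l'.cardV3])
    exact hne (h20.symm.trans h21)
  have h8 : 0 < (centralizer (U : Set G)).relIndex B1 := relIndex_pos _ _
  have h9 : 3 * (centralizer (U : Set G)).relIndex B1 ≤ (h.nb A0).relIndex U := by
    rw [← h5]
    exact Nat.mul_le_mul h7 h6
  have h10 : (centralizer (U : Set G)).relIndex A0 ≤ 2 * (centralizer (U : Set G)).relIndex B1 := by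
    rw [← h4, mul_comm]
    exact Nat.mul_le_mul_right _ h3
  omega

end quad

/-- **`[V₃, Q] ≤ ⟨z⟩` ⟹ `P₂ ≤ N(V₃)`** -/
theorem normA {F : Set (Subgroup G)} (f : F4 S P P2 F) (hN : NoOv P2) : P2 ≤ normalizer (V3 : Set G) := by
  by_cases hE : ⁅cl (zl (S : Subgroup G) P) P2, oddGen P2⁆ ≤ h.nb (o2 P2)
  · exact h.norm_of_E hz hE
  exfalso
  obtain ⟨A, hA, hAQ, hq⟩ := h.exists_quad f
  obtain ⟨hH, hD, hle, hr⟩ := h.count_A hz f hA hAQ hN hE
  have hAP : A ≤ P2 := (f.le A hA).trans h.S_le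
  set A0 := A ⊓ o2 P2 with hA0
  obtain ⟨y, hy, hAy⟩ : ∃ y ∈ P2, ¬ A0 ≤ centralizer ((cj y (zl (S : Subgroup G) P) : Subgroup G) : Set G) := by
    by_contra hcon
    push Not at hcon
    have h1 : A0 ≤ centralizer (cl (zl (S : Subgroup G) P) P2 : Set G) :=
      cent_symm (cl_le fun y hy => cent_symm (hcon y hy))
    rw [relIndex_eq_one.2 h1] at hr
    omega
  obtain ⟨b, hb, hbV⟩ := SetLike.not_le_iff_exists.1 hAy
  have l := h.loc hy
  have lz := h.hzy hz hy
  obtain ⟨v, hv, hv3⟩ := l.exists_v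
  have hvU := h.cjV_le hy hv
  set p := b * v * b⁻¹ * v⁻¹ with hp
  have hpz : p ∉ zpowers z := fun h0 => hbV (l.L1 lz hb.2 hv hv3 h0)
  have hp3 : p ∈ cj y V3 := l.comm3 b hb.2 v hv
  have hpA : p ∈ centralizer (A : Set G) := hq v hvU b hb.1
  obtain ⟨a, ha, hav⟩ : ∃ a ∈ A, a * v * a⁻¹ * v⁻¹ ∉ h.nb (o2 P2) := by
    by_contra hcon
    push Not at hcon
    exact hpz ((hD v hvU hcon).2 b hb)
  have haP := hAP ha
  have hay : a * y ∈ P2 := mul_mem haP hy
  have l' := h.loc hay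
  have lz' := h.hzy hz hay
  have hv' : a * v * a⁻¹ ∈ cj (a * y) (zl (S : Subgroup G) P) := by
    rw [← cj_cj, mem_cj]
    have e : a⁻¹ * (a * v * a⁻¹) * a = v := by group
    rwa [e]
  have hv3' : a * v * a⁻¹ ∉ cj (a * y) V3 := by
    rw [← cj_cj, mem_cj]
    have e : a⁻¹ * (a * v * a⁻¹) * a = v := by group
    rwa [e]
  have hvU' := h.cjV_le hay hv'
  -- `V₃^{ay} ≠ V₃^y`
  have hne : cj y V3 ≠ cj (a * y) V3 := by
    intro he
    apply hav
    refine ⟨mul_mem hvU' (inv_mem hvU), fun q hqQ => ?_⟩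
    have hqP := h.S_le (h.Q_le hqQ)
    rw [h.comm_mul hqP hvU' (inv_mem hvU)]
    have hvi : v⁻¹ = v := inv_eq_of_mul_eq_one_right (h.U_sq' hvU)
    rw [hvi]
    by_cases hqV : q ∈ centralizer ((cj y (zl (S : Subgroup G) P) : Subgroup G) : Set G)
    · have h1 : q ∈ centralizer ((cj (a * y) (zl (S : Subgroup G) P) : Subgroup G) : Set G) := by
        refine l'.faith q hqQ ?_
        rw [← he]
        exact centralizer_le l.V3_le hqV
      have h2 := mem_centralizer_iff.1 hqV v hv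
      have h3 := mem_centralizer_iff.1 h1 _ hv'
      rw [← h3, mul_inv_cancel_right, mul_inv_cancel, one_mul, ← h2, mul_inv_cancel_right, mul_inv_cancel]
      exact one_mem _
    · have hqV' : q ∉ centralizer ((cj (a * y) (zl (S : Subgroup G) P) : Subgroup G) : Set G) := by
        intro h0
        apply hqV
        refine l.faith q hqQ ?_
        rw [he]
        exact centralizer_le l'.V3_le h0
      have h1 : q * v * q⁻¹ * v⁻¹ ∉ zpowers z := fun h0 => hqV (l.L1 lz hqQ hv hv3 h0)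
      have h2 : q * (a * v * a⁻¹) * q⁻¹ * (a * v * a⁻¹)⁻¹ ∉ zpowers z := fun h0 =>
        hqV' (l'.L1 lz' hqQ hv' hv3' h0)
      have h3 := l.comm3 q hqQ v hv
      have h4 := l'.comm3 q hqQ _ hv'
      rw [← he] at h4
      have h5 := l.L3 hqQ hqV h3 h4 h1 h2 (l.L2 lz hqQ hv) (l'.L2 lz' hqQ hv')
      have h6 := l.sq _ (l.V3_le h3)
      rw [pow_two] at h6
      rw [inv_eq_of_mul_eq_one_right h6] at h5
      exact h5
  -- all conjugates of `p` are centralised by `A`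
  have hpa : p ∈ cj (a * y) V3 := by
    rw [← cj_cj, mem_cj, mul_assoc, ← mem_centralizer_iff.1 hpA a ha, inv_mul_cancel_left]
    exact hp3
  have h1 : ∀ g ∈ P2, g * p * g⁻¹ ∈ centralizer (A : Set G) := by
    intro g hg
    have h2 : g * p * g⁻¹ ∈ cj (g * y) V3 := by
      rw [← cj_cj, mem_cj]
      have e : g⁻¹ * (g * p * g⁻¹) * g = p := by group
      rwa [e]
    have h3 : g * p * g⁻¹ ∈ cj (g * (a * y)) V3 := by
      rw [← cj_cj, mem_cj]
      have e : g⁻¹ * (g * p * g⁻¹) * g = p := by group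
      rwa [e]
    refine hH _ (h.cjV3_nb hz (mul_mem hg hy) h2) ?_
    by_contra h4
    have h5 := h.key hz f hA hq hle (mul_mem hg hy) (mul_mem hg hay) h2 h3 h4
    rw [← cj_cj, ← cj_cj g (a * y)] at h5
    exact hne (Subgroup.map_injective (MulAut.conj g).injective h5)
  have hM : cl (zpowers p) P2 ≤ centralizer (A : Set G) := by
    refine cl_le fun g hg w hw => ?_
    rw [mem_cj] at hw
    obtain ⟨n, hn⟩ := mem_zpowers_iff.1 hw
    have h2 : w = (g * p * g⁻¹) ^ n := by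
      rw [conj_zpow, hn]; group
    rw [h2]
    exact zpow_mem (h1 g hg) n
  have hMP : P2 ≤ normalizer (cl (zpowers p) P2 : Set G) := le_normalizer_cl _ _
  have hE' : oddGen P2 ≤ centralizer (cl (zpowers p) P2 : Set G) := by
    rcases h.min_or (N := P2 ⊓ centralizer (cl (zpowers p) P2 : Set G)) inf_le_left (le_normalizer_inf_cent hMP) with
      h2 | h2
    · exact h2.trans inf_le_right
    · exact absurd (le_trans (le_inf (f.le A hA) (le_inf hAP (cent_symm hM))) h2) hAQ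
  have hpM : y⁻¹ * p * y ∈ cl (zpowers p) P2 := by
    have h2 := conj_mem' hMP (inv_mem hy) (le_cl (zpowers p) P2 (mem_zpowers p))
    rwa [inv_inv] at h2
  have hpV : y⁻¹ * p * y ∈ V3 := mem_cj.1 hp3
  have hpz' : y⁻¹ * p * y ∉ zpowers z := fun h0 => hpz ((h.mem_zy hy).2 h0)
  have hS : (S : Subgroup G) ≤ normalizer ((zl (S : Subgroup G) P ⊓ cl (zpowers p) P2 : Subgroup G) : Set G) :=
    normalizer_inf h.mod.S_V (h.S_le.trans hMP)
  have hpm : y⁻¹ * p * y ∈ zl (S : Subgroup G) P ⊓ cl (zpowers p) P2 := ⟨h.mod.V3_le hpV, hpM⟩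
  have hR : R ≤ zl (S : Subgroup G) P ⊓ cl (zpowers p) P2 := by
    rcases h.mod.uni _ inf_le_left hS with h2 | h2 | h2 | h2 | h2
    · rw [h2, mem_bot] at hpm
      exact absurd (hpm ▸ one_mem _) hpz'
    · rw [h2] at hpm
      exact absurd hpm hpz'
    · exact h2.ge
    · exact h.mod.R_le.trans h2.ge
    · exact h.R_le_V.trans h2.ge
  exact h.E_cent_R (hE'.trans (centralizer_le (hR.trans inf_le_right)))

end A

end B4

end Cfsg.Agent.Omega.NO3S.Fld

end

section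


/-!
# Fld, `q = 4`, `j < i`

* `B4.normB1`, `falseB` : the case `[V₃, Q] ≰ ⟨z⟩`;
* `B4.norm_V3` : **a family `F4` of best offenders on `U` ⟹ `P₂ ≤ N_G(V₃)`**; `B4.two_of` : `|S : O₂(P₂)| = 2`;
* `Lv4.norm_V3`, `Lv4.two_of_le` : the same for `nxt S K ≤ O₂(P)`.
-/

set_option autoImplicit false
set_option linter.unusedSectionVars false

namespace Cfsg.Agent.Omega.NO3S.Fld

open Subgroup Cfsg Cfsg.Agent.ZN Cfsg.Agent.ZN.ChoiceBase Cfsg.Agent.Omega.MinPar Cfsg.Agent.Omega.FrameNOFF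
open Cfsg.Agent.ZN.ChoiceSit (Syl syl_iff syl_not_dvd o2_le_syl isPGroup_o2)
open Cfsg.Agent.MinSimple.MinParabolic (IsMinPar)
open Cfsg.Agent.MinSimple.VModule (oddGen oddGen_le mem_oddGen le_normalizer_oddGen le_normalizer_o2 o2_le
  zc_le zc_le_zl le_normalizer_zl zc_sq zc_comm le_centralizer_zc)
open Cfsg.Agent.Omega.NO3b.EZero (cl cj_le_cl le_cl cl_le cj_cl le_normalizer_cl cent_symm cj_cent cj_norm
  sq_of_comm oddGen_sup_syl mem_cj_self relIndex_cj le_normalizer_inf_cent)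
open Cfsg.Agent.Omega.NO3b.K0 (conj_mem' cj_of_le cj_self NoOv noOv)
open Cfsg.Agent.Omega.NO3S.NotFF (le_normalizer_of_forall normalizer_inf normalizer_sup normalizer_centralizer
  normalizer_commutator)
open Cfsg.Agent.Omega.SQ1.Bau (card_sup_comm mem_sup_comm)
open Cfsg.Agent.Omega.NO1.BestOff (Best)
open Cfsg.Agent.Omega.NO3S.Level (Lev BO nxt)
open scoped commutatorElement

universe u

namespace B4

variable {G : Type u} [Group G] [Finite G] {S : Sylow 2 G} {P P2 R V3 : Subgroup G} {z : G}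
  (h : B4 S P P2 R V3 z)
include h

theorem P2_X : P2 ≤ normalizer (cl R P2 : Set G) := h.X_norm

/-- `x ≤ |X : C_X(A)|` -/
theorem no_X (hN : NoOv P2) {F : Set (Subgroup G)} (f : F4 S P P2 F) {A : Subgroup G} (hA : A ∈ F) :
    (o2 P2).relIndex A ≤ (centralizer (A : Set G)).relIndex (cl R P2) := by
  obtain ⟨hA2, hAc⟩ := h.F_o2 f hA
  have h1 := hN.gen (N := ⊥) (Y := cl R P2) (D := cl R P2 ⊓ centralizer (A : Set G)) bot_le
    (h.X_le_U.trans h.U_le_P2) h.X_sq h.X_comm (NO3S.NotFF.le_normalizer_bot P2) h.X_norm (fun h0 =>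
      h.E_cent_R (cent_symm (h.R_le_X.trans (commutator_eq_bot_iff_le_centralizer.1 (le_bot_iff.1 h0)))))
    ((f.le A hA).trans h.S_le) hA2 hAc inf_le_left
    (le_bot_iff.2 (commutator_eq_bot_iff_le_centralizer.2 inf_le_right))
  rwa [inf_relIndex_left] at h1

/-- `|A| = x |A₀|` -/
theorem card_A (A : Subgroup G) : (o2 P2).relIndex A * Nat.card ↥(A ⊓ o2 P2) = Nat.card A := relIndex_mul_card _ _

section B

variable (hz : ¬ ∀ b ∈ o2 P2, ∀ v ∈ V3, b * v * b⁻¹ * v⁻¹ ∈ zpowers z)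
include hz

/-- `V ∩ X = R` -/
theorem inf_X : zl (S : Subgroup G) P ⊓ cl R P2 = R := by
  have hS : (S : Subgroup G) ≤ normalizer ((zl (S : Subgroup G) P ⊓ cl R P2 : Subgroup G) : Set G) :=
    normalizer_inf h.mod.S_V (h.S_le.trans h.X_norm)
  have hR : R ≤ zl (S : Subgroup G) P ⊓ cl R P2 := le_inf h.R_le_V h.R_le_X
  have hn : ¬ V3 ≤ cl R P2 := fun h0 => hz fun b hb v hv => h.comm_XQ hb (h0 hv)
  rcases h.mod.uni _ inf_le_left hS with h2 | h2 | h2 | h2 | h2
  · have h3 := Subgroup.card_le_of_le hR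
    rw [h2, card_bot, h.mod.cardR] at h3
    omega
  · have h3 := Subgroup.card_le_of_le hR
    rw [h2, h.loc1.card_z, h.mod.cardR] at h3
    omega
  · exact h2
  · exact absurd (h2.ge.trans inf_le_right) hn
  · exact absurd ((h.mod.V3_le.trans h2.ge).trans inf_le_right) hn

/-- `V^y ∩ X = R^y` -/
theorem inf_X' {y v : G} (hy : y ∈ P2) (hv : v ∈ cj y (zl (S : Subgroup G) P)) (hvX : v ∈ cl R P2) :
    v ∈ cj y R := by
  rw [mem_cj] at hv ⊢
  rw [← h.inf_X hz]
  refine ⟨hv, ?_⟩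
  have := conj_mem' h.X_norm (inv_mem hy) hvX
  rwa [inv_inv] at this

/-- **`A₀ ≤ C(X)`** -/
theorem normB1 (hN : NoOv P2) {F : Set (Subgroup G)} (f : F4 S P P2 F) {A : Subgroup G}
    (hA : A ∈ F) (hAQ : ¬ A ≤ o2 P2)
    (hAX : A ⊓ o2 P2 ≤ centralizer (cl R P2 : Set G)) : P2 ≤ normalizer (V3 : Set G) := by
  set U := cl (zl (S : Subgroup G) P) P2 with hU
  set X := cl R P2 with hX
  set A0 := A ⊓ o2 P2 with hA0
  set C := centralizer (A : Set G) with hC
  set x := (o2 P2).relIndex A with hx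
  have hAP : A ≤ P2 := (f.le A hA).trans h.S_le
  have hXU : X ≤ U := h.X_le_U
  have hxpos : 0 < x := relIndex_pos _ _
  have h1 : x ≤ C.relIndex X := h.no_X hN f hA
  have h2 : x * Nat.card A0 = Nat.card A := h.card_A A
  have hAU : A ⊓ centralizer (U : Set G) ≤ A0 := fun a ha => ⟨ha.1, h.inf_cent_U ⟨(f.le A hA) ha.1, ha.2⟩⟩
  -- `A₀ ∈ BO`
  have h3 : A0 ∈ F := by
    refine f.cut A hA A0 inf_le_left hAU ?_
    set Y := U ⊓ centralizer (A0 : Set G) with hY
    have h4 : C.relIndex Y * Nat.card ↥(Y ⊓ C) = Nat.card Y := relIndex_mul_card _ _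
    have h5 : Y ⊓ C = U ⊓ C := by
      apply le_antisymm
      · exact fun u hu => ⟨hu.1.1, hu.2⟩
      · exact fun u hu => ⟨⟨hu.1, centralizer_le inf_le_left hu.2⟩, hu.2⟩
    have h6 : C.relIndex X ≤ C.relIndex Y :=
      relIndex_le_of_le_right (le_inf hXU (cent_symm hAX)) (relIndex_pos _ _).ne'
    rw [← h2, ← h4, h5]
    calc x * Nat.card A0 * Nat.card ↥(U ⊓ C) = Nat.card A0 * (x * Nat.card ↥(U ⊓ C)) := by ring
      _ ≤ Nat.card A0 * (C.relIndex Y * Nat.card ↥(U ⊓ C)) :=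
        Nat.mul_le_mul_left _ (Nat.mul_le_mul_right _ (h1.trans h6))
  have h4 : A0 ≤ centralizer (U : Set G) := f.cent A0 h3 inf_le_right
  have h5 : C.relIndex U ≤ x := by
    refine (f.index_le hA).trans ?_
    have h6 := h.relIndex_U (f.le A hA)
    rw [relIndex_eq_one.2 h4, one_mul] at h6
    exact h6.symm.le
  set M := X ⊔ (U ⊓ C) with hM
  have hMU : M ≤ U := sup_le hXU inf_le_left
  have h6 : C.relIndex M * M.relIndex U = C.relIndex U := relIndex_mul_of le_sup_right hMU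
  have h7 : C.relIndex X ≤ C.relIndex M := relIndex_le_of_le_right le_sup_left (relIndex_pos _ _).ne'
  have h8 : U ≤ M := by
    have h9 : x * M.relIndex U ≤ x * 1 := by
      rw [mul_one]
      exact (Nat.mul_le_mul_right _ (h1.trans h7)).trans (h6.le.trans h5)
    have h10 := Nat.le_of_mul_le_mul_left h9 hxpos
    have h11 := relIndex_pos M U
    exact relIndex_eq_one.1 (by omega)
  -- `[U, E] ≤ X`
  have hE : oddGen P2 ≤ kmod P2 U X h.U_norm h.X_norm := by
    rcases h.min_or (kmod_le (h1 := h.U_norm) (h2 := h.X_norm)) h.kmod_UX_norm with h9 | h9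
    · exact h9
    · exfalso
      apply hAQ
      refine le_trans (fun a ha => ?_) h9
      refine ⟨(f.le A hA) ha, hAP ha, fun u hu => ?_⟩
      have hcom : ∀ p ∈ X, ∀ q ∈ U ⊓ C, p * q = q * p := fun p hp q hq => h.U_mul (hXU hp) hq.1
      obtain ⟨v, hv, c, hc, rfl⟩ := mem_sup_comm hcom (h8 hu)
      rw [h.comm_mul (hAP ha) (hXU hv) hc.1]
      have h10 := mem_centralizer_iff.1 hc.2 a ha
      rw [h10, mul_inv_cancel_right, mul_inv_cancel, mul_one]
      exact mul_mem (conj_mem' h.X_norm (hAP ha) hv) (inv_mem hv)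
  -- `U = V X`
  have hVX : P2 ≤ normalizer ((zl (S : Subgroup G) P ⊔ X : Subgroup G) : Set G) := by
    refine h.sup_S.ge.trans (sup_le ?_ (normalizer_sup h.mod.S_V (h.S_le.trans h.X_norm)))
    refine le_normalizer_of_forall fun e he w hw => ?_
    have hwU : w ∈ U := (sup_le h.V_le_U h.X_le_U) hw
    have h1 := (hE he).2 w hwU
    have h2 := mul_mem (mem_sup_right (S := zl (S : Subgroup G) P) h1) hw
    rwa [inv_mul_cancel_right] at h2
  have hUV : U ≤ zl (S : Subgroup G) P ⊔ X := cl_le fun p hp => by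
    have h1 := cj_mono p (le_sup_left (a := zl (S : Subgroup G) P) (b := X))
    rwa [cj_of_le hVX hp] at h1
  have hW : ⁅o2 P2, U⁆ ≤ zl (S : Subgroup G) P := by
    rw [commutator_le]
    intro q hq u hu
    obtain ⟨v, hv, w, hw, rfl⟩ := mem_sup_comm (fun a ha b hb => h.U_mul (h.V_le_U ha) (hXU hb)) (hUV hu)
    rw [commutatorElement_def, h.comm_mul (h.S_le (h.Q_le hq)) (h.V_le_U hv) (hXU hw)]
    exact mul_mem (h.mod.V3_le (h.comm_VS (h.Q_le hq) hv))
      (h.R_le_V (h.zpowers_le_R (h.comm_XQ hq hw)))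
  set W := ⁅o2 P2, U⁆ with hWdef
  have hWn : P2 ≤ normalizer (W : Set G) := normalizer_commutator (le_normalizer_o2 P2) h.U_norm
  have hWm : ∀ q ∈ o2 P2, ∀ v ∈ zl (S : Subgroup G) P, q * v * q⁻¹ * v⁻¹ ∈ W := fun q hq v hv => by
    have := commutator_mem_commutator hq (h.V_le_U hv)
    rwa [commutatorElement_def] at this
  have hWz : ¬ W ≤ zpowers z := by
    intro h0
    apply h.not_Q_V
    intro q hq
    exact h.mod.small q (h.Q_le hq) fun v hv => h0 (hWm q hq v hv)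
  rcases h.mod.uni W hW (h.S_le.trans hWn) with h1 | h1 | h1 | h1 | h1
  · exact absurd (h1.le.trans bot_le) hWz
  · exact absurd h1.le hWz
  · rw [h1] at hWn
    exact absurd hWn h.mv
  · rwa [h1] at hWn
  · exfalso
    rw [h1] at hWn
    have h9 : X ≤ zl (S : Subgroup G) P := cl_le fun p hp => by
      have h10 := cj_mono p h.R_le_V
      rwa [cj_of_le hWn hp] at h10
    have h10 : X = R := by
      rw [← h.inf_X hz, ← hX]
      exact (inf_eq_right.2 h9).symm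
    apply h.mv
    have h11 := h.X_norm
    rw [← hX, h10] at h11
    exact h11

section quad

variable {F : Set (Subgroup G)} (f : F4 S P P2 F) {A : Subgroup G} (hA : A ∈ F)
  (hq : ∀ u ∈ cl (zl (S : Subgroup G) P) P2, ∀ a ∈ A, a * u * a⁻¹ * u⁻¹ ∈ centralizer (A : Set G))
include f hA hq

/-- `[b, v] ∈ V₃^y - R^y` -/
theorem fB {y b v : G} (hy : y ∈ P2) (hb : b ∈ A ⊓ o2 P2) (hbR : b ∉ centralizer ((cj y R : Subgroup G) : Set G))
    (hv : v ∈ cj y (zl (S : Subgroup G) P)) (hv3 : v ∉ cj y V3) :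
    b * v * b⁻¹ * v⁻¹ ∈ cj y V3 ∧ b * v * b⁻¹ * v⁻¹ ∉ cj y R ∧ b * v * b⁻¹ * v⁻¹ ∈ centralizer (A : Set G) :=
  ⟨(h.loc hy).comm3 b hb.2 v hv, fun h0 => hv3 ((h.loc hy).nCentR b hb.2 hbR v hv h0), hq v (h.cjV_le hy hv) b hb.1⟩

/-- `C_{A₀}(R^y) ≤ C(V^y)` if `A₀` moves `R^y` -/
theorem centB {y b c : G} (hy : y ∈ P2) (hb : b ∈ A ⊓ o2 P2) (hbR : b ∉ centralizer ((cj y R : Subgroup G) : Set G))
    (hc : c ∈ A ⊓ o2 P2) (hcR : c ∈ centralizer ((cj y R : Subgroup G) : Set G)) :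
    c ∈ centralizer ((cj y (zl (S : Subgroup G) P) : Subgroup G) : Set G) := by
  obtain ⟨v, hv, hv3⟩ := (h.loc hy).exists_v
  obtain ⟨h1, h2, h3⟩ := h.fB hz f hA hq hy hb hbR hv hv3
  exact (h.loc hy).cent_of_f hc.2 hcR h1 h2 (mem_centralizer_iff.1 h3 c hc.1)

/-- **`|B : C_B(X)| ≤ |U₀ : {u ∈ U₀ | [u, B] ≤ X}|`**, `U₀ = C_U(C_{A₀}(X))` -/
theorem lbB {U0 : Subgroup G} (hU0 : U0 = cl (zl (S : Subgroup G) P) P2 ⊓
      centralizer ((A ⊓ o2 P2 ⊓ centralizer (cl R P2 : Set G) : Subgroup G) : Set G))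
    (hUX : U0 ≤ normalizer (cl R P2 : Set G)) : ∀ (n : ℕ) (B : Subgroup G), Nat.card B ≤ n → B ≤ A ⊓ o2 P2 →
    (centralizer (cl R P2 : Set G)).relIndex B ≤ (cmod U0 B (cl R P2) hUX).relIndex U0 := by
  intro n
  induction n with
  | zero =>
    intro B hB
    have := Nat.card_pos (α := B)
    omega
  | succ n ih =>
    intro B hBn hB
    set X := cl R P2 with hX
    by_cases hBU : B ≤ centralizer (X : Set G)
    · rw [relIndex_eq_one.2 hBU]
      exact relIndex_pos _ _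
    obtain ⟨y, hy, hBy⟩ : ∃ y ∈ P2, ¬ B ≤ centralizer ((cj y R : Subgroup G) : Set G) := by
      by_contra hcon
      push Not at hcon
      exact hBU (cent_symm (cl_le fun y hy => cent_symm (hcon y hy)))
    obtain ⟨b, hb, hbR⟩ := SetLike.not_le_iff_exists.1 hBy
    have l := h.loc hy
    obtain ⟨v, hv, hv3⟩ := l.exists_v
    have hvU := h.cjV_le hy hv
    obtain ⟨f1, f2, -⟩ := h.fB hz f hA hq hy (hB hb) hbR hv hv3
    set B1 := B ⊓ centralizer ((cj y R : Subgroup G) : Set G) with hB1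
    have hB1B : B1 ≤ B := inf_le_left
    have h1 : Nat.card B1 < Nat.card B := by
      refine lt_of_le_of_ne (Subgroup.card_le_of_le hB1B) fun h0 => ?_
      have h2 := Subgroup.eq_of_le_of_card_ge hB1B h0.ge
      exact hBy (inf_eq_left.1 h2)
    have h2 := ih B1 (by omega) (hB1B.trans hB)
    have h3 : B1.relIndex B ≤ 2 := by
      rw [hB1, inf_relIndex_left]
      exact relIndex_le_two fun s hs t ht hsV htV => l.R_mul (hB hs).2 (hB ht).2 hsV htV
    have h4 := relIndex_mul_of (H := centralizer (X : Set G)) (M := B1) (L := B)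
      (le_inf inf_le_left (inf_le_right.trans (centralizer_le (cj_le_cl hy)))) hB1B
    have hanti : cmod U0 B X hUX ≤ cmod U0 B1 X hUX := fun u hu => ⟨hu.1, fun c hc => hu.2 c (hB1B hc)⟩
    have h5 := relIndex_mul_relIndex (cmod U0 B X hUX) (cmod U0 B1 X hUX) U0 hanti (fun u hu => hu.1)
    have h6 : 2 ≤ (cmod U0 B X hUX).relIndex (cmod U0 B1 X hUX) := by
      refine two_le_relIndex (v := v) ⟨?_, fun c hc => ?_⟩ fun h0 => f2 ?_
      · rw [hU0]
        refine ⟨hvU, mem_centralizer_iff.2 fun c hc => ?_⟩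
        have h7 := h.centB hz f hA hq hy (hB hb) hbR hc.1 (centralizer_le (cj_le_cl hy) hc.2)
        exact (mem_centralizer_iff.1 h7 v hv).symm
      · have h7 := mem_centralizer_iff.1 (h.centB hz f hA hq hy (hB hb) hbR (hB (hB1B hc)) hc.2) v hv
        rw [← h7, mul_inv_cancel_right, mul_inv_cancel]
        exact one_mem _
      · exact h.inf_X' hz hy (l.V3_le f1) (h0.2 b hb)
    rw [← h4, ← h5, mul_comm]
    exact Nat.mul_le_mul (h3.trans h6) h2

/-- **`A₀ ≰ C(X)` is impossible** -/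
theorem falseB (hN : NoOv P2) (hAX : ¬ A ⊓ o2 P2 ≤ centralizer (cl R P2 : Set G)) : False := by
  set U := cl (zl (S : Subgroup G) P) P2 with hU
  set X := cl R P2 with hX
  set A0 := A ⊓ o2 P2 with hA0
  set C := centralizer (A : Set G) with hC
  set x := (o2 P2).relIndex A with hx
  set C0 := A0 ⊓ centralizer (X : Set G) with hC0
  set r := (centralizer (X : Set G)).relIndex A0 with hr
  have hAP : A ≤ P2 := (f.le A hA).trans h.S_le
  have hXU : X ≤ U := h.X_le_U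
  have hxpos : 0 < x := relIndex_pos _ _
  have hrpos : 0 < r := relIndex_pos _ _
  obtain ⟨U0, hU0⟩ : ∃ U0 : Subgroup G, U0 = U ⊓ centralizer (C0 : Set G) := ⟨_, rfl⟩
  have hU0U : U0 ≤ U := hU0.le.trans inf_le_left
  have hUX : U0 ≤ normalizer (X : Set G) := (hU0U.trans h.U_le_P2).trans h.X_norm
  have h1 : r ≤ (cmod U0 A0 X hUX).relIndex U0 := h.lbB hz f hA hq hU0 hUX _ A0 le_rfl le_rfl
  have h2 : x * Nat.card A0 = Nat.card A := h.card_A A
  have h3 : r * Nat.card C0 = Nat.card A0 := relIndex_mul_card A0 (centralizer (X : Set G))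
  have hC0A : C0 ≤ A := inf_le_left.trans inf_le_left
  have hAU : A ⊓ centralizer (U : Set G) ≤ C0 := fun a ha =>
    ⟨⟨ha.1, h.inf_cent_U ⟨(f.le A hA) ha.1, ha.2⟩⟩, centralizer_le hXU ha.2⟩
  have hbest := (f.best A hA).max C0 hC0A hAU
  rw [← hU, ← hU0, ← hC] at hbest
  -- `|U₀|`
  set N := cmod U0 A0 X hUX with hNdef
  have hNU : N ≤ U0 := fun u hu => hu.1
  have h4 : N.relIndex U0 * Nat.card N = Nat.card U0 := by
    have := relIndex_mul_card U0 N
    rwa [inf_eq_right.2 hNU] at this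
  have h5 : X ⊔ (U ⊓ C) ≤ N := by
    refine sup_le ?_ ?_
    · intro w hw
      refine ⟨?_, fun a ha => mul_mem (conj_mem' h.X_norm (hAP ha.1) hw) (inv_mem hw)⟩
      rw [hU0]
      exact ⟨hXU hw, cent_symm (inf_le_right : C0 ≤ centralizer (X : Set G)) hw⟩
    · intro w hw
      refine ⟨?_, fun a ha => ?_⟩
      · rw [hU0]
        exact ⟨hw.1, centralizer_le hC0A hw.2⟩
      · have := mem_centralizer_iff.1 hw.2 a ha.1
        rw [this, mul_inv_cancel_right, mul_inv_cancel]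
        exact one_mem _
  have h6 := card_sup_comm (A := X) (B := U ⊓ C) (fun a ha b hb => h.U_mul (hXU ha) hb.1)
  have h7 : X ⊓ (U ⊓ C) = X ⊓ C := by rw [← inf_assoc, inf_eq_left.2 hXU]
  have h8 : C.relIndex X * Nat.card ↥(X ⊓ C) = Nat.card X := relIndex_mul_card _ _
  have h9 := Subgroup.card_le_of_le h5
  rw [h7] at h6
  -- `|X : C_X(A)| ≤ x`
  have h10 : C.relIndex X ≤ x := by
    have hp1 : 0 < Nat.card ↥(X ⊓ C) := Nat.card_pos
    have hp2 : 0 < Nat.card ↥(U ⊓ C) := Nat.card_pos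
    have hp3 : 0 < Nat.card C0 := Nat.card_pos
    have h11 : C.relIndex X * Nat.card ↥(U ⊓ C) ≤ Nat.card N := by
      refine le_trans ?_ h9
      have h12 : Nat.card ↥(X ⊓ C) * (C.relIndex X * Nat.card ↥(U ⊓ C)) =
          Nat.card ↥(X ⊓ C) * Nat.card ↥(X ⊔ U ⊓ C) := by
        rw [mul_comm (Nat.card ↥(X ⊓ C)) (Nat.card ↥(X ⊔ U ⊓ C)), h6, ← h8]
        ring
      exact (Nat.eq_of_mul_eq_mul_left hp1 h12).le
    have h12 : (Nat.card C0 * r * Nat.card ↥(U ⊓ C)) * C.relIndex X ≤ (Nat.card C0 * r * Nat.card ↥(U ⊓ C)) * x := by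
      calc (Nat.card C0 * r * Nat.card ↥(U ⊓ C)) * C.relIndex X
          = Nat.card C0 * (r * (C.relIndex X * Nat.card ↥(U ⊓ C))) := by ring
        _ ≤ Nat.card C0 * (N.relIndex U0 * Nat.card N) :=
          Nat.mul_le_mul_left _ (Nat.mul_le_mul h1 h11)
        _ = Nat.card C0 * Nat.card U0 := by rw [h4]
        _ ≤ Nat.card A * Nat.card ↥(U ⊓ C) := hbest
        _ = (x * (r * Nat.card C0)) * Nat.card ↥(U ⊓ C) := by rw [h3, h2]
        _ = _ := by ring
    exact Nat.le_of_mul_le_mul_left h12 (by positivity)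
  -- `[w, A] ≤ ⟨z⟩` ⟹ `[w, A] = 1`
  obtain ⟨hA2, hAc⟩ := h.F_o2 f hA
  have hXz : X ≤ normalizer (zpowers z : Set G) := (hXU.trans h.U_le_P2).trans h.P2_zpowers
  have hzX : zpowers z ≤ X := h.zpowers_le_R.trans h.R_le_X
  have h11 : x ≤ (cmod X A (zpowers z) hXz).relIndex X := by
    refine hN.gen hzX (hXU.trans h.U_le_P2) h.X_sq h.X_comm h.P2_zpowers h.X_norm ?_ hAP hA2 hAc (fun u hu => hu.1) ?_
    · intro h0
      apply h.E_R
      refine le_normalizer_of_forall fun e he r hr => ?_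
      have h12 := inv_mem (h0 (commutator_mem_commutator (h.R_le_X hr) he))
      rw [commutatorElement_inv, commutatorElement_def] at h12
      have h13 := mul_mem (h.zpowers_le_R h12) hr
      rwa [inv_mul_cancel_right] at h13
    · rw [commutator_le]
      intro d hd a ha
      have h6 := inv_mem (hd.2 a ha)
      have e : (a * d * a⁻¹ * d⁻¹)⁻¹ = ⁅d, a⁆ := by rw [commutatorElement_def]; group
      rwa [e] at h6
  have h12 : X ⊓ C = cmod X A (zpowers z) hXz := by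
    refine eq_of_relIndex (fun w hw => ⟨hw.1, fun a ha => ?_⟩) (fun u hu => hu.1) ?_
    · have := mem_centralizer_iff.1 hw.2 a ha
      rw [this, mul_inv_cancel_right, mul_inv_cancel]
      exact one_mem _
    · rw [inf_relIndex_left]
      exact h10.trans h11
  -- the contradiction
  obtain ⟨y, hy, hBy⟩ : ∃ y ∈ P2, ¬ A0 ≤ centralizer ((cj y R : Subgroup G) : Set G) := by
    by_contra hcon
    push Not at hcon
    exact hAX (cent_symm (cl_le fun y hy => cent_symm (hcon y hy)))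
  obtain ⟨b, hb, hbR⟩ := SetLike.not_le_iff_exists.1 hBy
  have l := h.loc hy
  obtain ⟨v, hv, hv3⟩ := l.exists_v
  obtain ⟨f1, f2, f3⟩ := h.fB hz f hA hq hy hb hbR hv hv3
  have hz' : ¬ ∀ b ∈ o2 P2, ∀ v ∈ cj y V3, b * v * b⁻¹ * v⁻¹ ∈ zpowers z := fun h0 => hz ((h.hz_iff hy).1 h0)
  apply hbR
  rw [mem_centralizer_iff]
  intro w hw
  have key : ∀ a ∈ A, ∀ w ∈ cj y R, a * w * a⁻¹ ∈ cj y R := by
    intro a ha
    have haP := hAP ha
    have hay : a⁻¹ * y ∈ P2 := mul_mem (inv_mem haP) hy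
    have hW : o2 P2 ≤ normalizer ((cj (a⁻¹ * y) (zl (S : Subgroup G) P) : Subgroup G) : Set G) := by
      have h13 := cj_norm (g := a⁻¹ * y) (h.Q_le.trans h.mod.S_V)
      rwa [cj_of_le (le_normalizer_o2 P2) hay] at h13
    have hfW : b * v * b⁻¹ * v⁻¹ ∈ cj (a⁻¹ * y) (zl (S : Subgroup G) P) := by
      rw [← cj_cj, mem_cj, inv_inv, mem_centralizer_iff.1 f3 a ha, mul_inv_cancel_right]
      exact l.V3_le f1
    have h13 := l.R_le_of hz' hW (h.loc hay).z_mem_V hfW f1 f2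
    intro w hw
    have h14 := h.inf_X' hz hay (h13 hw) (cj_le_cl hy hw)
    rw [← cj_cj, mem_cj, inv_inv] at h14
    exact h14
  have h13 : w ∈ X ⊓ C := by
    rw [h12]
    refine ⟨cj_le_cl hy hw, fun a ha => ?_⟩
    exact l.R_norm (h.z_comm (hAP ha)) hw (key a ha w hw)
  exact (mem_centralizer_iff.1 h13.2 b hb.1).symm

end quad

end B

/-- **a family `F4` of best offenders on `U` ⟹ `P₂ ≤ N_G(V₃)`** -/
theorem norm_V3 (hAS : FFBr.AStmt.{u}) {F : Set (Subgroup G)} (f : F4 S P P2 F) :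
    P2 ≤ normalizer (V3 : Set G) := by
  have hN : NoOv P2 := noOv hAS h.syl h.par.toIsMinPar
  by_cases hz : ∀ b ∈ o2 P2, ∀ v ∈ V3, b * v * b⁻¹ * v⁻¹ ∈ zpowers z
  · exact h.normA hz f hN
  obtain ⟨A, hA, hAQ, hq⟩ := h.exists_quad f
  by_cases hAX : A ⊓ o2 P2 ≤ centralizer (cl R P2 : Set G)
  · exact h.normB1 hz hN f hA hAQ hAX
  · exact (h.falseB hz f hA hq hN hAX).elim

/-- **a family `F4` of best offenders on `U` ⟹ `|S : O₂(P₂)| = 2`** -/
theorem two_of (hAS : FFBr.AStmt.{u}) {F : Set (Subgroup G)} (f : F4 S P P2 F) :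
    (o2 P2).relIndex (S : Subgroup G) = 2 := h.index_of_V3 (h.norm_V3 hAS f)

end B4

/-! ### The level -/

namespace Lv4

variable {G : Type u} [Group G] [Finite G] {S : Sylow 2 G} {P P2 R V3 K : Subgroup G} {z : G}
  (h : Lv4 S P P2 R V3 K z)
include h

theorem BO_V (hT : nxt (S : Subgroup G) K ≤ o2 P) {A : Subgroup G} (hA : A ∈ BO (S : Subgroup G) K) :
    A ≤ centralizer (zl (S : Subgroup G) P : Set G) :=
  fun _ ha => (h.mem_L_iff (hA.1 ha)).1 (hT (Level.BO.le_nxt hA ha))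

/-- `A ≤ Q` ⟹ `[U, A] = 1` -/
theorem BO_U (hT : nxt (S : Subgroup G) K ≤ o2 P) {A : Subgroup G} (hA : A ∈ BO (S : Subgroup G) K)
    (hAQ : A ≤ o2 P2) : A ≤ centralizer (cl (zl (S : Subgroup G) P) P2 : Set G) := by
  apply cent_symm
  refine cl_le fun p hp => ?_
  have h1 := cent_symm (h.BO_V hT (h.BO_cj hA hAQ (inv_mem hp)).1)
  have h2 := cj_cent (g := p) h1
  rwa [cj_cj_inv] at h2

/-- **`BO(S, K)` is a family `F4`** if `nxt S K ≤ L` -/
theorem f4 (hT : nxt (S : Subgroup G) K ≤ o2 P) : F4 S P P2 (BO (S : Subgroup G) K) where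
  le := fun _ hA => hA.1
  best := fun A hA => by
    have b := Level.bfam_BO (S := (S : Subgroup G)) (L := P2) h.U_le_zc h.P2_norm
    exact { toElemM := b.elem A hA, max := fun Y hY hYc => b.best A hA Y hYc hY }
  cut := fun A hA B hB hAB hle =>
    ⟨hB.trans hA.1, best_cut (fun x hx y hy => Lev.zc_comm hx hy) hA.2 h.U_le_zc hAB hB hle⟩
  cent := fun A hA hAQ => h.BO_U hT hA hAQ
  ex := h.exists_BO_not_Q

/-- **`nxt S K ≤ O₂(P)` ⟹ `P₂ ≤ N_G(V₃)`** -/
theorem norm_V3 (hAS : FFBr.AStmt.{u}) (hT : nxt (S : Subgroup G) K ≤ o2 P) : P2 ≤ normalizer (V3 : Set G) :=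
  h.toB4.norm_V3 hAS (h.f4 hT)

/-- **`nxt S K ≤ O₂(P)` ⟹ `|S : O₂(P₂)| = 2`** -/
theorem two_of_le (hAS : FFBr.AStmt.{u}) (hT : nxt (S : Subgroup G) K ≤ o2 P) :
    (o2 P2).relIndex (S : Subgroup G) = 2 := h.toB4.two_of hAS (h.f4 hT)

end Lv4

end Cfsg.Agent.Omega.NO3S.Fld

end

section


/-!
# Fld, `q = 4`, at a level : `j < i` does not occur

* `Lv4.nxt_not_le` : `nxt S K ≰ O₂(P)`.
-/

set_option autoImplicit false
set_option linter.unusedSectionVars false

namespace Cfsg.Agent.Omega.NO3S.Fld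

open Subgroup Cfsg Cfsg.Agent.ZN Cfsg.Agent.ZN.ChoiceBase Cfsg.Agent.Omega.MinPar Cfsg.Agent.Omega.FrameNOFF
open Cfsg.Agent.Omega.NO3S.Level (Lev BO nxt)

universe u

namespace Lv4

variable {G : Type u} [Group G] [Finite G] {S : Sylow 2 G} {P P2 R V3 K : Subgroup G} {z : G}

/-- **`nxt S K ≰ O₂(P)`** -/
theorem nxt_not_le (h : Lv4 S P P2 R V3 K z) (hAS : FFBr.AStmt.{u}) : ¬ nxt (S : Subgroup G) K ≤ o2 P := by
  intro hT
  have h2 := h.two_of_le hAS hT
  obtain ⟨A, hA, hAQ⟩ := h.exists_BO_not_Q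
  exact hAQ (h.dih h2 hA ((Level.BO.le_nxt hA).trans hT))

end Lv4

end Cfsg.Agent.Omega.NO3S.Fld

end

section


/-!
# Fld, `q = 4` : `J(S) ≤ O₂(P)` (helper240)

* `FA S U` : the elementary abelian subgroups `A` of `S` with `A C_U(A) ∈ A(S)`;
* `B4.f4_jj` : it is a family `F4` if `J(S) ≤ O₂(P)`, `J(S) ≰ O₂(P₂)`;
* `B4.norm_V3_jj`, `B4.two_of_jj` : then `P₂ ≤ N_G(V₃)`, `|S : O₂(P₂)| = 2`.
-/

set_option autoImplicit false
set_option linter.unusedSectionVars false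

namespace Cfsg.Agent.Omega.NO3S.Fld

open Subgroup Cfsg Cfsg.Agent.ZN Cfsg.Agent.ZN.ChoiceBase Cfsg.Agent.Omega.MinPar Cfsg.Agent.Omega.FrameNOFF
open Cfsg.Agent.MinSimple.VModule (oddGen oddGen_le mem_oddGen le_normalizer_oddGen le_normalizer_o2 o2_le
  zc_le zc_le_zl le_normalizer_zl zc_sq zc_comm le_centralizer_zc)
open Cfsg.Agent.Omega.NO3b.EZero (cl cj_le_cl le_cl cl_le cj_cl le_normalizer_cl cent_symm cj_cent cj_norm
  sq_of_comm oddGen_sup_syl mem_cj_self relIndex_cj le_normalizer_inf_cent)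
open Cfsg.Agent.Omega.NO3b.K0 (conj_mem' cj_of_le cj_self)
open Cfsg.Agent.Omega.SQ1.Bau (elem_comm elem_sq)
open Cfsg.Agent.Omega.NO1.BestOff (Best)
open Cfsg.Agent.PLocal.ElemAbSup Cfsg.Agent.PLocal.ThompsonJ

universe u

/-- the elementary abelian subgroups `A` of `S` with `A C_U(A) ∈ A(S)` -/
def FA {G : Type u} [Group G] (S U : Subgroup G) : Set (Subgroup G) :=
  {A | A ≤ S ∧ IsElementaryAbelian 2 A ∧ A ⊔ (U ⊓ centralizer (A : Set G)) ∈ AA S}

section FA

variable {G : Type u} [Group G] [Finite G] {S U A B : Subgroup G}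

theorem elem_sup (hU : IsElementaryAbelian 2 U) (hB : IsElementaryAbelian 2 B) :
    IsElementaryAbelian 2 (B ⊔ (U ⊓ centralizer (B : Set G))) :=
  isElementaryAbelian_sup hB (isElementaryAbelian_mono hU inf_le_left) inf_le_right

/-- `|B C_U(B)| |A ∩ U| = |B| |C_U(B)|` for `A ∩ C(U) ≤ B ≤ A` -/
theorem card_FA (hU : IsElementaryAbelian 2 U) (hA : IsElementaryAbelian 2 A) (hBA : B ≤ A)
    (hAB : A ⊓ centralizer (U : Set G) ≤ B) :
    Nat.card ↥(B ⊔ (U ⊓ centralizer (B : Set G))) * Nat.card ↥(A ⊓ U) =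
      Nat.card B * Nat.card ↥(U ⊓ centralizer (B : Set G)) := by
  have h1 : Nat.card ↥(B ⊔ (U ⊓ centralizer (B : Set G))) * Nat.card ↥(B ⊓ (U ⊓ centralizer (B : Set G))) =
      Nat.card B * Nat.card ↥(U ⊓ centralizer (B : Set G)) := card_sup_mul_card_inf inf_le_right
  have h2 : B ⊓ (U ⊓ centralizer (B : Set G)) = A ⊓ U := by
    apply le_antisymm
    · exact fun x hx => ⟨hBA hx.1, hx.2.1⟩
    · intro x hx
      have hxB : x ∈ B := hAB ⟨hx.1, mem_centralizer_iff.2 fun y hy => elem_comm hU y hy x hx.2⟩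
      exact ⟨hxB, hx.2, mem_centralizer_iff.2 fun y hy => elem_comm hA y (hBA hy) x hx.1⟩
  rw [h2] at h1
  exact h1

theorem FA_max (hU : IsElementaryAbelian 2 U) (hUS : U ≤ S) (hA : A ∈ FA S U) (hBA : B ≤ A)
    (hAB : A ⊓ centralizer (U : Set G) ≤ B) :
    Nat.card B * Nat.card ↥(U ⊓ centralizer (B : Set G)) ≤ Nat.card A * Nat.card ↥(U ⊓ centralizer (A : Set G)) := by
  rw [← card_FA hU hA.2.1 hBA hAB, ← card_FA hU hA.2.1 le_rfl inf_le_left]
  refine Nat.mul_le_mul_right _ (hA.2.2.2.2 _ (elem_sup hU (isElementaryAbelian_mono hA.2.1 hBA)) ?_)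
  exact sup_le (hBA.trans hA.1) (inf_le_left.trans hUS)

theorem FA_cut (hU : IsElementaryAbelian 2 U) (hUS : U ≤ S) (hA : A ∈ FA S U) (hBA : B ≤ A)
    (hAB : A ⊓ centralizer (U : Set G) ≤ B)
    (hle : Nat.card A * Nat.card ↥(U ⊓ centralizer (A : Set G)) ≤
      Nat.card B * Nat.card ↥(U ⊓ centralizer (B : Set G))) : B ∈ FA S U := by
  refine ⟨hBA.trans hA.1, isElementaryAbelian_mono hA.2.1 hBA,
    elem_sup hU (isElementaryAbelian_mono hA.2.1 hBA), sup_le (hBA.trans hA.1) (inf_le_left.trans hUS), ?_⟩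
  intro D hD hDS
  refine (hA.2.2.2.2 D hD hDS).trans ?_
  rw [← card_FA hU hA.2.1 hBA hAB, ← card_FA hU hA.2.1 le_rfl inf_le_left] at hle
  exact Nat.le_of_mul_le_mul_right hle Nat.card_pos

theorem AA_sub_FA (hU : IsElementaryAbelian 2 U) (hUS : U ≤ S) (hA : A ∈ AA S) : A ∈ FA S U := by
  refine ⟨hA.2.1, hA.1, elem_sup hU hA.1, sup_le hA.2.1 (inf_le_left.trans hUS), fun D hD hDS => ?_⟩
  exact (hA.2.2 D hD hDS).trans (Subgroup.card_le_of_le le_sup_left)

end FA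

namespace B4

variable {G : Type u} [Group G] [Finite G] {S : Sylow 2 G} {P P2 R V3 : Subgroup G} {z : G}
  (h : B4 S P P2 R V3 z)
include h

theorem U_elem : IsElementaryAbelian 2 (cl (zl (S : Subgroup G) P) P2) :=
  ⟨⟨⟨fun a b => Subtype.ext (mem_centralizer_iff.1 (h.U_comm b.2) a a.2)⟩⟩, h.U_sq⟩

/-- **`FA(S, U)` is a family `F4`** -/
theorem f4_jj (hJ : jj (S : Subgroup G) ≤ o2 P) (hJQ : ¬ jj (S : Subgroup G) ≤ o2 P2) :
    F4 S P P2 (FA (S : Subgroup G) (cl (zl (S : Subgroup G) P) P2)) where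
  le := fun _ hA => hA.1
  best := fun A hA => by
    refine { sq := fun a ha => ?_, comm := fun a ha b hb => ?_,
             max := fun Y hY hYc => FA_max h.U_elem h.U_le_S hA hY hYc }
    · rw [elem_sq hA.2.1 a ha]; exact one_mem _
    · have e : a * b * a⁻¹ * b⁻¹ = 1 := by rw [elem_comm hA.2.1 a ha b hb]; group
      rw [e]; exact one_mem _
  cut := fun A hA B hB hAB hle => FA_cut h.U_elem h.U_le_S hA hB hAB hle
  cent := fun A hA hAQ => by
    apply cent_symm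
    refine cl_le fun p hp => ?_
    set B := A ⊔ (cl (zl (S : Subgroup G) P) P2 ⊓ centralizer (A : Set G)) with hB
    have hBQ : B ≤ o2 P2 := sup_le hAQ (inf_le_left.trans h.U_le_Q)
    have h1 := cj_mono p⁻¹ hBQ
    rw [cj_of_le (le_normalizer_o2 P2) (inv_mem hp)] at h1
    have h2 : cj p⁻¹ B ∈ AA (S : Subgroup G) := by
      have h3 := hA.2.2
      refine ⟨isElementaryAbelian_cj _ h3.1, h1.trans h.Q_le, fun D hD hDS => ?_⟩
      rw [card_cj]
      exact h3.2.2 D hD hDS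
    have h3 : cj p⁻¹ A ≤ centralizer (zl (S : Subgroup G) P : Set G) := by
      intro a ha
      have h4 : a ∈ cj p⁻¹ B := cj_mono p⁻¹ le_sup_left ha
      exact (h.mem_L_iff (h2.2.1 h4)).1 (hJ (le_jj h2 h4))
    have h4 := cj_cent (g := p) (cent_symm h3)
    rwa [cj_cj_inv] at h4
  ex := by
    by_contra hcon
    push Not at hcon
    apply hJQ
    rw [jj_eq]
    exact sSup_le fun A hA => hcon A (AA_sub_FA h.U_elem h.U_le_S hA)

/-- **`J(S) ≤ O₂(P)`, `J(S) ≰ O₂(P₂)` ⟹ `P₂ ≤ N_G(V₃)`** -/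
theorem norm_V3_jj (hAS : FFBr.AStmt.{u}) (hJ : jj (S : Subgroup G) ≤ o2 P)
    (hJQ : ¬ jj (S : Subgroup G) ≤ o2 P2) : P2 ≤ normalizer (V3 : Set G) := h.norm_V3 hAS (h.f4_jj hJ hJQ)

/-- **`J(S) ≤ O₂(P)`, `J(S) ≰ O₂(P₂)` ⟹ `|S : O₂(P₂)| = 2`** -/
theorem two_of_jj (hAS : FFBr.AStmt.{u}) (hJ : jj (S : Subgroup G) ≤ o2 P)
    (hJQ : ¬ jj (S : Subgroup G) ≤ o2 P2) : (o2 P2).relIndex (S : Subgroup G) = 2 :=
  h.two_of hAS (h.f4_jj hJ hJQ)

end B4

end Cfsg.Agent.Omega.NO3S.Fld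

end
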