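import Cfsg.Agent.Mrg.Omega.NO3S.Fld.RedFourOne
import Cfsg.Agent.Mrg.Omega.NO3S.Fld.FourBase
import Cfsg.Agent.Mrg.Omega.NO3S.Fld.LDih

section


/-!
# Fld, `q = 4`, at a level: the case `V ∩ X = R` (#15515 (1)) and the end for `Ω₁(Z(nxt S K)) = R`

* `Lv4.count_one` : `|X : C_X(A)| ≤ |A : A ∩ Q|` for `A ∈ BO(S, K)`;
* `Lv4.idx_one` : `Ω₁(Z(nxt S K)) = R`, `V ∩ X = R` ⟹ `|S : Q| = 2`;
* `Lv4.idx`, `Lv4.norm_V_of` : `Ω₁(Z(nxt S K)) = R` ⟹ `|S : Q| = 2`, `P₂ ≤ N_G(V)`.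
-/

set_option autoImplicit false
set_option linter.unusedSectionVars false

namespace Cfsg.Agent.Omega.NO3S.Fld.Lv4

open Subgroup Cfsg Cfsg.Agent.ZN Cfsg.Agent.ZN.ChoiceBase Cfsg.Agent.ZN.ChoiceSit
open Cfsg.Agent.MinSimple.MinParabolic (IsMinPar)
open Cfsg.Agent.MinSimple.VModule (oddGen oddGen_le)
open Cfsg.Agent.Omega.NO3b.K0
open Cfsg.Agent.Omega.NO3b.EZero (cl cj_le_cl le_cl cl_le le_normalizer_cl cent_symm)
open Cfsg.Agent.Omega.MinPar
open Cfsg.Agent.Omega.NO3S.Level (Lev BO nxt)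
open scoped commutatorElement

universe u

variable {G : Type u} [Group G] [Finite G] {S : Sylow 2 G} {P P2 R V3 K : Subgroup G} {z : G}
  (h : Lv4 S P P2 R V3 K z)
include h

theorem one (hVX : zl (S : Subgroup G) P ⊓ cl R P2 = R) :
    GainOne.One (S : Subgroup G) P2 (o2 P2) (zl (S : Subgroup G) P) R V3 z where
  mod := h.mod
  Q_le := h.Q_le
  S_le := h.S_le
  norm := MinSimple.VModule.le_normalizer_o2 P2
  cz := fun _ hg => h.z_comm hg
  comm := by rw [← cl_eq_sSup]; exact h.U_comm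
  U_le := by rw [← cl_eq_sSup]; exact h.U_le_Q
  inf := by rw [← cl_eq_sSup]; exact hVX

/-- `|X : C_X(A)| ≤ |A : A ∩ Q|`. -/
theorem count_one (hVX : zl (S : Subgroup G) P ⊓ cl R P2 = R) {A : Subgroup G} (hA : A ∈ BO (S : Subgroup G) K) :
    (centralizer (A : Set G)).relIndex (cl R P2) ≤ (o2 P2).relIndex A := by
  have h1 := (h.one hVX).count_of hA.1
    (by
      rw [← cl_eq_sSup]
      exact ⟨fun a ha => centralizer_le h.U_le_zc (h.BO_sq hA ha).2,
        fun a ha b hb => centralizer_le h.U_le_zc (h.BO_comm hA ha hb).2⟩)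
    (by rw [← cl_eq_sSup]; exact BO_le hA h.U_le_zc)
    (by rw [← cl_eq_sSup, inf_comm]; exact h.inf_cent_U)
  rwa [← cl_eq_sSup] at h1

/-- **#15515 (1) at a level.** -/
theorem idx_one (hAS : FFBr.AStmt.{u}) (hR : zc (nxt (S : Subgroup G) K) = R)
    (hVX : zl (S : Subgroup G) P ⊓ cl R P2 = R) : (o2 P2).relIndex (S : Subgroup G) = 2 := by
  have hzX : zpowers z ≤ cl R P2 := h.zpowers_le_R.trans h.R_le_X
  have hmv : ¬ ⁅cl R P2, oddGen P2⁆ ≤ zpowers z := by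
    intro h0
    apply h.E_R
    have h1 : ⁅R, oddGen P2⁆ ≤ R := (commutator_mono h.R_le_X le_rfl).trans (h0.trans h.zpowers_le_R)
    exact le_normalizer_iff_commutator_le_left.2 h1
  obtain ⟨N, Y, hzN, hNY, hYX, hN, hY, chief, hE⟩ := exists_chief hzX h.X_sq h.X_comm h.P2_zpowers h.X_norm hmv
  have hXS := h.X_le_S
  have hYP : Y ≤ P2 := (hYX.trans hXS).trans h.S_le
  have hYc : Y ≤ centralizer (Y : Set G) := hYX.trans (h.X_comm.trans (centralizer_le hYX))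
  have hYN : Y ≤ normalizer (N : Set G) := hYP.trans hN
  have hno := noOv hAS h.syl h.par.toIsMinPar
  have hAc : ∀ A ∈ BO (S : Subgroup G) K,
      (∀ a ∈ A, a ^ 2 ∈ o2 P2) ∧ ∀ a ∈ A, ∀ b ∈ A, a * b * a⁻¹ * b⁻¹ ∈ o2 P2 := fun A hA =>
    ⟨fun a ha => h.inf_cent_zc (h.BO_sq hA ha), fun a ha b hb => h.inf_cent_zc (h.BO_comm hA ha hb)⟩
  have hD : ∀ A ∈ BO (S : Subgroup G) K, ⁅Chain.cmod N A ⊓ Y, A⁆ ≤ N := by
    intro A _
    rw [commutator_le]
    intro y hy a ha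
    have h1 := (mem_inf.1 hy).1.2 a ha
    have e : ⁅y, a⁆ = (a * y * a⁻¹ * y⁻¹)⁻¹ := by rw [commutatorElement_def]; group
    rw [e]; exact inv_mem h1
  have hle : ∀ A ∈ BO (S : Subgroup G) K, (centralizer (A : Set G)).relIndex Y ≤ (o2 P2).relIndex A := fun A hA =>
    (relIndex_le_of_le_right hYX (Chain.rel_ne _ _)).trans (h.count_one hVX hA)
  have hge : ∀ A ∈ BO (S : Subgroup G) K, (o2 P2).relIndex A ≤ (Chain.cmod N A).relIndex Y := by
    intro A hA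
    have := hno N Y A (Chain.cmod N A ⊓ Y) hNY hYP (fun y hy => h.X_sq y (hYX hy)) hYc hN hY chief hE
      (hA.1.trans h.S_le) (hAc A hA).1 (hAc A hA).2 inf_le_right (hD A hA)
    rwa [inf_relIndex_right] at this
  have hsub : ∀ A : Subgroup G, centralizer (A : Set G) ⊓ Y ≤ Chain.cmod N A ⊓ Y := fun A =>
    le_inf (Chain.centralizer_le_cmod hYN) inf_le_right
  have hexact : ∀ A ∈ BO (S : Subgroup G) K, Chain.cmod N A ⊓ Y ≤ centralizer (A : Set G) := by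
    intro A hA
    have h1 := hle A hA
    have h2 := hge A hA
    have h3 : (centralizer (A : Set G) ⊓ Y).relIndex (Chain.cmod N A ⊓ Y) * (Chain.cmod N A ⊓ Y).relIndex Y =
        (centralizer (A : Set G) ⊓ Y).relIndex Y := relIndex_mul_relIndex _ _ _ (hsub A) inf_le_right
    rw [inf_relIndex_right, inf_relIndex_right] at h3
    have h4 := Chain.rel_pos (Chain.cmod N A) Y
    have h5 := Chain.rel_pos (centralizer (A : Set G) ⊓ Y) (Chain.cmod N A ⊓ Y)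
    have h6 : (centralizer (A : Set G) ⊓ Y).relIndex (Chain.cmod N A ⊓ Y) = 1 := by
      by_contra hcon
      have h7 : 2 ≤ (centralizer (A : Set G) ⊓ Y).relIndex (Chain.cmod N A ⊓ Y) := by omega
      have h8 := Nat.mul_le_mul_right ((Chain.cmod N A).relIndex Y) h7
      omega
    exact (relIndex_eq_one.1 h6).trans inf_le_left
  -- the common fixed vectors
  have hfixR : ∀ y ∈ Y, (∀ A ∈ {A | A ∈ BO (S : Subgroup G) K ∧ ¬ A ≤ o2 P2}, ∀ a ∈ A, ⁅y, a⁆ ∈ N) → y ∈ R := by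
    intro y hy hfix
    have h1 : ∀ A ∈ BO (S : Subgroup G) K, A ≤ centralizer ({y} : Set G) := by
      intro A hA a ha
      rw [mem_centralizer_singleton_iff]
      by_cases hAQ : A ≤ o2 P2
      · exact (mem_centralizer_iff.1 (h.BO_cent hA hAQ ha) y (hYX hy)).symm
      · have h2 : y ∈ Chain.cmod N A ⊓ Y := by
          refine mem_inf.2 ⟨⟨hYN hy, fun a ha => ?_⟩, hy⟩
          have h3 := hfix A ⟨hA, hAQ⟩ a ha
          have e : a * y * a⁻¹ * y⁻¹ = ⁅y, a⁆⁻¹ := by rw [commutatorElement_def]; group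
          rw [e]; exact inv_mem h3
        exact mem_centralizer_iff.1 (hexact A hA h2) a ha
    have hyzc : y ∈ zc K := h.U_le_zc (h.X_le_U (hYX hy))
    have h2 : nxt (S : Subgroup G) K ≤ centralizer ({y} : Set G) := by
      refine sup_le ?_ (sSup_le h1)
      exact inf_le_right.trans (centralizer_le (Set.singleton_subset_iff.2 hyzc))
    have h3 : ∀ a ∈ nxt (S : Subgroup G) K, a * y = y * a := fun a ha => mem_centralizer_singleton_iff.1 (h2 ha)
    rw [← hR, ChoiceBase.mem_zc]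
    exact ⟨Level.inf_centralizer_le_nxt _ _ ⟨hXS (hYX hy), h.zcK_comm hyzc⟩, h.X_sq y (hYX hy), h3⟩
  have htwo := chief_two hAS h.syl h.par.toIsMinPar hNY hYP (fun y hy => h.X_sq y (hYX hy)) hYc hN hY chief hE
    (𝒥 := {A | A ∈ BO (S : Subgroup G) K ∧ ¬ A ≤ o2 P2})
    (by
      rintro A ⟨hA, hAQ⟩
      refine ⟨hA.1, (hAc A hA).1, (hAc A hA).2, hAQ, Chain.cmod N A ⊓ Y, inf_le_right, hD A hA, ?_⟩
      rw [inf_relIndex_right]
      refine le_trans ?_ (hle A hA)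
      rw [← inf_relIndex_right (centralizer (A : Set G)), ← inf_relIndex_right (Chain.cmod N A)]
      exact relIndex_le_of_le_left (hsub A) (Chain.rel_ne _ _))
    (by
      obtain ⟨A, hA, hAQ⟩ := h.exists_BO_not_Q
      exact ⟨A, hA, hAQ⟩)
    (by
      intro y hy w hw hyN hwN hyf hwf
      have hyR := hfixR y hy hyf
      have hwR := hfixR w hw hwf
      have hzN' : z ∈ N := hzN (mem_zpowers z)
      have hy1 : y ≠ 1 := fun h0 => hyN (h0 ▸ one_mem _)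
      have hyz : z ≠ y := fun h0 => hyN (h0 ▸ hzN')
      have hw1 : w ≠ 1 := fun h0 => hwN (h0 ▸ one_mem _)
      rcases eq_of_card_four h.mod.cardR (fun v hv => h.mod.sq v (h.R_le_V hv)) h.z_mem_R h.mod.z_ne hyR hy1
        hyz hwR hw1 with e | e | e
      · rw [e] at hwN; exact absurd hzN' hwN
      · rw [e, inv_mul_cancel]; exact one_mem _
      · have hc : z * y = y * z := mem_centralizer_iff.1 (h.mod.comm (h.R_le_V hyR)) z (h.R_le_V h.z_mem_R)
        rw [e, hc, inv_mul_cancel_left]; exact hzN')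
  have h0 := Chain.rel_pos (o2 P2) (S : Subgroup G)
  have h1 : (o2 P2).relIndex (S : Subgroup G) ≠ 1 := fun h2 => h.not_S_le (relIndex_eq_one.1 h2)
  omega

theorem V_cases : zl (S : Subgroup G) P ⊓ cl R P2 = R ∨ V3 ≤ cl R P2 := by
  have hn : (S : Subgroup G) ≤ normalizer ((zl (S : Subgroup G) P ⊓ cl R P2 : Subgroup G) : Set G) :=
    NotFF.normalizer_inf h.mod.S_V (h.S_le.trans h.X_norm)
  have hR : R ≤ zl (S : Subgroup G) P ⊓ cl R P2 := le_inf h.R_le_V h.R_le_X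
  rcases h.mod.uni _ inf_le_left hn with h1 | h1 | h1 | h1 | h1
  · exfalso
    rw [h1, le_bot_iff] at hR
    have := h.mod.cardR
    rw [hR, Subgroup.card_bot] at this
    omega
  · exfalso
    rw [h1] at hR
    have h2 := Subgroup.card_le_of_le hR
    have h3 : Nat.card (zpowers z) ≤ 2 := by
      rw [Nat.card_zpowers]
      exact Nat.le_of_dvd (by decide) (orderOf_dvd_of_pow_eq_one (by rw [pow_two]; exact h.z_sq))
    rw [h.mod.cardR] at h2
    omega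
  · exact Or.inl h1
  · exact Or.inr (h1.ge.trans inf_le_right)
  · exact Or.inr ((h.mod.V3_le.trans h1.ge).trans inf_le_right)

/-- `|S : Q| = 2` -/
theorem idx (hAS : FFBr.AStmt.{u}) (hR : zc (nxt (S : Subgroup G) K) = R) :
    (o2 P2).relIndex (S : Subgroup G) = 2 := by
  rcases h.V_cases with h1 | h1
  · exact h.idx_one hAS hR h1
  · exact h.two h1 hAS hR

/-- **`Ω₁(Z(nxt S K)) = R` ⟹ `P₂ ≤ N_G(V)`** -/
theorem norm_V_of (hAS : FFBr.AStmt.{u}) (hR : zc (nxt (S : Subgroup G) K) = R) :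
    P2 ≤ normalizer (zl (S : Subgroup G) P : Set G) :=
  h.norm_V hR (h.idx hAS hR) fun _ hA hAL => h.dih (h.idx hAS hR) hA hAL

end Cfsg.Agent.Omega.NO3S.Fld.Lv4

end

section


/-!
# Fld, `q = 4` : the situation without a level

* `B4 S P P2 R V3 z` : the part of `Lv4 S P P2 R V3 K z` which does not mention the level; `Lv4.toB4`;
* `F4 S P P2 F` : a family `F` of best offenders on `U = ⟨V^P₂⟩`: closed under exact subgroups, the members in `Q`
  centralise `U`, some member is not in `Q`;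
* `B4.exists_quad` : some `A ∈ F`, `A ≰ Q`, acts quadratically on `U`.
-/

set_option autoImplicit false
set_option linter.unusedSectionVars false

namespace Cfsg.Agent.Omega.NO3S.Fld

open Subgroup Cfsg Cfsg.Agent.ZN Cfsg.Agent.ZN.ChoiceBase Cfsg.Agent.Omega.MinPar Cfsg.Agent.Omega.FrameNOFF
open Cfsg.Agent.ZN.ChoiceSit (Syl syl_iff syl_not_dvd o2_le_syl isPGroup_o2)
open Cfsg.Agent.MinSimple.MinParabolic (IsMinPar)
open Cfsg.Agent.MinSimple.VModule (oddGen oddGen_le mem_oddGen le_normalizer_oddGen le_normalizer_o2 o2_le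
  zc_le zc_le_zl le_normalizer_zl zc_sq zc_comm le_centralizer_zc)
open Cfsg.Agent.Omega.NO3b.EZero (cl cj_le_cl le_cl cl_le cj_cl le_normalizer_cl cent_symm cj_cent cj_norm
  sq_of_comm oddGen_sup_syl mem_cj_self relIndex_cj le_normalizer_inf_cent)
open Cfsg.Agent.Omega.NO3b.K0 (conj_mem' cj_of_le cj_self)
open Cfsg.Agent.Omega.NO3S.NotFF (le_normalizer_of_forall normalizer_inf normalizer_sup normalizer_centralizer
  normalizer_commutator)
open Cfsg.Agent.Omega.SQ1.Bau (card_sup_comm mem_sup_comm)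
open Cfsg.Agent.Omega.NO1.BestOff (Best)
open Cfsg.Agent.Omega.NO3S.Level (Lev BO nxt)
open scoped commutatorElement

universe u

/-- **The situation** (`q = 4`, no level). -/
structure B4 {G : Type u} [Group G] [Finite G] (S : Sylow 2 G) (P P2 R V3 : Subgroup G) (z : G) : Prop where
  hyp : Hyp S P
  mod : DEight.Mod (S : Subgroup G) (zl (S : Subgroup G) P) R V3 z
  fix4 : ∀ b ∈ (S : Subgroup G), b ∉ centralizer (zl (S : Subgroup G) P : Set G) →
    Nat.card ↥(zl (S : Subgroup G) P ⊓ centralizer ({b} : Set G)) ≤ 4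
  zS : zc (S : Subgroup G) = zpowers z
  par : IsPar (S : Subgroup G) P2
  le : P2 ≤ CZ (S : Subgroup G)
  mv : ¬ P2 ≤ normalizer (R : Set G)
  soc : zc (o2 P) = zl (S : Subgroup G) P
  /-- the FF-LEMMA -/
  ff : zc (o2 P2) ≤ centralizer (oddGen P2 : Set G)

theorem Lv4.toB4 {G : Type u} [Group G] [Finite G] {S : Sylow 2 G} {P P2 R V3 K : Subgroup G} {z : G}
    (h : Lv4 S P P2 R V3 K z) : B4 S P P2 R V3 z :=
  ⟨h.hyp, h.mod, h.fix4, h.zS, h.par, h.le, h.mv, h.soc, h.ff⟩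

/-- **A family of best offenders on `U = ⟨V^P₂⟩`.** -/
structure F4 {G : Type u} [Group G] [Finite G] (S : Sylow 2 G) (P P2 : Subgroup G) (F : Set (Subgroup G)) : Prop where
  le : ∀ A ∈ F, A ≤ (S : Subgroup G)
  best : ∀ A ∈ F, Best (cl (zl (S : Subgroup G) P) P2) A
  cut : ∀ A ∈ F, ∀ B ≤ A, A ⊓ centralizer (cl (zl (S : Subgroup G) P) P2 : Set G) ≤ B →
    Nat.card A * Nat.card ↥(cl (zl (S : Subgroup G) P) P2 ⊓ centralizer (A : Set G)) ≤
      Nat.card B * Nat.card ↥(cl (zl (S : Subgroup G) P) P2 ⊓ centralizer (B : Set G)) → B ∈ F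
  cent : ∀ A ∈ F, A ≤ o2 P2 → A ≤ centralizer (cl (zl (S : Subgroup G) P) P2 : Set G)
  ex : ∃ A ∈ F, ¬ A ≤ o2 P2

namespace B4

variable {G : Type u} [Group G] [Finite G] {S : Sylow 2 G} {P P2 R V3 : Subgroup G} {z : G}
  (h : B4 S P P2 R V3 z)
include h

theorem syl : Syl (S : Subgroup G) P2 :=
  ⟨h.par.le, S.isPGroup', fun _ _ hT hST => S.is_maximal' hT hST⟩

theorem S_le : (S : Subgroup G) ≤ P2 := h.par.le

theorem Q_le : o2 P2 ≤ (S : Subgroup G) := o2_le_syl h.syl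

theorem L_le : o2 P ≤ (S : Subgroup G) := h.hyp.star.isLoc.o2_le S

theorem V_le_S : zl (S : Subgroup G) P ≤ (S : Subgroup G) := h.hyp.V_le_S

theorem R_le_V : R ≤ zl (S : Subgroup G) P := h.mod.R_le.trans h.mod.V3_le

theorem z_mem_R : z ∈ R := h.mod.z_mem

theorem z_comm {g : G} (hg : g ∈ P2) : g * z = z * g := by
  have h1 : z ∈ zc (S : Subgroup G) := by rw [h.zS]; exact mem_zpowers z
  exact (mem_centralizer_iff.1 (h.le hg) z h1).symm

theorem z_comm_zpowers {g w : G} (hg : g ∈ P2) (hw : w ∈ zpowers z) : g * w * g⁻¹ = w := by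
  obtain ⟨n, rfl⟩ := mem_zpowers_iff.1 hw
  have h1 : Commute g z := h.z_comm hg
  exact mul_inv_eq_iff_eq_mul.2 (h1.zpow_right n).eq

theorem P2_zpowers : P2 ≤ normalizer (zpowers z : Set G) :=
  le_normalizer_of_forall fun g hg w hw => by rw [h.z_comm_zpowers hg hw]; exact hw

theorem zpowers_le_R : zpowers z ≤ R := zpowers_le.2 h.z_mem_R

theorem z_sq : z * z = 1 := by
  have := h.mod.sq z (h.R_le_V h.z_mem_R)
  rwa [pow_two] at this

theorem mem_zpowers_iff' {g : G} : g ∈ zpowers z ↔ g = 1 ∨ g = z := by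
  constructor
  · intro hg
    obtain ⟨n, rfl⟩ := mem_zpowers_iff.1 hg
    rcases Int.even_or_odd' n with ⟨k, rfl | rfl⟩
    · left
      rw [zpow_mul, zpow_ofNat, pow_two, h.z_sq, one_zpow]
    · right
      rw [zpow_add, zpow_mul, zpow_ofNat, pow_two, h.z_sq, one_zpow, one_mul, zpow_one]
  · rintro (rfl | rfl)
    · exact one_mem _
    · exact mem_zpowers _

/-- `U = ⟨V^P₂⟩ ≤ W` -/
theorem U_le_WW : cl (zl (S : Subgroup G) P) P2 ≤ WW (S : Subgroup G) P :=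
  cl_le fun _ hp => conj_zl_le_WW (h.le hp)

theorem U_comm : cl (zl (S : Subgroup G) P) P2 ≤ centralizer (cl (zl (S : Subgroup G) P) P2 : Set G) :=
  (h.U_le_WW.trans h.hyp.W_comm).trans (centralizer_le h.U_le_WW)

theorem U_sq : ∀ u ∈ cl (zl (S : Subgroup G) P) P2, u ^ 2 = 1 := fun u hu => h.hyp.W_sq u (h.U_le_WW hu)

theorem U_norm : P2 ≤ normalizer (cl (zl (S : Subgroup G) P) P2 : Set G) := le_normalizer_cl _ _

theorem X_norm : P2 ≤ normalizer (cl R P2 : Set G) := le_normalizer_cl _ _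

theorem X_le_U : cl R P2 ≤ cl (zl (S : Subgroup G) P) P2 :=
  cl_le fun _ hp => (cj_mono _ h.R_le_V).trans (cj_le_cl hp)

theorem V_le_U : zl (S : Subgroup G) P ≤ cl (zl (S : Subgroup G) P) P2 := le_cl _ _

theorem R_le_X : R ≤ cl R P2 := le_cl _ _

theorem U_le_P2 : cl (zl (S : Subgroup G) P) P2 ≤ P2 := cl_le fun p hp => by
  have h1 := cj_mono p (h.V_le_S.trans h.S_le)
  rwa [cj_self hp] at h1

theorem U_two : IsPGroup 2 (cl (zl (S : Subgroup G) P) P2) := fun x =>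
  ⟨1, Subtype.ext (by simpa using h.U_sq x x.2)⟩

theorem U_le_Q : cl (zl (S : Subgroup G) P) P2 ≤ o2 P2 := ChoiceSit.le_o2 h.U_two h.U_le_P2 h.U_norm

theorem X_le_Q : cl R P2 ≤ o2 P2 := h.X_le_U.trans h.U_le_Q

theorem U_le_S : cl (zl (S : Subgroup G) P) P2 ≤ (S : Subgroup G) := h.U_le_Q.trans h.Q_le

theorem X_le_S : cl R P2 ≤ (S : Subgroup G) := h.X_le_Q.trans h.Q_le

theorem X_sq : ∀ u ∈ cl R P2, u ^ 2 = 1 := fun u hu => h.U_sq u (h.X_le_U hu)

theorem X_comm : cl R P2 ≤ centralizer (cl R P2 : Set G) :=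
  (h.X_le_U.trans h.U_comm).trans (centralizer_le h.X_le_U)

/-- the dichotomy for normal subgroups of `P₂` -/
theorem min_or {N : Subgroup G} (hK : N ≤ P2) (hKn : P2 ≤ normalizer (N : Set G)) :
    oddGen P2 ≤ N ∨ (S : Subgroup G) ⊓ N ≤ o2 P2 :=
  Cfsg.Agent.Omega.NO3b.K0.min_or h.syl h.par.toIsMinPar hK hKn

theorem sup_S : oddGen P2 ⊔ (S : Subgroup G) = P2 := oddGen_sup_syl h.syl

/-- `E` moves `R` -/
theorem E_R : ¬ oddGen P2 ≤ normalizer (R : Set G) := by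
  intro h0
  apply h.mv
  rw [← h.sup_S]
  exact sup_le h0 h.mod.S_R

theorem E_cent_R : ¬ oddGen P2 ≤ centralizer (R : Set G) := fun h0 =>
  h.E_R (h0.trans (centralizer_le_normalizer _))

theorem not_S_le : ¬ (S : Subgroup G) ≤ o2 P2 := by
  intro h0
  apply h.par.not_le
  rw [le_antisymm h0 h.Q_le]
  exact le_normalizer_o2 P2

/-- `[R, S] ≤ ⟨z⟩` -/
theorem comm_RS {s r : G} (hs : s ∈ (S : Subgroup G)) (hr : r ∈ R) : s * r * s⁻¹ * r⁻¹ ∈ zpowers z := by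
  by_cases hr1 : r ∈ zpowers z
  · rw [h.z_comm_zpowers (h.S_le hs) hr1, mul_inv_cancel]
    exact one_mem _
  rw [h.mem_zpowers_iff'] at hr1
  push Not at hr1
  have hsr : s * r * s⁻¹ ∈ R := conj_mem' h.mod.S_R hs hr
  have hsr1 : s * r * s⁻¹ ≠ 1 := fun h0 => hr1.1 (conj_eq_one_iff.1 h0)
  have hrr : r * r = 1 := by
    have := h.mod.sq r (h.R_le_V hr)
    rwa [pow_two] at this
  rcases eq_of_card_four h.mod.cardR (fun v hv => h.mod.sq v (h.R_le_V hv)) h.z_mem_R h.mod.z_ne hr hr1.1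
    (Ne.symm hr1.2) hsr hsr1 with e | e | e
  · -- `s r s⁻¹ = z` is impossible
    exfalso
    apply hr1.2
    have h1 : r = s⁻¹ * (s * r * s⁻¹) * s := by group
    rw [h1, e]
    have h2 := h.z_comm (h.S_le hs)
    rw [mul_assoc, ← h2, inv_mul_cancel_left]
  · rw [e, mul_inv_cancel]; exact one_mem _
  · rw [e, mul_inv_cancel_right]
    exact mem_zpowers z

/-- `[X, Q] ≤ ⟨z⟩` -/
theorem comm_XQ {q x : G} (hq : q ∈ o2 P2) (hx : x ∈ cl R P2) : q * x * q⁻¹ * x⁻¹ ∈ zpowers z := by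
  have hX : cl R P2 ≤ normalizer (zpowers z : Set G) := (h.X_le_S.trans h.S_le).trans h.P2_zpowers
  have h1 : cl R P2 ≤ cmod (cl R P2) (o2 P2) (zpowers z) hX := by
    refine cl_le fun p hp => ?_
    have h2 : R ≤ cmod (cl R P2) (o2 P2) (zpowers z) hX := fun r hr =>
      ⟨h.R_le_X hr, fun q hq => h.comm_RS (h.Q_le hq) hr⟩
    have h3 := cj_mono p h2
    rwa [cj_of_le (norm_cmod h.X_norm (le_normalizer_o2 P2) h.P2_zpowers) hp] at h3
  exact (h1 hx).2 q hq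

/-- `Q ≰ C(R)` -/
theorem not_Q_R : ¬ o2 P2 ≤ centralizer (R : Set G) := by
  intro h0
  have h1 : R ≤ zc (o2 P2) := fun r hr => ChoiceBase.mem_zc.2 ⟨h.X_le_Q (h.R_le_X hr), h.X_sq r (h.R_le_X hr),
    fun y hy => (mem_centralizer_iff.1 (h0 hy) r hr).symm⟩
  exact h.E_cent_R (cent_symm (h1.trans h.ff))

theorem not_Q_V : ¬ o2 P2 ≤ centralizer (zl (S : Subgroup G) P : Set G) := fun h0 =>
  h.not_Q_R (h0.trans (centralizer_le h.R_le_V))

/-- `C_S(X) ≤ Q` -/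
theorem inf_cent_X : (S : Subgroup G) ⊓ centralizer (cl R P2 : Set G) ≤ o2 P2 := by
  rcases h.min_or (N := P2 ⊓ centralizer (cl R P2 : Set G)) inf_le_left (le_normalizer_inf_cent h.X_norm) with h1 | h1
  · exact absurd ((h1.trans inf_le_right).trans (centralizer_le h.R_le_X)) h.E_cent_R
  · exact (le_inf inf_le_left (inf_le_inf_right _ h.S_le)).trans h1

theorem inf_cent_U : (S : Subgroup G) ⊓ centralizer (cl (zl (S : Subgroup G) P) P2 : Set G) ≤ o2 P2 :=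
  (inf_le_inf_left _ (centralizer_le h.X_le_U)).trans h.inf_cent_X

theorem mem_L_iff {x : G} (hx : x ∈ (S : Subgroup G)) : x ∈ o2 P ↔ x ∈ centralizer (zl (S : Subgroup G) P : Set G) := by
  rw [← h.hyp.inf_centralizer]
  exact ⟨fun h1 => h1.2, fun h1 => ⟨hx, h1⟩⟩

theorem kmod_UX_norm : P2 ≤ normalizer (kmod P2 (cl (zl (S : Subgroup G) P) P2) (cl R P2) h.U_norm h.X_norm : Set G) :=
  norm_kmod h.U_norm h.X_norm

/-- `[V, S] ≤ V₃` -/
theorem comm_VS {s v : G} (hs : s ∈ (S : Subgroup G)) (hv : v ∈ zl (S : Subgroup G) P) :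
    s * v * s⁻¹ * v⁻¹ ∈ V3 := by
  have hidx : (V3.subgroupOf (zl (S : Subgroup G) P)).index = 2 := by
    have h1 := relIndex_mul_card (zl (S : Subgroup G) P) V3
    rw [inf_eq_right.2 h.mod.V3_le, h.mod.cardV3, h.mod.card] at h1
    change V3.relIndex (zl (S : Subgroup G) P) = 2
    omega
  have hsv : s * v * s⁻¹ ∈ zl (S : Subgroup G) P := conj_mem' h.mod.S_V hs hv
  have h2 := Subgroup.mul_mem_iff_of_index_two hidx (a := ⟨s * v * s⁻¹, hsv⟩) (b := ⟨v⁻¹, inv_mem hv⟩)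
  rw [mem_subgroupOf, mem_subgroupOf, mem_subgroupOf] at h2
  refine h2.2 ?_
  change s * v * s⁻¹ ∈ V3 ↔ v⁻¹ ∈ V3
  rw [inv_mem_iff]
  constructor
  · intro h3
    have h4 := conj_mem' h.mod.S_V3 (inv_mem hs) h3
    have e : s⁻¹ * (s * v * s⁻¹) * s⁻¹⁻¹ = v := by group
    rwa [e] at h4
  · exact fun h3 => conj_mem' h.mod.S_V3 hs h3

/-- `[V₃, S] ≤ R` -/
theorem comm_V3S {s v : G} (hs : s ∈ (S : Subgroup G)) (hv : v ∈ V3) : s * v * s⁻¹ * v⁻¹ ∈ R := by
  have hidx : (R.subgroupOf V3).index = 2 := by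
    have h1 := relIndex_mul_card V3 R
    rw [inf_eq_right.2 h.mod.R_le, h.mod.cardV3, h.mod.cardR] at h1
    change R.relIndex V3 = 2
    omega
  have hsv : s * v * s⁻¹ ∈ V3 := conj_mem' h.mod.S_V3 hs hv
  have h2 := Subgroup.mul_mem_iff_of_index_two hidx (a := ⟨s * v * s⁻¹, hsv⟩) (b := ⟨v⁻¹, inv_mem hv⟩)
  rw [mem_subgroupOf, mem_subgroupOf, mem_subgroupOf] at h2
  refine h2.2 ?_
  change s * v * s⁻¹ ∈ R ↔ v⁻¹ ∈ R
  rw [inv_mem_iff]
  constructor
  · intro h3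
    have h4 := conj_mem' h.mod.S_R (inv_mem hs) h3
    have e : s⁻¹ * (s * v * s⁻¹) * s⁻¹⁻¹ = v := by group
    rwa [e] at h4
  · exact fun h3 => conj_mem' h.mod.S_R hs h3

theorem exists_f : ∃ f ∈ V3, f ∉ R := by
  by_contra hcon
  push Not at hcon
  have h1 := Subgroup.card_le_of_le (show V3 ≤ R from hcon)
  rw [h.mod.cardV3, h.mod.cardR] at h1
  omega

/-- `V₃ = R ∪ f R` -/
theorem V3_cases {f v : G} (hf : f ∈ V3) (hfR : f ∉ R) (hv : v ∈ V3) : v ∈ R ∨ ∃ r ∈ R, v = f * r := by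
  by_cases hvR : v ∈ R
  · exact Or.inl hvR
  right
  have hidx : (R.subgroupOf V3).index = 2 := by
    have h1 := relIndex_mul_card V3 R
    rw [inf_eq_right.2 h.mod.R_le, h.mod.cardV3, h.mod.cardR] at h1
    change R.relIndex V3 = 2
    omega
  have h2 := Subgroup.mul_mem_iff_of_index_two hidx (a := ⟨f⁻¹, inv_mem hf⟩) (b := ⟨v, hv⟩)
  rw [mem_subgroupOf, mem_subgroupOf, mem_subgroupOf] at h2
  have h3 : f⁻¹ * v ∈ R := h2.2 (by
    change f⁻¹ ∈ R ↔ v ∈ R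
    rw [inv_mem_iff]
    exact ⟨fun h4 => absurd h4 hfR, fun h4 => absurd h4 hvR⟩)
  exact ⟨_, h3, by group⟩

/-- `P₂` normalises `V₃` ⟹ `|S : Q| = 2` -/
theorem index_of_V3 (hn : P2 ≤ normalizer (V3 : Set G)) : (o2 P2).relIndex (S : Subgroup G) = 2 := by
  have h1 : oddGen P2 ≤ kmod P2 V3 (zpowers z) hn h.P2_zpowers ∨
      (S : Subgroup G) ⊓ kmod P2 V3 (zpowers z) hn h.P2_zpowers ≤ o2 P2 :=
    h.min_or kmod_le (norm_kmod hn h.P2_zpowers)
  have h2 : (S : Subgroup G) ⊓ kmod P2 V3 (zpowers z) hn h.P2_zpowers ≤ o2 P2 := by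
    refine h1.resolve_left fun h0 => h.E_R ?_
    refine le_normalizer_of_forall fun e he r hr => ?_
    have h3 := (h0 he).2 r (h.mod.R_le hr)
    have h4 := mul_mem (h.zpowers_le_R h3) hr
    rwa [inv_mul_cancel_right] at h4
  obtain ⟨f, hf, hfR⟩ := h.exists_f
  have hmem : ∀ s ∈ (S : Subgroup G), s * f * s⁻¹ * f⁻¹ ∈ zpowers z → s ∈ o2 P2 := by
    intro s hs hsf
    refine h2 ⟨hs, h.S_le hs, fun v hv => ?_⟩
    rcases h.V3_cases hf hfR hv with hv | ⟨r, hr, rfl⟩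
    · exact h.comm_RS hs hv
    · have h3 := h.comm_RS hs hr
      have e : s * (f * r) * s⁻¹ * (f * r)⁻¹ = (s * f * s⁻¹ * f⁻¹) * (f * (s * r * s⁻¹ * r⁻¹) * f⁻¹) := by group
      have e2 : f * (s * r * s⁻¹ * r⁻¹) * f⁻¹ = s * r * s⁻¹ * r⁻¹ :=
        h.z_comm_zpowers (h.S_le (h.V_le_S (h.mod.V3_le hf))) h3
      rw [e, e2]
      exact mul_mem hsf h3
  have h3 : (o2 P2).relIndex (S : Subgroup G) ≤ 2 := by
    refine relIndex_le_two fun s hs t ht hsQ htQ => hmem _ (mul_mem hs ht) ?_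
    have hs1 : s * f * s⁻¹ * f⁻¹ ∉ zpowers z := fun h0 => hsQ (hmem s hs h0)
    have ht1 : t * f * t⁻¹ * f⁻¹ ∉ zpowers z := fun h0 => htQ (hmem t ht h0)
    have hsR := h.comm_V3S hs hf
    have htR := h.comm_V3S ht hf
    have e : s * t * f * (s * t)⁻¹ * f⁻¹ = (s * (t * f * t⁻¹ * f⁻¹) * s⁻¹ * (t * f * t⁻¹ * f⁻¹)⁻¹) *
        ((t * f * t⁻¹ * f⁻¹) * (s * f * s⁻¹ * f⁻¹)) := by group
    rw [e]
    refine mul_mem (h.comm_RS hs htR) ?_
    rw [h.mem_zpowers_iff'] at hs1 ht1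
    push Not at hs1 ht1
    have hsq : ∀ v ∈ R, v ^ 2 = 1 := fun v hv => h.mod.sq v (h.R_le_V hv)
    have h5 := h.mod.sq _ (h.R_le_V htR)
    rw [pow_two] at h5
    rcases eq_of_card_four h.mod.cardR hsq h.z_mem_R h.mod.z_ne htR ht1.1 (Ne.symm ht1.2) hsR hs1.1 with e | e | e
    · exact absurd e hs1.2
    · rw [e, h5]; exact one_mem _
    · rw [e]
      have h6 : (t * f * t⁻¹ * f⁻¹) * z = z * (t * f * t⁻¹ * f⁻¹) :=
        h.z_comm (h.S_le (h.V_le_S (h.R_le_V htR)))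
      rw [← mul_assoc, h6, mul_assoc, h5, mul_one]
      exact mem_zpowers z
  have h4 : (o2 P2).relIndex (S : Subgroup G) ≠ 1 := fun h0 => h.not_S_le (relIndex_eq_one.1 h0)
  have h5 : (o2 P2).relIndex (S : Subgroup G) ≠ 0 := FiniteIndex.index_ne_zero (H := (o2 P2).subgroupOf S)
  omega


omit h in
/-- `|U : C_U(A)| ≤ |A : C_A(U)|` -/
theorem _root_.Cfsg.Agent.Omega.NO3S.Fld.F4.index_le {F : Set (Subgroup G)} (f : F4 S P P2 F) {A : Subgroup G}
    (hA : A ∈ F) : (centralizer (A : Set G)).relIndex (cl (zl (S : Subgroup G) P) P2) ≤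
      (centralizer (cl (zl (S : Subgroup G) P) P2 : Set G)).relIndex A := by
  set U := cl (zl (S : Subgroup G) P) P2 with hU
  refine FFThm.relIndex_le_iff.1 ?_
  have h1 := (f.best A hA).max (A ⊓ centralizer (U : Set G)) inf_le_left le_rfl
  have h2 : U ⊓ centralizer ((A ⊓ centralizer (U : Set G) : Subgroup G) : Set G) = U :=
    inf_eq_left.2 (cent_symm inf_le_right)
  rw [← hU, h2] at h1
  rw [mul_comm]
  exact h1

/-- squares and commutators of `A ∈ F` lie in `Q` -/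
theorem F_o2 {F : Set (Subgroup G)} (f : F4 S P P2 F) {A : Subgroup G} (hA : A ∈ F) :
    (∀ a ∈ A, a ^ 2 ∈ o2 P2) ∧ ∀ a ∈ A, ∀ b ∈ A, a * b * a⁻¹ * b⁻¹ ∈ o2 P2 := by
  have hS := f.le A hA
  refine ⟨fun a ha => h.inf_cent_U ⟨pow_mem (hS ha) 2, (f.best A hA).sq a ha⟩, fun a ha b hb => h.inf_cent_U ⟨?_, ?_⟩⟩
  · exact (S : Subgroup G).mul_mem ((S : Subgroup G).mul_mem ((S : Subgroup G).mul_mem (hS ha) (hS hb))
      ((S : Subgroup G).inv_mem (hS ha))) ((S : Subgroup G).inv_mem (hS hb))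
  · exact (f.best A hA).comm a ha b hb

/-- **a member `A ≰ Q` which acts quadratically on `U`** -/
theorem exists_quad {F : Set (Subgroup G)} (f : F4 S P P2 F) : ∃ A ∈ F, ¬ A ≤ o2 P2 ∧
    ∀ u ∈ cl (zl (S : Subgroup G) P) P2, ∀ a ∈ A, a * u * a⁻¹ * u⁻¹ ∈ centralizer (A : Set G) := by
  obtain ⟨A, ⟨hA, hAQ⟩, hmin⟩ := Set.exists_min_image {A | A ∈ F ∧ ¬ A ≤ o2 P2}
    (fun A => Nat.card A) (Set.toFinite _) (by
      obtain ⟨A, h1, h2⟩ := f.ex
      exact ⟨A, h1, h2⟩)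
  refine ⟨A, hA, hAQ, ?_⟩
  by_contra hcon
  push Not at hcon
  obtain ⟨u, hu, a, ha, hau⟩ := hcon
  have hAS := f.le A hA
  have hXc : ∀ x ∈ cl (zl (S : Subgroup G) P) P2, ∀ y ∈ cl (zl (S : Subgroup G) P) P2, x * y = y * x :=
    fun x hx y hy => mem_centralizer_iff.1 (h.U_comm hy) x hx
  have hAn : A ≤ normalizer (cl (zl (S : Subgroup G) P) P2 : Set G) := (hAS.trans h.S_le).trans h.U_norm
  obtain ⟨h1, h2, h2'⟩ := tr_best' hXc hAn (f.best A hA) hu
  have h3 : ¬ A ≤ centralizer (tr A u : Set G) := fun h0 =>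
    hau ((mem_cent_tr hXc hAn (f.best A hA).toElemM hu ha).1 (h0 ha))
  have hF : A ⊓ centralizer (tr A u : Set G) ∈ F := by
    refine f.cut A hA _ inf_le_left (le_inf inf_le_left ?_) h2'
    exact inf_le_right.trans (centralizer_le (tr_le hAn hu))
  have h4 : A ⊓ centralizer (tr A u : Set G) ≤ o2 P2 := by
    by_contra h0
    have h5 := hmin _ ⟨hF, h0⟩
    exact h3 (inf_eq_left.1 (Subgroup.eq_of_le_of_card_ge inf_le_left h5))
  have h5 := f.cent _ hF h4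
  have h6 : cl (zl (S : Subgroup G) P) P2 ≤
      tr A u ⊔ (cl (zl (S : Subgroup G) P) P2 ⊓ centralizer (A : Set G)) := by
    rw [← h2]
    exact le_inf le_rfl (cent_symm h5)
  have htU : tr A u ≤ ⁅cl (zl (S : Subgroup G) P) P2, A⁆ := by
    rw [tr, closure_le]
    rintro _ ⟨b, hb, rfl⟩
    rw [commutator_comm]
    exact commutator_mem_commutator hb hu
  have h7 : ⁅cl (zl (S : Subgroup G) P) P2, A⁆ ≤ ⁅⁅cl (zl (S : Subgroup G) P) P2, A⁆, A⁆ := by
    rw [commutator_le]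
    intro w hw b hb
    have hcom : ∀ x ∈ tr A u, ∀ y ∈ cl (zl (S : Subgroup G) P) P2 ⊓ centralizer (A : Set G), x * y = y * x :=
      fun x hx y hy => hXc x (tr_le hAn hu hx) y hy.1
    obtain ⟨t, ht, e, he, rfl⟩ := mem_sup_comm hcom (h6 hw)
    have h8 := mem_centralizer_iff.1 he.2 b hb
    have e' : ⁅t * e, b⁆ = ⁅t, b⁆ := by
      rw [commutatorElement_def, commutatorElement_def]
      have e1 : t * e * b * (t * e)⁻¹ * b⁻¹ = t * (e * b * e⁻¹) * t⁻¹ * b⁻¹ := by group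
      rw [e1, ← h8, mul_inv_cancel_right]
    rw [e']
    exact commutator_mem_commutator (htU ht) hb
  have h8 := comm_bot (S.isPGroup'.isNilpotent) h.U_le_S hAS h7
  have h9 : A ≤ centralizer (cl (zl (S : Subgroup G) P) P2 : Set G) :=
    cent_symm (commutator_eq_bot_iff_le_centralizer.1 h8)
  exact hAQ ((le_inf hAS h9).trans h.inf_cent_U)

end B4

end Cfsg.Agent.Omega.NO3S.Fld

end

section


/-!
# Fld, `q = 4`, at a level: local facts for `j < i`

* `Loc Q V R V3 z` : what `Q` does on `V` (for all conjugates of `V` under `P₂`); `B4.loc`;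
* `Loc.L1`, `L2`, `L3`, `L4` : the case `[V₃, Q] ≤ ⟨z⟩`;
* `Loc.cent_of_R`, `comm_R_eq`, `R_le_of` : the case `[V₃, Q] ≰ ⟨z⟩`.
-/

set_option autoImplicit false
set_option linter.unusedSectionVars false

namespace Cfsg.Agent.Omega.NO3S.Fld

open Subgroup Cfsg Cfsg.Agent.ZN Cfsg.Agent.ZN.ChoiceBase Cfsg.Agent.Omega.MinPar Cfsg.Agent.Omega.FrameNOFF
open Cfsg.Agent.ZN.ChoiceSit (Syl syl_iff syl_not_dvd o2_le_syl isPGroup_o2)
open Cfsg.Agent.MinSimple.MinParabolic (IsMinPar)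
open Cfsg.Agent.MinSimple.VModule (oddGen oddGen_le mem_oddGen le_normalizer_oddGen le_normalizer_o2 o2_le
  zc_le zc_le_zl le_normalizer_zl zc_sq zc_comm le_centralizer_zc)
open Cfsg.Agent.Omega.NO3b.EZero (cl cj_le_cl le_cl cl_le cj_cl le_normalizer_cl cent_symm cj_cent cj_norm
  sq_of_comm oddGen_sup_syl mem_cj_self relIndex_cj le_normalizer_inf_cent)
open Cfsg.Agent.Omega.NO3b.K0 (conj_mem' cj_of_le cj_self)
open Cfsg.Agent.Omega.NO3S.NotFF (le_normalizer_of_forall normalizer_inf normalizer_sup normalizer_centralizer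
  normalizer_commutator)
open Cfsg.Agent.Omega.SQ1.Bau (card_sup_comm mem_sup_comm)
open Cfsg.Agent.Omega.NO1.BestOff (Best)
open Cfsg.Agent.Omega.NO3S.Level (Lev BO nxt)
open scoped commutatorElement

universe u

/-- the action of `Q` on `V` -/
structure Loc {G : Type u} [Group G] (Q V R V3 : Subgroup G) (z : G) : Prop where
  comm : V ≤ centralizer (V : Set G)
  sq : ∀ v ∈ V, v ^ 2 = 1
  card : Nat.card V = 16
  cardR : Nat.card R = 4
  cardV3 : Nat.card V3 = 8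
  R_le : R ≤ V3
  V3_le : V3 ≤ V
  z_mem : z ∈ R
  z_ne : z ≠ 1
  small : ∀ b ∈ Q, (∀ v ∈ V, b * v * b⁻¹ * v⁻¹ ∈ zpowers z) → b ∈ centralizer (V : Set G)
  faith : ∀ b ∈ Q, b ∈ centralizer (V3 : Set G) → b ∈ centralizer (V : Set G)
  nCentR : ∀ b ∈ Q, b ∉ centralizer (R : Set G) → ∀ v ∈ V, b * v * b⁻¹ * v⁻¹ ∈ R → v ∈ V3
  comm3 : ∀ b ∈ Q, ∀ v ∈ V, b * v * b⁻¹ * v⁻¹ ∈ V3
  commR : ∀ b ∈ Q, ∀ v ∈ V3, b * v * b⁻¹ * v⁻¹ ∈ R
  commz : ∀ b ∈ Q, ∀ v ∈ R, b * v * b⁻¹ * v⁻¹ ∈ zpowers z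

section

variable {G : Type u} [Group G]

theorem mem_cent_cj {y g : G} {W : Subgroup G} :
    g ∈ centralizer ((cj y W : Subgroup G) : Set G) ↔ y⁻¹ * g * y ∈ centralizer (W : Set G) := by
  rw [← cj_centralizer, mem_cj]

theorem conj_comm' (y q v : G) : y⁻¹ * (q * v * q⁻¹ * v⁻¹) * y =
    (y⁻¹ * q * y) * (y⁻¹ * v * y) * (y⁻¹ * q * y)⁻¹ * (y⁻¹ * v * y)⁻¹ := by group

end

namespace Loc

variable {G : Type u} [Group G] [Finite G] {Q V R V3 : Subgroup G} {z : G} (l : Loc Q V R V3 z)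
include l

/-- conjugation -/
theorem conj {y : G} (hy : cj y Q = Q) (hz : cj y (zpowers z) = zpowers z) (hzy : y * z = z * y) :
    Loc Q (cj y V) (cj y R) (cj y V3) z := by
  have hq : ∀ {q : G}, q ∈ Q → y⁻¹ * q * y ∈ Q := fun {q} h => by rw [← hy, mem_cj] at h; exact h
  have hzz : ∀ {w : G}, w ∈ zpowers z ↔ y⁻¹ * w * y ∈ zpowers z := fun {w} => by
    conv_lhs => rw [← hz, mem_cj]
  refine ⟨cj_cent l.comm, ?_, ?_, ?_, ?_, ?_, ?_, ?_, l.z_ne, ?_, ?_, ?_, ?_, ?_, ?_⟩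
  · intro v hv
    have h1 := l.sq _ (mem_cj.1 hv)
    have e : (y⁻¹ * v * y) ^ 2 = y⁻¹ * v ^ 2 * y := by rw [pow_two, pow_two]; group
    rw [e, mul_assoc, inv_mul_eq_one] at h1
    have h2 : v ^ 2 * y = 1 * y := by rw [one_mul]; exact h1.symm
    exact mul_right_cancel h2
  · rw [card_cj]; exact l.card
  · rw [card_cj]; exact l.cardR
  · rw [card_cj]; exact l.cardV3
  · exact cj_mono y l.R_le
  · exact cj_mono y l.V3_le
  · rw [mem_cj]
    have e : y⁻¹ * z * y = z := by rw [mul_assoc, ← hzy, inv_mul_cancel_left]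
    rw [e]; exact l.z_mem
  · intro b hb h1
    rw [mem_cent_cj]
    refine l.small _ (hq hb) fun v hv => ?_
    have h2 := h1 (y * v * y⁻¹) (by rw [mem_cj]; have e : y⁻¹ * (y * v * y⁻¹) * y = v := by group
                                    rw [e]; exact hv)
    rw [hzz, conj_comm'] at h2
    have e : y⁻¹ * (y * v * y⁻¹) * y = v := by group
    rwa [e] at h2
  · intro b hb h1
    rw [mem_cent_cj] at h1 ⊢
    exact l.faith _ (hq hb) h1
  · intro b hb h1 v hv h2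
    rw [mem_cent_cj] at h1
    rw [mem_cj, conj_comm'] at h2
    rw [mem_cj] at hv ⊢
    exact l.nCentR _ (hq hb) h1 _ hv h2
  · intro b hb v hv
    rw [mem_cj] at hv ⊢
    rw [conj_comm']
    exact l.comm3 _ (hq hb) _ hv
  · intro b hb v hv
    rw [mem_cj] at hv ⊢
    rw [conj_comm']
    exact l.commR _ (hq hb) _ hv
  · intro b hb v hv
    rw [mem_cj] at hv
    rw [hzz, conj_comm']
    exact l.commz _ (hq hb) _ hv

theorem z_mem_V : z ∈ V := l.V3_le (l.R_le l.z_mem)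

theorem z_sq : z * z = 1 := by
  have := l.sq z l.z_mem_V
  rwa [pow_two] at this

theorem mem_z {g : G} : g ∈ zpowers z ↔ g = 1 ∨ g = z := by
  constructor
  · intro hg
    obtain ⟨n, rfl⟩ := mem_zpowers_iff.1 hg
    rcases Int.even_or_odd' n with ⟨k, rfl | rfl⟩
    · left
      rw [zpow_mul, zpow_ofNat, pow_two, l.z_sq, one_zpow]
    · right
      rw [zpow_add, zpow_mul, zpow_ofNat, pow_two, l.z_sq, one_zpow, one_mul, zpow_one]
  · rintro (rfl | rfl)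
    · exact one_mem _
    · exact mem_zpowers _

theorem card_z : Nat.card (zpowers z) = 2 := by
  rw [Nat.card_zpowers]
  exact orderOf_eq_prime (by rw [pow_two]; exact l.z_sq) l.z_ne

theorem V3_index {v w : G} (hv : v ∈ V) (hv3 : v ∉ V3) (hw : w ∈ V) (hw3 : w ∉ V3) : v⁻¹ * w ∈ V3 := by
  have hidx : (V3.subgroupOf V).index = 2 := by
    have h1 := relIndex_mul_card V V3
    rw [inf_eq_right.2 l.V3_le, l.cardV3, l.card] at h1
    change V3.relIndex V = 2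
    omega
  have h2 := Subgroup.mul_mem_iff_of_index_two hidx (a := ⟨v⁻¹, inv_mem hv⟩) (b := ⟨w, hw⟩)
  rw [mem_subgroupOf, mem_subgroupOf, mem_subgroupOf] at h2
  refine h2.2 ?_
  change v⁻¹ ∈ V3 ↔ w ∈ V3
  rw [inv_mem_iff]
  exact ⟨fun h => absurd h hv3, fun h => absurd h hw3⟩

theorem exists_v : ∃ v ∈ V, v ∉ V3 := by
  by_contra hcon
  push Not at hcon
  have h1 := Subgroup.card_le_of_le (show V ≤ V3 from hcon)
  rw [l.card, l.cardV3] at h1
  omega

theorem R_index {v w : G} (hv : v ∈ V3) (hv3 : v ∉ R) (hw : w ∈ V3) (hw3 : w ∉ R) : v⁻¹ * w ∈ R := by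
  have hidx : (R.subgroupOf V3).index = 2 := by
    have h1 := relIndex_mul_card V3 R
    rw [inf_eq_right.2 l.R_le, l.cardR, l.cardV3] at h1
    change R.relIndex V3 = 2
    omega
  have h2 := Subgroup.mul_mem_iff_of_index_two hidx (a := ⟨v⁻¹, inv_mem hv⟩) (b := ⟨w, hw⟩)
  rw [mem_subgroupOf, mem_subgroupOf, mem_subgroupOf] at h2
  refine h2.2 ?_
  change v⁻¹ ∈ R ↔ w ∈ R
  rw [inv_mem_iff]
  exact ⟨fun h => absurd h hv3, fun h => absurd h hw3⟩

theorem z_comm {v : G} (hv : v ∈ V) : v * z = z * v :=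
  (mem_centralizer_iff.1 (l.comm hv) z l.z_mem_V).symm

theorem z_conj {v w : G} (hv : v ∈ V) (hw : w ∈ zpowers z) : v * w * v⁻¹ = w := by
  rcases l.mem_z.1 hw with rfl | rfl
  · rw [mul_one, mul_inv_cancel]
  · rw [l.z_comm hv, mul_inv_cancel_right]

section A

variable (hz : ∀ b ∈ Q, ∀ v ∈ V3, b * v * b⁻¹ * v⁻¹ ∈ zpowers z)
include hz

theorem L1 {q v : G} (hq : q ∈ Q) (hv : v ∈ V) (hv3 : v ∉ V3) (h : q * v * q⁻¹ * v⁻¹ ∈ zpowers z) :
    q ∈ centralizer (V : Set G) := by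
  refine l.small q hq fun w hw => ?_
  by_cases hw3 : w ∈ V3
  · exact hz q hq w hw3
  have h1 := l.V3_index hv hv3 hw hw3
  have h2 := hz q hq _ h1
  have e : q * w * q⁻¹ * w⁻¹ = (q * v * q⁻¹ * v⁻¹) * (v * (q * (v⁻¹ * w) * q⁻¹ * (v⁻¹ * w)⁻¹) * v⁻¹) := by group
  rw [e, l.z_conj hv h2]
  exact mul_mem h h2

theorem sq_cent {q : G} (hq : q ∈ Q) : q * q ∈ centralizer (V : Set G) := by
  refine l.small _ (mul_mem hq hq) fun v hv => ?_
  have h1 := l.comm3 q hq v hv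
  have h2 := hz q hq _ h1
  have h3 := l.sq _ (l.V3_le h1)
  rw [pow_two] at h3
  have e : q * q * v * (q * q)⁻¹ * v⁻¹ = (q * (q * v * q⁻¹ * v⁻¹) * q⁻¹ * (q * v * q⁻¹ * v⁻¹)⁻¹) *
      ((q * v * q⁻¹ * v⁻¹) * (q * v * q⁻¹ * v⁻¹)) := by group
  rw [e, h3, mul_one]
  exact h2

theorem L2 {q v : G} (hq : q ∈ Q) (hv : v ∈ V) : q * (q * v * q⁻¹ * v⁻¹) = (q * v * q⁻¹ * v⁻¹) * q := by
  have h1 := l.comm3 q hq v hv
  have h3 := l.sq _ (l.V3_le h1)
  rw [pow_two] at h3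
  have h4 := mem_centralizer_iff.1 (l.sq_cent hz hq) v hv
  have h5 : q * q * v * (q * q)⁻¹ * v⁻¹ = 1 := by rw [← h4, mul_inv_cancel_right, mul_inv_cancel]
  have e : q * q * v * (q * q)⁻¹ * v⁻¹ = (q * (q * v * q⁻¹ * v⁻¹) * q⁻¹ * (q * v * q⁻¹ * v⁻¹)⁻¹) *
      ((q * v * q⁻¹ * v⁻¹) * (q * v * q⁻¹ * v⁻¹)) := by group
  rw [e, h3, mul_one, mul_inv_eq_one, mul_inv_eq_iff_eq_mul] at h5
  exact h5

omit hz in
theorem L3 {q w w' : G} (hq : q ∈ Q) (hqV : q ∉ centralizer (V : Set G)) (hw : w ∈ V3) (hw' : w' ∈ V3)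
    (hwz : w ∉ zpowers z) (hwz' : w' ∉ zpowers z) (hqw : q * w = w * q) (hqw' : q * w' = w' * q) :
    w' * w⁻¹ ∈ zpowers z := by
  set D := V3 ⊓ centralizer ({q} : Set G) with hD
  have hDV : D ≤ V := inf_le_left.trans l.V3_le
  have hmem : ∀ {g : G}, g ∈ V3 → q * g = g * q → g ∈ D := fun {g} h1 h2 =>
    ⟨h1, mem_centralizer_singleton_iff.2 h2.symm⟩
  have hzq : z ∈ D := by
    refine hmem (l.R_le l.z_mem) ?_
    have h1 := l.commz q hq z l.z_mem
    rcases l.mem_z.1 h1 with h2 | h2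
    · rw [mul_inv_eq_one, mul_inv_eq_iff_eq_mul] at h2
      exact h2
    · exfalso
      rw [mul_inv_eq_iff_eq_mul, l.z_sq, conj_eq_one_iff] at h2
      exact l.z_ne h2
  have hwD := hmem hw hqw
  have hwD' := hmem hw' hqw'
  have h1 : Nat.card D ∣ 8 := by rw [← l.cardV3]; exact card_dvd_of_le inf_le_left
  have h2 : Nat.card D ≠ 8 := by
    intro h0
    have h3 : D = V3 := Subgroup.eq_of_le_of_card_ge inf_le_left (by rw [h0, l.cardV3])
    apply hqV
    refine l.faith q hq ?_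
    rw [mem_centralizer_iff]
    intro v hv
    rw [← h3] at hv
    exact mem_centralizer_singleton_iff.1 hv.2
  have hw1 := fun h0 => hwz (l.mem_z.2 (Or.inl h0))
  have hw2 := fun h0 => hwz (l.mem_z.2 (Or.inr h0))
  have hw1' := fun h0 => hwz' (l.mem_z.2 (Or.inl h0))
  have hw2' := fun h0 => hwz' (l.mem_z.2 (Or.inr h0))
  have h3 : 2 < Nat.card D := by
    by_contra hcon
    push Not at hcon
    have h4 : zpowers z = D := Subgroup.eq_of_le_of_card_ge (zpowers_le.2 hzq) (by rw [l.card_z]; exact hcon)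
    rw [← h4] at hwD
    exact hwz hwD
  have h4 : Nat.card D = 4 := by
    have h5 : Nat.card D ≤ 8 := Nat.le_of_dvd (by norm_num) h1
    have h6 : Nat.card D ≠ 3 ∧ Nat.card D ≠ 5 ∧ Nat.card D ≠ 6 ∧ Nat.card D ≠ 7 := by
      refine ⟨?_, ?_, ?_, ?_⟩ <;> intro h7 <;> rw [h7] at h1 <;> revert h1 <;> decide
    omega
  rcases eq_of_card_four h4 (fun v hv => l.sq v (hDV hv)) hzq l.z_ne hwD hw1 (fun h0 => hw2 h0.symm) hwD' hw1' with
    e | e | e
  · exact absurd e hw2'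
  · rw [e, mul_inv_cancel]; exact one_mem _
  · rw [e, mul_inv_cancel_right]; exact mem_zpowers z

end A

theorem exists_f : ∃ f ∈ V3, f ∉ R := by
  by_contra hcon
  push Not at hcon
  have h1 := Subgroup.card_le_of_le (show V3 ≤ R from hcon)
  rw [l.cardV3, l.cardR] at h1
  omega

theorem V3_cases {f v : G} (hf : f ∈ V3) (hfR : f ∉ R) (hv : v ∈ V3) : v ∈ R ∨ ∃ r ∈ R, v = f * r := by
  by_cases hvR : v ∈ R
  · exact Or.inl hvR
  · exact Or.inr ⟨_, l.R_index hf hfR hv hvR, by group⟩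

/-- `q` moves `R` : `[q, r] = z` for `r ∈ R - ⟨z⟩` -/
theorem R_comm {q r : G} (hq : q ∈ Q) (hqR : q ∉ centralizer (R : Set G)) (hr : r ∈ R) (hrz : r ∉ zpowers z) :
    q * r * q⁻¹ * r⁻¹ = z := by
  rcases l.mem_z.1 (l.commz q hq r hr) with h1 | h1
  · exfalso
    rw [mul_inv_eq_one, mul_inv_eq_iff_eq_mul] at h1
    apply hqR
    rw [mem_centralizer_iff]
    intro x hx
    have hqz : q * z = z * q := by
      rcases l.mem_z.1 (l.commz q hq z l.z_mem) with h2 | h2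
      · rw [mul_inv_eq_one, mul_inv_eq_iff_eq_mul] at h2
        exact h2
      · exfalso
        rw [mul_inv_eq_iff_eq_mul, l.z_sq, conj_eq_one_iff] at h2
        exact l.z_ne h2
    have hr1 := fun h0 => hrz (l.mem_z.2 (Or.inl h0))
    have hr2 := fun h0 => hrz (l.mem_z.2 (Or.inr h0))
    by_cases hx1 : x = 1
    · rw [hx1, one_mul, mul_one]
    rcases eq_of_card_four l.cardR (fun v hv => l.sq v (l.V3_le (l.R_le hv))) l.z_mem l.z_ne hr hr1
      (fun h0 => hr2 h0.symm) hx hx1 with e | e | e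
    · rw [e, hqz]
    · rw [e, h1]
    · rw [e, mul_assoc, ← h1, ← mul_assoc, ← hqz, mul_assoc]
  · exact h1

/-- two elements which move `R` -/
theorem R_mul {s t : G} (hs : s ∈ Q) (ht : t ∈ Q) (hsR : s ∉ centralizer (R : Set G))
    (htR : t ∉ centralizer (R : Set G)) : s * t ∈ centralizer (R : Set G) := by
  rw [mem_centralizer_iff]
  intro x hx
  have hc : ∀ q ∈ Q, q * z = z * q := fun q hq => by
    rcases l.mem_z.1 (l.commz q hq z l.z_mem) with h2 | h2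
    · rw [mul_inv_eq_one, mul_inv_eq_iff_eq_mul] at h2
      exact h2
    · exfalso
      rw [mul_inv_eq_iff_eq_mul, l.z_sq, conj_eq_one_iff] at h2
      exact l.z_ne h2
  by_cases hxz : x ∈ zpowers z
  · rcases l.mem_z.1 hxz with rfl | rfl
    · rw [one_mul, mul_one]
    · exact (hc _ (mul_mem hs ht)).symm
  have h1 := l.R_comm hs hsR hx hxz
  have h2 := l.R_comm ht htR hx hxz
  have e : s * t * x * (s * t)⁻¹ * x⁻¹ = (s * (t * x * t⁻¹ * x⁻¹) * s⁻¹) * (s * x * s⁻¹ * x⁻¹) := by group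
  rw [h1, h2, hc s hs, mul_inv_cancel_right, l.z_sq, mul_inv_eq_one, mul_inv_eq_iff_eq_mul] at e
  exact e.symm

/-- `c` centralises `R` and some `f ∈ V₃ - R` -/
theorem cent_of_f {c f : G} (hc : c ∈ Q) (hcR : c ∈ centralizer (R : Set G)) (hf : f ∈ V3) (hfR : f ∉ R)
    (hcf : c * f = f * c) : c ∈ centralizer (V : Set G) := by
  refine l.faith c hc ?_
  rw [mem_centralizer_iff]
  intro v hv
  rcases l.V3_cases hf hfR hv with hv | ⟨r, hr, rfl⟩
  · exact mem_centralizer_iff.1 hcR v hv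
  · have h1 := mem_centralizer_iff.1 hcR r hr
    rw [mul_assoc, h1, ← mul_assoc, ← hcf, mul_assoc]

/-- `[V₃, Q] ≰ ⟨z⟩` : `R` lies in the `Q`-invariant subgroups which contain `z` and an element of `V₃ - R` -/
theorem R_le_of (hz : ¬ ∀ b ∈ Q, ∀ v ∈ V3, b * v * b⁻¹ * v⁻¹ ∈ zpowers z) {W : Subgroup G}
    (hW : Q ≤ normalizer (W : Set G)) (hzW : z ∈ W) {f : G} (hfW : f ∈ W) (hf : f ∈ V3) (hfR : f ∉ R) : R ≤ W := by
  push Not at hz
  obtain ⟨b, hb, v, hv, hbv⟩ := hz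
  have h1 : b * f * b⁻¹ * f⁻¹ ∉ zpowers z := by
    intro h0
    apply hbv
    rcases l.V3_cases hf hfR hv with hv | ⟨r, hr, rfl⟩
    · exact l.commz b hb v hv
    · have h2 := l.commz b hb r hr
      have e : b * (f * r) * b⁻¹ * (f * r)⁻¹ = (b * f * b⁻¹ * f⁻¹) * (f * (b * r * b⁻¹ * r⁻¹) * f⁻¹) := by group
      rw [e, l.z_conj (l.V3_le hf) h2]
      exact mul_mem h0 h2
  have h2 := l.commR b hb f hf
  have h3 : b * f * b⁻¹ * f⁻¹ ∈ W := mul_mem (conj_mem' hW hb hfW) (inv_mem hfW)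
  have hr1 := fun h0 => h1 (l.mem_z.2 (Or.inl h0))
  have hr2 := fun h0 => h1 (l.mem_z.2 (Or.inr h0))
  intro x hx
  by_cases hx1 : x = 1
  · rw [hx1]; exact one_mem _
  rcases eq_of_card_four l.cardR (fun v hv => l.sq v (l.V3_le (l.R_le hv))) l.z_mem l.z_ne h2 hr1
    (fun h0 => hr2 h0.symm) hx hx1 with e | e | e
  · rw [e]; exact hzW
  · rw [e]; exact h3
  · rw [e]; exact mul_mem hzW h3

/-- an element which normalises `R` and centralises `z` -/
theorem R_norm {a w : G} (ha : a * z = z * a) (hw : w ∈ R) (haw : a * w * a⁻¹ ∈ R) :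
    a * w * a⁻¹ * w⁻¹ ∈ zpowers z := by
  by_cases hwz : w ∈ zpowers z
  · rcases l.mem_z.1 hwz with rfl | rfl
    · rw [mul_one, inv_one, mul_one, mul_inv_cancel]; exact one_mem _
    · rw [ha, mul_inv_cancel_right, mul_inv_cancel]; exact one_mem _
  have h1 : a * w * a⁻¹ ≠ 1 := fun h0 => hwz (l.mem_z.2 (Or.inl (conj_eq_one_iff.1 h0)))
  have hr1 := fun h0 => hwz (l.mem_z.2 (Or.inl h0))
  have hr2 := fun h0 => hwz (l.mem_z.2 (Or.inr h0))
  rcases eq_of_card_four l.cardR (fun v hv => l.sq v (l.V3_le (l.R_le hv))) l.z_mem l.z_ne hw hr1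
    (fun h0 => hr2 h0.symm) haw h1 with e | e | e
  · exfalso
    apply hr2
    have e2 : w = a⁻¹ * (a * w * a⁻¹) * a := by group
    rw [e2, e, mul_assoc, ← ha, inv_mul_cancel_left]
  · rw [e, mul_inv_cancel]; exact one_mem _
  · rw [e, mul_inv_cancel_right]; exact mem_zpowers z

end Loc

namespace B4

variable {G : Type u} [Group G] [Finite G] {S : Sylow 2 G} {P P2 R V3 : Subgroup G} {z : G}
  (h : B4 S P P2 R V3 z)
include h

theorem loc1 : Loc (o2 P2) (zl (S : Subgroup G) P) R V3 z where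
  comm := h.mod.comm
  sq := h.mod.sq
  card := h.mod.card
  cardR := h.mod.cardR
  cardV3 := h.mod.cardV3
  R_le := h.mod.R_le
  V3_le := h.mod.V3_le
  z_mem := h.mod.z_mem
  z_ne := h.mod.z_ne
  small := fun b hb => h.mod.small b (h.Q_le hb)
  faith := fun b hb => h.mod.faith b (h.Q_le hb)
  nCentR := fun b hb => h.mod.nCentR b (h.Q_le hb)
  comm3 := fun _ hb _ hv => h.comm_VS (h.Q_le hb) hv
  commR := fun _ hb _ hv => h.comm_V3S (h.Q_le hb) hv
  commz := fun _ hb _ hv => h.comm_RS (h.Q_le hb) hv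

theorem loc {y : G} (hy : y ∈ P2) : Loc (o2 P2) (cj y (zl (S : Subgroup G) P)) (cj y R) (cj y V3) z :=
  h.loc1.conj (cj_of_le (le_normalizer_o2 P2) hy) (cj_of_le h.P2_zpowers hy) (h.z_comm hy)

theorem mem_zy {y w : G} (hy : y ∈ P2) : w ∈ zpowers z ↔ y⁻¹ * w * y ∈ zpowers z := by
  conv_lhs => rw [← cj_of_le h.P2_zpowers hy, mem_cj]

/-- `[V₃, Q] ≤ ⟨z⟩` is invariant -/
theorem hz_iff {y : G} (hy : y ∈ P2) : (∀ b ∈ o2 P2, ∀ v ∈ cj y V3, b * v * b⁻¹ * v⁻¹ ∈ zpowers z) ↔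
    ∀ b ∈ o2 P2, ∀ v ∈ V3, b * v * b⁻¹ * v⁻¹ ∈ zpowers z := by
  constructor
  · intro h1 b hb v hv
    have hb' : y * b * y⁻¹ ∈ o2 P2 := conj_mem' (le_normalizer_o2 P2) hy hb
    have hv' : y * v * y⁻¹ ∈ cj y V3 := by
      rw [mem_cj]
      have e : y⁻¹ * (y * v * y⁻¹) * y = v := by group
      rwa [e]
    have h2 := h1 _ hb' _ hv'
    rw [h.mem_zy hy, conj_comm'] at h2
    have e1 : y⁻¹ * (y * v * y⁻¹) * y = v := by group
    have e2 : y⁻¹ * (y * b * y⁻¹) * y = b := by group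
    rwa [e1, e2] at h2
  · intro h1 b hb v hv
    rw [h.mem_zy hy, conj_comm']
    refine h1 _ ?_ _ (mem_cj.1 hv)
    have := conj_mem' (le_normalizer_o2 P2) (inv_mem hy) hb
    rwa [inv_inv] at this

theorem U_z : cl (zl (S : Subgroup G) P) P2 ≤ normalizer (zpowers z : Set G) :=
  (h.U_le_S.trans h.S_le).trans h.P2_zpowers

/-- `U ∋ v` for `v ∈ V^y` -/
theorem cjV_le {y : G} (hy : y ∈ P2) : cj y (zl (S : Subgroup G) P) ≤ cl (zl (S : Subgroup G) P) P2 := cj_le_cl hy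

end B4

end Cfsg.Agent.Omega.NO3S.Fld

end
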