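import Cfsg.Agent.Mrg.Omega.NO3S.Fld.ZJ
import Cfsg.Agent.Mrg.Omega.NoFF.ThmJ


/-!
# Fld: the `(R, B)`-frame `PB S B P V R`

* `Crd.part`, `Crd.torus`, `Crd.tor`, .. : the fields about `V`;
* `pb_of` : `PB S M.B P V M.R` from `HypJ S P`, `NatP`, (TI), (NS) and `W_R` elementary abelian;
* `omB_of` : `Ω₁(Z(C_B(V))) ≤ V`.
-/

set_option autoImplicit false
set_option linter.unusedSectionVars false
set_option linter.unusedVariables false

namespace Cfsg.Agent.Omega.NO3S.Fld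

open Subgroup Cfsg Cfsg.Agent.ZN Cfsg.Agent.ZN.ChoiceBase Cfsg.Agent.Omega.MinPar
open Cfsg.Agent.Omega.Frame Cfsg.Agent.Omega.FrameNOFF
open Cfsg.Agent.Omega.NatPair (ext2 ap ap_zero' ap_one' exists_ap_e)
open Cfsg.Agent.Lib.SL2Mat
open Cfsg.Agent.Omega.NO3S.PT (PB OmB)

universe u

namespace Crd

variable {G : Type u} [Group G] {F : Type*} [Field F] {S P V : Subgroup G} (M : Crd F S P V)

/-- the torus -/
theorem exists_dg (μ : F) (hμ : μ ≠ 0) : ∃ k ∈ P, (∀ x : Fin 2 → F, k * M.e x * k⁻¹ = M.e ![μ * x 0, μ⁻¹ * x 1]) ∧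
    k ∈ normalizer (M.R : Set G) := by
  obtain ⟨k, hk, h1⟩ := M.lift (dg μ hμ)
  have h2 : ∀ x : Fin 2 → F, k * M.e x * k⁻¹ = M.e ![μ * x 0, μ⁻¹ * x 1] := fun x => by
    rw [h1]
    congr 1
    apply ext2 <;> simp [ap_zero', ap_one']
  refine ⟨k, hk, h2, ?_⟩
  rw [mem_normalizer_iff]
  intro g
  constructor
  · rintro ⟨a, rfl⟩
    exact ⟨μ * a, by rw [h2]; congr 1; apply ext2 <;> simp⟩
  · rintro ⟨a, ha⟩
    refine ⟨μ⁻¹ * a, ?_⟩
    have h3 := h2 ![μ⁻¹ * a, 0]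
    have e : (![μ * (![μ⁻¹ * a, 0] : Fin 2 → F) 0, μ⁻¹ * (![μ⁻¹ * a, 0] : Fin 2 → F) 1] : Fin 2 → F) = ![a, 0] := by
      apply ext2
      · simp [hμ]
      · simp
    rw [e, ha] at h3
    have h4 : k * M.e ![μ⁻¹ * a, 0] = k * g := mul_right_cancel h3
    exact mul_left_cancel h4

/-- every nontrivial element of `V` lies in a conjugate of `R` -/
theorem part {v : G} (hv : v ∈ V) (hv1 : v ≠ 1) : ∃ p ∈ P, v ∈ cj p M.R := by
  obtain ⟨x, rfl⟩ := (M.mem_iff v).1 hv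
  have hx : x ≠ 0 := by
    rintro rfl
    exact hv1 M.e_zero
  obtain ⟨D, hD⟩ := exists_ap_e hx
  obtain ⟨p, hp, h1⟩ := M.lift D
  refine ⟨p, hp, mem_cj.2 ?_⟩
  have h2 := h1 ![1, 0]
  rw [hD] at h2
  rw [← h2]
  have e : p⁻¹ * (p * M.e ![1, 0] * p⁻¹) * p = M.e ![1, 0] := by group
  rw [e, M.e_mem_R]
  rfl

theorem act_mem {b v : G} (hb : b ∈ M.B) (hv : v ∈ V) : b * v * b⁻¹ * v⁻¹ ∈ M.R := M.comm_R hb.1 hb.2 hv

theorem free' {b v : G} (hb : b ∈ M.B) (hv : v ∈ V) (hvR : v ∉ M.R) (hbv : b * v = v * b) :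
    ∀ v' ∈ V, b * v' = v' * b := by
  by_contra hcon
  refine hvR (M.fix hb.1 hb.2 (fun hc => hcon fun v' hv' => ?_) hv hbv)
  exact (mem_centralizer_iff.1 hc v' hv').symm

theorem full' {v z : G} (hv : v ∈ V) (hvR : v ∉ M.R) (hz : z ∈ M.R) : ∃ b ∈ M.B, b * v * b⁻¹ * v⁻¹ = z := by
  obtain ⟨x, rfl⟩ := (M.mem_iff v).1 hv
  obtain ⟨a, rfl⟩ := hz
  rw [M.e_mem_R] at hvR
  obtain ⟨s, hs, hs', h1⟩ := M.exists_full (a * (x 1)⁻¹)
  refine ⟨s, ⟨hs, hs'⟩, ?_⟩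
  rw [h1, ← M.e_sub]
  congr 1
  apply ext2
  · simp [hvR]
  · simp

/-- the torus is transitive on the nontrivial root elements modulo `C(V)` -/
theorem torus [Finite F] [CharP F 2] {s t : G} (hs : s ∈ M.B) (ht : t ∈ M.B) (hsV : s ∉ centralizer (V : Set G))
    (htV : t ∉ centralizer (V : Set G)) : ∃ k ∈ P, k ∈ normalizer (M.R : Set G) ∧
      k * s * k⁻¹ * t⁻¹ ∈ centralizer (V : Set G) := by
  obtain ⟨c, hc⟩ := M.exists_root hs.1 hs.2
  obtain ⟨d, hd⟩ := M.exists_root ht.1 ht.2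
  have hc0 : c ≠ 0 := fun e => hsV (hc.mem_centV.2 ⟨rfl, e⟩)
  have hd0 : d ≠ 0 := fun e => htV (hd.mem_centV.2 ⟨rfl, e⟩)
  obtain ⟨μ, hμ⟩ := (frobeniusEquiv F 2).surjective (d / c)
  rw [frobeniusEquiv_apply, frobenius_def] at hμ
  have hμ0 : μ ≠ 0 := by
    rintro rfl
    rw [zero_pow two_ne_zero] at hμ
    exact div_ne_zero hd0 hc0 hμ.symm
  obtain ⟨k, hk, hkx, hkR⟩ := M.exists_dg μ hμ0
  obtain ⟨k', -, hkx', -⟩ := M.exists_dg μ⁻¹ (inv_ne_zero hμ0)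
  -- `k⁻¹` acts as `diag (μ⁻¹, μ)`
  have hki : ∀ x : Fin 2 → F, k⁻¹ * M.e x * k = M.e ![μ⁻¹ * x 0, μ * x 1] := by
    intro x
    have h1 := hkx ![μ⁻¹ * x 0, μ * x 1]
    have e : (![μ * (![μ⁻¹ * x 0, μ * x 1] : Fin 2 → F) 0, μ⁻¹ * (![μ⁻¹ * x 0, μ * x 1] : Fin 2 → F) 1] :
        Fin 2 → F) = x := by
      apply ext2 <;> simp [hμ0]
    rw [e] at h1
    rw [← h1]; group
  refine ⟨k, hk, hkR, ?_⟩
  have h1 : M.Act (k * s * k⁻¹) (RingEquiv.refl F) d := by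
    intro x
    have e1 : k * s * k⁻¹ * M.e x * (k * s * k⁻¹)⁻¹ = k * (s * (k⁻¹ * M.e x * k) * s⁻¹) * k⁻¹ := by group
    rw [e1, hki, hc, hkx]
    congr 1
    apply ext2
    · have h2 : μ ^ 2 * c = d := by
        rw [hμ]; field_simp
      simp only [RingEquiv.refl_apply, Matrix.cons_val_zero, Matrix.cons_val_one]
      rw [← h2]
      field_simp
    · simp [hμ0]
  have h2 := h1.mul hd.inv
  have h3 : RingEquiv.trans (RingEquiv.refl F).symm (RingEquiv.refl F) = RingEquiv.refl F := rfl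
  rw [h3] at h2
  refine h2.mem_centV.2 ⟨rfl, ?_⟩
  simp

/-- every element of `R` is conjugate in `N_P(R)` to an element centralised by `S` -/
theorem tor {z : G} (hz : z ∈ M.R) (hz1 : z ≠ 1) : ∃ k ∈ P, k ∈ normalizer (M.R : Set G) ∧
    ∀ s ∈ S, s * (k * z * k⁻¹) = k * z * k⁻¹ * s := by
  obtain ⟨a, rfl⟩ := hz
  have ha : a ≠ 0 := by
    rintro rfl
    apply hz1
    rw [← M.e_zero]
    congr 1
    apply ext2 <;> simp
  obtain ⟨k, hk, hkx, hkR⟩ := M.exists_dg a⁻¹ (inv_ne_zero ha)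
  refine ⟨k, hk, hkR, fun s hs => ?_⟩
  obtain ⟨σ, c, h⟩ := M.exists_act hs
  rw [hkx]
  have e : (![a⁻¹ * (![a, 0] : Fin 2 → F) 0, a⁻¹⁻¹ * (![a, 0] : Fin 2 → F) 1] : Fin 2 → F) = ![1, 0] := by
    apply ext2 <;> simp [ha]
  rw [e, ← mul_inv_eq_iff_eq_mul, h]
  congr 1
  apply ext2 <;> simp

end Crd

variable {G : Type u} [Group G] [Finite G] {S : Sylow 2 G} {P : Subgroup G}
variable {F : Type*} [Field F] [Finite F] [CharP F 2]

/-- **`PB` from the frame.** -/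
theorem pb_of (h : HypJ S P) (M : Crd F (S : Subgroup G) P (zl (S : Subgroup G) P))
    (hti : ∀ z ∈ M.R, z ≠ 1 → ∀ g : G, g * z = z * g → g ∈ normalizer (M.R : Set G))
    (hNB : normalizer (M.B : Set G) ≤ normalizer (zl (S : Subgroup G) P : Set G))
    (hW : PT.ws (zl (S : Subgroup G) P) M.R ≤
      centralizer ((PT.ws (zl (S : Subgroup G) P) M.R : Subgroup G) : Set G)) :
    PB S M.B P (zl (S : Subgroup G) P) M.R where
  SP := h.star.isLoc.le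
  PN := MinSimple.VModule.le_normalizer_zl _ _
  ZV := M.R_le
  VB := fun v hv => ⟨h.toHypN.toHyp.V_le_S hv, mem_centralizer_iff.2 fun r hr => M.comm (M.R_le hr) hv⟩
  BS := inf_le_left
  Zne := by
    intro hb
    have h1 := M.card_R
    rw [hb, card_bot] at h1
    exact absurd h1 Finite.one_lt_card.ne
  SN := M.S_R
  mem_B := fun s hs hc => ⟨hs, mem_centralizer_iff.2 fun z hz => (hc z hz).symm⟩
  cen := fun z hz s hs => (mem_centralizer_iff.1 hs.2 z hz).symm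
  omega := by
    intro x hx hx2 hc
    exact M.mem_R_of_cent S.isPGroup' h.toHypN.toHyp.V_le_S (MinSimple.VModule.zc_le_zl _ _) x hx
      (by rw [pow_two]; exact hx2) hc
  Vsq := fun v hv => M.sq hv
  part := by
    intro v hv hv1
    obtain ⟨p, hp, h1⟩ := M.part hv hv1
    exact ⟨p, hp, h1⟩
  act := fun s hs v hv => M.act_mem hs hv
  free := fun s hs v hv hvR hsv => M.free' hs hv hvR hsv
  full := fun v hv hvR z hz => M.full' hv hvR hz
  torus := fun s hs t ht hsV htV => M.torus hs ht hsV htV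
  card := M.card_V_R
  Wcomm := hW
  ti := hti
  NS := normalizer_S_le_R M h
  tor := by
    intro z hz hz1
    obtain ⟨k, hk, hkR, h1⟩ := M.tor hz hz1
    exact ⟨k, hk, hkR, h1⟩
  NB := hNB

/-- (T6) -/
theorem omB_of (h : HypJ S P) (M : Crd F (S : Subgroup G) P (zl (S : Subgroup G) P)) :
    OmB M.B (zl (S : Subgroup G) P) := by
  intro y hy hyV hy2 hc
  have h1 : (S : Subgroup G) ⊓ centralizer (zl (S : Subgroup G) P : Set G) = o2 P :=
    h.toHypN.toHyp.inf_centralizer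
  rw [← (HypJ.facts M h).2.1]
  have h3 : y ∈ o2 P := by rw [← h1]; exact ⟨hy.1, hyV⟩
  refine mem_zc.2 ⟨h3, by rw [pow_two]; exact hy2, fun s hs => ?_⟩
  rw [← h1] at hs
  exact hc s ⟨hs.1, centralizer_le M.R_le hs.2⟩ hs.2

end Cfsg.Agent.Omega.NO3S.Fld
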